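import Groth.Agent.IsoTriv.SchemeBridge
import Groth.Agent.SGA3cLib.BCPoints
import Groth.Agent.SGA3cLib.CentralDescent

/-! Multiplicative type is local on the base. -/

set_option autoImplicit false
set_option linter.style.haveILetI false
universe u

open CategoryTheory MonoidalCategory CartesianMonoidalCategory MonObj GrpObj AlgebraicGeometry CategoryTheory.Limits

noncomputable section

namespace Groth.Agent.IsoTriv.SchemeLocal

open SGA3cLib SchemeSpec SchemeBridge CoactBr HopfLib.SpPoints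

/-- Iterated base change. -/
theorem nonempty_bc_comp {S T T' : Scheme.{u}} (g : T ⟶ S) (c : T' ⟶ T) (h : T' ⟶ S) (hh : c ≫ g = h)
    (G : Over S) [GrpObj G] : Nonempty (Grp.mk (Red.bc c (Red.bc g G)) ≅ Grp.mk (Red.bc h G)) := by
  let i : Red.bc c (Red.bc g G) ≅ Red.bc h G := (GrpBC.bcCongr g c h hh).app G
  haveI : IsMonHom i.hom := (GrpBC.isMonHom_app (GrpBC.bcCongr g c h hh) G).1
  exact ⟨Grp.mkIso' i⟩

/-- Multiplicative type may be tested locally on the base. -/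
theorem isMultTypeFT_of_locally {S : Scheme.{u}} (H : Over S) [GrpObj H]
    (h : ∀ s : S, ∃ U : S.Opens, s ∈ U ∧ SGA3x.IsMultTypeFT (Red.bc U.ι H)) : SGA3x.IsMultTypeFT H := by
  choose U hs S' f hfl hsu hq hU using h
  haveI := hfl
  haveI : ∀ s, Flat (f s ≫ (U s).ι) := fun s => inferInstance
  let F : ∐ S' ⟶ S := Sigma.desc fun s => f s ≫ (U s).ι
  have hF : IsFpqcCov F := by
    refine ⟨inferInstance, fun s => ?_⟩
    obtain ⟨V, hV, hsV, hVU⟩ := exists_isAffineOpen_mem_and_subset (hs s)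
    have hV' : IsAffineOpen ((U s).ι ⁻¹ᵁ V) := hV.preimage_of_isOpenImmersion (U s).ι (by
      rw [Scheme.Opens.opensRange_ι]; exact hVU)
    obtain ⟨W, hW, hWV⟩ := hq s _ hV'
    refine ⟨V, hsV, hV, Sigma.ι S' s ''ᵁ W, ?_, ?_⟩
    · rw [Scheme.Hom.coe_image]
      exact hW.image (Sigma.ι S' s).continuous
    · rw [Scheme.Hom.coe_image, ← Set.image_comp]
      have h1 : F.base ∘ (Sigma.ι S' s).base = (U s).ι.base ∘ (f s).base := by
        funext x
        show (Sigma.ι S' s ≫ F).base x = (f s ≫ (U s).ι).base x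
        rw [Sigma.ι_desc]
      refine (congrArg (fun g => g '' (W : Set (S' s))) h1).trans ?_
      rw [Set.image_comp, hWV]
      show (U s).ι.base '' ((U s).ι.base ⁻¹' (V : Set S)) = _
      rw [Set.image_preimage_eq_iff, Scheme.Opens.range_ι]
      exact hVU
  refine ⟨_, F, hF.1, hF.surjective, fun V hV => BCPoints.forall_affine hF V hV, fun x => ?_⟩
  obtain ⟨⟨s, y⟩, rfl⟩ := (sigmaMk S').surjective x
  obtain ⟨B, hyB, M, hMag, hM, ⟨e⟩⟩ := hU s y
  refine ⟨Sigma.ι S' s ''ᵁ B, ⟨y, hyB, (sigmaMk_mk S' s y).symm⟩, M, hMag, hM, ?_⟩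
  let j : (B : Scheme.{u}) ⟶ ∐ S' := B.ι ≫ Sigma.ι S' s
  have hj : j.opensRange = Sigma.ι S' s ''ᵁ B := by rw [Scheme.Hom.opensRange_comp, Scheme.Opens.opensRange_ι]
  obtain ⟨b⟩ := nonempty_bc_comp (U s).ι (B.ι ≫ f s) ((B.ι ≫ f s) ≫ (U s).ι) rfl H
  rw [← hj]
  obtain ⟨k, hk, -⟩ := GrpBC.nonempty_iso_restrict ((B.ι ≫ f s) ≫ (U s).ι) (Scheme.Hom.isoOpensRange j).inv
    (j.opensRange.ι ≫ F) (by
      rw [← Scheme.Hom.isoOpensRange_inv_comp j]
      simp only [j, Category.assoc]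
      rw [Sigma.ι_desc]) H (b.symm ≪≫ e)
  haveI := hk
  exact ⟨Grp.mkIso' k⟩

/-- Multiplicative type may be tested on affine opens, in Hopf algebra form. -/
theorem isMultTypeFT_of_hopf {S : Scheme.{u}} (H : Over S) [GrpObj H] [IsAffineHom H.hom]
    (h : ∀ (R : Type u) [CommRing R] (g : Spec (CommRingCat.of R) ⟶ S) (_ : IsOpenImmersion g)
      (A : Type u) [CommRing A] [HopfAlgebra R A], (Grp.mk (Red.bc g H) ≅ Grp.mk (sp R A)) →
        Algebra.FiniteType R A ∧ SGA3b.IsMultType R A) : SGA3x.IsMultTypeFT H := by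
  refine isMultTypeFT_of_locally H fun s => ?_
  obtain ⟨V, hV, hsV, -⟩ := exists_isAffineOpen_mem_and_subset (U := (⊤ : S.Opens)) (x := s) trivial
  refine ⟨V, hsV, ?_⟩
  let g : Spec (CommRingCat.of Γ(S, V)) ⟶ S := hV.fromSpec
  haveI : IsAffineHom (Red.bc g H).hom := MorphismProperty.pullback_snd (P := @IsAffineHom) _ _ ‹_›
  haveI : IsAffine (Red.bc g H).left := isAffine_of_isAffineHom (Red.bc g H).hom
  obtain ⟨A, _, _, ⟨e⟩⟩ := exists_spec (Red.bc g H)
  obtain ⟨hft, hA⟩ := h Γ(S, V) g inferInstance A e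
  have h1 : SGA3x.IsMultTypeFT (Red.bc g H) := isMultTypeFT_of_iso e.symm (multTypeFT_of_isMultType hft hA)
  have h2 := CentralDescent.isMultTypeFT_bc hV.isoSpec.hom _ h1
  obtain ⟨c⟩ := nonempty_bc_comp g hV.isoSpec.hom V.ι (by
    show hV.isoSpec.hom ≫ hV.fromSpec = V.ι
    rw [IsAffineOpen.fromSpec, Iso.hom_inv_id_assoc]) H
  exact isMultTypeFT_of_iso c h2

/-- The Hopf algebra form of a group of multiplicative type after base change to a ring. -/
theorem isMultType_of_bc {S : Scheme.{u}} (H : Over S) [GrpObj H] (hH : SGA3x.IsMultTypeFT H) {R : Type u} [CommRing R]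
    (g : Spec (CommRingCat.of R) ⟶ S) {A : Type u} [CommRing A] [HopfAlgebra R A]
    (e : Grp.mk (Red.bc g H) ≅ Grp.mk (sp R A)) : Algebra.FiniteType R A ∧ SGA3b.IsMultType R A :=
  multTypeFT_iff.mp (isMultTypeFT_of_iso e (CentralDescent.isMultTypeFT_bc g H hH))

end Groth.Agent.IsoTriv.SchemeLocal
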