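import Groth.Agent.IsoTriv.TorsionQuot
import Mathlib.RingTheory.Flat.Localization
import Mathlib.LinearAlgebra.TensorProduct.Free

/-! Groups of multiplicative type are flat and commutative. -/

universe u

open TensorProduct Coalgebra

namespace Groth.Agent.IsoTriv

open SGA3bLib

variable {R : Type u} [CommRing R] {A : Type u} [CommRing A] [HopfAlgebra R A]

theorem flat_of_isMultType (h : SGA3b.IsMultType R A) : Module.Flat R A := by
  obtain ⟨s, hs, hloc⟩ := h
  refine Module.flat_of_isLocalized_span (S := R) A s hs (fun r : s => Localization.Away (r : R) ⊗[R] A)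
    (fun r => TensorProduct.mk R (Localization.Away (r : R)) A 1) fun r => ?_
  obtain ⟨R', _, _, hff, N, _, ⟨e⟩⟩ := hloc r r.2
  have := hff
  have : Module.Flat R' (R' ⊗[Localization.Away (r : R)] (Localization.Away (r : R) ⊗[R] A)) := by
    have : Module.Free R' (MonoidAlgebra R' N) := Module.Free.of_basis (Module.Basis.ofRepr (MonoidAlgebra.coeffLinearEquiv R'))
    exact Module.Flat.of_linearEquiv e.toAlgEquiv.toLinearEquiv
  have : Module.Flat (Localization.Away (r : R)) (Localization.Away (r : R) ⊗[R] A) :=
    Module.Flat.of_flat_tensorProduct _ _ R'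
  exact Module.Flat.trans R (Localization.Away (r : R)) _

theorem isCocomm_of_isMultType (h : SGA3b.IsMultType R A) : Coalgebra.IsCocomm R A := by
  obtain ⟨s, hs, hloc⟩ := h
  refine ⟨LinearMap.ext fun a => sub_eq_zero.mp ?_⟩
  set z := ((TensorProduct.comm R A A).toLinearMap ∘ₗ comul) a - comul a
  have key : ∀ f ∈ s, (1 : Localization.Away f) ⊗ₜ[R] z = 0 := by
    intro f hf
    set S := Localization.Away f
    obtain ⟨R', _, _, hff, hd⟩ := hloc f hf
    have := hff
    have hc := isCocomm_of_diag (R := S) (A := S ⊗[R] A) hd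
    let D := TensorProduct.AlgebraTensorModule.distribBaseChange R S A A
    apply D.injective
    rw [map_zero, TensorProduct.tmul_sub, map_sub, sub_eq_zero]
    have e1 : ∀ w : A ⊗[R] A, TensorProduct.AlgebraTensorModule.tensorTensorTensorComm R S R S S S A A
        (((1 : S) ⊗ₜ[S] (1 : S)) ⊗ₜ[R] w) = D ((1 : S) ⊗ₜ[R] w) := fun w => by
      induction w using TensorProduct.induction_on with
      | zero => simp
      | tmul x y => simp [D, TensorProduct.AlgebraTensorModule.distribBaseChange_tmul]
      | add x y hx hy => simp [tmul_add, hx, hy]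
    have e2 : ∀ w : A ⊗[R] A, TensorProduct.comm S _ _ (D ((1 : S) ⊗ₜ[R] w)) =
        D ((1 : S) ⊗ₜ[R] TensorProduct.comm R A A w) := fun w => by
      induction w using TensorProduct.induction_on with
      | zero => simp
      | tmul x y => simp [D, TensorProduct.AlgebraTensorModule.distribBaseChange_tmul]
      | add x y hx hy => simp only [tmul_add, map_add, hx, hy]
    have h1 := Coalgebra.comm_comul S ((1 : S) ⊗ₜ[R] a)
    rw [TensorProduct.comul_tmul, CommSemiring.comul_apply, e1, e2] at h1
    exact h1
  let ann : Ideal R := LinearMap.ker (LinearMap.toSpanSingleton R (A ⊗[R] A) z)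
  have hle : s ⊆ ann.radical := by
    intro f hf
    obtain ⟨⟨_, n, rfl⟩, hn⟩ := (IsLocalizedModule.eq_zero_iff (Submonoid.powers f)
      (TensorProduct.mk R (Localization.Away f) (A ⊗[R] A) 1)).mp (key f hf)
    exact ⟨n, by simpa [ann, Submonoid.smul_def] using hn⟩
  have h1 : ann.radical = ⊤ := top_le_iff.mp (hs ▸ Ideal.span_le.mpr hle)
  have h2 : (1 : R) ∈ ann := by rw [Ideal.radical_eq_top.mp h1]; trivial
  simpa [ann] using h2

end Groth.Agent.IsoTriv
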