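import Groth.Agent.IsoTriv.Henselian
import Mathlib.FieldTheory.SeparableClosure
import Mathlib.FieldTheory.IsSepClosed

/-! Splitting of groups of multiplicative type over fields. -/

universe u

open TensorProduct Coalgebra

namespace Groth.Agent.IsoTriv

open SGA3bLib

variable {R : Type u} [CommRing R] {A : Type u} [CommRing A] [HopfAlgebra R A]

/-- Constant multiplicative type is stable under base change. -/
theorem isMultTypeConst_bc (h : SGA3b.IsMultTypeConst R A) (S : Type u) [CommRing S] [Algebra R S] :
    SGA3b.IsMultTypeConst S (S ⊗[R] A) := by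
  obtain ⟨R', _, _, hff, N, _, ⟨e⟩⟩ := h
  have := hff
  let : Algebra R' (S ⊗[R] R') := Algebra.TensorProduct.rightAlgebra
  have : IsScalarTower R R' (S ⊗[R] R') := .of_algebraMap_eq fun r => by
    show algebraMap R (S ⊗[R] R') r = (1 : S) ⊗ₜ[R] algebraMap R R' r
    rw [Algebra.TensorProduct.algebraMap_apply, Algebra.algebraMap_eq_smul_one, Algebra.algebraMap_eq_smul_one,
      TensorProduct.smul_tmul]
  exact ⟨S ⊗[R] R', inferInstance, inferInstance, inferInstance, N, inferInstance,
    ⟨(cancelBC (R := R) S (S ⊗[R] R') A).trans (bcTriv e)⟩⟩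

/-- Finite sets of tensors over the union of a directed family come from a member. -/
theorem exists_finite_subfield {k : Type u} [Field k] {A : Type u} [AddCommGroup A] [Module k A]
    (K : Type u) [Field K] [Algebra k K] [Algebra.IsAlgebraic k K] (s : Finset (K ⊗[k] A)) :
    ∃ L : IntermediateField k K, FiniteDimensional k L ∧
      ∀ z ∈ s, z ∈ LinearMap.range (L.val.toLinearMap.rTensor A) := by
  classical
  induction s using Finset.induction_on with
  | empty => exact ⟨⊥, inferInstance, by simp⟩
  | insert z s hz ih =>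
    obtain ⟨L₁, hL₁, h₁⟩ := ih
    obtain ⟨m, t, a, rfl⟩ := TensorProduct.exists_sum_tmul_eq z
    have : FiniteDimensional k (IntermediateField.adjoin k (Set.range t)) :=
      IntermediateField.finiteDimensional_adjoin fun x _ => Algebra.IsIntegral.isIntegral x
    refine ⟨L₁ ⊔ IntermediateField.adjoin k (Set.range t), inferInstance, fun w hw => ?_⟩
    rcases Finset.mem_insert.mp hw with rfl | hw₂
    · exact ⟨∑ i, (⟨t i, (le_sup_right : IntermediateField.adjoin k (Set.range t) ≤ _)
        (IntermediateField.subset_adjoin k _ (Set.mem_range_self i))⟩ :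
          (L₁ ⊔ IntermediateField.adjoin k (Set.range t) : IntermediateField k K)) ⊗ₜ[k] a i, by simp⟩
    · obtain ⟨y, rfl⟩ := h₁ w hw₂
      refine ⟨(IntermediateField.inclusion (le_sup_left : L₁ ≤ _)).toLinearMap.rTensor A y, ?_⟩
      clear hw hw₂ h₁
      induction y using TensorProduct.induction_on with
      | zero => simp
      | tmul x y => rfl
      | add p q hp hq => rw [map_add, map_add, map_add, hp, hq]

/-- Descent of a trivialisation along a faithfully flat tower, tested on generators. -/
theorem nonempty_equiv_of_gens {R : Type u} [CommRing R] {A : Type u} [CommRing A] [HopfAlgebra R A]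
    (P T : Type u) [CommRing P] [CommRing T] [Algebra R P] [Algebra R T] [Algebra P T] [IsScalarTower R P T]
    [Module.FaithfullyFlat P T] {N : Type u} [CommGroup N] (e : T ⊗[R] A ≃ₐc[T] MonoidAlgebra T N)
    {gens : Finset N} (hgens : Submonoid.closure (gens : Set N) = ⊤)
    (h : ∀ m ∈ gens, ∃ a : P ⊗[R] A, push A (IsScalarTower.toAlgHom R P T) a = e.symm (MonoidAlgebra.single m 1)) :
    Nonempty (P ⊗[R] A ≃ₐc[P] MonoidAlgebra P N) := by
  let c : T ⊗[P] (P ⊗[R] A) ≃ₐc[T] T ⊗[R] A := cancelBC (R := R) P T A
  refine nonempty_equiv_of_descend (R := P) (A := P ⊗[R] A) (T := T) (c.trans e) fun m => ?_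
  have hm : m ∈ Submonoid.closure (gens : Set N) := hgens ▸ Submonoid.mem_top m
  induction hm using Submonoid.closure_induction with
  | one => exact ⟨1, map_one (c.trans e)⟩
  | mul x y _ _ hx hy =>
    obtain ⟨a, ha⟩ := hx
    obtain ⟨b, hb⟩ := hy
    exact ⟨a * b, by rw [← mul_one (1 : T), ← Algebra.TensorProduct.tmul_mul_tmul, map_mul, ha, hb,
      MonoidAlgebra.single_mul_single, mul_one]⟩
  | mem x hx =>
    obtain ⟨a, ha⟩ := h x hx
    exact ⟨a, by show e (c ((1 : T) ⊗ₜ[P] a)) = _; rw [push_cancel, ha, e.apply_symm_apply]⟩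

/-- A trivialisation over an algebraic extension comes from a finite one. -/
theorem exists_splitting_of_iso {k : Type u} [Field k] {A : Type u} [CommRing A] [HopfAlgebra k A]
    (K : Type u) [Field K] [Algebra k K] [Algebra.IsAlgebraic k K] [Algebra.IsSeparable k K]
    {N : Type u} [CommGroup N] (hfg : Group.FG N) (e : K ⊗[k] A ≃ₐc[K] MonoidAlgebra K N) :
    ∃ (k' : Type u) (_ : Field k') (_ : Algebra k k'), Module.Finite k k' ∧ Algebra.IsSeparable k k' ∧
      ∃ (N : Type u) (_ : CommGroup N), Group.FG N ∧ Nonempty (k' ⊗[k] A ≃ₐc[k'] MonoidAlgebra k' N) := by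
  classical
  obtain ⟨gens, hgens⟩ := (Group.fg_iff_monoid_fg.mp hfg).fg_top
  obtain ⟨L, hL, hz⟩ := exists_finite_subfield K
    (gens.image fun m => e.symm (MonoidAlgebra.single m 1))
  refine ⟨L, inferInstance, inferInstance, hL, inferInstance, N, inferInstance, hfg, ?_⟩
  refine nonempty_equiv_of_gens (R := k) L K e hgens fun m hm => ?_
  obtain ⟨a, ha⟩ := hz _ (Finset.mem_image_of_mem _ hm)
  refine ⟨a, ?_⟩
  rw [← ha]
  clear ha
  induction a using TensorProduct.induction_on with
  | zero => simp
  | tmul t y => rfl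
  | add p q hp hq => simp only [map_add, hp, hq]

/-- A group of multiplicative type of finite type over a field splits over a finite separable extension. -/
theorem exists_splitting {k : Type u} [Field k] {A : Type u} [CommRing A] [HopfAlgebra k A]
    (hft : Algebra.FiniteType k A) (h : SGA3b.IsMultTypeConst k A) :
    ∃ (k' : Type u) (_ : Field k') (_ : Algebra k k'), Module.Finite k k' ∧ Algebra.IsSeparable k k' ∧
      ∃ (N : Type u) (_ : CommGroup N), Group.FG N ∧ Nonempty (k' ⊗[k] A ≃ₐc[k'] MonoidAlgebra k' N) := by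
  obtain ⟨N, _, hfg, ⟨e⟩⟩ := exists_iso_sepClosed hft h (SeparableClosure k)
  exact exists_splitting_of_iso (SeparableClosure k) hfg e

end Groth.Agent.IsoTriv
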