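import Groth.Agent.IsoTriv.CompleteClopen
import Groth.Agent.IsoTriv.FieldSplit
import Mathlib.RingTheory.LocalRing.ResidueField.Ideal

/-! Groups with connected fibres over complete rings. -/

universe u

open TensorProduct

namespace Groth.Agent.IsoTriv

open SGA3bLib

variable {A : Type u} [CommRing A] {C : Type u} [CommRing C] [HopfAlgebra A C]

/-- An idempotent with trivial counit vanishes if the fibres are connected. -/
theorem eq_zero_of_fibres_connected
    (hconn : ∀ (p : Ideal A) [p.IsPrime], ConnectedSpace (PrimeSpectrum (p.ResidueField ⊗[A] C)))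
    {e : C} (he : IsIdempotentElem e) (hc : Coalgebra.counit (R := A) e = 0) : e = 0 := by
  refine he.eq_zero_of_isNilpotent ?_
  rw [← mem_nilradical, nilradical_eq_sInf, Ideal.mem_sInf]
  intro q hq
  have : q.IsPrime := hq
  let p := q.comap (algebraMap A C)
  have := hconn p
  let f : p.ResidueField →ₐ[A] q.ResidueField := Ideal.ResidueField.mapₐ p q (Algebra.ofId A C) rfl
  let L : p.ResidueField ⊗[A] C →ₐ[A] q.ResidueField :=
    Algebra.TensorProduct.lift f (IsScalarTower.toAlgHom A C q.ResidueField) fun _ _ => Commute.all _ _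
  have hid : IsIdempotentElem ((1 : p.ResidueField) ⊗ₜ[A] e) := by
    show _ * _ = _
    rw [Algebra.TensorProduct.tmul_mul_tmul, one_mul, he]
  have hor : (1 : p.ResidueField) ⊗ₜ[A] e = 0 ∨ (1 : p.ResidueField) ⊗ₜ[A] e = 1 := by
    set x := (1 : p.ResidueField) ⊗ₜ[A] e
    rcases isClopen_iff.mp (PrimeSpectrum.isClopen_iff.mpr ⟨x, hid, rfl⟩ :
      IsClopen (PrimeSpectrum.basicOpen x : Set (PrimeSpectrum (p.ResidueField ⊗[A] C)))) with h | h
    · left
      exact hid.eq_zero_of_isNilpotent ((PrimeSpectrum.basicOpen_eq_bot_iff x).mp (TopologicalSpace.Opens.ext h))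
    · right
      refine (IsIdempotentElem.iff_eq_one_of_isUnit ?_).mp hid
      by_contra hu
      obtain ⟨M, hM, hxM⟩ := exists_max_ideal_of_mem_nonunits hu
      exact (Set.eq_univ_iff_forall.mp h ⟨M, hM.isPrime⟩) hxM
  rcases hor with h | h
  · have := congrArg L h
    simp only [L, Algebra.TensorProduct.lift_tmul, map_one, one_mul, map_zero, IsScalarTower.coe_toAlgHom] at this
    exact Ideal.algebraMap_residueField_eq_zero.mp this
  · exfalso
    have := congrArg (Coalgebra.counit (R := p.ResidueField)) h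
    rw [TensorProduct.counit_tmul, hc, zero_smul, Bialgebra.counit_one] at this
    exact zero_ne_one this

/-- A diagonalisable type with a torus reduction is that of a torus. -/
theorem isTorus_of_equiv (I : Ideal A) (hI : I ≤ (⊥ : Ideal A).jacobson) (A' : Type u) [CommRing A'] [Algebra A A']
    [Module.FaithfullyFlat A A'] {N : Type u} [CommGroup N] (e : A' ⊗[A] C ≃ₐc[A'] MonoidAlgebra A' N)
    (h0 : SGA3b.IsTorus (A ⧸ I) ((A ⧸ I) ⊗[A] C)) : SGA3b.IsTorus A C := by
  obtain ⟨n, ⟨e'⟩⟩ : ∃ n : ℕ,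
      Nonempty (A' ⊗[A] C ≃ₐc[A'] MonoidAlgebra A' (Multiplicative (Fin n → ℤ))) := by
    rcases subsingleton_or_nontrivial A with hA | hA
    · have : Subsingleton A' := (algebraMap A A').codomain_trivial
      have : Subsingleton (A' ⊗[A] C) := (algebraMap A' (A' ⊗[A] C)).codomain_trivial
      have : Subsingleton (MonoidAlgebra A' (Multiplicative (Fin 0 → ℤ))) :=
        (algebraMap A' (MonoidAlgebra A' (Multiplicative (Fin 0 → ℤ)))).codomain_trivial
      exact ⟨0, ⟨BialgEquiv.ofBijective ((MonoidAlgebra.mapDomainBialgHom A' (1 : N →* Multiplicative (Fin 0 → ℤ))).comp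
        (e : A' ⊗[A] C →ₐc[A'] MonoidAlgebra A' N))
        ⟨fun x y _ => Subsingleton.elim x y, fun y => ⟨0, Subsingleton.elim _ _⟩⟩⟩⟩
    · obtain ⟨s, hs, hloc⟩ := h0
      have hIne : I ≠ ⊤ := fun h => (Ideal.jacobson_eq_top_iff.not.mpr bot_ne_top) (top_le_iff.mp (h ▸ hI))
      have : Nontrivial (A ⧸ I) := Ideal.Quotient.nontrivial_iff.mpr hIne
      obtain ⟨m, hm⟩ := Ideal.exists_maximal (A ⧸ I)
      obtain ⟨f, hf, hfm⟩ : ∃ f ∈ s, f ∉ m := by
        by_contra hne
        push Not at hne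
        exact hm.ne_top (top_le_iff.mp (hs ▸ Ideal.span_le.mpr hne))
      obtain ⟨R', _, _, hff, n, ⟨eR⟩⟩ := hloc f hf
      have := hff
      have : Nontrivial (Localization.Away f) := by
        by_contra hnt
        rw [not_nontrivial_iff_subsingleton] at hnt
        obtain ⟨k, hk⟩ := (IsLocalization.subsingleton_iff (M := Submonoid.powers f) (S := Localization.Away f)).mp hnt
        exact hfm ((inferInstance : m.IsPrime).mem_of_pow_mem k ((show f ^ k = 0 from hk).symm ▸ m.zero_mem))
      have : Nontrivial R' := by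
        obtain ⟨x, y, hxy⟩ := (Module.FaithfullyFlat.nontrivial_tensorProduct_iff_left (Localization.Away f)
          (Localization.Away f) (N := R')).mpr inferInstance
        exact ⟨TensorProduct.lid _ R' x, TensorProduct.lid _ R' y,
          fun hh => hxy ((TensorProduct.lid _ R').injective hh)⟩
      let : Algebra (A ⧸ I) R' := ((algebraMap (Localization.Away f) R').comp (algebraMap _ _)).toAlgebra
      have : IsScalarTower (A ⧸ I) (Localization.Away f) R' := .of_algebraMap_eq fun _ => rfl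
      let : Algebra A R' := ((algebraMap (A ⧸ I) R').comp (Ideal.Quotient.mk I)).toAlgebra
      have : IsScalarTower A (A ⧸ I) R' := .of_algebraMap_eq fun _ => rfl
      let eR' : R' ⊗[A] C ≃ₐc[R'] MonoidAlgebra R' (Multiplicative (Fin n → ℤ)) :=
        (cancelBC (R := A) (A ⧸ I) R' C).symm.trans
          ((cancelBC (R := A ⧸ I) (Localization.Away f) R' ((A ⧸ I) ⊗[A] C)).symm.trans eR)
      have : Nontrivial (R' ⊗[A] A') := Module.FaithfullyFlat.rTensor_nontrivial A A' R'
      obtain ⟨M, hM⟩ := Ideal.exists_maximal (R' ⊗[A] A')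
      letI : Field ((R' ⊗[A] A') ⧸ M) := Ideal.Quotient.field M
      let : Algebra A' (R' ⊗[A] A') := Algebra.TensorProduct.rightAlgebra
      have : IsScalarTower A A' (R' ⊗[A] A') := .of_algebraMap_eq fun r => by
        show algebraMap A (R' ⊗[A] A') r = (1 : R') ⊗ₜ[A] algebraMap A A' r
        rw [Algebra.TensorProduct.algebraMap_apply, Algebra.algebraMap_eq_smul_one, Algebra.algebraMap_eq_smul_one,
          TensorProduct.smul_tmul]
      let K := (R' ⊗[A] A') ⧸ M
      let e₁ : K ⊗[A] C ≃ₐc[K] MonoidAlgebra K (ULift.{u} (Multiplicative (Fin n → ℤ))) :=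
        bcTriv (eR'.trans (MonoidAlgebra.domCongrBialgEquiv R' R' MulEquiv.ulift.symm))
      let e₂ : K ⊗[A] C ≃ₐc[K] MonoidAlgebra K N := bcTriv e
      obtain ⟨φ⟩ := nonempty_mulEquiv (e₂.symm.trans e₁)
      exact ⟨n, ⟨e.trans (MonoidAlgebra.domCongrBialgEquiv A' A' (φ.trans MulEquiv.ulift))⟩⟩
  refine ⟨{1}, Ideal.span_singleton_one, ?_⟩
  rintro f rfl
  let L := Localization.Away (1 : A)
  let : Algebra A' (L ⊗[A] A') := Algebra.TensorProduct.rightAlgebra
  have : IsScalarTower A A' (L ⊗[A] A') := .of_algebraMap_eq fun r => by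
    show algebraMap A (L ⊗[A] A') r = (1 : L) ⊗ₜ[A] algebraMap A A' r
    rw [Algebra.TensorProduct.algebraMap_apply, Algebra.algebraMap_eq_smul_one, Algebra.algebraMap_eq_smul_one,
      TensorProduct.smul_tmul]
  exact ⟨L ⊗[A] A', inferInstance, inferInstance, inferInstance, n,
    ⟨((cancelBC (R := A) L (L ⊗[A] A') C).trans
      (bcTriv (e'.trans (MonoidAlgebra.domCongrBialgEquiv A' A'
        (MulEquiv.ulift : ULift.{u} (Multiplicative (Fin n → ℤ)) ≃* _).symm)))).trans
        (MonoidAlgebra.domCongrBialgEquiv _ _ MulEquiv.ulift)⟩⟩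

variable (I : Ideal A) [IsNoetherianRing A] [IsAdicComplete I A]

/-- With connected fibres the clopen subgroup is everything. -/
theorem exists_triv_of_connected (hft : Algebra.FiniteType A C)
    (hflat : ∀ n : ℕ, Module.Flat (A ⧸ I ^ n) ((A ⧸ I ^ n) ⊗[A] C))
    (hconn : ∀ (p : Ideal A) [p.IsPrime], ConnectedSpace (PrimeSpectrum (p.ResidueField ⊗[A] C)))
    (h0 : SGA3b.IsIsotrivial (A ⧸ I) ((A ⧸ I) ⊗[A] C)) :
    ∃ (A' : Type u) (_ : CommRing A') (_ : Algebra A A') (N : Type u) (_ : CommGroup N),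
      Algebra.Etale A A' ∧ Module.Finite A A' ∧ Module.FaithfullyFlat A A' ∧
      Nonempty (A' ⊗[A] C ≃ₐc[A'] MonoidAlgebra A' N) := by
  obtain ⟨e, A', _, _, N, _, he, hspan, het, hfin, hff, -, Φ, hΦ, hK⟩ := exists_clopen_isotrivial I hft hflat h0
  have := het
  have := hfin
  have := hff
  obtain ⟨hop, -, -⟩ := exists_isHopfIdeal I e hspan A' Φ hΦ hK
  have h0e : e = 0 := eq_zero_of_fibres_connected hconn he (hop.counit_eq_zero (Ideal.mem_span_singleton_self e))
  refine ⟨A', inferInstance, inferInstance, N, inferInstance, het, hfin, hff, ⟨BialgEquiv.ofBijective Φ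
    ⟨(RingHom.injective_iff_ker_eq_bot (Φ : A' ⊗[A] C →ₐ[A'] MonoidAlgebra A' N).toRingHom).mpr ?_, hΦ⟩⟩⟩
  refine hK.trans ?_
  rw [h0e, Ideal.span_singleton_eq_bot.mpr rfl, Ideal.map_bot]

end Groth.Agent.IsoTriv
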