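import Groth.Agent.IsoTriv.Local
import Groth.Agent.HenselLib.Pair
import Groth.Agent.HenselLib.Perm
import Mathlib.FieldTheory.IsSepClosed

/-! Groups of multiplicative type over fields and henselian local rings. -/

universe u

open TensorProduct Coalgebra

namespace Groth.Agent.IsoTriv

open SGA3bLib

variable {R : Type u} [CommRing R] [Nontrivial R] {A : Type u} [CommRing A] [HopfAlgebra R A]

/-- Over a separably closed field a group of multiplicative type of finite type is diagonalisable. -/
theorem exists_iso_sepClosed (hft : Algebra.FiniteType R A) (h : SGA3b.IsMultTypeConst R A)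
    (K : Type u) [Field K] [IsSepClosed K] [Algebra R K] :
    ∃ (N : Type u) (_ : CommGroup N), Group.FG N ∧ Nonempty (K ⊗[R] A ≃ₐc[K] MonoidAlgebra K N) := by
  refine exists_iso_of_points hft h K fun n _ _ _ _ _ _ S _ _ _ _ _ hS χ => ?_
  set D := CartDual.D R (A ⧸ SGA3b.torsionIdeal R A n)
  let e := Algebra.FormallyEtale.equivPiOfIsSepClosed K (K ⊗[R] D)
  have : Module.Finite K (K ⊗[R] D) := inferInstance
  have : IsArtinianRing (K ⊗[R] D) := isArtinian_of_tower K inferInstance
  have : Finite (PrimeSpectrum (K ⊗[R] D)) :=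
    Finite.of_equiv (MaximalSpectrum (K ⊗[R] D)) (IsArtinianRing.primeSpectrumEquivMaximalSpectrum (R := K ⊗[R] D)).symm
  have : Fintype (PrimeSpectrum (K ⊗[R] D)) := Fintype.ofFinite _
  classical
  let χK : K ⊗[R] D →ₐ[K] S := Algebra.TensorProduct.lift (Algebra.ofId K S) χ fun _ _ => Commute.all _ _
  obtain ⟨i, hi⟩ := exists_eq_proj hS (χK.comp e.symm.toAlgHom)
  refine ⟨(((Pi.evalAlgHom K (fun _ => K) i).comp e.toAlgHom).restrictScalars R).comp
    Algebra.TensorProduct.includeRight, fun d => ?_⟩
  have h1 := hi (e ((1 : K) ⊗ₜ[R] d))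
  simp only [AlgHom.comp_apply, AlgEquiv.coe_toAlgHom, AlgEquiv.symm_apply_apply] at h1
  simpa [χK] using h1

/-- If the closed fibre is diagonalisable and points of étale algebras lift, so is the group. -/
theorem exists_iso_of_lift (hft : Algebra.FiniteType R A) (h : SGA3b.IsMultTypeConst R A)
    (T : Type u) [CommRing T] [IsLocalRing T] [Algebra R T] (K : Type u) [Field K] [Algebra R K]
    (π : T →ₐ[R] K) (hπ : IsLocalHom π.toRingHom)
    (hlift : ∀ (D : Type u) [CommRing D] [Algebra R D] [Algebra.Etale R D] (σ : D →ₐ[R] K),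
      ∃ τ : D →ₐ[R] T, π.comp τ = σ)
    (hK : SGA3b.IsDiag K (K ⊗[R] A)) :
    ∃ (N : Type u) (_ : CommGroup N), Group.FG N ∧ Nonempty (T ⊗[R] A ≃ₐc[T] MonoidAlgebra T N) := by
  obtain ⟨N', _, ⟨eK⟩⟩ := hK
  have : Algebra.FiniteType K (MonoidAlgebra K N') :=
    (inferInstance : Algebra.FiniteType K (K ⊗[R] A)).equiv eK.toAlgEquiv
  have hfg : Group.FG N' := Group.fg_iff_monoid_fg.mpr (MonoidAlgebra.finiteType_iff_fg.mp this)
  refine exists_iso_of_points hft h T fun n hn _ _ _ _ _ S _ _ _ _ _ hS χ => ?_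
  obtain ⟨e'⟩ := quotEquiv eK n
  have := finite_quot hfg hn
  let σ : (N' ⧸ (powMonoidHom n : N' →* N').range) →
      (CartDual.D R (A ⧸ SGA3b.torsionIdeal R A n) →ₐ[R] K) := fun g =>
    toPoint (e'.symm (MonoidAlgebra.single g 1))
      ((MonoidAlgebra.isGroupLikeElem_single_one (R := K) (A := K) g).map
        (e'.symm : MonoidAlgebra K _ →ₐc[K] K ⊗[R] (A ⧸ SGA3b.torsionIdeal R A n)))
  choose τ hτ using fun g => hlift _ (σ g)
  obtain ⟨i, hi⟩ := exists_point_eq π hπ τ (by
    have hb := dualToFun_bijective e'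
    convert hb using 2
    unfold dualToFun
    congr 2
    funext g
    exact hτ g) hS χ
  exact ⟨τ i, hi⟩

/-- Over a local ring a group of multiplicative type has constant type. -/
theorem isMultTypeConst_of_isLocalRing [IsLocalRing R] (h : SGA3b.IsMultType R A) : SGA3b.IsMultTypeConst R A := by
  obtain ⟨s, hs, hloc⟩ := h
  obtain ⟨f, hf, hu⟩ : ∃ f ∈ s, IsUnit f := by
    by_contra hne
    push Not at hne
    have : Ideal.span s ≤ IsLocalRing.maximalIdeal R :=
      Ideal.span_le.mpr fun f hf => (IsLocalRing.mem_maximalIdeal f).mpr (hne f hf)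
    exact (IsLocalRing.maximalIdeal.isMaximal R).ne_top (top_le_iff.mp (hs ▸ this))
  obtain ⟨R', _, _, hff, N, _, ⟨e⟩⟩ := hloc f hf
  have := hff
  let : Algebra R R' := ((algebraMap (Localization.Away f) R').comp (algebraMap R (Localization.Away f))).toAlgebra
  have : IsScalarTower R (Localization.Away f) R' := .of_algebraMap_eq fun _ => rfl
  have hb : Function.Bijective (algebraMap R (Localization.Away f)) :=
    (IsLocalization.atUnit R (Localization.Away f) f hu).bijective
  let le : R ≃ₗ[R] Localization.Away f := LinearEquiv.ofBijective (Algebra.linearMap R (Localization.Away f)) hb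
  have : Module.FaithfullyFlat R (Localization.Away f) := Module.FaithfullyFlat.of_linearEquiv R R le.symm
  exact ⟨R', inferInstance, inferInstance, Module.FaithfullyFlat.trans R (Localization.Away f) R', N, inferInstance,
    ⟨(cancelBC (R := R) (Localization.Away f) R' A).symm.trans e⟩⟩

/-- Over a henselian local ring a group of multiplicative type with diagonalisable closed fibre is diagonalisable. -/
theorem exists_iso_henselian {R : Type u} [CommRing R] {A : Type u} [CommRing A] [HopfAlgebra R A]
    [HenselianLocalRing R] (hft : Algebra.FiniteType R A)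
    (h : SGA3b.IsMultType R A)
    (hk : SGA3b.IsDiag (IsLocalRing.ResidueField R) (IsLocalRing.ResidueField R ⊗[R] A)) :
    ∃ (N : Type u) (_ : CommGroup N), Group.FG N ∧ Nonempty (A ≃ₐc[R] MonoidAlgebra R N) := by
  obtain ⟨N, _, hfg, ⟨e⟩⟩ := exists_iso_of_lift hft (isMultTypeConst_of_isLocalRing h) R
    (IsLocalRing.ResidueField R) (IsScalarTower.toAlgHom R R (IsLocalRing.ResidueField R))
    (inferInstanceAs (IsLocalHom (IsLocalRing.residue R)))
    (fun D _ _ _ σ => HenselLib.exists_lift_of_etale (IsLocalRing.maximalIdeal R) σ) hk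
  refine ⟨N, inferInstance, hfg, nonempty_equiv_of_descend e fun m => ?_⟩
  obtain ⟨x, hx⟩ : ∃ x : A, (1 : R) ⊗ₜ[R] x = e.symm (MonoidAlgebra.single m 1) :=
    ⟨TensorProduct.lid R A (e.symm (MonoidAlgebra.single m 1)), by
      apply (TensorProduct.lid R A).injective
      rw [TensorProduct.lid_tmul, one_smul]⟩
  exact ⟨x, by rw [hx, e.apply_symm_apply]⟩

end Groth.Agent.IsoTriv
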