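import Groth.Agent.IsoTriv.HenselianSplit

/-! The diagonalisable quotient over a henselian Noetherian local ring. -/

universe u

open TensorProduct

namespace Groth.Agent.IsoTriv

open SGA3bLib

variable {R : Type u} [CommRing R] [IsNoetherianRing R] [HenselianLocalRing R]
  {C : Type u} [CommRing C] [HopfAlgebra R C] {N : Type u} [CommGroup N]

theorem monoidBC_bcHom_one (T : Type u) [CommRing T] [Algebra R T] (Φ : C →ₐc[R] MonoidAlgebra R N) (c : C) :
    monoidBC T N (bcHom T Φ ((1 : T) ⊗ₜ[R] c)) = MonoidAlgebra.mapRingHom N (algebraMap R T) (Φ c) := by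
  rw [bcHom_tmul, monoidBC_one_tmul]

/-- A trivialisation over `k` gives one of the base change to `T` over any common `S`. -/
theorem nonempty_triv_square {R : Type u} [CommRing R] {C : Type u} [CommRing C] [HopfAlgebra R C]
    {N : Type u} [CommGroup N] {k T S : Type u} [CommRing k] [CommRing T] [CommRing S] [Algebra R k] [Algebra R T]
    [Algebra R S] [Algebra T S] [IsScalarTower R T S] (g : k →ₐ[R] S)
    (e₀ : k ⊗[R] C ≃ₐc[k] MonoidAlgebra k N) :
    Nonempty (S ⊗[T] (T ⊗[R] C) ≃ₐc[S] MonoidAlgebra S N) := by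
  let : Algebra k S := g.toRingHom.toAlgebra
  have : IsScalarTower R k S := .of_algebraMap_eq fun r => (g.commutes r).symm
  exact ⟨(cancelBC (R := R) T S C).trans (bcTriv (T := k) (T' := S) e₀)⟩

/-- Over a henselian Noetherian local ring, a group which is flat along a diagonalisable closed fibre contains the
diagonalisable group as an open and closed subgroup. -/
theorem exists_hom_henselian (hft : Algebra.FiniteType R C)
    (hfl : ∀ n : ℕ, Module.Flat (R ⧸ IsLocalRing.maximalIdeal R ^ n) ((R ⧸ IsLocalRing.maximalIdeal R ^ n) ⊗[R] C))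
    (e₀ : (R ⧸ IsLocalRing.maximalIdeal R) ⊗[R] C ≃ₐc[R ⧸ IsLocalRing.maximalIdeal R]
      MonoidAlgebra (R ⧸ IsLocalRing.maximalIdeal R) N) :
    ∃ Φ : C →ₐc[R] MonoidAlgebra R N, Function.Surjective Φ ∧
      ∃ e : C, IsIdempotentElem e ∧ e ∈ (IsLocalRing.maximalIdeal R).map (algebraMap R C) ∧
        RingHom.ker (Φ : C →ₐ[R] MonoidAlgebra R N) = Ideal.span {e} := by
  classical
  set m := IsLocalRing.maximalIdeal R
  have : Algebra.FiniteType R C := hft
  have hfgN : Group.FG N := by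
    have : Algebra.FiniteType (R ⧸ m) (MonoidAlgebra (R ⧸ m) N) :=
      (inferInstance : Algebra.FiniteType (R ⧸ m) ((R ⧸ m) ⊗[R] C)).equiv e₀.toAlgEquiv
    let : Field (R ⧸ m) := Ideal.Quotient.field m
    exact Group.fg_iff_monoid_fg.mpr (MonoidAlgebra.finiteType_iff_fg.mp ‹_›)
  let T := AdicCompletion m R
  have hmfg : m.FG := IsNoetherian.noetherian m
  have := CommAlg6.isLocalHom_completion R
  have : Module.FaithfullyFlat R T := Module.FaithfullyFlat.of_flat_of_isLocalHom
  have : IsNoetherianRing T := Matlis6.isNoetherianRing_adicCompletion _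
  let I : Ideal T := m.map (algebraMap R T)
  have : IsAdicComplete I T := AdicCompletion.isAdicComplete_self m hmfg
  have hI : I ≤ (⊥ : Ideal T).jacobson := IsAdicComplete.le_jacobson_bot I
  let g : R ⧸ m →ₐ[R] T ⧸ I := Ideal.Quotient.liftₐ m (Algebra.ofId R (T ⧸ I)) fun a ha => by
    show algebraMap R (T ⧸ I) a = 0
    rw [IsScalarTower.algebraMap_apply R T (T ⧸ I), Ideal.Quotient.algebraMap_eq, Ideal.Quotient.eq_zero_iff_mem]
    exact Ideal.mem_map_of_mem _ ha
  obtain ⟨e₁⟩ := nonempty_triv_square (T := T) (S := T ⧸ I) g e₀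
  obtain ⟨ψ, hψ, hψker, e, he, hker⟩ := exists_idempotent_split I (C := T ⊗[R] C) inferInstance
    (flat_levels_bc m T hfl) e₁
  have hψe : ψ e = 0 := by
    have : e ∈ RingHom.ker (ψ : T ⊗[R] C →ₐ[T] MonoidAlgebra T N) := hker ▸ Ideal.mem_span_singleton_self e
    exact this
  have hem : e ∈ I.map (algebraMap T (T ⊗[R] C)) := by simpa using (hψker e).mp hψe 1
  have hcoef : ∀ (c : C) (a : N), coef a (ψ ((1 : T) ⊗ₜ[R] c)) ∈ Set.range (algebraMap R T) := by
    intro c a
    obtain ⟨n, hn, hsep⟩ := exists_sep hfgN (insert a (ψ ((1 : T) ⊗ₜ[R] c)).coeff.support)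
    have h := exists_torsion_model hft hfgN e₀ hI ψ hψ he hker hem n hn c (QuotientGroup.mk a)
    suffices hc : coef (QuotientGroup.mk a : N ⧸ (powMonoidHom n : N →* N).range)
        (MonoidAlgebra.mapDomainBialgHom T (QuotientGroup.mk' (powMonoidHom n : N →* N).range)
          (ψ ((1 : T) ⊗ₜ[R] c))) = coef a (ψ ((1 : T) ⊗ₜ[R] c)) from hc ▸ h
    set x := ψ ((1 : T) ⊗ₜ[R] c)
    conv_lhs => rw [← MonoidAlgebra.sum_coeff_single x, Finsupp.sum]
    rw [map_sum, map_sum]
    refine (Finset.sum_eq_single a (fun b hb hba => ?_) fun ha => ?_).trans ?_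
    · simp only [MonoidAlgebra.mapDomainBialgHom_single, QuotientGroup.mk'_apply, coef_single]
      rw [if_neg fun hab => hba (hsep b (Finset.mem_insert_of_mem hb) a (Finset.mem_insert_self _ _) hab)]
    · rw [Finsupp.notMem_support_iff.mp ha]; simp
    · simp [coef_single, coef_apply]
  obtain ⟨Φ, hΦ⟩ := exists_hom_of_coef ψ hcoef
  have hbc : ∀ z, (Φ : C →ₐ[R] MonoidAlgebra R N).toLinearMap.lTensor T z = bcHom T Φ z := by
    intro z
    induction z using TensorProduct.induction_on with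
    | zero => simp
    | tmul t c => rfl
    | add x y hx hy => simp [hx, hy]
  have hΦs : Function.Surjective Φ := by
    refine (Module.FaithfullyFlat.lTensor_surjective_iff_surjective R T (Φ : C →ₐ[R] MonoidAlgebra R N).toLinearMap).mp ?_
    rw [funext hbc]
    intro y
    obtain ⟨x, hx⟩ := hψ (monoidBC T N y)
    exact ⟨x, (monoidBC (T := R) T N).toAlgEquiv.injective ((hΦ x).symm.trans hx)⟩
  refine ⟨Φ, hΦs, ?_⟩
  set K := RingHom.ker (Φ : C →ₐ[R] MonoidAlgebra R N)
  let ι : C →ₐ[R] T ⊗[R] C := Algebra.TensorProduct.includeRight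
  have hKT : K.map ι = Ideal.span {e} := by
    rw [← hker]
    refine (ker_bcHom T Φ hΦs).symm.trans (Ideal.ext fun x => ?_)
    show bcHom T Φ x = 0 ↔ ψ x = 0
    rw [hΦ, ← map_zero (monoidBC (T := R) T N)]
    exact (monoidBC (T := R) T N).toAlgEquiv.injective.eq_iff.symm
  have hcomap : ∀ (L : Ideal C) (x : C), ι x ∈ L.map ι → x ∈ L := by
    intro L x hx
    let q : C →ₐ[R] C ⧸ L := Ideal.Quotient.mkₐ R L
    have hle : L.map ι ≤ RingHom.ker (Algebra.TensorProduct.map (AlgHom.id T T) q) :=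
      Ideal.map_le_iff_le_comap.mpr fun y hy => by
        show Algebra.TensorProduct.map (AlgHom.id T T) q ((1 : T) ⊗ₜ[R] y) = 0
        simp [q, Ideal.Quotient.eq_zero_iff_mem.mpr hy]
    rw [← Ideal.Quotient.eq_zero_iff_mem]
    refine eq_of_one_tmul (R := R) T (b := (0 : C ⧸ L)) ?_
    rw [TensorProduct.tmul_zero]
    exact hle hx
  have : IsNoetherianRing C := Algebra.FiniteType.isNoetherianRing R C
  have hidem : IsIdempotentElem K := by
    refine le_antisymm Ideal.mul_le_right fun x hx => hcomap _ x ?_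
    have h2 : ι x ∈ Ideal.span {e} := hKT ▸ Ideal.mem_map_of_mem ι hx
    rw [Ideal.map_mul, hKT, Ideal.span_singleton_mul_span_singleton, he]
    exact h2
  obtain ⟨e', he', hspan⟩ := (Ideal.isIdempotentElem_iff_of_fg K (IsNoetherian.noetherian K)).mp hidem
  refine ⟨e', he', hcomap _ e' ?_, hspan⟩
  have h2 : ι e' ∈ Ideal.span {e} := hKT ▸ Ideal.mem_map_of_mem ι (hspan ▸ Submodule.mem_span_singleton_self e')
  obtain ⟨r, hr⟩ := Ideal.mem_span_singleton'.mp h2
  show ι e' ∈ Ideal.map ι.toRingHom (Ideal.map (algebraMap R C) m)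
  rw [Ideal.map_map, AlgHom.toRingHom_eq_coe, ι.comp_algebraMap, IsScalarTower.algebraMap_eq R T (T ⊗[R] C), ← Ideal.map_map, ← hr]
  exact Ideal.mul_mem_left _ _ hem

end Groth.Agent.IsoTriv
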