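import Groth.Agent.IsoTriv.HopfStage
import Groth.Agent.SGA3bLib.DiagQuot
import Mathlib.RingTheory.Extension.Presentation.Core
import Mathlib.RingTheory.Polynomial.Basic

/-! A finitely presented Hopf algebra comes from one over a Noetherian ring. -/

universe u

open TensorProduct

namespace Groth.Agent.IsoTriv

/-- Two algebra maps agreeing on generators agree. -/
theorem algHom_ext_gens {T A B : Type u} [CommRing T] [CommRing A] [Semiring B] [Algebra T A] [Algebra T B]
    {G : Set A} (hG : Algebra.adjoin T G = ⊤) {f g : A →ₐ[T] B} (h : ∀ x ∈ G, f x = g x) : f = g :=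
  AlgHom.ext_of_adjoin_eq_top hG h

/-- Structure maps which satisfy the axioms over `R` satisfy them over a finitely generated stage. -/
theorem exists_axioms_stage {R : Type u} [CommRing R] {C : Type u} [CommRing C] [HopfAlgebra R C]
    {T : Type u} [CommRing T] [Algebra T R] [Algebra T C] [IsScalarTower T R C]
    {B : Type u} [CommRing B] [Algebra T B] [Algebra.FiniteType T B] (π : B →ₐ[T] C)
    (hπ : Function.Bijective (extHom (R := R) π))
    (Δ : B →ₐ[T] B ⊗[T] B) (ε : B →ₐ[T] T) (S : B →ₐ[T] B)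
    (hΔ : ∀ x, pairHom (R := R) π π (Δ x) = Bialgebra.comulAlgHom R C (π x))
    (hε : ∀ x, Bialgebra.counitAlgHom R C (π x) = algebraMap T R (ε x))
    (hS : ∀ x, HopfAlgebra.antipodeAlgHom R C (π x) = π (S x)) :
    ∃ (T' : Subalgebra T R), T'.FG ∧ ∃ (C₀ : Type u) (_ : CommRing C₀) (_ : HopfAlgebra T' C₀),
      Algebra.FiniteType T' C₀ ∧ Nonempty (R ⊗[T'] C₀ ≃ₐc[R] C) := by
  classical
  obtain ⟨G, hG⟩ := Algebra.FiniteType.out (R := T) (A := B)
  let dA : B → B ⊗[T] (B ⊗[T] B) := fun x =>
    Algebra.TensorProduct.assoc T T T B B B (Algebra.TensorProduct.map Δ (AlgHom.id T B) (Δ x)) -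
      Algebra.TensorProduct.map (AlgHom.id T B) Δ (Δ x)
  let dB : Fin 4 → B → B := ![
    fun x => Algebra.TensorProduct.lid T B (Algebra.TensorProduct.map ε (AlgHom.id T B) (Δ x)) - x,
    fun x => Algebra.TensorProduct.rid T T B (Algebra.TensorProduct.map (AlgHom.id T B) ε (Δ x)) - x,
    fun x => Algebra.TensorProduct.lift S (AlgHom.id T B) (fun _ _ => Commute.all _ _) (Δ x) - algebraMap T B (ε x),
    fun x => Algebra.TensorProduct.lift (AlgHom.id T B) S (fun _ _ => Commute.all _ _) (Δ x) - algebraMap T B (ε x)]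
  have hA : ∀ x, (1 : R) ⊗ₜ[T] dA x = 0 := fun x => by
    refine one_tmul_eq_zero_of_bijective (pairHom (R := R) π (pairHom (R := R) π π))
      (extHom_pairHom_bijective _ _ hπ (extHom_pairHom_bijective _ _ hπ hπ)) ?_
    rw [map_sub, ← transport_coassoc_left π Δ (Bialgebra.comulAlgHom R C) hΔ,
      ← transport_coassoc_right π Δ (Bialgebra.comulAlgHom R C) hΔ, sub_eq_zero]
    exact Coalgebra.coassoc_apply (R := R) (π x)
  have hB : ∀ i x, (1 : R) ⊗ₜ[T] dB i x = 0 := fun i x => by
    refine one_tmul_eq_zero_of_bijective π hπ ?_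
    fin_cases i
    · show π (_ - x) = 0
      rw [map_sub, ← transport_counit_left π Δ (Bialgebra.comulAlgHom R C) ε (Bialgebra.counitAlgHom R C) hΔ hε,
        sub_eq_zero]
      rw [show Algebra.TensorProduct.map (Bialgebra.counitAlgHom R C) (AlgHom.id R C)
        (Bialgebra.comulAlgHom R C (π x)) = (1 : R) ⊗ₜ π x from Coalgebra.rTensor_counit_comul (π x)]
      simp
    · show π (_ - x) = 0
      rw [map_sub, ← transport_counit_right π Δ (Bialgebra.comulAlgHom R C) ε (Bialgebra.counitAlgHom R C) hΔ hε,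
        sub_eq_zero]
      rw [show Algebra.TensorProduct.map (AlgHom.id R C) (Bialgebra.counitAlgHom R C)
        (Bialgebra.comulAlgHom R C (π x)) = π x ⊗ₜ (1 : R) from Coalgebra.lTensor_counit_comul (π x)]
      simp
    · show π (_ - algebraMap T B (ε x)) = 0
      rw [map_sub, ← transport_mul π Δ (Bialgebra.comulAlgHom R C) S (AlgHom.id T B) (HopfAlgebra.antipodeAlgHom R C)
        (AlgHom.id R C) hΔ hS (fun _ => rfl), sub_eq_zero, AlgHom.commutes, IsScalarTower.algebraMap_apply T R C,
        ← hε]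
      refine Eq.trans ?_ (HopfAlgebra.mul_antipode_rTensor_comul_apply (R := R) (π x))
      show _ = LinearMap.mul' R C ((HopfAlgebraStruct.antipode R).rTensor C (Coalgebra.comul (π x)))
      rw [Bialgebra.comulAlgHom_apply]
      generalize Coalgebra.comul (R := R) (π x) = z
      induction z using TensorProduct.induction_on with
      | zero => simp
      | add a b ha hb => simp only [map_add, ha, hb]
      | tmul a b => simp
    · show π (_ - algebraMap T B (ε x)) = 0
      rw [map_sub, ← transport_mul π Δ (Bialgebra.comulAlgHom R C) (AlgHom.id T B) S (AlgHom.id R C)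
        (HopfAlgebra.antipodeAlgHom R C) hΔ (fun _ => rfl) hS, sub_eq_zero, AlgHom.commutes,
        IsScalarTower.algebraMap_apply T R C, ← hε]
      refine Eq.trans ?_ (HopfAlgebra.mul_antipode_lTensor_comul_apply (R := R) (π x))
      show _ = LinearMap.mul' R C ((HopfAlgebraStruct.antipode R).lTensor C (Coalgebra.comul (π x)))
      rw [Bialgebra.comulAlgHom_apply]
      generalize Coalgebra.comul (R := R) (π x) = z
      induction z using TensorProduct.induction_on with
      | zero => simp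
      | add a b ha hb => simp only [map_add, ha, hb]
      | tmul a b => simp
  obtain ⟨T₁, hT₁, h₁⟩ := exists_stage_zero (R := R) (fun x : G => dA x) fun x => hA x
  obtain ⟨T₂, hT₂, h₂⟩ := exists_stage_zero (R := R) (fun p : Fin 4 × G => dB p.1 p.2) fun p => hB p.1 p.2
  let T' := T₁ ⊔ T₂
  refine ⟨T', hT₁.sup hT₂, ?_⟩
  have push : ∀ {X : Type u} [CommRing X] [Algebra T X] {U : Subalgebra T R} (_ : U ≤ T') {z : X},
      (1 : U) ⊗ₜ[T] z = 0 → (1 : T') ⊗ₜ[T] z = 0 := fun {X} _ _ {U} hU {z} hz => by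
    have := congrArg (FlatMor12.Combine.trans X hU) hz
    rw [map_zero] at this
    simpa [FlatMor12.Combine.trans] using this
  let j : B →ₐ[T] T' ⊗[T] B := Algebra.TensorProduct.includeRight
  let Δ' : T' ⊗[T] B →ₐ[T'] (T' ⊗[T] B) ⊗[T'] (T' ⊗[T] B) := extHom (R := T') ((pairHom (R := T') j j).comp Δ)
  let ε' : T' ⊗[T] B →ₐ[T'] T' := extHom (R := T') ((Algebra.ofId T T').comp ε)
  let S' : T' ⊗[T] B →ₐ[T'] T' ⊗[T] B := extHom (R := T') (j.comp S)
  have hΔ' : ∀ x, pairHom (R := T') j j (Δ x) = Δ' (j x) := fun x => by simp [Δ', j]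
  have hε' : ∀ x, ε' (j x) = algebraMap T T' (ε x) := fun x => by simp [ε', j, Algebra.ofId_apply]
  have hS' : ∀ x, S' (j x) = j (S x) := fun x => by simp [S', j]
  have ext' : ∀ {X : Type u} [Semiring X] [Algebra T' X] [Algebra T X] [IsScalarTower T T' X] (f g : T' ⊗[T] B →ₐ[T'] X),
      (∀ x ∈ G, f (j x) = g (j x)) → f = g := fun {X} _ _ _ _ f g hfg => by
    exact Algebra.TensorProduct.ext (Subsingleton.elim _ _)
      (algHom_ext_gens hG (fun x hx => hfg x hx))
  have hcoassoc : AlgHom.comp (Algebra.TensorProduct.assoc T' T' T' (T' ⊗[T] B) (T' ⊗[T] B) (T' ⊗[T] B)).toAlgHom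
      ((Algebra.TensorProduct.map Δ' (.id T' _)).comp Δ') = (Algebra.TensorProduct.map (.id T' _) Δ').comp Δ' := by
    refine Algebra.TensorProduct.ext (Subsingleton.elim _ _) (algHom_ext_gens hG fun x hx => ?_)
    have h0 := eq_zero_of_one_tmul (R := T') (pairHom (R := T') j (pairHom (R := T') j j))
      (push le_sup_left (h₁ ⟨x, hx⟩))
    simp only [dA] at h0
    rw [map_sub, ← transport_coassoc_left j Δ Δ' hΔ', ← transport_coassoc_right j Δ Δ' hΔ', sub_eq_zero] at h0
    exact h0
  have hl : (Algebra.TensorProduct.map ε' (.id T' _)).comp Δ' =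
      (Algebra.TensorProduct.lid T' (T' ⊗[T] B)).symm := by
    refine ext' (X := T' ⊗[T'] (T' ⊗[T] B)) _ _ fun x hx => ?_
    have h0 := eq_zero_of_one_tmul (R := T') j (push le_sup_right (h₂ ⟨0, x, hx⟩))
    simp only [dB, Matrix.cons_val_zero] at h0
    rw [map_sub, ← transport_counit_left j Δ Δ' ε ε' hΔ' hε', sub_eq_zero] at h0
    apply (Algebra.TensorProduct.lid T' (T' ⊗[T] B)).injective
    exact h0.trans ((Algebra.TensorProduct.lid T' (T' ⊗[T] B)).apply_symm_apply (j x)).symm
  have hr : (Algebra.TensorProduct.map (.id T' _) ε').comp Δ' =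
      (Algebra.TensorProduct.rid T' T' (T' ⊗[T] B)).symm := by
    refine ext' (X := (T' ⊗[T] B) ⊗[T'] T') _ _ fun x hx => ?_
    have h0 := eq_zero_of_one_tmul (R := T') j (push le_sup_right (h₂ ⟨1, x, hx⟩))
    simp only [dB, Matrix.cons_val_one, Matrix.cons_val_zero, Matrix.head_cons] at h0
    rw [map_sub, ← transport_counit_right j Δ Δ' ε ε' hΔ' hε', sub_eq_zero] at h0
    apply (Algebra.TensorProduct.rid T' T' (T' ⊗[T] B)).injective
    exact h0.trans ((Algebra.TensorProduct.rid T' T' (T' ⊗[T] B)).apply_symm_apply (j x)).symm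
  let : Bialgebra T' (T' ⊗[T] B) := Bialgebra.ofAlgHom Δ' ε' hcoassoc hl hr
  have hSl : (Algebra.TensorProduct.lift S' (.id T' _) fun _ => Commute.all _).comp (Bialgebra.comulAlgHom T' _) =
      (Algebra.ofId T' (T' ⊗[T] B)).comp (Bialgebra.counitAlgHom T' _) := by
    refine ext' (X := T' ⊗[T] B) _ _ fun x hx => ?_
    have h0 := eq_zero_of_one_tmul (R := T') j (push le_sup_right (h₂ ⟨2, x, hx⟩))
    change j (_ - algebraMap T B (ε x)) = 0 at h0
    rw [map_sub, ← transport_mul j Δ Δ' S (AlgHom.id T B) S' (AlgHom.id T' _) hΔ' hS' (fun _ => rfl), sub_eq_zero,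
      AlgHom.commutes, IsScalarTower.algebraMap_apply T T' (T' ⊗[T] B), ← hε'] at h0
    exact h0
  have hSr : (Algebra.TensorProduct.lift (.id T' _) S' fun _ _ => Commute.all _ _).comp (Bialgebra.comulAlgHom T' _) =
      (Algebra.ofId T' (T' ⊗[T] B)).comp (Bialgebra.counitAlgHom T' _) := by
    refine ext' (X := T' ⊗[T] B) _ _ fun x hx => ?_
    have h0 := eq_zero_of_one_tmul (R := T') j (push le_sup_right (h₂ ⟨3, x, hx⟩))
    change j (_ - algebraMap T B (ε x)) = 0 at h0
    rw [map_sub, ← transport_mul j Δ Δ' (AlgHom.id T B) S (AlgHom.id T' _) S' hΔ' (fun _ => rfl) hS', sub_eq_zero,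
      AlgHom.commutes, IsScalarTower.algebraMap_apply T T' (T' ⊗[T] B), ← hε'] at h0
    exact h0
  let : HopfAlgebra T' (T' ⊗[T] B) := HopfAlgebra.ofAlgHom S' hSl hSr
  refine ⟨T' ⊗[T] B, inferInstance, inferInstance, Algebra.FiniteType.baseChange T', ?_⟩
  let e₀ : R ⊗[T'] (T' ⊗[T] B) ≃ₐ[R] C :=
    (Algebra.TensorProduct.cancelBaseChange T T' R R B).trans (AlgEquiv.ofBijective (extHom (R := R) π) hπ)
  have he : ∀ b, e₀ ((1 : R) ⊗ₜ ((1 : T') ⊗ₜ b)) = π b := fun b => by simp [e₀]
  refine ⟨BialgEquiv.ofAlgEquiv e₀ (AlgHom.ext fun x => ?_) (AlgHom.ext fun x => ?_)⟩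
  · induction x using TensorProduct.induction_on with
    | zero => simp
    | add a b ha hb => simp only [map_add, ha, hb]
    | tmul r w =>
      induction w using TensorProduct.induction_on with
      | zero => simp
      | add a b ha hb => simp only [TensorProduct.tmul_add, map_add, ha, hb]
      | tmul t b =>
        have h1 : (r ⊗ₜ[T'] (t ⊗ₜ[T] b) : R ⊗[T'] (T' ⊗[T] B)) = ((t : R) * r) • ((1 : R) ⊗ₜ ((1 : T') ⊗ₜ b)) := by
          rw [show (t ⊗ₜ[T] b : T' ⊗[T] B) = t • ((1 : T') ⊗ₜ b) by simp [TensorProduct.smul_tmul'],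
            TensorProduct.tmul_smul, TensorProduct.smul_tmul', TensorProduct.smul_tmul', Subalgebra.smul_def]
          simp
        rw [h1, map_smul, map_smul]
        congr 1
        simp only [AlgHom.comp_apply, Bialgebra.counitAlgHom_apply, AlgEquiv.coe_toAlgHom, he]
        refine (hε b).trans ?_
        rw [TensorProduct.counit_tmul]
        show _ = ε' ((1 : T') ⊗ₜ b) • (1 : R)
        rw [show ε' ((1 : T') ⊗ₜ b) = algebraMap T T' (ε b) from hε' b]
        simp [Algebra.smul_def, ← IsScalarTower.algebraMap_apply]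
  · induction x using TensorProduct.induction_on with
    | zero => simp
    | add a b ha hb => simp only [map_add, ha, hb]
    | tmul r w =>
      induction w using TensorProduct.induction_on with
      | zero => simp
      | add a b ha hb => simp only [TensorProduct.tmul_add, map_add, ha, hb]
      | tmul t b =>
        have h1 : (r ⊗ₜ[T'] (t ⊗ₜ[T] b) : R ⊗[T'] (T' ⊗[T] B)) = ((t : R) * r) • ((1 : R) ⊗ₜ ((1 : T') ⊗ₜ b)) := by
          rw [show (t ⊗ₜ[T] b : T' ⊗[T] B) = t • ((1 : T') ⊗ₜ b) by simp [TensorProduct.smul_tmul'],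
            TensorProduct.tmul_smul, TensorProduct.smul_tmul', TensorProduct.smul_tmul', Subalgebra.smul_def]
          simp
        rw [h1, map_smul, map_smul]
        congr 1
        simp only [AlgHom.comp_apply, Bialgebra.comulAlgHom_apply, AlgEquiv.coe_toAlgHom, he]
        refine Eq.trans ?_ (hΔ b)
        rw [TensorProduct.comul_tmul, CommSemiring.comul_apply]
        show Algebra.TensorProduct.map e₀.toAlgHom e₀.toAlgHom
          (TensorProduct.AlgebraTensorModule.tensorTensorTensorComm T' R T' R R R (T' ⊗[T] B) (T' ⊗[T] B)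
            (((1 : R) ⊗ₜ[R] (1 : R)) ⊗ₜ[T'] Δ' ((1 : T') ⊗ₜ b))) = _
        rw [show Δ' ((1 : T') ⊗ₜ b) = pairHom (R := T') j j (Δ b) from (hΔ' b).symm]
        generalize Δ b = z
        induction z using TensorProduct.induction_on with
        | zero => simp
        | add a b ha hb => simp only [map_add, TensorProduct.tmul_add, ha, hb]
        | tmul a b => simp [j, he]

/-- A finitely presented Hopf algebra is the base change of a finite type Hopf algebra over a Noetherian ring. -/
theorem exists_hopf_model (R : Type u) [CommRing R] (C : Type u) [CommRing C] [HopfAlgebra R C]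
    (hfp : Algebra.FinitePresentation R C) :
    ∃ (T : Type u) (_ : CommRing T) (_ : Algebra T R) (C₀ : Type u) (_ : CommRing C₀) (_ : HopfAlgebra T C₀),
      IsNoetherianRing T ∧ Algebra.FiniteType T C₀ ∧ Nonempty (R ⊗[T] C₀ ≃ₐc[R] C) := by
  have := hfp
  let P := Algebra.Presentation.ofFinitePresentation R C
  let B₁ := P.ModelOfHasCoeffs P.Core
  have : IsNoetherianRing P.Core := Algebra.FiniteType.isNoetherianRing ℤ P.Core
  let e₁ : R ⊗[P.Core] B₁ ≃ₐ[R] C := P.tensorModelOfHasCoeffsEquiv P.Core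
  let π : B₁ →ₐ[P.Core] C := (e₁.toAlgHom.restrictScalars P.Core).comp Algebra.TensorProduct.includeRight
  have hπ : Function.Bijective (extHom (R := R) π) := by
    have : extHom (R := R) π = e₁.toAlgHom := Algebra.TensorProduct.ext (Subsingleton.elim _ _)
      (AlgHom.ext fun b => by simp [π])
    rw [this]
    exact e₁.bijective
  obtain ⟨T₁, hT₁, Δ, ε, S, π₁, hπ₁, hΔ, hε, hS⟩ := exists_maps_stage R C P.Core B₁ π hπ
  have : Algebra.FiniteType P.Core T₁ := T₁.fg_iff_finiteType.1 hT₁
  have : IsNoetherianRing T₁ := Algebra.FiniteType.isNoetherianRing P.Core T₁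
  have : Algebra.FiniteType T₁ (T₁ ⊗[P.Core] B₁) := Algebra.FiniteType.baseChange (A := B₁) T₁
  obtain ⟨T₂, hT₂, C₀, _, _, hft, he⟩ := exists_axioms_stage π₁ hπ₁ Δ ε S hΔ hε hS
  have : Algebra.FiniteType T₁ T₂ := T₂.fg_iff_finiteType.1 hT₂
  exact ⟨T₂, inferInstance, inferInstance, C₀, inferInstance, inferInstance,
    Algebra.FiniteType.isNoetherianRing T₁ T₂, hft, he⟩

end Groth.Agent.IsoTriv
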