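import Groth.Agent.IsoTriv.GroupLikeBC
import Groth.Agent.SGA3bLib.Torsion
import Mathlib.GroupTheory.FiniteAbelian.Basic

/-! A descent criterion for diagonalisable groups through their torsion subgroups. -/

universe u

open TensorProduct Coalgebra

namespace Groth.Agent.IsoTriv

open SGA3bLib

section MonoidBC

variable (S : Type u) {T : Type u} [CommRing S] [CommRing T] [Algebra T S] (N : Type u) [CommGroup N]

/-- Base change of a group algebra, as bialgebras. -/
noncomputable def monoidBC : S ⊗[T] MonoidAlgebra T N ≃ₐc[S] MonoidAlgebra S N :=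
  BialgEquiv.ofAlgEquiv (MonoidAlgebra.scalarTensorEquiv T S)
    (Algebra.TensorProduct.ext (Subsingleton.elim _ _)
      (MonoidAlgebra.algHom_ext (single_one_left := Subsingleton.elim _ _) fun n => by simp))
    (Algebra.TensorProduct.ext (Subsingleton.elim _ _)
      (MonoidAlgebra.algHom_ext (single_one_left := Subsingleton.elim _ _) fun n => by
        simp [Algebra.TensorProduct.one_def]))

theorem monoidBC_one_tmul (g : MonoidAlgebra T N) :
    monoidBC S N ((1 : S) ⊗ₜ[T] g) = MonoidAlgebra.mapRingHom N (algebraMap T S) g := by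
  show MonoidAlgebra.scalarTensorEquiv T S ((1 : S) ⊗ₜ[T] g) = _
  rw [MonoidAlgebra.scalarTensorEquiv_tmul, one_smul]
  rfl

theorem monoidBC_symm_single (n : N) :
    (monoidBC S N : S ⊗[T] MonoidAlgebra T N ≃ₐc[S] _).symm (MonoidAlgebra.single n 1) =
      (1 : S) ⊗ₜ[T] MonoidAlgebra.single n 1 :=
  MonoidAlgebra.scalarTensorEquiv_symm_single n 1

end MonoidBC

/-- In a finitely generated commutative group only `1` is infinitely divisible. -/
theorem eq_one_of_forall_pow {N : Type u} [CommGroup N] (hfg : Group.FG N) {g : N}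
    (h : ∀ n : ℕ, 0 < n → g ∈ (powMonoidHom n : N →* N).range) : g = 1 := by
  classical
  have : Group.FG N := hfg
  have : AddGroup.FG (Additive N) := AddGroup.fg_iff_mul_fg.mpr (by
    show Group.FG (Multiplicative (Additive N))
    exact hfg)
  obtain ⟨r, ι, hι, p, hp, e, ⟨f⟩⟩ := AddCommGroup.equiv_free_prod_directSum_zmod (Additive N)
  let c : ℕ := ∏ i, p i ^ e i
  have hc : 0 < c := Finset.prod_pos fun i _ => pow_pos (hp i).pos _
  suffices f (Additive.ofMul g) = 0 by
    simpa using f.injective (this.trans (map_zero f).symm)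
  have key : ∀ n : ℕ, 0 < n → ∃ z, f (Additive.ofMul g) = n • z := fun n hn => by
    obtain ⟨y, hy⟩ := h n hn
    refine ⟨f (Additive.ofMul y), ?_⟩
    rw [← map_nsmul, ← hy]
    rfl
  refine Prod.ext (Finsupp.ext fun j => ?_) ?_
  · set x : ℤ := (f (Additive.ofMul g)).1 j with hxdef
    by_contra hx
    obtain ⟨z, hz⟩ := key (x.natAbs + 1) (by omega)
    have hd : ((x.natAbs + 1 : ℕ) : ℤ) ∣ x := ⟨z.1 j, by
      have h1 := congrArg (fun w => (Prod.fst w : Fin r →₀ ℤ) j) hz
      simp only [Prod.smul_fst, Finsupp.smul_apply, nsmul_eq_mul] at h1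
      exact h1⟩
    have := Int.natAbs_dvd_natAbs.mpr hd
    rw [Int.natAbs_natCast] at this
    exact absurd (Nat.le_of_dvd (Int.natAbs_pos.mpr hx) this) (by omega)
  · obtain ⟨z, hz⟩ := key c hc
    rw [hz, Prod.smul_snd]
    refine DFinsupp.ext fun i => ?_
    rw [DFinsupp.smul_apply, nsmul_eq_mul,
      (ZMod.natCast_eq_zero_iff c _).mpr (Finset.dvd_prod_of_mem _ (Finset.mem_univ i)), zero_mul]
    rfl

variable {R : Type u} [CommRing R] {A : Type u} [CommRing A] [HopfAlgebra R A]

section Bc

variable {T T' : Type u} [CommRing T] [CommRing T'] [Algebra R T] [Algebra R T'] {N : Type u} [CommGroup N]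

/-- Push a trivialisation forward. -/
noncomputable def bcTriv [Algebra T T'] [IsScalarTower R T T'] (e : T ⊗[R] A ≃ₐc[T] MonoidAlgebra T N) :
    T' ⊗[R] A ≃ₐc[T'] MonoidAlgebra T' N :=
  let φ := bcHom T' (e : T ⊗[R] A →ₐc[T] MonoidAlgebra T N)
  ((cancelBC (R := R) T T' A).symm.trans (BialgEquiv.ofBijective φ
    ((TensorProduct.AlgebraTensorModule.congr (LinearEquiv.refl T' T') e.toAlgEquiv.toLinearEquiv).bijective))).trans
      (monoidBC T' N)

theorem bcTriv_push [Algebra T T'] [IsScalarTower R T T'] (e : T ⊗[R] A ≃ₐc[T] MonoidAlgebra T N)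
    (x : T ⊗[R] A) :
    bcTriv e (push A (IsScalarTower.toAlgHom R T T') x) = MonoidAlgebra.mapRingHom N (algebraMap T T') (e x) := by
  rw [push_eq_cancel, ← monoidBC_one_tmul T' N (e x)]
  show monoidBC T' N (bcHom T' (e : T ⊗[R] A →ₐc[T] MonoidAlgebra T N)
    ((cancelBC (R := R) T T' A).symm (cancelBC (R := R) T T' A ((1 : T') ⊗ₜ[T] x)))) = _
  rw [BialgEquiv.symm_apply_apply]
  rfl

theorem push_mem_torsion (f : T →ₐ[R] T') {n : ℕ} {x : T ⊗[R] A}
    (h : x ∈ (SGA3b.torsionIdeal R A n).map (Algebra.TensorProduct.includeRight : A →ₐ[R] T ⊗[R] A)) :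
    push A f x ∈ (SGA3b.torsionIdeal R A n).map (Algebra.TensorProduct.includeRight : A →ₐ[R] T' ⊗[R] A) := by
  have := Ideal.mem_map_of_mem (push A f) h
  rw [Ideal.map_mapₐ] at this
  have hc : (push A f).comp (Algebra.TensorProduct.includeRight : A →ₐ[R] T ⊗[R] A) =
      (Algebra.TensorProduct.includeRight : A →ₐ[R] T' ⊗[R] A) := AlgHom.ext fun a => by simp
  rwa [hc] at this

end Bc

section Unique

variable {N : Type u} [CommGroup N]

theorem eq_of_field {L : Type u} [Field L] [Algebra R L] (e : L ⊗[R] A ≃ₐc[L] MonoidAlgebra L N)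
    (hfg : Group.FG N) {x y : L ⊗[R] A} (hx : IsGroupLikeElem L x) (hy : IsGroupLikeElem L y)
    (h : ∀ n : ℕ, 0 < n → x - y ∈
      (SGA3b.torsionIdeal R A n).map (Algebra.TensorProduct.includeRight : A →ₐ[R] L ⊗[R] A)) : x = y := by
  obtain ⟨a, ha⟩ := MonoidAlgebra.isGroupLikeElem_iff_mem_range_single_one.mp
    (hx.map (e : L ⊗[R] A →ₐc[L] MonoidAlgebra L N))
  obtain ⟨b, hb⟩ := MonoidAlgebra.isGroupLikeElem_iff_mem_range_single_one.mp
    (hy.map (e : L ⊗[R] A →ₐc[L] MonoidAlgebra L N))
  suffices a / b = 1 by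
    apply e.injective
    exact ha.symm.trans ((congrArg (fun c => MonoidAlgebra.single c (1 : L)) (div_eq_one.mp this)).trans hb)
  refine eq_one_of_forall_pow hfg fun n hn => ?_
  have h1 := h n hn
  rw [← torsionIdeal_baseChange, torsionIdeal_eq_comap e, Ideal.mem_comap, torsionIdeal_monoidAlgebra,
    RingHom.mem_ker] at h1
  rw [← QuotientGroup.eq_one_iff (N := (powMonoidHom n : N →* N).range), QuotientGroup.mk_div, div_eq_one]
  have h2 : MonoidAlgebra.single (QuotientGroup.mk a : N ⧸ (powMonoidHom n : N →* N).range) (1 : L) =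
      MonoidAlgebra.single (QuotientGroup.mk b : N ⧸ (powMonoidHom n : N →* N).range) (1 : L) := by
    have ha' : e x = MonoidAlgebra.single a 1 := ha.symm
    have hb' : e y = MonoidAlgebra.single b 1 := hb.symm
    have h3 : MonoidAlgebra.mapDomainBialgHom L (QuotientGroup.mk' (powMonoidHom n : N →* N).range) (e x - e y) = 0 := by
      rw [← map_sub]; exact h1
    rw [map_sub, sub_eq_zero, ha', hb'] at h3
    simpa using h3
  exact MonoidAlgebra.single_left_injective (one_ne_zero (α := L)) h2

variable {T : Type u} [CommRing T] [Algebra R T]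

/-- Group-like elements of a diagonalisable group of finite type are determined by their classes on the
torsion subgroups. -/
theorem eq_of_torsion (e : T ⊗[R] A ≃ₐc[T] MonoidAlgebra T N) (hfg : Group.FG N) {x y : T ⊗[R] A}
    (hx : IsGroupLikeElem T x) (hy : IsGroupLikeElem T y)
    (h : ∀ n : ℕ, 0 < n → x - y ∈
      (SGA3b.torsionIdeal R A n).map (Algebra.TensorProduct.includeRight : A →ₐ[R] T ⊗[R] A)) : x = y := by
  classical
  apply e.injective
  refine ext_coef fun m => eq_of_forall_residueField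
    (isIdempotentElem_coef (hx.map (e : T ⊗[R] A →ₐc[T] MonoidAlgebra T N)) m)
    (isIdempotentElem_coef (hy.map (e : T ⊗[R] A →ₐc[T] MonoidAlgebra T N)) m) fun p hp => ?_
  let f := IsScalarTower.toAlgHom R T p.ResidueField
  have heq : push A f x = push A f y := eq_of_field (bcTriv e) hfg (isGroupLike_push f hx) (isGroupLike_push f hy)
    fun n hn => by rw [← map_sub]; exact push_mem_torsion f (h n hn)
  have h2 := congrArg (coef m) (congrArg (bcTriv (T' := p.ResidueField) e) heq)
  rw [bcTriv_push, bcTriv_push, coef_mapRingHom, coef_mapRingHom] at h2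
  rw [← Ideal.algebraMap_residueField_eq_zero (I := p), map_sub, sub_eq_zero]
  exact h2

end Unique

section Descent

variable {T : Type u} [CommRing T] [Algebra R T] [Module.FaithfullyFlat R T] {N : Type u} [CommGroup N]

/-- A trivialisation whose characters are defined over the base descends. -/
theorem nonempty_equiv_of_descend (e : T ⊗[R] A ≃ₐc[T] MonoidAlgebra T N)
    (h : ∀ m : N, ∃ a : A, e ((1 : T) ⊗ₜ[R] a) = MonoidAlgebra.single m 1) :
    Nonempty (A ≃ₐc[R] MonoidAlgebra R N) := by
  classical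
  choose a ha using h
  have hinj : ∀ x y : A, e ((1 : T) ⊗ₜ[R] x) = e ((1 : T) ⊗ₜ[R] y) → x = y := fun x y hxy =>
    eq_of_one_tmul (R := R) T (e.injective hxy)
  have hg : ∀ m, IsGroupLikeElem R (a m) := fun m => isGroupLike_of_tmul T (by
    have := (MonoidAlgebra.isGroupLikeElem_single_one (R := T) (A := T) m).map
      (e.symm : MonoidAlgebra T N →ₐc[T] T ⊗[R] A)
    rwa [show (e.symm : MonoidAlgebra T N →ₐc[T] T ⊗[R] A) (MonoidAlgebra.single m 1) = (1 : T) ⊗ₜ[R] a m from
      e.injective ((e.apply_symm_apply _).trans (ha m).symm)] at this)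
  let val : N →* A :=
    { toFun := a
      map_one' := hinj _ _ (by rw [ha]; exact (map_one e).symm)
      map_mul' := fun x y => hinj _ _ (by
        rw [ha, ← mul_one (1 : T), ← Algebra.TensorProduct.tmul_mul_tmul, map_mul, ha, ha,
          MonoidAlgebra.single_mul_single, mul_one]) }
  let f : MonoidAlgebra R N →ₐ[R] A := MonoidAlgebra.lift R A N val
  have hf : ∀ m, f (MonoidAlgebra.single m 1) = a m := fun m => by simp [f, val]
  let φ : MonoidAlgebra R N →ₐc[R] A := BialgHom.ofAlgHom f
    (MonoidAlgebra.algHom_ext (single_one_left := Subsingleton.elim _ _) fun m => by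
      simp [hf, (hg m).counit_eq_one])
    (MonoidAlgebra.algHom_ext (single_one_left := Subsingleton.elim _ _) fun m => by
      simp [hf, (hg m).comul_eq_tmul_self])
  have hb0 : ((bcHom T φ : T ⊗[R] MonoidAlgebra R N →ₐc[T] T ⊗[R] A) : T ⊗[R] MonoidAlgebra R N →ₐ[T] T ⊗[R] A) =
      (((monoidBC T N).trans e.symm : T ⊗[R] MonoidAlgebra R N ≃ₐc[T] T ⊗[R] A) :
        T ⊗[R] MonoidAlgebra R N →ₐc[T] T ⊗[R] A) := by
    refine Algebra.TensorProduct.ext (Subsingleton.elim _ _)
      (MonoidAlgebra.algHom_ext (single_one_left := Subsingleton.elim _ _) fun m => ?_)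
    show (1 : T) ⊗ₜ[R] f (MonoidAlgebra.single m 1) = e.symm (monoidBC T N ((1 : T) ⊗ₜ[R] MonoidAlgebra.single m 1))
    rw [hf, monoidBC_one_tmul]
    refine e.injective ((ha m).trans ?_)
    erw [e.apply_symm_apply]
    simp
  have hb : ∀ z, (bcHom T φ) z = e.symm (monoidBC T N z) := fun z => AlgHom.congr_fun hb0 z
  have hbij : Function.Bijective (bcHom T φ) := by
    rw [funext hb]
    exact e.symm.bijective.comp (monoidBC T N).bijective
  have hl : ∀ z, (φ : MonoidAlgebra R N →ₐ[R] A).toLinearMap.lTensor T z = bcHom T φ z := by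
    intro z
    induction z using TensorProduct.induction_on with
    | zero => simp
    | tmul t g => rfl
    | add x y hx hy => simp [hx, hy]
  refine ⟨(BialgEquiv.ofBijective φ ?_).symm⟩
  exact (Module.FaithfullyFlat.lTensor_bijective_iff_bijective R T (φ : MonoidAlgebra R N →ₐ[R] A).toLinearMap).mp
    (by rw [funext hl]; exact hbij)

/-- The criterion. -/
theorem nonempty_equiv_of_torsion (e : T ⊗[R] A ≃ₐc[T] MonoidAlgebra T N) (hfg : Group.FG N)
    (h : ∀ (m : N) (n : ℕ), 0 < n → ∃ a : A, e.symm (MonoidAlgebra.single m 1) - (1 : T) ⊗ₜ[R] a ∈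
      (SGA3b.torsionIdeal R A n).map (Algebra.TensorProduct.includeRight : A →ₐ[R] T ⊗[R] A)) :
    Nonempty (A ≃ₐc[R] MonoidAlgebra R N) := by
  refine nonempty_equiv_of_descend e fun m => ?_
  set x := e.symm (MonoidAlgebra.single m 1)
  have hx : IsGroupLikeElem T x :=
    (MonoidAlgebra.isGroupLikeElem_single_one (R := T) (A := T) m).map (e.symm : MonoidAlgebra T N →ₐc[T] T ⊗[R] A)
  let i₁ : T →ₐ[R] T ⊗[R] T := Algebra.TensorProduct.includeLeft
  let i₂ : T →ₐ[R] T ⊗[R] T := Algebra.TensorProduct.includeRight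
  let : Algebra T (T ⊗[R] T) := Algebra.TensorProduct.leftAlgebra
  have hi₁ : IsScalarTower.toAlgHom R T (T ⊗[R] T) = i₁ := AlgHom.ext fun t => rfl
  have heq : push A i₁ x = push A i₂ x := eq_of_torsion (bcTriv e) hfg (isGroupLike_push i₁ hx)
    (isGroupLike_push i₂ hx) fun n hn => by
      obtain ⟨a, ha⟩ := h m n hn
      have h3 := sub_mem (push_mem_torsion i₁ ha) (push_mem_torsion i₂ ha)
      rwa [map_sub, map_sub, push_tmul, push_tmul, map_one, map_one, sub_sub_sub_cancel_right] at h3
  have hp : ∀ (i : T →ₐ[R] T ⊗[R] T) (z : T ⊗[R] A), i.toLinearMap.rTensor A z = push A i z := by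
    intro i z
    induction z using TensorProduct.induction_on with
    | zero => simp
    | tmul t a => rfl
    | add p q hp hq => simp [hp, hq]
  obtain ⟨a, ha⟩ := exists_eq_one_tmul T x (by rw [hp, hp]; exact heq)
  exact ⟨a, by rw [← ha]; exact e.apply_symm_apply _⟩

end Descent

end Groth.Agent.IsoTriv
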