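import Groth.Agent.IsoTriv.CompleteFlat
import Groth.Agent.IsoTriv.Criterion
import Groth.Agent.HenselLib.FiniteEtaleLift
import Mathlib.RingTheory.Henselian

/-! Splitting covers over complete rings. -/

universe u

open TensorProduct

namespace Groth.Agent.IsoTriv

open SGA3bLib

variable {A : Type u} [CommRing A] (I : Ideal A) [IsAdicComplete I A] {C : Type u} [CommRing C] [HopfAlgebra A C]

/-- An isotrivial reduction is split by a finite étale cover of the complete base. -/
theorem exists_split_cover (h0 : SGA3b.IsIsotrivial (A ⧸ I) ((A ⧸ I) ⊗[A] C)) :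
    ∃ (A' : Type u) (_ : CommRing A') (_ : Algebra A A'), Algebra.Etale A A' ∧ Module.Finite A A' ∧
      Module.FaithfullyFlat A A' ∧ ∃ (N : Type u) (_ : CommGroup N),
        Nonempty ((A' ⧸ I.map (algebraMap A A')) ⊗[A'] (A' ⊗[A] C) ≃ₐc[A' ⧸ I.map (algebraMap A A')]
          MonoidAlgebra (A' ⧸ I.map (algebraMap A A')) N) := by
  obtain ⟨B, _, _, het, hfin, hff, N, _, ⟨e⟩⟩ := h0
  have := het
  have := hfin
  have := hff
  obtain ⟨A', _, _, hfin', het', ⟨E⟩⟩ := Groth.Agent.HenselLib.exists_finiteEtale_lift A I B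
  have := hfin'
  have := het'
  let θ : A' →+* B := E.toAlgHom.toRingHom.comp
    (Algebra.TensorProduct.includeRight : A' →ₐ[A] (A ⧸ I) ⊗[A] A').toRingHom
  have hθ : ∀ r, θ (algebraMap A A' r) = algebraMap (A ⧸ I) B (Ideal.Quotient.mk I r) := fun r => by
    show E ((1 : A ⧸ I) ⊗ₜ[A] algebraMap A A' r) = _
    rw [Algebra.algebraMap_eq_smul_one, TensorProduct.tmul_smul, TensorProduct.smul_tmul', Algebra.smul_def,
      mul_one, Ideal.Quotient.algebraMap_eq, ← E.commutes]
    rfl
  have hθs : Function.Surjective θ := fun b => by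
    obtain ⟨z, rfl⟩ := E.surjective b
    induction z using TensorProduct.induction_on with
    | zero => exact ⟨0, by simp⟩
    | tmul a x =>
      obtain ⟨r, rfl⟩ := Ideal.Quotient.mk_surjective a
      refine ⟨r • x, ?_⟩
      show E ((1 : A ⧸ I) ⊗ₜ[A] (r • x)) = _
      rw [TensorProduct.tmul_smul, TensorProduct.smul_tmul', Algebra.smul_def, mul_one]
      rfl
    | add a b ha hb =>
      obtain ⟨a', ha⟩ := ha
      obtain ⟨b', hb⟩ := hb
      exact ⟨a' + b', by rw [map_add θ, ha, hb, map_add]⟩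
  have hflat : Module.Flat A A' := inferInstance
  have hff' : Module.FaithfullyFlat A A' := by
    refine (Module.FaithfullyFlat.iff_flat_and_proper_ideal A A').mpr ⟨hflat, fun J hJ htop => ?_⟩
    obtain ⟨m, hm, hle⟩ := Ideal.exists_le_maximal J hJ
    have hIm : I ≤ m := (IsAdicComplete.le_jacobson_bot I).trans (sInf_le ⟨bot_le, hm⟩)
    have h1 : J.map (algebraMap A A') = ⊤ := by
      rw [Ideal.smul_top_eq_map] at htop
      simpa using htop
    have h2 : (m.map (Ideal.Quotient.mk I)).map (algebraMap (A ⧸ I) B) = ⊤ := by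
      rw [Ideal.map_map, eq_top_iff, ← Ideal.map_top θ, ← h1, Ideal.map_map]
      rw [show θ.comp (algebraMap A A') = (algebraMap (A ⧸ I) B).comp (Ideal.Quotient.mk I) from RingHom.ext hθ]
      exact Ideal.map_mono hle
    have h3 := congrArg (Ideal.comap (algebraMap (A ⧸ I) B)) h2
    rw [Ideal.comap_map_eq_self_of_faithfullyFlat, Ideal.comap_top] at h3
    have h4 := congrArg (Ideal.comap (Ideal.Quotient.mk I)) h3
    rw [Ideal.comap_map_of_surjective _ Ideal.Quotient.mk_surjective, Ideal.comap_top, ← RingHom.ker_eq_comap_bot,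
      Ideal.mk_ker, sup_eq_left.mpr hIm] at h4
    exact hm.ne_top h4
  refine ⟨A', inferInstance, inferInstance, het', hfin', hff', N, inferInstance, ?_⟩
  let J := I.map (algebraMap A A')
  let q : A' →ₐ[A] A' ⧸ J := Ideal.Quotient.mkₐ A J
  let g : A ⧸ I →ₐ[A] A' ⧸ J := Ideal.Quotient.liftₐ I (Algebra.ofId A (A' ⧸ J)) fun a ha => by
    show algebraMap A (A' ⧸ J) a = 0
    rw [IsScalarTower.algebraMap_apply A A' (A' ⧸ J), Ideal.Quotient.algebraMap_eq, Ideal.Quotient.eq_zero_iff_mem]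
    exact Ideal.mem_map_of_mem _ ha
  let L : (A ⧸ I) ⊗[A] A' →ₐ[A] A' ⧸ J := Algebra.TensorProduct.lift g q fun _ _ => Commute.all _ _
  let f : B →+* A' ⧸ J := L.toRingHom.comp E.symm.toAlgHom.toRingHom
  let : Algebra A B := ((algebraMap (A ⧸ I) B).comp (Ideal.Quotient.mk I)).toAlgebra
  have : IsScalarTower A (A ⧸ I) B := .of_algebraMap_eq fun _ => rfl
  let : Algebra B (A' ⧸ J) := f.toAlgebra
  have : IsScalarTower A B (A' ⧸ J) := .of_algebraMap_eq fun r => by
    show algebraMap A (A' ⧸ J) r = L (E.symm (algebraMap (A ⧸ I) B (Ideal.Quotient.mk I r)))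
    rw [AlgEquiv.commutes]
    exact (L.commutes r).symm
  let e₁ : B ⊗[A] C ≃ₐc[B] MonoidAlgebra B N := (cancelBC (R := A) (A ⧸ I) B C).symm.trans e
  exact ⟨(cancelBC (R := A) A' (A' ⧸ J) C).trans (bcTriv e₁)⟩

end Groth.Agent.IsoTriv
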