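import Groth.Agent.IsoTriv.CompleteSplit
import Groth.Agent.IsoTriv.CompleteCover
import Groth.Agent.AdicRing.Basic
import Mathlib.RingTheory.Finiteness.Projective

/-! The clopen isotrivial subgroup of a group over a complete ring. -/

universe u

open TensorProduct

namespace Groth.Agent.IsoTriv

open SGA3bLib

variable {A : Type u} [CommRing A] (I : Ideal A) {C : Type u} [CommRing C] [HopfAlgebra A C]

/-- The ideal `⋂ Iⁿ C`. -/
noncomputable def formalIdeal (C : Type u) [CommRing C] [Algebra A C] : Ideal C :=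
  ⨅ n : ℕ, (I ^ n).map (algebraMap A C)

theorem mem_formalIdeal {x : C} : x ∈ formalIdeal I C ↔ ∀ n : ℕ, x ∈ (I ^ n).map (algebraMap A C) := by
  simp [formalIdeal]

theorem flat_levels_bc (A' : Type u) [CommRing A'] [Algebra A A']
    (hflat : ∀ n : ℕ, Module.Flat (A ⧸ I ^ n) ((A ⧸ I ^ n) ⊗[A] C)) (n : ℕ) :
    Module.Flat (A' ⧸ I.map (algebraMap A A') ^ n)
      ((A' ⧸ I.map (algebraMap A A') ^ n) ⊗[A'] (A' ⊗[A] C)) := by
  have := hflat n
  let T := A' ⧸ I.map (algebraMap A A') ^ n
  let g : A ⧸ I ^ n →ₐ[A] T := Ideal.Quotient.liftₐ (I ^ n) (Algebra.ofId A T) fun a ha => by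
    show algebraMap A T a = 0
    rw [IsScalarTower.algebraMap_apply A A' T, Ideal.Quotient.algebraMap_eq, Ideal.Quotient.eq_zero_iff_mem,
      ← Ideal.map_pow]
    exact Ideal.mem_map_of_mem _ ha
  let : Algebra (A ⧸ I ^ n) T := g.toRingHom.toAlgebra
  have : IsScalarTower A (A ⧸ I ^ n) T := .of_algebraMap_eq fun r => (g.commutes r).symm
  exact Module.Flat.of_linearEquiv
    ((cancelBC (R := A) A' T C).trans (cancelBC (R := A) (A ⧸ I ^ n) T C).symm).toAlgEquiv.toLinearEquiv

theorem map_formalIdeal (A' : Type u) [CommRing A'] [Algebra A A'] [Module.Finite A A'] [Module.Projective A A'] :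
    (formalIdeal I C).map (Algebra.TensorProduct.includeRight : C →ₐ[A] A' ⊗[A] C) =
      formalIdeal (I.map (algebraMap A A')) (A' ⊗[A] C) := by
  refine le_antisymm (Ideal.map_le_iff_le_comap.mpr fun x hx => ?_) fun z hz => ?_
  · refine (mem_formalIdeal (A := A') _).mpr fun n => ?_
    rw [← Ideal.map_pow, Ideal.map_map, ← IsScalarTower.algebraMap_eq A A' (A' ⊗[A] C),
      ← (Algebra.TensorProduct.includeRight : C →ₐ[A] A' ⊗[A] C).comp_algebraMap, ← Ideal.map_map]
    exact Ideal.mem_map_of_mem _ ((mem_formalIdeal I).mp hx n)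
  · obtain ⟨k, f, g, -, -, hfg⟩ := Module.Finite.exists_comp_eq_id_of_projective A A'
    classical
    let φ : Fin k → A' ⊗[A] C →ₗ[A] C := fun j =>
      (TensorProduct.lid A C).toLinearMap ∘ₗ LinearMap.rTensor C ((LinearMap.proj j).comp g)
    have hsum : ∀ w : A' ⊗[A] C, w = ∑ j, (f (Pi.single j 1) ⊗ₜ[A] (1 : C)) * ((1 : A') ⊗ₜ[A] φ j w) := by
      intro w
      induction w using TensorProduct.induction_on with
      | zero => simp
      | tmul a c =>
        simp only [φ, Algebra.TensorProduct.tmul_mul_tmul, mul_one, one_mul, LinearMap.comp_apply,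
          LinearMap.rTensor_tmul, LinearEquiv.coe_coe, TensorProduct.lid_tmul, LinearMap.proj_apply,
          TensorProduct.tmul_smul, TensorProduct.smul_tmul', ← map_smul, ← TensorProduct.sum_tmul, ← map_sum]
        congr 1
        conv_lhs => rw [← LinearMap.id_apply (R := A) a, ← hfg, LinearMap.comp_apply, pi_eq_sum_univ' (g a)]
        rw [map_sum]
        refine Finset.sum_congr rfl fun j _ => ?_
        rw [map_smul, mul_smul_comm, mul_one]
      | add y z hy hz =>
        conv_lhs => rw [hy, hz]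
        simp only [map_add, TensorProduct.tmul_add, mul_add, Finset.sum_add_distrib]
    rw [hsum z]
    refine sum_mem fun j _ => Ideal.mul_mem_left _ _ (Ideal.mem_map_of_mem _ ((mem_formalIdeal I).mpr fun n => ?_))
    have h1 := (mem_formalIdeal (A := A') _).mp hz n
    rw [← Ideal.map_pow, Ideal.map_map, ← IsScalarTower.algebraMap_eq A A' (A' ⊗[A] C)] at h1
    have h2 : z ∈ (I ^ n) • (⊤ : Submodule A (A' ⊗[A] C)) := by
      rw [Ideal.smul_top_eq_map]
      exact h1
    have h3 := Submodule.mem_map_of_mem (f := φ j) h2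
    rw [Submodule.map_smul''] at h3
    have h4 := Submodule.smul_mono (le_refl (I ^ n)) le_top h3
    rw [Ideal.smul_top_eq_map] at h4
    exact h4

variable [IsNoetherianRing A] [IsAdicComplete I A]

/-- Main construction: the clopen isotrivial subgroup. -/
theorem exists_clopen_isotrivial (hft : Algebra.FiniteType A C)
    (hflat : ∀ n : ℕ, Module.Flat (A ⧸ I ^ n) ((A ⧸ I ^ n) ⊗[A] C))
    (h0 : SGA3b.IsIsotrivial (A ⧸ I) ((A ⧸ I) ⊗[A] C)) :
    ∃ (e : C) (A' : Type u) (_ : CommRing A') (_ : Algebra A A') (N : Type u) (_ : CommGroup N),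
      IsIdempotentElem e ∧ formalIdeal I C = Ideal.span {e} ∧ Algebra.Etale A A' ∧ Module.Finite A A' ∧
      Module.FaithfullyFlat A A' ∧
      Nonempty ((A' ⧸ I.map (algebraMap A A')) ⊗[A'] (A' ⊗[A] C) ≃ₐc[A' ⧸ I.map (algebraMap A A')]
          MonoidAlgebra (A' ⧸ I.map (algebraMap A A')) N) ∧
      ∃ Φ : A' ⊗[A] C →ₐc[A'] MonoidAlgebra A' N, Function.Surjective Φ ∧
        RingHom.ker (Φ : A' ⊗[A] C →ₐ[A'] MonoidAlgebra A' N) =
          (Ideal.span {e}).map (Algebra.TensorProduct.includeRight : C →ₐ[A] A' ⊗[A] C) := by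
  obtain ⟨A', _, _, het, hfin, hff, N, _, ⟨e₀⟩⟩ := exists_split_cover I h0
  have := het
  have := hfin
  have := hff
  have : IsNoetherianRing A' := IsNoetherianRing.of_finite A A'
  have : IsAdicComplete I A' := Groth.Agent.AdicRing.isAdicComplete_of_finite (I := I) A'
  have : IsAdicComplete (I.map (algebraMap A A')) A' := (IsAdicComplete.map_algebraMap_iff (I := I) (M := A') (S := A')).mpr ‹_›
  have : Algebra.FiniteType A' (A' ⊗[A] C) := inferInstance
  obtain ⟨Φ, hΦ, hker, e', he', hKe⟩ := exists_idempotent_split (I.map (algebraMap A A'))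
    (C := A' ⊗[A] C) inferInstance (flat_levels_bc I A' hflat) e₀
  set ι := (Algebra.TensorProduct.includeRight : C →ₐ[A] A' ⊗[A] C)
  have : Module.FinitePresentation A A' := Module.finitePresentation_of_finite A A'
  have : Module.Projective A A' := Module.Flat.projective_of_finitePresentation
  have hK' : RingHom.ker (Φ : A' ⊗[A] C →ₐ[A'] MonoidAlgebra A' N) = (formalIdeal I C).map ι := by
    rw [map_formalIdeal I A']
    refine Ideal.ext fun x => ?_
    rw [mem_formalIdeal (A := A')]
    exact hker x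
  have : IsNoetherianRing C := Algebra.FiniteType.isNoetherianRing A C
  have hsq : IsIdempotentElem (formalIdeal I C) := by
    refine le_antisymm Ideal.mul_le_left fun x hx => ?_
    set J := formalIdeal I C * formalIdeal I C
    have hmem : ι x ∈ J.map ι := by
      rw [show J.map ι = (formalIdeal I C).map ι * (formalIdeal I C).map ι from Ideal.map_mul _ _ _, ← hK', hKe,
        Ideal.span_singleton_mul_span_singleton, he', ← hKe, hK']
      exact Ideal.mem_map_of_mem _ hx
    let π : A' ⊗[A] C →ₐ[A] A' ⊗[A] (C ⧸ J) :=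
      Algebra.TensorProduct.map (AlgHom.id A A') (Ideal.Quotient.mkₐ A J)
    have hle : J.map ι ≤ RingHom.ker π := Ideal.map_le_iff_le_comap.mpr fun y hy => by
      show π ((1 : A') ⊗ₜ[A] y) = 0
      simp [π, Ideal.Quotient.eq_zero_iff_mem.mpr hy]
    refine Ideal.Quotient.eq_zero_iff_mem.mp (eq_of_one_tmul (R := A) A' (M := C ⧸ J) (b := 0) ?_)
    rw [TensorProduct.tmul_zero]
    exact hle hmem
  obtain ⟨e, he, hspan⟩ := (Ideal.isIdempotentElem_iff_of_fg _ (IsNoetherian.noetherian _)).mp hsq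
  exact ⟨e, A', inferInstance, inferInstance, N, inferInstance, he, hspan, het, hfin, hff, ⟨e₀⟩, Φ, hΦ,
    hK'.trans (by rw [hspan])⟩

omit [IsNoetherianRing A] [IsAdicComplete I A] in
/-- The formal ideal is a Hopf ideal, with isotrivial quotient. -/
theorem exists_isHopfIdeal [IsHausdorff I A] (e : C) (hspan : formalIdeal I C = Ideal.span {e}) (A' : Type u) [CommRing A']
    [Algebra A A'] [Algebra.Etale A A'] [Module.Finite A A'] [Module.FaithfullyFlat A A']
    {N : Type u} [CommGroup N] (Φ : A' ⊗[A] C →ₐc[A'] MonoidAlgebra A' N) (hΦ : Function.Surjective Φ)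
    (hK : RingHom.ker (Φ : A' ⊗[A] C →ₐ[A'] MonoidAlgebra A' N) =
      (Ideal.span {e}).map (Algebra.TensorProduct.includeRight : C →ₐ[A] A' ⊗[A] C)) :
    ∃ _ : (Ideal.span {e}).IsHopfIdeal A, SGA3b.IsIsotrivial A (C ⧸ Ideal.span {e}) ∧
      Nonempty (A' ⊗[A] (C ⧸ Ideal.span {e}) ≃ₐc[A'] MonoidAlgebra A' N) := by
  set K := Ideal.span {e}
  let Φ₁ : C →ₐ[A] MonoidAlgebra A' N :=
    ((Φ : A' ⊗[A] C →ₐ[A'] MonoidAlgebra A' N).restrictScalars A).comp Algebra.TensorProduct.includeRight
  have hΦ₁ : ∀ x ∈ K, Φ₁ x = 0 := fun x hx => by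
    have := Ideal.mem_map_of_mem (Algebra.TensorProduct.includeRight : C →ₐ[A] A' ⊗[A] C) hx
    rw [← hK] at this
    exact this
  let E : A' ⊗[A] (C ⧸ K) →ₐ[A'] MonoidAlgebra A' N :=
    Algebra.TensorProduct.lift (Algebra.ofId _ _) (Ideal.Quotient.liftₐ K Φ₁ hΦ₁) fun _ _ => Commute.all _ _
  let π : A' ⊗[A] C →ₐ[A'] A' ⊗[A] (C ⧸ K) :=
    Algebra.TensorProduct.map (AlgHom.id A' A') (Ideal.Quotient.mkₐ A K)
  have hEπ : ∀ w, E (π w) = Φ w := fun w => AlgHom.congr_fun
    (show E.comp π = (Φ : A' ⊗[A] C →ₐ[A'] MonoidAlgebra A' N) from Algebra.TensorProduct.ext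
      (Subsingleton.elim _ _) (AlgHom.ext fun c => by
        simp [E, π, Φ₁, ← MonoidAlgebra.one_def])) w
  have hπ : Function.Surjective π :=
    LinearMap.lTensor_surjective A' (g := (Ideal.Quotient.mkₐ A K).toLinearMap) Ideal.Quotient.mk_surjective
  have hEinj : Function.Injective E := (injective_iff_map_eq_zero _).mpr fun z hz => by
    obtain ⟨w, rfl⟩ := hπ z
    rw [hEπ] at hz
    have hw : w ∈ RingHom.ker (Φ : A' ⊗[A] C →ₐ[A'] MonoidAlgebra A' N) := hz
    rw [hK] at hw
    have hle : K.map (Algebra.TensorProduct.includeRight : C →ₐ[A] A' ⊗[A] C) ≤ RingHom.ker π :=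
      Ideal.map_le_iff_le_comap.mpr fun y hy => by
        show π ((1 : A') ⊗ₜ[A] y) = 0
        simp [π, Ideal.Quotient.eq_zero_iff_mem.mpr hy]
    exact hle hw
  have hmem : ∀ x ∈ K, ∀ n : ℕ, x ∈ (I ^ n).map (algebraMap A C) := fun x hx =>
    (mem_formalIdeal I).mp (hspan ▸ hx)
  have hop : K.IsHopfIdeal A := by
    refine { counit_eq_zero := ?_, map_mkQ_comul_eq_zero := ?_, antipode_mem := ?_ }
    · intro x hx
      refine (IsHausdorff.eq_iff_smodEq (I := I)).mpr fun n => ?_
      rw [SModEq.sub_mem, sub_zero, smul_eq_mul, Ideal.mul_top]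
      have h := Ideal.mem_map_of_mem (Bialgebra.counitAlgHom A C : C →+* A) (hmem x hx n)
      rwa [Ideal.map_map, show (Bialgebra.counitAlgHom A C : C →+* A).comp (algebraMap A C) = RingHom.id A from
        RingHom.ext fun a => (Bialgebra.counitAlgHom A C).commutes a, Ideal.map_id] at h
    · intro x hx
      let q : C →ₐ[A] C ⧸ K := Ideal.Quotient.mkₐ A K
      have hmap : ∀ z : C ⊗[A] C, TensorProduct.map (K.restrictScalars A).mkQ (K.restrictScalars A).mkQ z =
          Algebra.TensorProduct.map q q z := fun z => by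
        induction z using TensorProduct.induction_on with
        | zero => rw [map_zero, map_zero]; rfl
        | tmul x y => rfl
        | add x y hx hy => rw [map_add, map_add, hx, hy]; rfl
      suffices h : Algebra.TensorProduct.map q q (Coalgebra.comul (R := A) x) = 0 from (hmap _).trans h
      refine eq_of_one_tmul (R := A) A' (b := 0) ?_
      rw [TensorProduct.tmul_zero]
      let D := TensorProduct.AlgebraTensorModule.distribBaseChange A A' (C ⧸ K) (C ⧸ K)
      apply D.injective
      have hE2 : Function.Injective (TensorProduct.map E.toLinearMap E.toLinearMap) := by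
        have hb : Function.Bijective E := ⟨hEinj, fun y => by
          obtain ⟨w, rfl⟩ := hΦ y
          exact ⟨π w, hEπ w⟩⟩
        exact (TensorProduct.congr (LinearEquiv.ofBijective E.toLinearMap hb)
          (LinearEquiv.ofBijective E.toLinearMap hb)).injective
      apply hE2
      rw [map_zero, map_zero]
      have key : ∀ z : C ⊗[A] C, TensorProduct.map E.toLinearMap E.toLinearMap
          (D ((1 : A') ⊗ₜ[A] Algebra.TensorProduct.map q q z)) =
          TensorProduct.map (Φ : A' ⊗[A] C →ₐ[A'] _).toLinearMap (Φ : A' ⊗[A] C →ₐ[A'] _).toLinearMap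
            (TensorProduct.AlgebraTensorModule.tensorTensorTensorComm A A' A A' A' A' C C
              (((1 : A') ⊗ₜ[A'] (1 : A')) ⊗ₜ[A] z)) := fun z => by
        induction z using TensorProduct.induction_on with
        | zero => simp
        | tmul a b =>
          simp [D, TensorProduct.AlgebraTensorModule.distribBaseChange_tmul, q, E, Φ₁, ← MonoidAlgebra.one_def]
        | add y z hy hz => simp only [map_add, TensorProduct.tmul_add, hy, hz]
      rw [key]
      have h := CoalgHomClass.map_comp_comul_apply Φ ((1 : A') ⊗ₜ[A] x)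
      rw [TensorProduct.comul_tmul, CommSemiring.comul_apply] at h
      refine h.trans ?_
      rw [show Φ ((1 : A') ⊗ₜ[A] x) = 0 from hΦ₁ x hx, map_zero]
    · intro x hx
      rw [← hspan, mem_formalIdeal] at hx ⊢
      intro n
      have h2 : x ∈ (I ^ n) • (⊤ : Submodule A C) := by rw [Ideal.smul_top_eq_map]; exact hx n
      have h3 := Submodule.mem_map_of_mem (f := HopfAlgebra.antipode A) h2
      rw [Submodule.map_smul''] at h3
      have h4 := Submodule.smul_mono (le_refl (I ^ n)) le_top h3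
      rw [Ideal.smul_top_eq_map] at h4
      exact h4
  refine ⟨hop, ?_⟩
  have := hop
  let ρ : C →ₐc[A] C ⧸ K := Bialgebra.Quotient.mkBialgHom (R := A) K
  obtain ⟨eq⟩ := nonempty_equiv_of_ker_eq (bcHom A' ρ) Φ (bcHom_surjective A' ρ Ideal.Quotient.mk_surjective) hΦ (by
    rw [ker_bcHom A' ρ Ideal.Quotient.mk_surjective, hK]
    congr 1
    exact Ideal.ext fun y => Ideal.Quotient.eq_zero_iff_mem)
  exact ⟨⟨A', inferInstance, inferInstance, inferInstance, inferInstance, inferInstance, N, inferInstance, ⟨eq⟩⟩,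
    ⟨eq⟩⟩

end Groth.Agent.IsoTriv
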