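import Groth.Agent.IsoTriv.Dual
import Groth.Agent.SGA3bLib.TrivialFibre
import Groth.Agent.SGA3bLib.MonoDiag
import Mathlib.RingTheory.Finiteness.ModuleFinitePresentation
import Mathlib.RingTheory.Flat.EquationalCriterion
import Mathlib.RingTheory.Etale.Descent
import Mathlib.RingTheory.Etale.Pi

/-! The torsion quotients of groups of multiplicative type. -/

universe u

open TensorProduct Coalgebra WithConv

namespace Groth.Agent.IsoTriv

open SGA3bLib

variable {R : Type u} [CommRing R] {A : Type u} [CommRing A] [HopfAlgebra R A]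

/-- Cocommutativity descends along faithfully flat algebras. -/
theorem isCocomm_of_diag {T : Type u} [CommRing T] [Algebra R T] [Module.FaithfullyFlat R T]
    (h : SGA3b.IsDiag T (T ⊗[R] A)) : Coalgebra.IsCocomm R A := by
  obtain ⟨N, _, ⟨e⟩⟩ := h
  refine ⟨LinearMap.ext fun a => eq_of_one_tmul (R := R) T ?_⟩
  let D := TensorProduct.AlgebraTensorModule.distribBaseChange R T A A
  have key : ∀ z : A ⊗[R] A, TensorProduct.AlgebraTensorModule.tensorTensorTensorComm R T R T T T A A
      (((1 : T) ⊗ₜ[T] (1 : T)) ⊗ₜ[R] z) = D ((1 : T) ⊗ₜ[R] z) := by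
    intro z
    induction z using TensorProduct.induction_on with
    | zero => simp
    | tmul x y => simp [D, TensorProduct.AlgebraTensorModule.distribBaseChange_tmul]
    | add x y hx hy => simp [tmul_add, hx, hy]
  have hcomm : ∀ z : A ⊗[R] A, TensorProduct.comm T _ _ (D ((1 : T) ⊗ₜ[R] z)) =
      D ((1 : T) ⊗ₜ[R] TensorProduct.comm R A A z) := by
    intro z
    induction z using TensorProduct.induction_on with
    | zero => simp
    | tmul x y =>
      simp [D, TensorProduct.AlgebraTensorModule.distribBaseChange_tmul]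
    | add x y hx hy => simp only [tmul_add, map_add, hx, hy]
  have h1 : comul (R := T) ((1 : T) ⊗ₜ[R] a) = D ((1 : T) ⊗ₜ[R] comul a) := by
    rw [TensorProduct.comul_tmul, CommSemiring.comul_apply, key]
  have h2 : TensorProduct.comm T (T ⊗[R] A) (T ⊗[R] A) (comul (R := T) ((1 : T) ⊗ₜ[R] a)) =
      comul (R := T) ((1 : T) ⊗ₜ[R] a) := by
    set x := (1 : T) ⊗ₜ[R] a
    have he : ∀ w, TensorProduct.map (e : T ⊗[R] A →ₐc[T] MonoidAlgebra T N).toLinearMap
        (e : T ⊗[R] A →ₐc[T] MonoidAlgebra T N).toLinearMap (TensorProduct.comm T _ _ w) =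
        TensorProduct.comm T _ _ (TensorProduct.map (e : T ⊗[R] A →ₐc[T] MonoidAlgebra T N).toLinearMap
          (e : T ⊗[R] A →ₐc[T] MonoidAlgebra T N).toLinearMap w) := fun w => by
      induction w using TensorProduct.induction_on with
      | zero => simp
      | tmul x y => simp
      | add x y hx hy => simp only [map_add, hx, hy]
    apply (TensorProduct.congr e.toAlgEquiv.toLinearEquiv e.toAlgEquiv.toLinearEquiv).injective
    show TensorProduct.map (e : T ⊗[R] A →ₐc[T] MonoidAlgebra T N).toLinearMap
      (e : T ⊗[R] A →ₐc[T] MonoidAlgebra T N).toLinearMap _ = TensorProduct.map (e : T ⊗[R] A →ₐc[T] MonoidAlgebra T N).toLinearMap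
      (e : T ⊗[R] A →ₐc[T] MonoidAlgebra T N).toLinearMap _
    erw [he, CoalgHomClass.map_comp_comul_apply (e : T ⊗[R] A →ₐc[T] MonoidAlgebra T N) x, Coalgebra.comm_comul]
  rw [h1, hcomm] at h2
  exact D.injective h2

/-- The `n`-th power map as a homomorphism of bialgebras. -/
theorem exists_powBialg [Coalgebra.IsCocomm R A] (n : ℕ) :
    ∃ p : A →ₐc[R] A, ∀ a, p a = SGA3b.powConv R A n a := by
  refine ⟨((toConv (BialgHom.id R A)) ^ n).ofConv, fun a => ?_⟩
  have h := BialgHom.toAlgHom_convPow (toConv (BialgHom.id R A)) n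
  exact congrArg (fun f : WithConv (A →ₐ[R] A) => f.ofConv a) h

theorem isHopfIdeal_torsion [Coalgebra.IsCocomm R A] (n : ℕ) : (SGA3b.torsionIdeal R A n).IsHopfIdeal R := by
  obtain ⟨p, hp⟩ := exists_powBialg (R := R) (A := A) n
  set T := SGA3b.torsionIdeal R A n
  let q : A →ₐ[R] A ⧸ T := Ideal.Quotient.mkₐ R T
  have hq : ∀ a, q (p a) = algebraMap R (A ⧸ T) (counit a) := by
    intro a
    have hmem : SGA3b.powConv R A n (a - algebraMap R A (counit a)) ∈ T :=
      Ideal.mem_map_of_mem _ (by simp [RingHom.mem_ker])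
    rw [map_sub, AlgHom.commutes, ← hp] at hmem
    rw [← q.commutes]
    exact Ideal.Quotient.eq.mpr hmem
  have hle : ∀ {B : Type u} [CommRing B] [Algebra R B] (f : A →ₐ[R] B),
      (∀ a, counit (R := R) a = 0 → f (p a) = 0) → ∀ x ∈ T, f x = 0 := by
    intro B _ _ f hf x hx
    refine RingHom.mem_ker.mp ((Ideal.map_le_iff_le_comap.mpr fun a ha => ?_) hx)
    rw [Ideal.mem_comap, RingHom.mem_ker, ← hp]
    exact hf a ha
  refine { counit_eq_zero := ?_, map_mkQ_comul_eq_zero := ?_, antipode_mem := ?_ }
  · intro x hx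
    exact hle (Bialgebra.counitAlgHom R A) (fun a ha => (CoalgHomClass.counit_comp_apply p a).trans ha) x hx
  · intro x hx
    have h := hle ((Algebra.TensorProduct.map q q).comp (Bialgebra.comulAlgHom R A)) (fun a ha => ?_) x hx
    · have hmap : ∀ z : A ⊗[R] A, TensorProduct.map (T.restrictScalars R).mkQ (T.restrictScalars R).mkQ z =
          Algebra.TensorProduct.map q q z := fun z => by
        induction z using TensorProduct.induction_on with
        | zero => rw [map_zero, map_zero]; rfl
        | tmul x y => rfl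
        | add x y hx hy => rw [map_add, map_add, hx, hy]; rfl
      exact (hmap _).trans h
    · show Algebra.TensorProduct.map q q (comul (p a)) = 0
      rw [← CoalgHomClass.map_comp_comul_apply p a]
      have hgen : ∀ z : A ⊗[R] A, Algebra.TensorProduct.map q q (TensorProduct.map (p : A →ₗc[R] A).toLinearMap
          (p : A →ₗc[R] A).toLinearMap z) =
          algebraMap R _ (LinearMap.mul' R R (TensorProduct.map counit counit z)) := fun z => by
        induction z using TensorProduct.induction_on with
        | zero => simp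
        | tmul x y =>
          show q (p x) ⊗ₜ[R] q (p y) = _
          rw [hq, hq]
          simp [Algebra.algebraMap_eq_smul_one, TensorProduct.smul_tmul', TensorProduct.tmul_smul, smul_smul,
            Algebra.TensorProduct.one_def]
          rw [mul_comm]
        | add x y hx hy => simp only [map_add, hx, hy]
      refine (hgen _).trans ?_
      rw [← map_zero (algebraMap R ((A ⧸ T) ⊗[R] (A ⧸ T))), ← ha]
      congr 1
      let r := ℛ R a
      rw [← r.eq, map_sum, map_sum]
      conv_rhs => rw [← sum_counit_smul r, map_sum]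
      simp [smul_eq_mul]
  · intro x hx
    have h := hle (q.comp (HopfAlgebra.antipodeAlgHom R A)) (fun a ha => ?_) x hx
    · exact Ideal.Quotient.eq_zero_iff_mem.mp h
    · show q (HopfAlgebra.antipode R (p a)) = 0
      rw [← map_antipode p a, hq, HopfAlgebra.counit_antipode, ha, map_zero]

theorem isCocomm_quotient [Coalgebra.IsCocomm R A] (J : Ideal A) [J.IsHopfIdeal R] :
    Coalgebra.IsCocomm R (A ⧸ J) := by
  refine ⟨LinearMap.ext fun y => ?_⟩
  obtain ⟨x, rfl⟩ := Ideal.Quotient.mk_surjective y
  have h := CoalgHomClass.map_comp_comul_apply (Bialgebra.Quotient.mkBialgHom (R := R) J : A →ₐc[R] A ⧸ J) x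
  show TensorProduct.comm R _ _ (comul (Bialgebra.Quotient.mkBialgHom (R := R) J x)) = comul (Bialgebra.Quotient.mkBialgHom (R := R) J x)
  rw [← h]
  conv_rhs => rw [← Coalgebra.comm_comul R x]
  generalize comul (R := R) x = z
  induction z using TensorProduct.induction_on with
  | zero => simp
  | tmul x y => simp
  | add x y hx hy => simp only [map_add, hx, hy]

/-- The trivialisation of a torsion quotient. -/
theorem quotEquiv {T : Type u} [CommRing T] [Algebra R T] {N : Type u} [CommGroup N]
    (e : T ⊗[R] A ≃ₐc[T] MonoidAlgebra T N) (n : ℕ) [(SGA3b.torsionIdeal R A n).IsHopfIdeal R] :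
    Nonempty (T ⊗[R] (A ⧸ SGA3b.torsionIdeal R A n) ≃ₐc[T]
      MonoidAlgebra T (N ⧸ (powMonoidHom n : N →* N).range)) := by
  set π : A →ₐc[R] A ⧸ SGA3b.torsionIdeal R A n := Bialgebra.Quotient.mkBialgHom (R := R) (SGA3b.torsionIdeal R A n)
  have hker : RingHom.ker (π : A →ₐ[R] A ⧸ SGA3b.torsionIdeal R A n) = SGA3b.torsionIdeal R A n :=
    Ideal.ext fun x => Ideal.Quotient.eq_zero_iff_mem
  exact nonempty_equiv_torsion e (bcHom T π) (bcHom_surjective T π Ideal.Quotient.mk_surjective) n
    (ker_bcHom_eq_torsion T π Ideal.Quotient.mk_surjective n hker)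

theorem finite_quot {N : Type u} [CommGroup N] (hfg : Group.FG N) {n : ℕ} (hn : 0 < n) :
    Finite (N ⧸ (powMonoidHom n : N →* N).range) := by
  have : Group.FG N := hfg
  exact CommGroup.finite_of_fg_isMulTorsion _ (CommGroup.isMulTorsion_quotient_range_powMonoidHom N hn.ne')

end Groth.Agent.IsoTriv
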