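import Groth.Agent.IsoTriv.FieldTorsion
import Groth.Agent.IsoTriv.CompleteClopen
import Groth.Agent.IsoTriv.TorsionQuot
import Mathlib.FieldTheory.IsAlgClosed.AlgebraicClosure

/-! Finite torsion subgroups force the clopen subgroup to be everything. -/

universe u

open TensorProduct

namespace Groth.Agent.IsoTriv

open SGA3bLib

variable {A : Type u} [CommRing A] {C : Type u} [CommRing C] [HopfAlgebra A C]

/-- An idempotent in `IC` lies in every finite torsion ideal. -/
theorem mem_of_finite_quotient (I : Ideal A) (hI : I ≤ (⊥ : Ideal A).jacobson) (T : Ideal C)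
    [Module.Finite A (C ⧸ T)] {e : C} (he : IsIdempotentElem e) (heI : e ∈ I.map (algebraMap A C)) : e ∈ T := by
  rw [← Ideal.Quotient.eq_zero_iff_mem]
  set b := Ideal.Quotient.mk T e
  let M : Submodule A (C ⧸ T) := LinearMap.range (LinearMap.mulLeft A b)
  have hfg : M.FG := by
    rw [show M = Submodule.map (LinearMap.mulLeft A b) ⊤ from LinearMap.range_eq_map _]
    exact Module.Finite.fg_top.map _
  have hbI : b ∈ I • (⊤ : Submodule A (C ⧸ T)) := by
    rw [Ideal.smul_top_eq_map, IsScalarTower.algebraMap_eq A C (C ⧸ T), ← Ideal.map_map]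
    exact Ideal.mem_map_of_mem _ heI
  have hle : M ≤ I • M := by
    rintro _ ⟨z, rfl⟩
    have h1 := Submodule.mem_map_of_mem (f := LinearMap.mulLeft A (b * z)) hbI
    rw [Submodule.map_smul''] at h1
    have hm : Submodule.map (LinearMap.mulLeft A (b * z)) ⊤ ≤ M := by
      rintro _ ⟨w, -, rfl⟩
      exact ⟨z * w, by simp [mul_assoc]⟩
    have h2 := Submodule.smul_mono (le_refl I) hm h1
    convert h2 using 1
    show b * z = b * z * b
    rw [mul_comm (b * z) b, ← mul_assoc, show b * b = b from (he.map (Ideal.Quotient.mk T)).eq]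
  have hbot := Submodule.eq_bot_of_le_smul_of_le_jacobson_bot I M hfg hle hI
  have : b ∈ M := ⟨1, by simp⟩
  rw [hbot] at this
  exact this

/-- The clopen subgroup is everything if all torsion lies in it. -/
theorem eq_zero_of_torsion [Coalgebra.IsCocomm A C] [Algebra.FiniteType A C] (A' : Type u) [CommRing A']
    [Algebra A A'] [Module.Finite A A'] [Module.FaithfullyFlat A A'] {N : Type u} [CommGroup N]
    (Φ : A' ⊗[A] C →ₐc[A'] MonoidAlgebra A' N) (hΦ : Function.Surjective Φ) {e : C} (he : IsIdempotentElem e)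
    (hker : RingHom.ker (Φ : A' ⊗[A] C →ₐ[A'] MonoidAlgebra A' N) =
      (Ideal.span {e}).map (Algebra.TensorProduct.includeRight : C →ₐ[A] A' ⊗[A] C))
    (htor : ∀ n : ℕ, 0 < n → e ∈ SGA3b.torsionIdeal A C n) : e = 0 := by
  refine he.eq_zero_of_isNilpotent ?_
  rw [← mem_nilradical, nilradical_eq_sInf, Ideal.mem_sInf]
  intro q hq
  have : q.IsPrime := hq
  let p := q.comap (algebraMap A C)
  let K := AlgebraicClosure p.ResidueField
  have : Nontrivial (K ⊗[A] A') := Module.FaithfullyFlat.rTensor_nontrivial A A' K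
  obtain ⟨M, hM⟩ := Ideal.exists_maximal (K ⊗[A] A')
  letI : Field ((K ⊗[A] A') ⧸ M) := Ideal.Quotient.field M
  have : Module.Finite K ((K ⊗[A] A') ⧸ M) :=
    Module.Finite.of_surjective (Ideal.Quotient.mkₐ K M).toLinearMap Ideal.Quotient.mk_surjective
  have hbij : Function.Bijective (algebraMap K ((K ⊗[A] A') ⧸ M)) := IsAlgClosed.algebraMap_bijective_of_isIntegral
  let σ : ((K ⊗[A] A') ⧸ M) ≃ₐ[K] K := (AlgEquiv.ofBijective (Algebra.ofId K _) hbij).symm
  let pt : A' →ₐ[A] K := (((σ.toAlgHom.comp (Ideal.Quotient.mkₐ K M)).restrictScalars A).comp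
    Algebra.TensorProduct.includeRight)
  let : Algebra A' K := pt.toRingHom.toAlgebra
  have : IsScalarTower A A' K := .of_algebraMap_eq fun a => (pt.commutes a).symm
  let Φ₂ : K ⊗[A'] (A' ⊗[A] C) →ₐc[K] MonoidAlgebra K N :=
    (monoidBC (T := A') K N : _ →ₐc[K] MonoidAlgebra K N).comp (bcHom K Φ)
  let ΦK : K ⊗[A] C →ₐc[K] MonoidAlgebra K N :=
    Φ₂.comp ((cancelBC (R := A) A' K C).symm : K ⊗[A] C →ₐc[K] K ⊗[A'] (A' ⊗[A] C))
  have hΦK : Function.Surjective ΦK :=
    ((monoidBC (T := A') K N).toAlgEquiv.surjective.comp (bcHom_surjective K Φ hΦ)).comp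
      (cancelBC (R := A) A' K C).symm.toAlgEquiv.surjective
  let eK : K ⊗[A] C := (1 : K) ⊗ₜ[A] e
  have heK : IsIdempotentElem eK := he.map (Algebra.TensorProduct.includeRight : C →ₐ[A] K ⊗[A] C)
  have hpush : ∀ c : C, (cancelBC (R := A) A' K C).symm ((1 : K) ⊗ₜ[A] c) = (1 : K) ⊗ₜ[A'] ((1 : A') ⊗ₜ[A] c) := by
    intro c
    apply (cancelBC (R := A) A' K C).toAlgEquiv.injective
    show cancelBC (R := A) A' K C ((cancelBC (R := A) A' K C).symm _) = _
    rw [BialgEquiv.apply_symm_apply]
    exact (show cancelBC (R := A) A' K C ((1 : K) ⊗ₜ[A'] ((1 : A') ⊗ₜ[A] c)) = (1 : K) ⊗ₜ[A] c from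
      (Algebra.TensorProduct.cancelBaseChange_tmul ..).trans (by simp)).symm
  have hkerK : RingHom.ker (ΦK : K ⊗[A] C →ₐ[K] MonoidAlgebra K N) = Ideal.span {eK} := by
    refine le_antisymm (fun x hx => ?_) ((Ideal.span_singleton_le_iff_mem _).mpr ?_)
    · have h1 : bcHom K Φ ((cancelBC (R := A) A' K C).symm x) = 0 :=
        (monoidBC (T := A') K N).toAlgEquiv.injective (hx.trans (map_zero (monoidBC (T := A') K N)).symm)
      have h2 : (cancelBC (R := A) A' K C).symm x ∈ RingHom.ker (bcHom K Φ : _ →ₐ[K] K ⊗[A'] MonoidAlgebra A' N) := h1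
      rw [ker_bcHom K Φ hΦ, hker, Ideal.map_span, Set.image_singleton, Ideal.map_span, Set.image_singleton,
        Ideal.mem_span_singleton] at h2
      rw [Ideal.mem_span_singleton]
      obtain ⟨w, hw⟩ := h2
      refine ⟨cancelBC (R := A) A' K C w, ?_⟩
      apply (cancelBC (R := A) A' K C).symm.toAlgEquiv.injective
      show (cancelBC (R := A) A' K C).symm x = (cancelBC (R := A) A' K C).symm _
      rw [map_mul, BialgEquiv.symm_apply_apply, hpush, hw]
      rfl
    · show ΦK eK = 0
      show monoidBC (T := A') K N (bcHom K Φ ((cancelBC (R := A) A' K C).symm ((1 : K) ⊗ₜ[A] e))) = 0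
      rw [hpush, bcHom_tmul]
      have h0 : (1 : A') ⊗ₜ[A] e ∈ RingHom.ker (Φ : A' ⊗[A] C →ₐ[A'] MonoidAlgebra A' N) := by
        rw [hker]
        exact Ideal.mem_map_of_mem _ (Ideal.mem_span_singleton_self e)
      rw [show Φ ((1 : A') ⊗ₜ[A] e) = 0 from h0, TensorProduct.tmul_zero, map_zero]
  have hzero : eK = 0 := eq_zero_of_torsion_field ΦK hΦK heK hkerK fun n hn => by
    rw [torsionIdeal_baseChange]
    exact Ideal.mem_map_of_mem _ (htor n hn)
  let f : p.ResidueField →ₐ[A] q.ResidueField := Ideal.ResidueField.mapₐ p q (Algebra.ofId A C) rfl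
  let : Algebra p.ResidueField q.ResidueField := f.toRingHom.toAlgebra
  have : IsScalarTower A p.ResidueField q.ResidueField := .of_algebraMap_eq fun a => (f.commutes a).symm
  let T := K ⊗[p.ResidueField] q.ResidueField
  have : Nontrivial T := Module.FaithfullyFlat.rTensor_nontrivial p.ResidueField q.ResidueField K
  let incl : q.ResidueField →ₐ[A] T :=
    (Algebra.TensorProduct.includeRight : q.ResidueField →ₐ[p.ResidueField] T).restrictScalars A
  let L : K ⊗[A] C →ₐ[A] T := Algebra.TensorProduct.lift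
    ((Algebra.TensorProduct.includeLeft : K →ₐ[p.ResidueField] T).restrictScalars A)
    (incl.comp (IsScalarTower.toAlgHom A C q.ResidueField)) fun _ _ => Commute.all _ _
  have h := congrArg L hzero
  rw [map_zero, show L eK = incl (algebraMap C q.ResidueField e) by simp [L, eK, ← Algebra.TensorProduct.one_def]] at h
  exact Ideal.algebraMap_residueField_eq_zero.mp
    ((incl : q.ResidueField →+* T).injective (h.trans (map_zero (incl : q.ResidueField →+* T)).symm))

end Groth.Agent.IsoTriv
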