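import Groth.Agent.IsoTriv.FlatStage
import Groth.Agent.IsoTriv.HopfModel
import Groth.Agent.IsoTriv.HenselianHom
import Groth.Agent.IsoTriv.Henselian
import Groth.Agent.IsoTriv.CompleteConn
import Groth.Agent.IsoTriv.TorsionClopen
import Groth.Agent.IsoTriv.FieldSplit
import Groth.Agent.HenselLib.HullProps
import Mathlib.FieldTheory.IsSepClosed

/-! Diagonalisable groups inside groups over strictly henselian local rings. -/

universe u

open TensorProduct

namespace Groth.Agent.IsoTriv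

open SGA3bLib HenselLib IsLocalRing

/-- Base change of an isomorphism of bialgebras. -/
noncomputable def bcEquiv {R : Type u} [CommRing R] (R' : Type u) [CommRing R'] [Algebra R R'] {A C : Type u}
    [CommRing A] [HopfAlgebra R A] [CommRing C] [HopfAlgebra R C] (e : C ≃ₐc[R] A) :
    R' ⊗[R] C ≃ₐc[R'] R' ⊗[R] A :=
  BialgEquiv.ofBijective (bcHom R' (e : C →ₐc[R] A))
    ((TensorProduct.AlgebraTensorModule.congr (LinearEquiv.refl R' R') e.toAlgEquiv.toLinearEquiv).bijective)

theorem bcEquiv_tmul {R : Type u} [CommRing R] (R' : Type u) [CommRing R'] [Algebra R R'] {A C : Type u}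
    [CommRing A] [HopfAlgebra R A] [CommRing C] [HopfAlgebra R C] (e : C ≃ₐc[R] A) (r : R') (c : C) :
    bcEquiv R' e (r ⊗ₜ c) = r ⊗ₜ e c := rfl

/-- Multiplicative type with constant type descends along a faithfully flat extension. -/
theorem isMultTypeConst_descend {k : Type u} [CommRing k] (K : Type u) [CommRing K] [Algebra k K]
    [Module.FaithfullyFlat k K] {H : Type u} [CommRing H] [HopfAlgebra k H] {H' : Type u} [CommRing H']
    [HopfAlgebra K H'] (e : H' ≃ₐc[K] K ⊗[k] H) (h : SGA3b.IsMultTypeConst K H') : SGA3b.IsMultTypeConst k H := by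
  obtain ⟨R', _, _, hff, N, _, ⟨e'⟩⟩ := h
  have := hff
  letI : Algebra k R' := ((algebraMap K R').comp (algebraMap k K)).toAlgebra
  have : IsScalarTower k K R' := .of_algebraMap_eq fun _ => rfl
  exact ⟨R', inferInstance, inferInstance, Module.FaithfullyFlat.trans k K R', N, inferInstance,
    ⟨((cancelBC (R := k) K R' H).symm.trans (bcEquiv R' e).symm).trans e'⟩⟩

/-- Pushing a clopen diagonalisable subgroup forward. -/
theorem exists_hom_push {R : Type u} [CommRing R] {C : Type u} [CommRing C] [HopfAlgebra R C]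
    {T : Type u} [CommRing T] [Algebra T R] {C₂ : Type u} [CommRing C₂] [HopfAlgebra T C₂]
    (E : R ⊗[T] C₂ ≃ₐc[R] C) (J : Ideal T) (I : Ideal R) (hJ : J.map (algebraMap T R) ≤ I) {N : Type u} [CommGroup N]
    (Φ₂ : C₂ →ₐc[T] MonoidAlgebra T N) (hΦ : Function.Surjective Φ₂) {e₂ : C₂} (he : IsIdempotentElem e₂)
    (heJ : e₂ ∈ J.map (algebraMap T C₂))
    (hker : RingHom.ker (Φ₂ : C₂ →ₐ[T] MonoidAlgebra T N) = Ideal.span {e₂}) :
    ∃ Φ : C →ₐc[R] MonoidAlgebra R N, Function.Surjective Φ ∧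
      ∃ e : C, IsIdempotentElem e ∧ e ∈ I.map (algebraMap R C) ∧
        RingHom.ker (Φ : C →ₐ[R] MonoidAlgebra R N) = Ideal.span {e} := by
  let F : R ⊗[T] C₂ →ₐc[R] MonoidAlgebra R N :=
    (monoidBC (T := T) R N : _ →ₐc[R] MonoidAlgebra R N).comp (bcHom R Φ₂)
  let Φ : C →ₐc[R] MonoidAlgebra R N := F.comp (E.symm : C →ₐc[R] R ⊗[T] C₂)
  let i : C₂ →ₐ[T] R ⊗[T] C₂ := Algebra.TensorProduct.includeRight
  have hkerF : RingHom.ker (F : R ⊗[T] C₂ →ₐ[R] MonoidAlgebra R N) = Ideal.span {i e₂} := by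
    have h1 := ker_bcHom R Φ₂ hΦ
    rw [hker, Ideal.map_span, Set.image_singleton] at h1
    rw [← h1]
    ext x
    show monoidBC (T := T) R N (bcHom R Φ₂ x) = 0 ↔ bcHom R Φ₂ x = 0
    rw [← map_zero (monoidBC (T := T) R N)]
    exact (monoidBC (T := T) R N).toAlgEquiv.injective.eq_iff
  have hmem : E (i e₂) ∈ I.map (algebraMap R C) := by
    have h1 : i e₂ ∈ I.map (algebraMap R (R ⊗[T] C₂)) := by
      refine (?_ : J.map (algebraMap T C₂) ≤ (I.map (algebraMap R (R ⊗[T] C₂))).comap i) heJ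
      refine Ideal.map_le_iff_le_comap.mpr fun a ha => ?_
      rw [Ideal.mem_comap, Ideal.mem_comap, AlgHom.commutes, IsScalarTower.algebraMap_apply T R (R ⊗[T] C₂)]
      exact Ideal.mem_map_of_mem _ (hJ (Ideal.mem_map_of_mem _ ha))
    refine (?_ : I.map (algebraMap R (R ⊗[T] C₂)) ≤ (I.map (algebraMap R C)).comap E.toAlgEquiv.toAlgHom) h1
    refine Ideal.map_le_iff_le_comap.mpr fun a ha => ?_
    rw [Ideal.mem_comap, Ideal.mem_comap, AlgHom.commutes]
    exact Ideal.mem_map_of_mem _ ha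
  refine ⟨Φ, ((monoidBC (T := T) R N).toAlgEquiv.surjective.comp (bcHom_surjective R Φ₂ hΦ)).comp
    E.symm.toAlgEquiv.surjective, E (i e₂), ((he.map i).map E.toAlgEquiv), hmem, ?_⟩
  refine le_antisymm (fun x hx => ?_) ((Ideal.span_singleton_le_iff_mem _).mpr ?_)
  · have h2 : E.symm x ∈ RingHom.ker (F : R ⊗[T] C₂ →ₐ[R] MonoidAlgebra R N) := hx
    rw [hkerF, Ideal.mem_span_singleton] at h2
    obtain ⟨w, hw⟩ := h2
    rw [Ideal.mem_span_singleton]
    exact ⟨E w, by rw [← map_mul, ← hw, BialgEquiv.apply_symm_apply]⟩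
  · show F (E.symm (E (i e₂))) = 0
    rw [BialgEquiv.symm_apply_apply]
    exact (hkerF.symm ▸ Ideal.mem_span_singleton_self (i e₂) : i e₂ ∈ RingHom.ker (F : R ⊗[T] C₂ →ₐ[R] MonoidAlgebra R N))

/-- A diagonalisable clopen subgroup, from a model over a Noetherian strictly henselian ring. -/
theorem exists_hom_of_model {R : Type u} [CommRing R] [IsLocalRing R] {C : Type u} [CommRing C] [HopfAlgebra R C]
    {T₀ : Type u} [CommRing T₀] [IsNoetherianRing T₀] [HenselianLocalRing T₀] [IsSepClosed (ResidueField T₀)]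
    [Algebra T₀ R] [IsLocalHom (algebraMap T₀ R)] {C₂ : Type u} [CommRing C₂] [HopfAlgebra T₀ C₂]
    (hft₂ : Algebra.FiniteType T₀ C₂)
    (hfl₂ : ∀ n : ℕ, Module.Flat (T₀ ⧸ maximalIdeal T₀ ^ n) ((T₀ ⧸ maximalIdeal T₀ ^ n) ⊗[T₀] C₂))
    (E : R ⊗[T₀] C₂ ≃ₐc[R] C)
    (hs : SGA3b.IsMultType (ResidueField R) (ResidueField R ⊗[R] C)) :
    ∃ (N : Type u) (_ : CommGroup N), Group.FG N ∧ ∃ Φ : C →ₐc[R] MonoidAlgebra R N, Function.Surjective Φ ∧
      ∃ e : C, IsIdempotentElem e ∧ e ∈ (maximalIdeal R).map (algebraMap R C) ∧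
        RingHom.ker (Φ : C →ₐ[R] MonoidAlgebra R N) = Ideal.span {e} := by
  have hloc : (maximalIdeal T₀).map (algebraMap T₀ R) ≤ maximalIdeal R :=
    ((IsLocalRing.local_hom_TFAE (algebraMap T₀ R)).out 0 2).mp ‹_›
  let eH : ResidueField R ⊗[R] C ≃ₐc[ResidueField R] ResidueField R ⊗[ResidueField T₀] (ResidueField T₀ ⊗[T₀] C₂) :=
    ((bcEquiv (ResidueField R) E).symm.trans (cancelBC (R := T₀) R (ResidueField R) C₂)).trans
      (cancelBC (R := T₀) (ResidueField T₀) (ResidueField R) C₂).symm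
  have : Algebra.FiniteType T₀ C₂ := hft₂
  obtain ⟨N, _, hN, ⟨eN⟩⟩ := exists_iso_sepClosed
    (inferInstance : Algebra.FiniteType (ResidueField T₀) (ResidueField T₀ ⊗[T₀] C₂))
    (isMultTypeConst_descend (ResidueField R) eH (isMultTypeConst_of_isLocalRing hs)) (ResidueField T₀)
  let eb : ResidueField T₀ ⊗[T₀] C₂ ≃ₐc[ResidueField T₀] MonoidAlgebra (ResidueField T₀) N :=
    (cancelBC (R := T₀) (ResidueField T₀) (ResidueField T₀) C₂).symm.trans eN
  obtain ⟨Φ₂, hΦ₂, e₂, he₂, he₂m, hker₂⟩ := exists_hom_henselian hft₂ hfl₂ (N := N) eb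
  exact ⟨N, inferInstance, hN, exists_hom_push E _ _ hloc Φ₂ hΦ₂ he₂ he₂m hker₂⟩

/-- The same from a model over a Noetherian stage. -/
theorem exists_hom_of_stage {R : Type u} [CommRing R] [IsLocalRing R] {C : Type u} [CommRing C] [HopfAlgebra R C]
    {T₀ : Type u} [CommRing T₀] [IsNoetherianRing T₀] [HenselianLocalRing T₀] [IsSepClosed (ResidueField T₀)]
    [Algebra T₀ R] [IsLocalHom (algebraMap T₀ R)] {U : Type u} [CommRing U] [Algebra U T₀] [Algebra U R]
    [IsScalarTower U T₀ R] {C₁ : Type u} [CommRing C₁] [HopfAlgebra U C₁] (p : Ideal U)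
    (hft₁ : Algebra.FiniteType U C₁)
    (hfl₁ : ∀ n : ℕ, Module.Flat (U ⧸ p ^ n) ((U ⧸ p ^ n) ⊗[U] C₁))
    (hp : p.map (algebraMap U T₀) = maximalIdeal T₀) (E : R ⊗[U] C₁ ≃ₐc[R] C)
    (hs : SGA3b.IsMultType (ResidueField R) (ResidueField R ⊗[R] C)) :
    ∃ (N : Type u) (_ : CommGroup N), Group.FG N ∧ ∃ Φ : C →ₐc[R] MonoidAlgebra R N, Function.Surjective Φ ∧
      ∃ e : C, IsIdempotentElem e ∧ e ∈ (maximalIdeal R).map (algebraMap R C) ∧
        RingHom.ker (Φ : C →ₐ[R] MonoidAlgebra R N) = Ideal.span {e} := by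
  have := hft₁
  refine exists_hom_of_model (T₀ := T₀) (C₂ := T₀ ⊗[U] C₁) inferInstance (fun n => ?_)
    ((cancelBC (R := U) T₀ R C₁).trans E) hs
  rw [← hp]
  exact flat_levels_bc p T₀ hfl₁ n

variable {R : Type u} [CommRing R] [HenselianLocalRing R] [IsSepClosed (ResidueField R)]
  {C : Type u} [CommRing C] [HopfAlgebra R C]

/-- Over a strictly henselian ring, a finitely presented group which is flat along a closed fibre of multiplicative
type contains a diagonalisable group as an open and closed subgroup. -/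
theorem exists_hom_strictHenselian (hfp : Algebra.FinitePresentation R C)
    (hfl : ∀ (q : Ideal C) [q.IsPrime], Ideal.map (algebraMap R C) (maximalIdeal R) ≤ q →
      Module.Flat R (Localization.AtPrime q))
    (hs : SGA3b.IsMultType (ResidueField R) (ResidueField R ⊗[R] C)) :
    ∃ (N : Type u) (_ : CommGroup N), Group.FG N ∧ ∃ Φ : C →ₐc[R] MonoidAlgebra R N, Function.Surjective Φ ∧
      ∃ e : C, IsIdempotentElem e ∧ e ∈ (maximalIdeal R).map (algebraMap R C) ∧
        RingHom.ker (Φ : C →ₐ[R] MonoidAlgebra R N) = Ideal.span {e} := by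
  obtain ⟨T, _, _, C₀, _, _, hT, hft₀, ⟨e₀⟩⟩ := exists_hopf_model R C hfp
  obtain ⟨U, hU, hUfl⟩ := exists_flat_stage e₀.toAlgEquiv hfl
  have : IsNoetherianRing U := EGA43.FlatDescent.isNoetherianRing_of_fg hU
  let C₁ := U ⊗[T] C₀
  let p := stageIdeal U
  have hp : p.IsPrime := Ideal.IsPrime.comap _
  let O := Localization.AtPrime p
  have : IsNoetherianRing O := IsLocalization.isNoetherianRing p.primeCompl O inferInstance
  let h : O →ₐ[U] R := IsLocalization.liftAlgHom (M := p.primeCompl) (f := Algebra.ofId U R) fun s => by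
    show IsUnit (algebraMap U R s)
    exact notMem_maximalIdeal.mp s.2
  letI : Algebra O R := h.toRingHom.toAlgebra
  have : IsScalarTower U O R := .of_algebraMap_eq fun a => (h.commutes a).symm
  have : IsLocalHom (algebraMap O R) := ⟨fun x hx => by
    obtain ⟨⟨a, s⟩, rfl⟩ := IsLocalization.mk'_surjective p.primeCompl x
    rw [IsLocalization.AtPrime.isUnit_mk'_iff O p]
    intro ha
    have h1 := hx.mul ((notMem_maximalIdeal.mp s.2 : IsUnit (algebraMap U R s)))
    rw [IsScalarTower.algebraMap_apply U O R, ← map_mul, IsLocalization.mk'_spec,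
      ← IsScalarTower.algebraMap_apply] at h1
    exact notMem_maximalIdeal.mpr h1 ha⟩
  let K := SepRes O
  let τ : K →ₐ[ResidueField O] ResidueField R := IsSepClosed.lift
  have hH : HenselianRing R (maximalIdeal R) := henselianRing_maximal
  obtain ⟨g, hg, -⟩ := hull_universal (maximalIdeal R) ((τ.restrictScalars O : K →ₐ[O] R ⧸ maximalIdeal R))
  let T₀ := LocalSH O
  letI : Algebra U T₀ := ((algebraMap O T₀).comp (algebraMap U O)).toAlgebra
  have : IsScalarTower U O T₀ := .of_algebraMap_eq fun _ => rfl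
  letI : Algebra T₀ R := g.toRingHom.toAlgebra
  have : IsScalarTower O T₀ R := .of_algebraMap_eq fun a => (g.commutes a).symm
  have : IsScalarTower U T₀ R := .of_algebraMap_eq fun a => by
    show algebraMap U R a = g (algebraMap O T₀ (algebraMap U O a))
    rw [g.commutes, ← IsScalarTower.algebraMap_apply]
  have : IsNoetherianRing T₀ := isNoetherianRing_localSH
  have : HenselianLocalRing T₀ := henselianLocalRing_localSH
  have hloc : (maximalIdeal T₀).map (algebraMap T₀ R) ≤ maximalIdeal R := Ideal.map_le_iff_le_comap.mpr fun x hx => by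
    rw [maximalIdeal_hull, RingHom.mem_ker] at hx
    show g x ∈ maximalIdeal R
    rw [← Ideal.Quotient.eq_zero_iff_mem]
    exact (congr($hg x)).trans (show τ (hullPt O K x) = 0 by rw [hx, map_zero])
  have : IsLocalHom (algebraMap T₀ R) :=
    ((IsLocalRing.local_hom_TFAE (algebraMap T₀ R)).out 0 2).mpr hloc
  have := isSepClosure_residueField_localSH (R := O)
  have : IsSepClosed (ResidueField T₀) := IsSepClosure.sep_closed (ResidueField O)
  have hft₁ : Algebra.FiniteType U (U ⊗[T] C₀) := Algebra.FiniteType.baseChange (A := C₀) U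
  have hpm : p.map (algebraMap U T₀) = maximalIdeal T₀ := by
    rw [IsScalarTower.algebraMap_eq U O T₀, ← Ideal.map_map, Localization.AtPrime.map_eq_maximalIdeal,
      map_maximalIdeal_localSH]
  exact exists_hom_of_stage p hft₁ (flat_levels p (U ⊗[T] C₀) hUfl) hpm ((cancelBC (R := T) U R C₀).trans e₀) hs

/-- If moreover the fibres are connected, the group is diagonalisable. -/
theorem exists_iso_of_connected (hfp : Algebra.FinitePresentation R C)
    (hfl : ∀ (q : Ideal C) [q.IsPrime], Ideal.map (algebraMap R C) (maximalIdeal R) ≤ q →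
      Module.Flat R (Localization.AtPrime q))
    (hs : SGA3b.IsMultType (ResidueField R) (ResidueField R ⊗[R] C))
    (hconn : ∀ (p : Ideal R) [p.IsPrime], ConnectedSpace (PrimeSpectrum (p.ResidueField ⊗[R] C))) :
    ∃ (N : Type u) (_ : CommGroup N), Group.FG N ∧ Nonempty (C ≃ₐc[R] MonoidAlgebra R N) := by
  obtain ⟨N, _, hN, Φ, hΦ, e, he, -, hker⟩ := exists_hom_strictHenselian hfp hfl hs
  have h1 : Φ e = 0 := (hker ▸ Ideal.mem_span_singleton_self e : e ∈ RingHom.ker (Φ : C →ₐ[R] MonoidAlgebra R N))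
  have h0 : e = 0 := eq_zero_of_fibres_connected hconn he (by
    rw [← CoalgHomClass.counit_comp_apply Φ e, h1, map_zero])
  refine ⟨N, inferInstance, hN, ⟨BialgEquiv.ofBijective Φ
    ⟨(RingHom.injective_iff_ker_eq_bot (Φ : C →ₐ[R] MonoidAlgebra R N).toRingHom).mpr ?_, hΦ⟩⟩⟩
  exact hker.trans (Ideal.span_singleton_eq_bot.mpr h0)

/-- If moreover the group is commutative with finite torsion, it is diagonalisable. -/
theorem exists_iso_of_torsion [Coalgebra.IsCocomm R C] (hfp : Algebra.FinitePresentation R C)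
    (hfl : ∀ (q : Ideal C) [q.IsPrime], Ideal.map (algebraMap R C) (maximalIdeal R) ≤ q →
      Module.Flat R (Localization.AtPrime q))
    (hs : SGA3b.IsMultType (ResidueField R) (ResidueField R ⊗[R] C))
    (hfin : ∀ n : ℕ, 0 < n → Module.Finite R (C ⧸ SGA3b.torsionIdeal R C n)) :
    ∃ (N : Type u) (_ : CommGroup N), Group.FG N ∧ Nonempty (C ≃ₐc[R] MonoidAlgebra R N) := by
  obtain ⟨N, _, hN, Φ, hΦ, e, he, hem, hker⟩ := exists_hom_strictHenselian hfp hfl hs
  have : Algebra.FinitePresentation R C := hfp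
  let Φ' : R ⊗[R] C →ₐc[R] MonoidAlgebra R N :=
    (monoidBC (T := R) R N : _ →ₐc[R] MonoidAlgebra R N).comp (bcHom R Φ)
  have h0 : e = 0 := eq_zero_of_torsion R Φ'
    ((monoidBC (T := R) R N).toAlgEquiv.surjective.comp (bcHom_surjective R Φ hΦ)) he (by
      rw [← hker, ← ker_bcHom R Φ hΦ]
      ext x
      show monoidBC (T := R) R N (bcHom R Φ x) = 0 ↔ bcHom R Φ x = 0
      rw [← map_zero (monoidBC (T := R) R N)]
      exact (monoidBC (T := R) R N).toAlgEquiv.injective.eq_iff)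
    fun n hn => by
      have := hfin n hn
      exact mem_of_finite_quotient _ (IsLocalRing.jacobson_eq_maximalIdeal ⊥ bot_ne_top).ge _ he hem
  refine ⟨N, inferInstance, hN, ⟨BialgEquiv.ofBijective Φ
    ⟨(RingHom.injective_iff_ker_eq_bot (Φ : C →ₐ[R] MonoidAlgebra R N).toRingHom).mpr ?_, hΦ⟩⟩⟩
  exact hker.trans (Ideal.span_singleton_eq_bot.mpr h0)

end Groth.Agent.IsoTriv
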