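import Groth.Agent.IsoTriv.FibreCrit
import Groth.Agent.IsoTriv.MultBasic
import Groth.Agent.SGA3bLib.DiagQuot
import Groth.Agent.SGA3bLib.TrivialFibre
import Groth.Agent.IsoTriv.StrictHensel

/-! Flat closed subgroups of groups of multiplicative type. -/

set_option autoImplicit false
universe u

open TensorProduct Coalgebra

namespace Groth.Agent.IsoTriv

open SGA3bLib

variable {R : Type u} [CommRing R] {A' A : Type u} [CommRing A'] [HopfAlgebra R A'] [CommRing A] [HopfAlgebra R A]

/-- A quotient of a cocommutative bialgebra is cocommutative. -/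
theorem isCocomm_of_surjective [Coalgebra.IsCocomm R A'] (φ : A' →ₐc[R] A) (hφ : Function.Surjective φ) :
    Coalgebra.IsCocomm R A where
  comm_comp_comul := by
    refine LinearMap.ext fun a => ?_
    obtain ⟨x, rfl⟩ := hφ a
    show TensorProduct.comm R A A (comul (φ x)) = comul (φ x)
    rw [← CoalgHomClass.map_comp_comul_apply φ x, ← TensorProduct.map_comm, Coalgebra.comm_comul]

/-- A flat closed subgroup of finite presentation of a group of multiplicative type is of multiplicative type. -/
theorem isMultType_of_surjective (hft : Algebra.FiniteType R A') (h' : SGA3b.IsMultType R A')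
    (φ : A' →ₐc[R] A) (hφ : Function.Surjective φ) [Module.Flat R A] (hfp : Algebra.FinitePresentation R A) :
    SGA3b.IsMultType R A := by
  have := isCocomm_of_isMultType h'
  have := isCocomm_of_surjective φ hφ
  refine isMultType_of_fibres_torsion hfp (fun p hp => ?_) fun n hn => ?_
  · let k := p.ResidueField
    have hc : SGA3b.IsMultTypeConst k (k ⊗[R] A') := by
      obtain ⟨s, hs, hloc⟩ := h'
      obtain ⟨f, hf, hfp'⟩ : ∃ f ∈ s, f ∉ p := by
        by_contra hne
        push Not at hne
        exact hp.ne_top (top_le_iff.mp (hs ▸ Ideal.span_le.mpr hne))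
      have hu : IsUnit (algebraMap R k f) := Ne.isUnit fun h => hfp' (Ideal.algebraMap_residueField_eq_zero.mp h)
      letI : Algebra (Localization.Away f) k := (IsLocalization.Away.lift f hu).toAlgebra
      have : IsScalarTower R (Localization.Away f) k :=
        .of_algebraMap_eq fun r => (IsLocalization.Away.lift_eq f hu r).symm
      obtain ⟨R', _, _, hff, N, _, ⟨e⟩⟩ := isMultTypeConst_bc (hloc f hf) k
      exact ⟨R', inferInstance, inferInstance, hff, N, inferInstance,
        ⟨(bcEquiv R' (cancelBC (R := R) (Localization.Away f) k A').symm).trans e⟩⟩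
    let K := SeparableClosure k
    obtain ⟨N, _, -, ⟨e⟩⟩ := exists_iso_sepClosed (inferInstance : Algebra.FiniteType k (k ⊗[R] A')) hc K
    let ψ : K ⊗[k] (k ⊗[R] A') →ₐc[K] K ⊗[k] (k ⊗[R] A) := bcHom K (bcHom k φ)
    have hd : SGA3b.IsDiag K (K ⊗[k] (k ⊗[R] A)) := isDiag_of_span_groupLike
      (span_groupLike_map ψ (bcHom_surjective K _ (bcHom_surjective k φ hφ))
        (span_groupLike_of_diag ⟨N, inferInstance, ⟨e⟩⟩))
    obtain ⟨M, _, ⟨eM⟩⟩ := hd
    exact isMultType_of_const ⟨K, inferInstance, inferInstance, inferInstance, M, inferInstance, ⟨eM⟩⟩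
  · have := finite_quotient_torsion hft h' hn
    let g : (A' ⧸ SGA3b.torsionIdeal R A' n) →ₐ[R] A ⧸ SGA3b.torsionIdeal R A n :=
      Ideal.Quotient.liftₐ _ ((Ideal.Quotient.mkₐ R _).comp (φ : A' →ₐ[R] A)) fun x hx => by
        show Ideal.Quotient.mkₐ R _ (φ x) = 0
        rw [Ideal.Quotient.mkₐ_eq_mk, Ideal.Quotient.eq_zero_iff_mem, ← map_torsionIdeal φ hφ n]
        exact Ideal.mem_map_of_mem (φ : A' →ₐ[R] A) hx
    refine Module.Finite.of_surjective g.toLinearMap fun y => ?_
    obtain ⟨a, rfl⟩ := Ideal.Quotient.mk_surjective y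
    obtain ⟨x, rfl⟩ := hφ a
    exact ⟨Ideal.Quotient.mk _ x, rfl⟩

end Groth.Agent.IsoTriv
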