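import Groth.Agent.SGA3cLib.TorusBasic
import Groth.Prelude.Def_SGA3x

/-! Groups of multiplicative type are commutative. -/

set_option linter.style.haveILetI false
set_option autoImplicit false

universe u

open CategoryTheory CategoryTheory.Limits MonoidalCategory CartesianMonoidalCategory MonObj AlgebraicGeometry

noncomputable section

namespace Groth.Agent.IsoTriv

open SGA3cLib

variable {S : Scheme.{u}}

theorem mul_comm_of_multTypeFT {T : Over S} [GrpObj T] (hT : SGA3x.IsMultTypeFT T) {X : Over S} (x y : X ⟶ T) :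
    x * y = y * x := by
  obtain ⟨S', f, hfl, hsu, -, hU⟩ := hT
  choose U hmem N hNag hNfg hsplit using hU
  haveI := hfl
  haveI := hsu
  haveI : Flat (pullback.fst X.hom f) := inferInstance
  haveI : Surjective (pullback.fst X.hom f) := inferInstance
  haveI : Epi (pullback.fst X.hom f) := Flat.epi_of_flat_of_surjective _
  have hcov : TopologicalSpace.IsOpenCover U :=
    TopologicalSpace.IsOpenCover.mk (eq_top_iff.2 fun s _ => TopologicalSpace.Opens.mem_iSup.2 ⟨s, hmem s⟩)
  refine Over.OverMorphism.ext ((cancel_epi (pullback.fst X.hom f)).mp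
    (Scheme.Cover.hom_ext ((S'.openCoverOfIsOpenCover U hcov).pullback₁ (pullback.snd X.hom f)) _ _ fun (s : S') => ?_))
  let F := Over.pullback ((U s).ι ≫ f)
  obtain ⟨e⟩ := hsplit s
  letI := hNag s
  haveI : IsMonHom e.hom.hom.hom := e.hom.hom.isMonHom_hom
  haveI : IsIso e.hom.hom.hom := ((Grp.forget _).mapIso e).isIso_hom
  have h : F.map (x * y) = F.map (y * x) := by
    rw [Functor.map_mul, Functor.map_mul]
    let w : Red.bc ((U s).ι ≫ f) T ⟶ Red.DS (U s : Scheme.{u}) (N s) := e.hom.hom.hom
    haveI : IsMonHom w := e.hom.hom.isMonHom_hom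
    haveI : IsIso w := ((Grp.forget _).mapIso e).isIso_hom
    refine (cancel_mono w).mp ?_
    exact (MonObj.mul_comp (F.map x) (F.map y) w).trans
      ((DS_mul_comm _ _).trans (MonObj.mul_comp (F.map y) (F.map x) w).symm)
  let m : pullback (pullback.snd X.hom f) (U s).ι ⟶ pullback X.hom ((U s).ι ≫ f) :=
    pullback.lift (pullback.fst _ _ ≫ pullback.fst X.hom f) (pullback.snd _ _) (by
      rw [Category.assoc, pullback.condition, pullback.condition_assoc])
  have h' := congrArg (fun g => m ≫ CommaMorphism.left g ≫ pullback.fst T.hom ((U s).ι ≫ f)) h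
  simp only [m, F, Over.pullback_map_left] at h'
  erw [pullback.lift_fst, pullback.lift_fst, pullback.lift_fst_assoc, pullback.lift_fst_assoc] at h'
  simp only [Category.assoc] at h'
  exact h'

end Groth.Agent.IsoTriv
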