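import Groth.Agent.IsoTriv.Nilpotent
import Mathlib.RingTheory.Ideal.GoingDown
import Mathlib.RingTheory.Spectrum.Prime.Topology

/-! A trivialising flat cover makes a group of multiplicative type. -/

universe u

open TensorProduct Coalgebra

namespace Groth.Agent.IsoTriv

open SGA3bLib

variable {R : Type u} [CommRing R] {A : Type u} [CommRing A] [HopfAlgebra R A]

/-- Trivialisations at two primes over the same point have the same type. -/
theorem nonempty_mulEquiv_of_over {T T' : Type u} [CommRing T] [CommRing T'] [Algebra R T] [Algebra R T']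
    {M N : Type u} [CommGroup M] [CommGroup N] (e : T ⊗[R] A ≃ₐc[T] MonoidAlgebra T M)
    (e' : T' ⊗[R] A ≃ₐc[T'] MonoidAlgebra T' N) (q : PrimeSpectrum T) (q' : PrimeSpectrum T')
    (h : q.comap (algebraMap R T) = q'.comap (algebraMap R T')) : Nonempty (M ≃* N) := by
  set p := q.asIdeal.comap (algebraMap R T) with hp
  have hq' : p = q'.asIdeal.comap (algebraMap R T') := congrArg PrimeSpectrum.asIdeal h
  let κ := p.ResidueField
  let f : κ →+* q.asIdeal.ResidueField := Ideal.ResidueField.map _ q.asIdeal (algebraMap R T) hp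
  let f' : κ →+* q'.asIdeal.ResidueField := Ideal.ResidueField.map _ q'.asIdeal (algebraMap R T') hq'
  let : Algebra κ q.asIdeal.ResidueField := f.toAlgebra
  let : Algebra κ q'.asIdeal.ResidueField := f'.toAlgebra
  let W := q.asIdeal.ResidueField ⊗[κ] q'.asIdeal.ResidueField
  obtain ⟨m, hm⟩ := Ideal.exists_maximal W
  obtain ⟨L, _, g, g', hgg⟩ : ∃ (L : Type u) (_ : Field L) (g : T →+* L) (g' : T' →+* L),
      g.comp (algebraMap R T) = g'.comp (algebraMap R T') := by
    let i₁ : q.asIdeal.ResidueField →+* W := Algebra.TensorProduct.includeLeftRingHom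
    let i₂ : q'.asIdeal.ResidueField →+* W :=
      (Algebra.TensorProduct.includeRight : q'.asIdeal.ResidueField →ₐ[κ] W).toRingHom
    refine ⟨W ⧸ m, Ideal.Quotient.field m, (Ideal.Quotient.mk m).comp (i₁.comp (algebraMap T q.asIdeal.ResidueField)),
      (Ideal.Quotient.mk m).comp (i₂.comp (algebraMap T' q'.asIdeal.ResidueField)), RingHom.ext fun r => ?_⟩
    show Ideal.Quotient.mk m (i₁ (algebraMap T q.asIdeal.ResidueField (algebraMap R T r))) =
      Ideal.Quotient.mk m (i₂ (algebraMap T' q'.asIdeal.ResidueField (algebraMap R T' r)))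
    congr 1
    rw [← Ideal.ResidueField.map_algebraMap _ q.asIdeal (algebraMap R T) hp,
      ← Ideal.ResidueField.map_algebraMap _ q'.asIdeal (algebraMap R T') hq']
    show algebraMap κ q.asIdeal.ResidueField _ ⊗ₜ[κ] (1 : q'.asIdeal.ResidueField) =
      (1 : q.asIdeal.ResidueField) ⊗ₜ[κ] algebraMap κ q'.asIdeal.ResidueField _
    exact ((Algebra.TensorProduct.includeRight : q'.asIdeal.ResidueField →ₐ[κ] W).commutes _).symm
  let : Algebra R L := (g.comp (algebraMap R T)).toAlgebra
  let : Algebra T L := g.toAlgebra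
  let : Algebra T' L := g'.toAlgebra
  have : IsScalarTower R T L := .of_algebraMap_eq fun _ => rfl
  have : IsScalarTower R T' L := .of_algebraMap_eq fun r => RingHom.congr_fun hgg r
  exact nonempty_mulEquiv ((bcTriv (T' := L) e).symm.trans (bcTriv (T' := L) e'))

/-- A finite trivialising flat cover gives multiplicative type. -/
theorem isMultType_of_hasCover (h : HasCover R A) : SGA3b.IsMultType R A := by
  classical
  obtain ⟨ι, _, T, _, _, hflat, hsurj, hdiag⟩ := h
  choose M hM he using hdiag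
  let Cls : ι → ι → Prop := fun i j => Nonempty (M i ≃* M j)
  let P : ι → Type u := fun i => ∀ j : {j // Cls i j}, T j
  have heP : ∀ i, Nonempty (P i ⊗[R] A ≃ₐc[P i] MonoidAlgebra (P i) (M i)) := fun i =>
    isDiag_pi (fun j : {j // Cls i j} => T j) fun j =>
      ((he j).some).trans (MonoidAlgebra.domCongrBialgEquiv (R := T j) (A := T j) j.2.some.symm)
  let U : ι → Set (PrimeSpectrum R) := fun i => Set.range (PrimeSpectrum.comap (algebraMap R (P i)))
  have hover : ∀ i j, Cls i j → ∀ q : PrimeSpectrum (T j), q.comap (algebraMap R (T j)) ∈ U i := fun i j hij q =>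
    ⟨q.comap (Pi.evalAlgHom R (fun j : {j // Cls i j} => T j) ⟨j, hij⟩).toRingHom, rfl⟩
  have huniq : ∀ i j, ∀ p ∈ U i, ∀ q : PrimeSpectrum (T j), q.comap (algebraMap R (T j)) = p → Cls i j := by
    rintro i j p ⟨q₀, rfl⟩ q hq
    exact nonempty_mulEquiv_of_over (heP i).some (he j).some q₀ q hq.symm
  have hdisj : ∀ i i', ∀ p ∈ U i, p ∈ U i' → Cls i i' := by
    rintro i i' p ⟨q₀, rfl⟩ ⟨q₁, hq₁⟩
    exact nonempty_mulEquiv_of_over (heP i).some (heP i').some q₀ q₁ hq₁.symm
  have hclosed : ∀ i, IsClosed (U i) := fun i => by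
    rw [← PrimeSpectrum.stableUnderSpecialization_range_iff]
    intro p p' hpp hp
    obtain ⟨j, q', hq'⟩ := hsurj p'
    have := hflat j
    obtain ⟨q, -, hq⟩ := (Algebra.HasGoingDown.iff_generalizingMap_primeSpectrumComap (R := R) (S := T j)).mp
      inferInstance (show p ⤳ PrimeSpectrum.comap (algebraMap R (T j)) q' from hq'.symm ▸ hpp)
    exact hq' ▸ hover i j (huniq i j p hp q hq) q'
  have hcompl : ∀ i, (U i)ᶜ = ⋃ j ∈ {j | ¬ Cls i j}, U j := fun i => Set.ext fun p => by
    simp only [Set.mem_compl_iff, Set.mem_iUnion, Set.mem_ofPred_eq, exists_prop]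
    constructor
    · intro hp
      obtain ⟨j, q, hq⟩ := hsurj p
      exact ⟨j, fun h => hp (hq ▸ hover i j h q), hq ▸ hover j j ⟨MulEquiv.refl _⟩ q⟩
    · rintro ⟨j, hij, hp⟩ hpi
      exact hij (hdisj i j p hpi hp)
  have hclopen : ∀ i, IsClopen (U i) := fun i => ⟨hclosed i, isClosed_compl_iff.mp (by
    rw [hcompl]
    exact (Set.toFinite _).isClosed_biUnion fun j _ => hclosed j)⟩
  choose g hg hgU using fun i => PrimeSpectrum.exists_idempotent_basicOpen_eq_of_isClopen (hclopen i)
  refine ⟨Set.range g, ?_, ?_⟩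
  · refine Ideal.eq_top_iff_one _ |>.mpr ?_
    by_contra hne
    obtain ⟨m, hm, hle⟩ := Ideal.exists_le_maximal (Ideal.span (Set.range g)) fun h => hne (h ▸ trivial)
    obtain ⟨i, q, hq⟩ := hsurj ⟨m, hm.isPrime⟩
    have h1 : (⟨m, hm.isPrime⟩ : PrimeSpectrum R) ∈ U i := hq ▸ hover i i ⟨MulEquiv.refl _⟩ q
    rw [hgU] at h1
    exact h1 (hle (Ideal.subset_span ⟨i, rfl⟩))
  rintro _ ⟨i, rfl⟩
  set S := Localization.Away (g i)
  let T' := S ⊗[R] P i
  have : Module.Flat R (P i) := by
    have : ∀ j : {j // Cls i j}, Module.Flat R (T j) := fun j => hflat j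
    have := Fintype.ofFinite {j // Cls i j}
    exact Module.Flat.of_linearEquiv (DFinsupp.linearEquivFunOnFintype (R := R)).symm
  have hff : Module.FaithfullyFlat S T' := by
    refine Module.FaithfullyFlat.of_comap_surjective fun p' => ?_
    have hp : p'.comap (algebraMap R S) ∈ U i := by
      rw [hgU]
      have : p'.comap (algebraMap R S) ∈ Set.range (PrimeSpectrum.comap (algebraMap R S)) := ⟨p', rfl⟩
      rwa [PrimeSpectrum.localization_away_comap_range S (g i)] at this
    obtain ⟨q, hq⟩ := hp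
    let L := q.asIdeal.ResidueField
    have hu : IsUnit (algebraMap R L (g i)) := by
      refine isUnit_iff_ne_zero.mpr fun h0 => ?_
      rw [IsScalarTower.algebraMap_apply R (P i) L, Ideal.algebraMap_residueField_eq_zero] at h0
      have h1 : PrimeSpectrum.comap (algebraMap R (P i)) q ∈ U i := ⟨q, rfl⟩
      rw [hgU] at h1
      exact h1 h0
    let fS : S →ₐ[R] L := IsLocalization.liftAlgHom (M := Submonoid.powers (g i)) (f := Algebra.ofId R L) (by
      rintro ⟨_, n, rfl⟩
      rw [map_pow]
      exact hu.pow n)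
    let Ψ : T' →ₐ[R] L := Algebra.TensorProduct.productMap fS (IsScalarTower.toAlgHom R (P i) L)
    refine ⟨⟨RingHom.ker Ψ, RingHom.ker_isPrime _⟩, ?_⟩
    apply PrimeSpectrum.localization_comap_injective S (Submonoid.powers (g i))
    rw [← hq]
    refine PrimeSpectrum.ext (Ideal.ext fun r => ?_)
    show Ψ (algebraMap R S r ⊗ₜ[R] (1 : P i)) = 0 ↔ algebraMap R (P i) r ∈ q.asIdeal
    rw [Algebra.TensorProduct.productMap_apply_tmul, map_one, mul_one, AlgHom.commutes,
      IsScalarTower.algebraMap_apply R (P i) L, Ideal.algebraMap_residueField_eq_zero]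
  let : Algebra (P i) T' := Algebra.TensorProduct.rightAlgebra
  have : IsScalarTower R (P i) T' := .of_algebraMap_eq fun r =>
    (((Algebra.TensorProduct.includeRight : P i →ₐ[R] T').commutes r)).symm
  exact ⟨T', inferInstance, inferInstance, hff, M i, hM i,
    ⟨(cancelBC (R := R) S T' A).trans (bcTriv (heP i).some)⟩⟩

end Groth.Agent.IsoTriv
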