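import Groth.Agent.IsoTriv.SmoothCocycle
import Groth.Agent.IsoTriv.TorsionQuot
import Groth.Agent.IsoTriv.MultBasic
import Groth.Agent.IsoTriv.TypeLocus
import Groth.Agent.SGA3bLib.TrivialFibre
import Groth.Agent.SGA3bLib.Torsion
import Mathlib.RingTheory.Flat.FaithfullyFlat.Basic
import Mathlib.RingTheory.RingHom.FaithfullyFlat
import Mathlib.RingTheory.IntegralClosure.IsIntegralClosure.Basic

/-!
# Extensions of Hopf algebras of multiplicative type

`φ : A'' → A` is faithfully flat and the points of `A'` are the points of `A` killed by `φ`.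
-/

universe u
set_option linter.style.haveILetI false

open TensorProduct Coalgebra WithConv

namespace Groth.Agent.IsoTriv.ExtensionAlg

open SGA3bLib

attribute [local instance 2000] pointsGroup

variable {R : Type u} [CommRing R] {A A' A'' : Type u} [CommRing A] [HopfAlgebra R A] [CommRing A'] [HopfAlgebra R A']
  [CommRing A''] [HopfAlgebra R A'']

/-- The points of `A'` are the points of `A` killed by `φ`. -/
def IsKer (φ : A'' →ₐc[R] A) (ψ : A →ₐc[R] A') : Prop :=
  ∀ (T : Type u) [CommRing T] [Algebra R T] (g : A →ₐ[R] T),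
    g.comp (φ : A'' →ₐ[R] A) = (Algebra.ofId R T).comp (Bialgebra.counitAlgHom R A'') →
      ∃ a : A' →ₐ[R] T, a.comp (ψ : A →ₐ[R] A') = g

theorem comp_hom_mul {B C T : Type u} [CommRing B] [HopfAlgebra R B] [CommRing C] [HopfAlgebra R C] [CommRing T]
    [Algebra R T] (φ : C →ₐc[R] B) (g h : WithConv (B →ₐ[R] T)) :
    (g * h).ofConv.comp (φ : C →ₐ[R] B) =
      (toConv (g.ofConv.comp (φ : C →ₐ[R] B)) * toConv (h.ofConv.comp (φ : C →ₐ[R] B))).ofConv :=
  AlgHom.convMul_comp_bialgHom_distrib g h φ

/-- Restriction of points along a homomorphism of Hopf algebras. -/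
noncomputable def pull {B C : Type u} [CommRing B] [HopfAlgebra R B] [CommRing C] [HopfAlgebra R C] (φ : C →ₐc[R] B)
    (T : Type u) [CommRing T] [Algebra R T] : WithConv (B →ₐ[R] T) →* WithConv (C →ₐ[R] T) :=
  { toFun := fun g => toConv (g.ofConv.comp (φ : C →ₐ[R] B))
    map_one' := WithConv.ofConv_injective (AlgHom.ext fun c => by simp)
    map_mul' := fun g h => congrArg toConv (comp_hom_mul φ g h) }

theorem pull_apply {B C : Type u} [CommRing B] [HopfAlgebra R B] [CommRing C] [HopfAlgebra R C] (φ : C →ₐc[R] B)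
    {T : Type u} [CommRing T] [Algebra R T] (g : WithConv (B →ₐ[R] T)) (c : C) :
    (pull φ T g).ofConv c = g.ofConv (φ c) := rfl

theorem exists_lift {φ : A'' →ₐc[R] A} {ψ : A →ₐc[R] A'} (hker : IsKer φ ψ) {T : Type u} [CommRing T] [Algebra R T]
    (g : WithConv (A →ₐ[R] T)) (hg : pull φ T g = 1) : ∃ a : WithConv (A' →ₐ[R] T), pull ψ T a = g := by
  obtain ⟨a, ha⟩ := hker T g.ofConv ((congrArg WithConv.ofConv hg).trans rfl)
  exact ⟨toConv a, congrArg toConv ha⟩

/-- A function on an extension which is additive is zero if the two pieces have no additive functions. -/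
theorem primitive_eq_zero {k : Type u} [Field k] {A A' A'' : Type u} [CommRing A] [HopfAlgebra k A] [CommRing A']
    [HopfAlgebra k A'] [CommRing A''] [HopfAlgebra k A''] (φ : A'' →ₐc[k] A) (ψ : A →ₐc[k] A')
    (hff : (φ : A'' →+* A).FaithfullyFlat) (hker : IsKer φ ψ)
    (h' : ∀ f : A', comul (R := k) f = f ⊗ₜ[k] (1 : A') + (1 : A') ⊗ₜ[k] f → f = 0)
    (h'' : ∀ f : A'', comul (R := k) f = f ⊗ₜ[k] (1 : A'') + (1 : A'') ⊗ₜ[k] f → f = 0)
    {x : A} (hx : comul (R := k) x = x ⊗ₜ[k] (1 : A) + (1 : A) ⊗ₜ[k] x) : x = 0 := by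
  letI := (φ : A'' →+* A).toAlgebra
  haveI : IsScalarTower k A'' A := .of_algebraMap_eq fun r => ((φ : A'' →ₐ[k] A).commutes r).symm
  haveI : Module.FaithfullyFlat A'' A := hff
  let S := A ⊗[A''] A
  let g₁ : WithConv (A →ₐ[k] S) := toConv ((Algebra.TensorProduct.includeLeft : A →ₐ[A''] S).restrictScalars k)
  let g₂ : WithConv (A →ₐ[k] S) := toConv ((Algebra.TensorProduct.includeRight : A →ₐ[A''] S).restrictScalars k)
  have h12 : pull φ S g₁ = pull φ S g₂ := WithConv.ofConv_injective (AlgHom.ext fun c => by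
    show (algebraMap A'' A c) ⊗ₜ[A''] (1 : A) = (1 : A) ⊗ₜ[A''] (algebraMap A'' A c)
    rw [Algebra.algebraMap_eq_smul_one, TensorProduct.smul_tmul])
  obtain ⟨a, ha⟩ := exists_lift hker (g₁⁻¹ * g₂) (by
    rw [map_mul, map_inv, h12, inv_mul_cancel])
  have hadd : ∀ {T : Type u} [CommRing T] [Algebra k T] (g h : WithConv (A →ₐ[k] T)),
      (g * h).ofConv x = g.ofConv x + h.ofConv x := fun g h => by
    simp [AlgHom.convMul_def, hx]
  have hψ : ψ x = 0 := h' _ (by
    rw [← CoalgHomClass.map_comp_comul_apply, hx, map_add, TensorProduct.map_tmul, TensorProduct.map_tmul]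
    simp)
  have h0 : (g₁⁻¹ * g₂).ofConv x = 0 := by rw [← ha, pull_apply, hψ, map_zero]
  have he : g₁.ofConv x = g₂.ofConv x := by
    have h := hadd g₁ (g₁⁻¹ * g₂)
    rw [mul_inv_cancel_left, h0, add_zero] at h
    exact h.symm
  obtain ⟨m, hm⟩ := exists_eq_one_tmul (R := A'') A (x ⊗ₜ[A''] (1 : A'')) (by
    show (Algebra.TensorProduct.includeLeft : A →ₐ[A''] S) x ⊗ₜ[A''] (1 : A'') =
      (Algebra.TensorProduct.includeRight : A →ₐ[A''] S) x ⊗ₜ[A''] (1 : A'')
    exact congrArg (· ⊗ₜ[A''] (1 : A'')) he)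
  have hxm : x = φ m := by
    have h := congrArg (TensorProduct.rid A'' A) hm
    simp only [TensorProduct.rid_tmul, one_smul] at h
    rw [h, Algebra.smul_def, _root_.mul_one]
    rfl
  have hinj : Function.Injective (φ : A'' →ₐ[k] A).toLinearMap := FaithfulSMul.algebraMap_injective A'' A
  have hinj2 : Function.Injective (TensorProduct.map (φ : A'' →ₐ[k] A).toLinearMap (φ : A'' →ₐ[k] A).toLinearMap) :=
    TensorProduct.map_injective_of_flat_flat _ _ hinj hinj
  rw [hxm, h'' m (hinj2 ?_), map_zero]
  refine ((CoalgHomClass.map_comp_comul_apply φ m).trans ?_)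
  rw [← hxm, hx, map_add, TensorProduct.map_tmul, TensorProduct.map_tmul, hxm]
  simp

/-- Surjectivity is tested on a jointly surjective family of flat algebras. -/
theorem eq_top_of_covers {M : Type u} [AddCommGroup M] [Module R M] (V : Submodule R M)
    (h : ∀ p : PrimeSpectrum R, ∃ (T : Type u) (_ : CommRing T) (_ : Algebra R T),
      p ∈ Set.range (PrimeSpectrum.comap (algebraMap R T)) ∧ Module.Flat R T ∧ Function.Surjective (V.subtype.lTensor T)) :
    V = ⊤ := by
  refine eq_top_iff.mpr fun x _ => ?_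
  by_contra hne
  let J := Submodule.comap (LinearMap.toSpanSingleton R M x) V
  obtain ⟨m, hm, hle⟩ := Ideal.exists_le_maximal J (fun h => hne (by
    have h1 : (1 : R) ∈ J := h ▸ Submodule.mem_top
    simpa [J] using h1))
  obtain ⟨T, _, _, ⟨q, hq⟩, hfl, hs⟩ := h ⟨m, hm.isPrime⟩
  let u : R ⧸ J →ₗ[R] M ⧸ V := Submodule.mapQ J V (LinearMap.toSpanSingleton R M x) le_rfl
  have hu : Function.Injective u := by
    rw [← LinearMap.ker_eq_bot, Submodule.ker_mapQ, Submodule.mkQ_map_self]
  have h0 : (1 : T) ⊗ₜ[R] V.mkQ x = 0 := by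
    obtain ⟨z, hz⟩ := hs ((1 : T) ⊗ₜ[R] x)
    have h := congrArg (V.mkQ.lTensor T) hz
    rw [← LinearMap.comp_apply, ← LinearMap.lTensor_comp, LinearMap.lTensor_tmul] at h
    rw [← h, show V.mkQ.comp V.subtype = 0 by ext; simp, LinearMap.lTensor_zero, LinearMap.zero_apply]
  have hT := Module.Flat.lTensor_preserves_injective_linearMap (M := T) u hu
  have h1 : (1 : T) ⊗ₜ[R] (Ideal.Quotient.mk J 1) = 0 := hT (by
    rw [LinearMap.lTensor_tmul, map_zero, ← h0]
    congr 1
    exact (Submodule.mapQ_apply J V _ _).trans (congrArg V.mkQ (one_smul R x)))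
  have h2 := congrArg (Algebra.TensorProduct.lift (Algebra.ofId T (T ⧸ q.asIdeal))
    (Ideal.Quotient.liftₐ J (Algebra.ofId R (T ⧸ q.asIdeal)) fun r hr => by
      have : r ∈ m := hle hr
      rw [← show (q.comap (algebraMap R T)).asIdeal = m from congrArg PrimeSpectrum.asIdeal hq] at this
      exact Ideal.Quotient.eq_zero_iff_mem.mpr this) fun _ _ => Commute.all _ _) h1
  simp at h2

/-- A group of multiplicative type and finite type is finite over the image of its `n`-th power map. -/
theorem finite_powConv (hft : Algebra.FiniteType R A') (h : SGA3b.IsMultType R A') {n : ℕ} (hn : 0 < n) :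
    Module.Finite (SGA3b.powConv R A' n).range A' := by
  classical
  set P := (SGA3b.powConv R A' n).range
  obtain ⟨ι, _, T, _, _, hflat, hsurj, hdiag⟩ := hasCover_of_isMultType h
  choose N hN he using hdiag
  have step : ∀ i, ∃ E : Finset A', ∀ y : T i ⊗[R] A', y ∈ LinearMap.range
      (((Submodule.span P (↑E : Set A')).restrictScalars R).subtype.lTensor (T i)) := by
    intro i
    obtain ⟨e⟩ := he i
    rcases subsingleton_or_nontrivial (T i) with hT | hT
    · have : Subsingleton (T i ⊗[R] A') := (algebraMap (T i) (T i ⊗[R] A')).codomain_trivial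
      exact ⟨∅, fun y => ⟨0, Subsingleton.elim _ _⟩⟩
    have : Algebra.FiniteType (T i) (MonoidAlgebra (T i) (N i)) :=
      (inferInstance : Algebra.FiniteType (T i) (T i ⊗[R] A')).equiv e.toAlgEquiv
    have hfg : Group.FG (N i) := Group.fg_iff_monoid_fg.mpr (MonoidAlgebra.finiteType_iff_fg.mp this)
    have := finite_quot hfg hn
    have := Fintype.ofFinite (N i ⧸ (powMonoidHom n : N i →* N i).range)
    let y : N i → T i ⊗[R] A' := fun m => e.symm (MonoidAlgebra.single m 1)
    choose Z hZ using fun x : T i ⊗[R] A' => TensorProduct.exists_finset (R := R) x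
    let E : Finset A' := Finset.univ.biUnion fun q : N i ⧸ (powMonoidHom n : N i →* N i).range =>
      (Z (y q.out)).image Prod.snd
    refine ⟨E, ?_⟩
    set V := (Submodule.span P (↑E : Set A')).restrictScalars R
    set L := LinearMap.range (V.subtype.lTensor (T i))
    have hLs : ∀ (t : T i) (z : T i ⊗[R] A'), z ∈ L → t • z ∈ L := by
      rintro t _ ⟨w, rfl⟩
      refine ⟨t • w, ?_⟩
      induction w using TensorProduct.induction_on with
      | zero => simp
      | tmul a b => simp [TensorProduct.smul_tmul']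
      | add a b ha hb => simp [smul_add, ha, hb]
    have hpow : ∀ m : N i, y (m ^ n) = Algebra.TensorProduct.map (AlgHom.id (T i) (T i)) (SGA3b.powConv R A' n) (y m) := by
      intro m
      have h1 := DFunLike.congr_fun (powConv_comp (e.symm : MonoidAlgebra (T i) (N i) →ₐc[T i] T i ⊗[R] A') n)
        (MonoidAlgebra.single m 1)
      rw [← powConv_baseChange]
      refine (congrArg e.symm (powConv_single n m).symm).trans h1.symm
    have hmul : ∀ z w : T i ⊗[R] A', w ∈ L → Algebra.TensorProduct.map (AlgHom.id (T i) (T i)) (SGA3b.powConv R A' n) z * w ∈ L := by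
      rintro z _ ⟨w, rfl⟩
      induction z using TensorProduct.induction_on with
      | zero => simp
      | add a b ha hb => rw [map_add, add_mul]; exact add_mem ha hb
      | tmul t a =>
        induction w using TensorProduct.induction_on with
        | zero => simp
        | add w w' hw hw' => rw [map_add, mul_add]; exact add_mem hw hw'
        | tmul t' b =>
          rw [LinearMap.lTensor_tmul, Algebra.TensorProduct.map_tmul, AlgHom.id_apply,
            Algebra.TensorProduct.tmul_mul_tmul]
          exact ⟨(t * t') ⊗ₜ[R] ⟨_, Submodule.smul_mem (Submodule.span P (↑E : Set A')) ⟨_, a, rfl⟩ b.2⟩, rfl⟩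
    have hrep : ∀ q : N i ⧸ (powMonoidHom n : N i →* N i).range, y q.out ∈ L := fun q => by
      rw [hZ (y q.out)]
      exact Submodule.sum_mem _ fun c hc => ⟨c.1 ⊗ₜ[R] ⟨c.2, Submodule.subset_span (Finset.mem_biUnion.mpr
        ⟨q, Finset.mem_univ _, Finset.mem_image_of_mem _ hc⟩)⟩, rfl⟩
    have hall : ∀ m : N i, y m ∈ L := fun m => by
      obtain ⟨h', hh'⟩ := QuotientGroup.mk_out_eq_mul (powMonoidHom n : N i →* N i).range m
      obtain ⟨m', hm'⟩ := h'.2
      have : m = m'⁻¹ ^ n * (QuotientGroup.mk m : N i ⧸ (powMonoidHom n : N i →* N i).range).out := by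
        rw [hh', ← hm', powMonoidHom_apply, inv_pow, mul_comm m, inv_mul_cancel_left]
      rw [this]
      have hy : ∀ a b, y (a * b) = y a * y b := fun a b => by
        simp only [y, ← map_mul, MonoidAlgebra.single_mul_single, _root_.mul_one]
      rw [hy, hpow]
      exact hmul _ _ (hrep _)
    intro z
    rw [← e.symm_apply_apply z]
    induction e z using MonoidAlgebra.induction_linear with
    | zero => simp
    | add a b ha hb => rw [map_add]; exact add_mem ha hb
    | single m r =>
      rw [← _root_.mul_one r, ← MonoidAlgebra.smul_single', map_smul]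
      exact hLs r _ (hall m)
  choose E hE using step
  have := Fintype.ofFinite ι
  refine ⟨Finset.univ.biUnion E, ?_⟩
  have htop := eq_top_of_covers ((Submodule.span P (↑(Finset.univ.biUnion E) : Set A')).restrictScalars R) fun p => by
    obtain ⟨i, q, hq⟩ := hsurj p
    refine ⟨T i, inferInstance, inferInstance, ⟨q, hq⟩, hflat i, fun z => ?_⟩
    obtain ⟨w, rfl⟩ := hE i z
    have hle : (Submodule.span P (↑(E i) : Set A')).restrictScalars R ≤
        (Submodule.span P (↑(Finset.univ.biUnion E) : Set A')).restrictScalars R := fun x hx =>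
      Submodule.span_mono (Finset.coe_subset.mpr (Finset.subset_biUnion_of_mem E (Finset.mem_univ i))) hx
    exact ⟨(Submodule.inclusion hle).lTensor (T i) w, by
      rw [← LinearMap.comp_apply, ← LinearMap.lTensor_comp, Submodule.subtype_comp_inclusion]⟩
  exact (Submodule.restrictScalars_eq_top_iff R P A').mp htop

/-- The torsion of a commutative extension of groups of multiplicative type is finite. -/
theorem finite_torsion [Coalgebra.IsCocomm R A] [Algebra.FiniteType R A] (φ : A'' →ₐc[R] A) (ψ : A →ₐc[R] A')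
    (hψ : Function.Surjective ψ) (hff : (φ : A'' →+* A).FaithfullyFlat) (hker : IsKer φ ψ)
    (hft' : Algebra.FiniteType R A') (h' : SGA3b.IsMultType R A') (hft'' : Algebra.FiniteType R A'')
    (h'' : SGA3b.IsMultType R A'') {n : ℕ} (hn : 0 < n) : Module.Finite R (A ⧸ SGA3b.torsionIdeal R A n) := by
  letI := (φ : A'' →+* A).toAlgebra
  haveI : IsScalarTower R A'' A := .of_algebraMap_eq fun r => ((φ : A'' →ₐ[R] A).commutes r).symm
  haveI : Module.FaithfullyFlat A'' A := hff
  set I := SGA3b.torsionIdeal R A n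
  set I'' := SGA3b.torsionIdeal R A'' n
  let D := A ⧸ I
  let d : WithConv (A →ₐ[R] D) := toConv (Ideal.Quotient.mkₐ R I)
  let S := A ⊗[A''] D
  haveI : Algebra.FiniteType A'' D :=
    Algebra.FiniteType.of_restrictScalars_finiteType R A'' D
  let g₁ : WithConv (A →ₐ[R] S) := toConv ((Algebra.TensorProduct.includeLeft : A →ₐ[A''] S).restrictScalars R)
  let g₂ : WithConv (A →ₐ[R] S) := toConv (((Algebra.TensorProduct.includeRight : D →ₐ[A''] S).restrictScalars R).comp d.ofConv)
  have h12 : pull φ S g₁ = pull φ S g₂ := WithConv.ofConv_injective (AlgHom.ext fun c => by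
    show (algebraMap A'' A c) ⊗ₜ[A''] (1 : D) = (1 : A) ⊗ₜ[A''] (algebraMap A'' D c)
    rw [Algebra.algebraMap_eq_smul_one, Algebra.algebraMap_eq_smul_one, TensorProduct.smul_tmul])
  obtain ⟨a, ha⟩ := exists_lift hker (g₁⁻¹ * g₂) (by rw [map_mul, map_inv, h12, inv_mul_cancel])
  have hdn : d ^ n = 1 := by
    have hd : d ^ n = toConv (d.ofConv.comp (SGA3b.powConv R A n)) := by
      rw [show d = pointsMap d.ofConv (toConv (AlgHom.id R A)) from rfl, ← map_pow]
      rfl
    rw [hd]
    refine WithConv.ofConv_injective (AlgHom.ext fun x => ?_)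
    show Ideal.Quotient.mk I (SGA3b.powConv R A n x) = algebraMap R D (counit x)
    rw [IsScalarTower.algebraMap_apply R A D, Ideal.Quotient.algebraMap_eq, Ideal.Quotient.eq]
    have h := Ideal.mem_map_of_mem (SGA3b.powConv R A n) (show x - algebraMap R A (counit x) ∈
      RingHom.ker (Bialgebra.counitAlgHom R A) by simp [RingHom.mem_ker])
    rw [map_sub, AlgHom.commutes] at h
    exact h
  have hg2n : g₂ ^ n = 1 := by
    rw [show g₂ = pointsMap ((Algebra.TensorProduct.includeRight : D →ₐ[A''] S).restrictScalars R) d from rfl]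
    let M := pointsMap (C := A) ((Algebra.TensorProduct.includeRight : D →ₐ[A''] S).restrictScalars R)
    exact ((map_pow M d n).symm.trans (congrArg M hdn)).trans (map_one M)
  let L : Subalgebra R S := g₁.ofConv.range
  have han : ∀ b, (a ^ n).ofConv b ∈ L := fun b => by
    obtain ⟨x, rfl⟩ := hψ b
    have hn' : pull ψ S (a ^ n) = (g₁ ^ n)⁻¹ := by
      refine (map_pow (pull ψ S) a n).trans ?_
      rw [ha]
      letI : CommGroup (WithConv (A →ₐ[R] S)) :=
        { (pointsGroup : Group (WithConv (A →ₐ[R] S))) with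
          mul_comm := fun x y => @_root_.mul_comm _ (inferInstance : CommMonoid (WithConv (A →ₐ[R] S))).toCommSemigroup.toCommMagma x y }
      refine (_root_.mul_pow g₁⁻¹ g₂ n).trans ?_
      · exact ((congrArg (fun z => g₁⁻¹ ^ n * z) hg2n).trans (_root_.mul_one _)).trans (inv_pow g₁ n)
    rw [← pull_apply, hn']
    have h1 : (g₁ ^ n)⁻¹ = pointsMap g₁.ofConv ((toConv (AlgHom.id R A) ^ n)⁻¹) := by
      rw [map_inv, map_pow]
      rfl
    rw [h1]
    exact ⟨_, rfl⟩
  have hpowa : ∀ b, (a ^ n).ofConv b = a.ofConv (SGA3b.powConv R A' n b) := fun b => by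
    rw [show a = pointsMap a.ofConv (toConv (AlgHom.id R A')) from rfl]
    exact (congrArg (fun z => z.ofConv b) (map_pow (pointsMap a.ofConv) (toConv (AlgHom.id R A')) n).symm).trans rfl
  have := finite_powConv hft' h' hn
  have hint' : ∀ b : A', IsIntegral A (a.ofConv b) := by
    intro b
    obtain ⟨f, hmon, hf⟩ := Algebra.IsIntegral.isIntegral (R := (SGA3b.powConv R A' n).range) b
    have hL : ∀ c : (SGA3b.powConv R A' n).range, a.ofConv c ∈ (algebraMap A S).range := by
      rintro ⟨_, c, rfl⟩
      obtain ⟨x, hx⟩ := han c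
      rw [hpowa] at hx
      exact ⟨x, hx⟩
    let θ : (SGA3b.powConv R A' n).range →+* (algebraMap A S).range :=
      (a.ofConv.toRingHom.comp (SGA3b.powConv R A' n).range.val.toRingHom).codRestrict _ hL
    have h1 : IsIntegral (algebraMap A S).range (a.ofConv b) := by
      refine ⟨f.map θ, hmon.map θ, ?_⟩
      rw [Polynomial.eval₂_map]
      exact (Polynomial.hom_eval₂ f _ a.ofConv.toRingHom b).symm.trans ((congrArg _ hf).trans (map_zero _))
    letI : Algebra A (algebraMap A S).range := (algebraMap A S).rangeRestrict.toAlgebra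
    haveI : IsScalarTower A (algebraMap A S).range S := .of_algebraMap_eq fun _ => rfl
    haveI : Algebra.IsIntegral A (algebraMap A S).range := ⟨fun ⟨_, c, rfl⟩ => isIntegral_algebraMap (x := c)⟩
    exact isIntegral_trans (R := A) (A := (algebraMap A S).range) _ h1
  have hint : Algebra.IsIntegral A S := by
    refine ⟨fun z => ?_⟩
    induction z using TensorProduct.induction_on with
    | zero => exact isIntegral_zero
    | add y z hy hz => exact hy.add hz
    | tmul x w =>
      obtain ⟨w, rfl⟩ := Ideal.Quotient.mk_surjective w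
      rw [show x ⊗ₜ[A''] Ideal.Quotient.mk I w = algebraMap A S x * g₂.ofConv w from (show _ =
        (x ⊗ₜ[A''] (1 : D)) * ((1 : A) ⊗ₜ[A''] Ideal.Quotient.mk I w) by
          rw [Algebra.TensorProduct.tmul_mul_tmul, _root_.mul_one, _root_.one_mul])]
      refine isIntegral_algebraMap.mul ?_
      have h2 : g₂ = g₁ * pull ψ S a := by rw [ha, mul_inv_cancel_left]
      rw [h2]
      simp only [AlgHom.convMul_def, WithConv.ofConv_toConv, AlgHom.comp_apply, Bialgebra.comulAlgHom_apply]
      induction comul (R := R) w using TensorProduct.induction_on with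
      | zero => simp [isIntegral_zero]
      | add y z hy hz => rw [map_add, map_add]; exact hy.add hz
      | tmul w₁ w₂ => simp only [Algebra.TensorProduct.map_tmul, Algebra.TensorProduct.lmul'_apply_tmul]; exact (isIntegral_algebraMap (x := w₁)).mul (hint' _)
  have : Module.Finite A S := Algebra.IsIntegral.finite
  have hfin : Module.Finite A'' D := Module.Finite.of_finite_tensorProduct_of_faithfullyFlat A
  have := finite_quotient_torsion hft'' h'' hn
  have hI : ∀ x ∈ I'', algebraMap A'' D x = 0 := by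
    intro x hx
    refine (Ideal.map_le_iff_le_comap.mpr fun c hc => ?_ : I'' ≤ RingHom.ker (algebraMap A'' D)) hx
    show Ideal.Quotient.mk I (φ (SGA3b.powConv R A'' n c)) = 0
    rw [Ideal.Quotient.eq_zero_iff_mem, show φ (SGA3b.powConv R A'' n c) = SGA3b.powConv R A n (φ c) from
      (DFunLike.congr_fun (powConv_comp φ n) c).symm]
    refine Ideal.mem_map_of_mem _ ?_
    simpa [RingHom.mem_ker] using hc
  let q : A'' ⧸ I'' →ₐ[R] D := Ideal.Quotient.liftₐ I'' (IsScalarTower.toAlgHom R A'' D) hI
  letI := q.toRingHom.toAlgebra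
  haveI : IsScalarTower R (A'' ⧸ I'') D := .of_algebraMap_eq fun r => (q.commutes r).symm
  haveI : IsScalarTower A'' (A'' ⧸ I'') D := .of_algebraMap_eq fun r => rfl
  haveI : Module.Finite (A'' ⧸ I'') D := Module.Finite.of_restrictScalars_finite A'' _ _
  exact Module.Finite.trans (A'' ⧸ I'') D

end Groth.Agent.IsoTriv.ExtensionAlg
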