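import Groth.Agent.IsoTriv.ExtensionComm
import Groth.Agent.IsoTriv.MultTypeComm

/-!
# Centrality and commutativity for extensions of groups with connected fibres by groups of multiplicative type

For an extension `1 → H' → H → K → 1` and a homomorphism `u : M ⟶ H` the set of points of `H` commuting with `u` is
open, closed and saturated for `H → K`, hence is everything over the connected fibres of `K`.
-/

set_option linter.style.haveILetI false
set_option autoImplicit false

universe u

open CategoryTheory CategoryTheory.Limits MonoidalCategory CartesianMonoidalCategory MonObj GrpObj AlgebraicGeometry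

noncomputable section

namespace Groth.Agent.IsoTriv.ExtensionConn

open SGA3cLib

variable {S : Scheme.{u}} {M H' H K : Over S} [GrpObj M] [GrpObj H'] [GrpObj H] [GrpObj K]

/-- The points of `H` above `ω` commute with `v`. -/
def CommAt (v : M ⟶ H) {Z : Scheme.{u}} (ω : Z ⟶ H.left) : Prop :=
  ∀ (W : Over S) (j : W ⟶ Over.mk (ω ≫ H.hom)) (e : W ⟶ M),
    (j ≫ Over.homMk ω rfl) * (e ≫ v) = (e ≫ v) * (j ≫ Over.homMk ω rfl)

omit [GrpObj M] in
theorem commAt_iff (v : M ⟶ H) {Z : Scheme.{u}} (ω : Z ⟶ H.left) :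
    CommAt v ω ↔ ∀ (X' : Over H.left) (_ : X' ⟶ Over.mk ω) (e : (Over.map H.hom).obj X' ⟶ M),
      (Over.homMk X'.hom rfl : (Over.map H.hom).obj X' ⟶ H) * (e ≫ v) = (e ≫ v) * Over.homMk X'.hom rfl := by
  constructor
  · intro h X' q e
    let j : (Over.map H.hom).obj X' ⟶ Over.mk (ω ≫ H.hom) :=
      Over.homMk q.left (by show q.left ≫ ω ≫ H.hom = X'.hom ≫ H.hom; rw [← Category.assoc]; exact congrArg (· ≫ H.hom) (Over.w q))
    have hj : j ≫ Over.homMk ω rfl = (Over.homMk X'.hom rfl : (Over.map H.hom).obj X' ⟶ H) :=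
      Over.OverMorphism.ext (Over.w q)
    rw [← hj]
    exact h _ j e
  · intro h W j e
    let X' : Over H.left := Over.mk (j.left ≫ ω)
    let ι₀ : W ⟶ (Over.map H.hom).obj X' := Over.homMk (𝟙 _) (by
      show 𝟙 _ ≫ (j.left ≫ ω) ≫ H.hom = W.hom
      rw [Category.id_comp, Category.assoc]; exact Over.w j)
    let j₀ : (Over.map H.hom).obj X' ⟶ W := Over.homMk (𝟙 _) (by
      show 𝟙 _ ≫ W.hom = (j.left ≫ ω) ≫ H.hom
      rw [Category.id_comp, Category.assoc]; exact (Over.w j).symm)
    have h1 := congrArg (fun z => ι₀ ≫ z) (h X' (Over.homMk j.left rfl) (j₀ ≫ e))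
    have hid : ι₀ ≫ j₀ = 𝟙 W := Over.OverMorphism.ext (Category.id_comp _)
    have ht : ι₀ ≫ (Over.homMk X'.hom rfl : (Over.map H.hom).obj X' ⟶ H) = j ≫ Over.homMk ω rfl :=
      Over.OverMorphism.ext (Category.id_comp _)
    simpa only [MonObj.comp_mul, ← Category.assoc, hid, Category.id_comp, ht] using h1

variable (i : H' ⟶ H) [IsMonHom i] (p : H ⟶ K) [IsMonHom p]

/-- The engine: the locus of commutation with `v` is everything. -/
theorem commute_all (v : M ⟶ H) [Surjective p.left] [Flat p.left] [QuasiCompact p.left]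
    (hker : AlgGrp.IsKernel i p) (hcen : ∀ (X : Over S) (n : X ⟶ H') (e : X ⟶ M), (n ≫ i) * (e ≫ v) = (e ≫ v) * (n ≫ i))
    (hfib : ∀ s : S, _root_.IsConnected (K.hom.base ⁻¹' {s}) ∨
      ∀ (X : Over (Spec (S.residueField s))) (a b : X ⟶ Red.bc (S.fromSpecResidueField s) H), a * b = b * a)
    {A B : Over H.left} [GrpObj A] [GrpObj B] (ρ : A ⟶ B) [IsMonHom ρ] (hA : SGA3x.IsMultTypeFT A)
    [IsSeparated B.hom] [LocallyOfFiniteType B.hom]
    (hρ : ∀ {Z : Scheme.{u}} (ω : Z ⟶ H.left), TrivLocus.Triv ρ ω ↔ CommAt v ω)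
    (X : Over S) (a : X ⟶ H) (b : X ⟶ M) : a * (b ≫ v) = (b ≫ v) * a := by
  obtain ⟨U, hUc, hU, hUt⟩ := TrivLocus.exists_clopen ρ (Or.inr ‹_›) hA
  have hpt : ∀ (L : Type u) [Field L] (ω : Spec (CommRingCat.of L) ⟶ H.left) (t : H.left),
      (∀ x, ω.base x = t) → (t ∈ U ↔ CommAt v ω) := fun L _ ω t ht => by
    rw [hU, ← hρ, TrivLocus.triv_field ρ ω (default : PrimeSpectrum L), ht]
  have hunit : ∀ s : S, η[H].left.base s ∈ U := fun s => by
    rw [hpt _ (S.fromSpecResidueField s ≫ η[H].left) _ (fun x => congrArg η[H].left.base (Scheme.fromSpecResidueField_apply _ _))]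
    intro W j e
    have ht : j ≫ (Over.homMk (S.fromSpecResidueField s ≫ η[H].left) rfl :
        Over.mk ((S.fromSpecResidueField s ≫ η[H].left) ≫ H.hom) ⟶ H) = 1 := by
      rw [← MonObj.comp_one j]
      congr 1
      refine Over.OverMorphism.ext ?_
      rw [Hom.one_def]
      show S.fromSpecResidueField s ≫ η[H].left = ((S.fromSpecResidueField s ≫ η[H].left) ≫ H.hom) ≫ η[H].left
      rw [Category.assoc (S.fromSpecResidueField s) η[H].left H.hom, show η[H].left ≫ H.hom = 𝟙 _ from Over.w η[H]]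
      exact congrArg (· ≫ η[H].left) (Category.comp_id _).symm
    exact ((congrArg (· * (e ≫ v)) ht).trans ((_root_.one_mul _).trans (_root_.mul_one _).symm)).trans
      (congrArg ((e ≫ v) * ·) ht.symm)
  have hsat : ∀ x y : H.left, p.left.base x = p.left.base y → x ∈ U → y ∈ U := by
    intro x y hxy hx
    obtain ⟨z, hzx, hzy⟩ := Scheme.Pullback.exists_preimage_pullback (f := p.left) (g := p.left) x y hxy
    let P := pullback p.left p.left
    let L : Type u := P.residueField z
    let ωa : Spec (CommRingCat.of L) ⟶ H.left := P.fromSpecResidueField z ≫ pullback.fst p.left p.left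
    let ωb : Spec (CommRingCat.of L) ⟶ H.left := P.fromSpecResidueField z ≫ pullback.snd p.left p.left
    have hωa : ∀ q, ωa.base q = x := fun q => by
      show (pullback.fst p.left p.left).base ((P.fromSpecResidueField z).base q) = x
      rw [Scheme.fromSpecResidueField_apply, hzx]
    have hωb : ∀ q, ωb.base q = y := fun q => by
      show (pullback.snd p.left p.left).base ((P.fromSpecResidueField z).base q) = y
      rw [Scheme.fromSpecResidueField_apply, hzy]
    rw [hpt L ωb y hωb]
    rw [hpt L ωa x hωa] at hx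
    intro W j e
    have hp : ωa ≫ p.left = ωb ≫ p.left := by
      simp only [ωa, ωb, Category.assoc, pullback.condition]
    have hS : ωa ≫ H.hom = ωb ≫ H.hom := by
      rw [← Over.w p, reassoc_of% hp]
    let a₀ : Over.mk (ωb ≫ H.hom) ⟶ H := Over.homMk ωa hS
    let b₀ : Over.mk (ωb ≫ H.hom) ⟶ H := Over.homMk ωb rfl
    obtain ⟨n, hn⟩ := ExtensionComm.exists_lift_kernel i p hker (a₀⁻¹ * b₀) (by
      rw [MonObj.mul_comp, GrpObj.inv_comp, show a₀ ≫ p = b₀ ≫ p from Over.OverMorphism.ext hp, inv_mul_cancel])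
    let j' : W ⟶ Over.mk (ωa ≫ H.hom) := Over.homMk j.left ((congrArg (j.left ≫ ·) hS).trans (Over.w j))
    have ha : j ≫ a₀ = j' ≫ Over.homMk ωa rfl := Over.OverMorphism.ext rfl
    have h1 := hx W j' e
    rw [← ha] at h1
    have hb : j ≫ b₀ = (j ≫ a₀) * ((j ≫ n) ≫ i) := by
      have hji : (j ≫ n) ≫ i = j ≫ (a₀⁻¹ * b₀) := (Category.assoc _ _ _).trans (congrArg (j ≫ ·) hn)
      refine Eq.symm ((congrArg ((j ≫ a₀) * ·) hji).trans ?_)
      exact (MonObj.comp_mul j _ _).symm.trans (congrArg (j ≫ ·) (mul_inv_cancel_left a₀ b₀))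
    show (j ≫ b₀) * (e ≫ v) = (e ≫ v) * (j ≫ b₀)
    rw [hb, _root_.mul_assoc, hcen _ (j ≫ n) e, ← _root_.mul_assoc, h1, _root_.mul_assoc]
  have htop : ∀ t : H.left, t ∈ U := fun t => by
    rcases hfib (H.hom.base t) with hs | hs
    · let V : Set K.left := p.left.base '' (U : Set H.left)
      have hpre : p.left.base ⁻¹' V = (U : Set H.left) := by
        ext y
        exact ⟨fun ⟨x, hx, hxy⟩ => hsat x y hxy hx, fun hy => ⟨y, hy, rfl⟩⟩
      have hq : Topology.IsQuotientMap p.left.base := Flat.isQuotientMap_of_surjective p.left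
      have hV : IsClopen V := ⟨by rw [← hq.isClosed_preimage, hpre]; exact hUc, by rw [← hq.isOpen_preimage, hpre]; exact U.2⟩
      have hmem : p.left.base t ∈ K.hom.base ⁻¹' {H.hom.base t} := by
        show K.hom.base (p.left.base t) = H.hom.base t
        rw [← Over.w p]; rfl
      have hne : ((K.hom.base ⁻¹' {H.hom.base t}) ∩ V).Nonempty := by
        refine ⟨p.left.base (η[H].left.base (H.hom.base t)), ?_, ⟨_, hunit _, rfl⟩⟩
        show (p.left ≫ K.hom).base (η[H].left.base (H.hom.base t)) = H.hom.base t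
        rw [Over.w p]
        show (η[H].left ≫ H.hom).base (H.hom.base t) = H.hom.base t
        rw [show η[H].left ≫ H.hom = 𝟙 _ from Over.w η[H]]
        rfl
      obtain ⟨x, hx, hxt⟩ := hs.isPreconnected.subset_isClopen hV hne hmem
      exact hsat x t hxt hx
    · rw [hpt _ (H.left.fromSpecResidueField t) t (fun x => Scheme.fromSpecResidueField_apply _ _)]
      intro W j e
      let s := H.hom.base t
      have h := CentralFib.commute_of_bc (𝟙 H) (S.fromSpecResidueField s) (fun X g h => by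
        rw [CategoryTheory.Functor.map_id, Category.comp_id]; exact hs X g h)
        (Spec.map (H.hom.residueFieldMap t)) (Scheme.Hom.SpecMap_residueFieldMap_fromSpecResidueField H.hom t)
        W j (j ≫ Over.homMk (H.left.fromSpecResidueField t) rfl) (e ≫ v)
      rwa [Category.comp_id] at h
  let k : H.left ⟶ (U : Scheme.{u}) := IsOpenImmersion.lift U.ι (𝟙 H.left) (by
    rintro x -; rw [Scheme.Opens.range_ι]; exact htop x)
  have h : CommAt v (𝟙 H.left) := (hρ _).mp (hUt.of_comp ρ k (IsOpenImmersion.lift_fac _ _ _))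
  have h1 := h X (Over.homMk a.left ((congrArg (a.left ≫ ·) (Category.id_comp H.hom)).trans (Over.w a))) b
  have ha : (Over.homMk a.left ((congrArg (a.left ≫ ·) (Category.id_comp H.hom)).trans (Over.w a)) :
      X ⟶ Over.mk (𝟙 H.left ≫ H.hom)) ≫ Over.homMk (𝟙 H.left) rfl = a := Over.OverMorphism.ext (Category.comp_id _)
  rwa [ha] at h1

variable [Surjective p.left] [Flat p.left] [QuasiCompact p.left]

/-- A kernel of multiplicative type is central if the fibres of the quotient are connected or those of the group are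
commutative. -/
theorem central (hker : AlgGrp.IsKernel i p) (hH' : SGA3x.IsMultTypeFT H')
    (hfib : ∀ s : S, _root_.IsConnected (K.hom.base ⁻¹' {s}) ∨
      ∀ (X : Over (Spec (S.residueField s))) (a b : X ⟶ Red.bc (S.fromSpecResidueField s) H), a * b = b * a)
    (X : Over S) (g : X ⟶ H) (h : X ⟶ H') : g * (h ≫ i) = (h ≫ i) * g := by
  have hH'c := fun (X : Over S) (a b : X ⟶ H') => mul_comm_of_multTypeFT hH' a b
  let f := H.hom
  let F := Over.pullback f
  let taut : ∀ X' : Over H.left, (Over.map f).obj X' ⟶ H := fun X' => Over.homMk X'.hom rfl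
  let pr : (Over.map f).obj (Red.bc f H') ⟶ H' := (Over.mapPullbackAdj f).counit.app H'
  let C : Red.bc f H' ⟶ Red.bc f H :=
    BCPoints.pt f H _ (taut _ * (pr ≫ i) * (taut _)⁻¹ * (pr ≫ i)⁻¹)
  have hC : ∀ (X' : Over H.left) (e : (Over.map f).obj X' ⟶ H'),
      BCPoints.pt f H' X' e ≫ C = BCPoints.pt f H X' (taut X' * (e ≫ i) * (taut X')⁻¹ * (e ≫ i)⁻¹) := by
    intro X' e
    rw [← BCPoints.pt_map_comp]
    congr 1
    have e1 : (Over.map f).map (BCPoints.pt f H' X' e) ≫ taut (Red.bc f H') = taut X' :=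
      Over.OverMorphism.ext (Over.w (BCPoints.pt f H' X' e))
    have e2 : (Over.map f).map (BCPoints.pt f H' X' e) ≫ pr = e :=
      ((Over.mapPullbackAdj f).homEquiv_counit _ _ _).symm.trans
        (((Over.mapPullbackAdj f).homEquiv X' H').symm_apply_apply e)
    simp only [MonObj.comp_mul, GrpObj.comp_inv, e1, reassoc_of% e2]
  have hone : ∀ X' : Over H.left, BCPoints.pt f H X' 1 = 1 := fun X' =>
    map_one (MonoidHom.mk' (BCPoints.pt f H X') (BCPoints.pt_mul f))
  haveI : Mono (F.map i) := ExtensionComm.mono_of_isKernel _ _ (ExtensionComm.isKernel_bc i p hker f)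
  have hip := ExtensionComm.comp_isKernel i p hker
  obtain ⟨c, hc⟩ : ∃ c : Red.bc f H' ⟶ Red.bc f H', c ≫ F.map i = C :=
    ExtensionComm.exists_lift_kernel _ _ (ExtensionComm.isKernel_bc i p hker f) C (by
      show BCPoints.pt f H _ _ ≫ F.map p = 1
      rw [← BCPoints.pt_comp]
      simp only [MonObj.mul_comp, GrpObj.inv_comp, Category.assoc, hip, MonObj.comp_one, _root_.mul_one, inv_one,
        mul_inv_cancel]
      exact map_one (MonoidHom.mk' (BCPoints.pt f K _) (BCPoints.pt_mul f)))
  haveI : IsMonHom c := BCPoints.isMonHom_of_mul _ fun X' x y => by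
    obtain ⟨e, rfl⟩ := (BCPoints.pt f H' X').surjective x
    obtain ⟨e', rfl⟩ := (BCPoints.pt f H' X').surjective y
    rw [← cancel_mono (F.map i)]
    conv_rhs => rw [MonObj.mul_comp]
    simp only [Category.assoc, hc, ← BCPoints.pt_mul, hC]
    refine (congrArg (BCPoints.pt f H X') ?_).trans (BCPoints.pt_mul f _ _)
    obtain ⟨k, hk⟩ := ExtensionComm.exists_lift_kernel i p hker (taut X' * (e' ≫ i) * (taut X')⁻¹ * (e' ≫ i)⁻¹) (by
      simp only [MonObj.mul_comp, GrpObj.inv_comp, Category.assoc, hip, MonObj.comp_one, _root_.mul_one, inv_one,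
        mul_inv_cancel])
    have h1 : (e ≫ i) * (k ≫ i) = (k ≫ i) * (e ≫ i) := by rw [← MonObj.mul_comp, hH'c, MonObj.mul_comp]
    rw [hk] at h1
    rw [MonObj.mul_comp]
    calc taut X' * ((e ≫ i) * (e' ≫ i)) * (taut X')⁻¹ * ((e ≫ i) * (e' ≫ i))⁻¹
        = taut X' * (e ≫ i) * (taut X')⁻¹ * (e ≫ i)⁻¹ *
            ((e ≫ i) * (taut X' * (e' ≫ i) * (taut X')⁻¹ * (e' ≫ i)⁻¹)) * (e ≫ i)⁻¹ := by group
      _ = _ := by rw [h1]; group
  haveI : IsAffineHom H'.hom := SchemeBridge.isAffineHom_of_multTypeFT H' hH'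
  haveI : LocallyOfFinitePresentation H'.hom := TrivLocus.locallyOfFinitePresentation_of_multTypeFT H' hH'
  haveI : IsAffineHom (Red.bc f H').hom := MorphismProperty.pullback_snd (P := @IsAffineHom) _ _ ‹_›
  haveI : LocallyOfFiniteType (Red.bc f H').hom := MorphismProperty.pullback_snd (P := @LocallyOfFiniteType) _ _ inferInstance
  refine commute_all i p i hker (fun X n e => by rw [← MonObj.mul_comp, hH'c, MonObj.mul_comp]) hfib c
    (CentralDescent.isMultTypeFT_bc f H' hH') (fun {Z} ω => ?_) X g h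
  rw [commAt_iff]
  constructor
  · intro ht X' q e
    have h1 := congrArg (fun z => z ≫ F.map i) (ht X' q (BCPoints.pt f H' X' e))
    simp only [Category.assoc, hc, hC, MonObj.one_comp, ← hone] at h1
    exact mul_inv_eq_iff_eq_mul.mp (mul_inv_eq_one.mp ((BCPoints.pt f H X').injective h1))
  · intro ht X' q x
    obtain ⟨e, rfl⟩ := (BCPoints.pt f H' X').surjective x
    rw [← cancel_mono (F.map i), Category.assoc, hc, hC, ht X' q e, mul_inv_cancel_right, mul_inv_cancel, hone,
      MonObj.one_comp]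

/-- An extension of commutative groups of multiplicative type is commutative if the quotient has connected fibres or
the fibres of the group are commutative. -/
theorem comm (hker : AlgGrp.IsKernel i p) (hH' : SGA3x.IsMultTypeFT H') (hK' : SGA3x.IsMultTypeFT K)
    (hfib : ∀ s : S, _root_.IsConnected (K.hom.base ⁻¹' {s}) ∨
      ∀ (X : Over (Spec (S.residueField s))) (a b : X ⟶ Red.bc (S.fromSpecResidueField s) H), a * b = b * a)
    (X : Over S) (a b : X ⟶ H) : a * b = b * a := by
  have hcen := central i p hker hH' hfib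
  have hK := fun (X : Over S) (a b : X ⟶ K) => mul_comm_of_multTypeFT hK' a b
  haveI : Mono i := ExtensionComm.mono_of_isKernel i p hker
  let f := H.hom
  let F := Over.pullback f
  let taut : ∀ X' : Over H.left, (Over.map f).obj X' ⟶ H := fun X' => Over.homMk X'.hom rfl
  let pr : (Over.map f).obj (Red.bc f H) ⟶ H := (Over.mapPullbackAdj f).counit.app H
  let C : Red.bc f H ⟶ Red.bc f H := BCPoints.pt f H _ (taut _ * pr * (taut _)⁻¹ * pr⁻¹)
  have hC : ∀ (X' : Over H.left) (e : (Over.map f).obj X' ⟶ H),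
      BCPoints.pt f H X' e ≫ C = BCPoints.pt f H X' (taut X' * e * (taut X')⁻¹ * e⁻¹) := by
    intro X' e
    rw [← BCPoints.pt_map_comp]
    congr 1
    have e1 : (Over.map f).map (BCPoints.pt f H X' e) ≫ taut (Red.bc f H) = taut X' :=
      Over.OverMorphism.ext (Over.w (BCPoints.pt f H X' e))
    have e2 : (Over.map f).map (BCPoints.pt f H X' e) ≫ pr = e :=
      ((Over.mapPullbackAdj f).homEquiv_counit _ _ _).symm.trans
        (((Over.mapPullbackAdj f).homEquiv X' H).symm_apply_apply e)
    simp only [MonObj.comp_mul, GrpObj.comp_inv, e1, e2]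
  have hone : ∀ X' : Over H.left, BCPoints.pt f H X' 1 = 1 := fun X' =>
    map_one (MonoidHom.mk' (BCPoints.pt f H X') (BCPoints.pt_mul f))
  have hkill : ∀ {X : Over S} (x y : X ⟶ H), (x * y * x⁻¹ * y⁻¹) ≫ p = 1 := fun x y => by
    simp only [MonObj.mul_comp, GrpObj.inv_comp]
    rw [hK _ (x ≫ p), mul_inv_cancel_right, mul_inv_cancel]
  haveI : Mono (F.map i) := ExtensionComm.mono_of_isKernel _ _ (ExtensionComm.isKernel_bc i p hker f)
  obtain ⟨c, hc⟩ : ∃ c : Red.bc f H ⟶ Red.bc f H', c ≫ F.map i = C :=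
    ExtensionComm.exists_lift_kernel _ _ (ExtensionComm.isKernel_bc i p hker f) C (by
      show BCPoints.pt f H _ _ ≫ F.map p = 1
      rw [← BCPoints.pt_comp, hkill]
      exact map_one (MonoidHom.mk' (BCPoints.pt f K _) (BCPoints.pt_mul f)))
  haveI : IsMonHom c := BCPoints.isMonHom_of_mul _ fun X' x y => by
    obtain ⟨e, rfl⟩ := (BCPoints.pt f H X').surjective x
    obtain ⟨e', rfl⟩ := (BCPoints.pt f H X').surjective y
    rw [← cancel_mono (F.map i)]
    conv_rhs => rw [MonObj.mul_comp]
    simp only [Category.assoc, hc, ← BCPoints.pt_mul, hC]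
    refine (congrArg (BCPoints.pt f H X') ?_).trans (BCPoints.pt_mul f _ _)
    obtain ⟨k, hk⟩ := ExtensionComm.exists_lift_kernel i p hker _ (hkill (taut X') e')
    have h1 : e * (taut X' * e' * (taut X')⁻¹ * e'⁻¹) = (taut X' * e' * (taut X')⁻¹ * e'⁻¹) * e := by
      rw [← hk]; exact hcen _ e k
    calc taut X' * (e * e') * (taut X')⁻¹ * (e * e')⁻¹
        = taut X' * e * (taut X')⁻¹ * e⁻¹ * (e * (taut X' * e' * (taut X')⁻¹ * e'⁻¹)) * e⁻¹ := by group
      _ = _ := by rw [h1]; group
  have hci : F.map i ≫ c = 1 := by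
    rw [← cancel_mono (F.map i), Category.assoc, hc, MonObj.one_comp]
    obtain ⟨n, hn⟩ := (BCPoints.pt f H' (Red.bc f H')).surjective (𝟙 _)
    have h : F.map i = BCPoints.pt f H (Red.bc f H') (n ≫ i) := by
      rw [BCPoints.pt_comp, hn]; exact (Category.id_comp _).symm
    rw [h, hC, hcen _ (taut _) n, mul_inv_cancel_right, mul_inv_cancel, hone]
  obtain ⟨_, _, _⟩ := ExtensionComm.bc_props p f
  obtain ⟨ρ, ⟨hρm, hρ⟩, -⟩ := AbVarLib.existsUnique_lift_of_kernel
    (F.map p : Red.bc f H ⟶ Red.bc f K) (F.map i) (ExtensionComm.isKernel_bc i p hker f) c hci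
  haveI := hρm
  haveI : IsAffineHom H'.hom := SchemeBridge.isAffineHom_of_multTypeFT H' hH'
  haveI : LocallyOfFinitePresentation H'.hom := TrivLocus.locallyOfFinitePresentation_of_multTypeFT H' hH'
  haveI : IsAffineHom (Red.bc f H').hom := MorphismProperty.pullback_snd (P := @IsAffineHom) _ _ ‹_›
  haveI : LocallyOfFiniteType (Red.bc f H').hom := MorphismProperty.pullback_snd (P := @LocallyOfFiniteType) _ _ inferInstance
  have key := commute_all i p (𝟙 H) hker (fun X n e => by rw [Category.comp_id]; exact (hcen X e n).symm) hfib ρ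
    (CentralDescent.isMultTypeFT_bc f K hK') (fun {Z} ω => ?_) X a b
  · rwa [Category.comp_id] at key
  rw [commAt_iff]
  simp only [Category.comp_id]
  constructor
  · intro ht X' q e
    have h0 := ht X' q (BCPoints.pt f H X' e ≫ F.map p)
    rw [Category.assoc, hρ] at h0
    have h1 := congrArg (fun z => z ≫ F.map i) h0
    simp only [Category.assoc, hc, hC, MonObj.one_comp, ← hone] at h1
    exact mul_inv_eq_iff_eq_mul.mp (mul_inv_eq_one.mp ((BCPoints.pt f H X').injective h1))
  · intro ht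
    have h1 : TrivLocus.Triv c ω := fun X' q x => by
      obtain ⟨e, rfl⟩ := (BCPoints.pt f H X').surjective x
      rw [← cancel_mono (F.map i), Category.assoc, hc, hC, ht X' q e, mul_inv_cancel_right, mul_inv_cancel, hone,
        MonObj.one_comp]
    rw [TrivLocus.triv_iff_map] at h1 ⊢
    obtain ⟨_, _, _⟩ := ExtensionComm.bc_props (F.map p : Red.bc f H ⟶ Red.bc f K) ω
    haveI : Epi ((Over.pullback ω).map (F.map p : Red.bc f H ⟶ Red.bc f K)) := Over.epi_of_epi_left _
    rw [← cancel_epi ((Over.pullback ω).map (F.map p : Red.bc f H ⟶ Red.bc f K)), ← Functor.map_comp, hρ, h1,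
      MonObj.comp_one]

end Groth.Agent.IsoTriv.ExtensionConn
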