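import Groth.Agent.IsoTriv.EtaleLocal
import Groth.Agent.IsoTriv.TypeLocus
import Mathlib.Algebra.MonoidAlgebra.NoZeroDivisors
import Mathlib.Algebra.Group.UniqueProds.Basic

/-! Fibrewise criteria for multiplicative type and tori. -/

universe u

open TensorProduct

namespace Groth.Agent.IsoTriv

open SGA3bLib IsLocalRing

variable {R : Type u} [CommRing R] {A : Type u} [CommRing A] [HopfAlgebra R A]

theorem isMultType_closed_of_fibres
    (hfib : ∀ (p : Ideal R) [p.IsPrime], SGA3b.IsMultType p.ResidueField (p.ResidueField ⊗[R] A))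
    (H : Type u) [CommRing H] [IsLocalRing H] [Algebra R H] :
    SGA3b.IsMultType (ResidueField H) (ResidueField H ⊗[H] (H ⊗[R] A)) := by
  let p := (maximalIdeal H).comap (algebraMap R H)
  let f : p.ResidueField →+* ResidueField H :=
    Ideal.ResidueField.lift p (algebraMap R (ResidueField H))
      (fun a ha => by
        rw [RingHom.mem_ker, IsScalarTower.algebraMap_apply R H (ResidueField H)]
        exact (IsLocalRing.residue_eq_zero_iff _).mpr ha)
      (fun a ha => by
        show IsUnit (algebraMap R (ResidueField H) a)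
        rw [IsScalarTower.algebraMap_apply R H (ResidueField H)]
        exact (IsLocalRing.notMem_maximalIdeal.mp ha).map _)
  let : Algebra p.ResidueField (ResidueField H) := f.toAlgebra
  have : IsScalarTower R p.ResidueField (ResidueField H) := .of_algebraMap_eq fun r => by
    show _ = f _
    simp [f]
  let e : ResidueField H ⊗[H] (H ⊗[R] A) ≃ₐc[ResidueField H] ResidueField H ⊗[p.ResidueField] (p.ResidueField ⊗[R] A) :=
    (cancelBC (R := R) H (ResidueField H) A).trans (cancelBC (R := R) p.ResidueField (ResidueField H) A).symm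
  obtain ⟨R', _, _, hff, N, _, ⟨e'⟩⟩ :=
    isMultTypeConst_bc (isMultTypeConst_of_isLocalRing (hfib p)) (ResidueField H)
  exact isMultType_of_const ⟨R', inferInstance, inferInstance, hff, N, inferInstance, ⟨(bcEquiv R' e).trans e'⟩⟩

variable [Module.Flat R A]

theorem flat_atPrime_of_flat (H : Type u) [CommRing H] [Algebra R H] (q : Ideal (H ⊗[R] A)) [q.IsPrime] :
    Module.Flat H (Localization.AtPrime q) :=
  have : Module.Flat (H ⊗[R] A) (Localization.AtPrime q) := IsLocalization.flat _ q.primeCompl
  Module.Flat.trans H (H ⊗[R] A) _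

/-- Flat with connected fibres of multiplicative type gives multiplicative type. -/
theorem isMultType_of_fibres_connected (hfp : Algebra.FinitePresentation R A)
    (hfib : ∀ (p : Ideal R) [p.IsPrime], SGA3b.IsMultType p.ResidueField (p.ResidueField ⊗[R] A))
    (hconn : ∀ (p : Ideal R) [p.IsPrime], ConnectedSpace (PrimeSpectrum (p.ResidueField ⊗[R] A))) :
    SGA3b.IsMultType R A := by
  have := hfp
  exact isMultType_of_strict hfp fun H _ _ _ _ => exists_iso_of_connected (C := H ⊗[R] A)
    (Algebra.FinitePresentation.baseChange H) (fun q _ _ => flat_atPrime_of_flat H q)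
    (isMultType_closed_of_fibres hfib H) (fun q _ => connectedSpace_fibre_bc hconn H q)

/-- Flat commutative with fibres of multiplicative type and finite torsion gives multiplicative type. -/
theorem isMultType_of_fibres_torsion [Coalgebra.IsCocomm R A] (hfp : Algebra.FinitePresentation R A)
    (hfib : ∀ (p : Ideal R) [p.IsPrime], SGA3b.IsMultType p.ResidueField (p.ResidueField ⊗[R] A))
    (hfin : ∀ n : ℕ, 0 < n → Module.Finite R (A ⧸ SGA3b.torsionIdeal R A n)) :
    SGA3b.IsMultType R A := by
  have := hfp
  exact isMultType_of_strict hfp fun H _ _ _ _ => exists_iso_of_torsion (C := H ⊗[R] A)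
    (Algebra.FinitePresentation.baseChange H) (fun q _ _ => flat_atPrime_of_flat H q)
    (isMultType_closed_of_fibres hfib H) (fun n hn => by
      have := hfin n hn
      rw [torsionIdeal_baseChange]
      exact Module.Finite.equiv
        (Algebra.TensorProduct.tensorQuotientEquiv (R := R) H A H (SGA3b.torsionIdeal R A n)).toLinearEquiv)

omit [Module.Flat R A] in
theorem exists_torus_field {k : Type u} [Field k] {H : Type u} [CommRing H] [HopfAlgebra k H]
    (h : SGA3b.IsTorus k H) :
    ∃ (L : Type u) (_ : Field L) (_ : Algebra k L) (n : ℕ),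
      Nonempty (L ⊗[k] H ≃ₐc[L] MonoidAlgebra L (ULift.{u} (Multiplicative (Fin n → ℤ)))) := by
  obtain ⟨s, hs, hloc⟩ := h
  obtain ⟨f, hf, hf0⟩ : ∃ f ∈ s, f ≠ 0 := by
    by_contra! hne
    have : Ideal.span s ≤ ⊥ := Ideal.span_le.mpr fun x hx => hne x hx
    exact bot_ne_top (top_le_iff.mp (hs ▸ this))
  obtain ⟨R', _, _, hff, n, ⟨e⟩⟩ := hloc f hf
  have := hff
  have : Nontrivial (Localization.Away f) :=
    (IsLocalization.atUnit k (Localization.Away f) f (Ne.isUnit hf0)).injective.nontrivial
  have : Nontrivial R' := (FaithfulSMul.algebraMap_injective (Localization.Away f) R').nontrivial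
  obtain ⟨M, hM⟩ := Ideal.exists_maximal R'
  let L := R' ⧸ M
  letI : Field L := Ideal.Quotient.field M
  letI : Algebra k R' := ((algebraMap (Localization.Away f) R').comp (algebraMap k _)).toAlgebra
  have : IsScalarTower k (Localization.Away f) R' := .of_algebraMap_eq fun _ => rfl
  let e' : R' ⊗[k] H ≃ₐc[R'] MonoidAlgebra R' (ULift.{u} (Multiplicative (Fin n → ℤ))) :=
    ((cancelBC (R := k) (Localization.Away f) R' H).symm.trans e).trans
      (MonoidAlgebra.domCongrBialgEquiv R' R' MulEquiv.ulift.symm)
  exact ⟨L, inferInstance, inferInstance, n, ⟨bcTriv (T := R') (T' := L) e'⟩⟩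

omit [Module.Flat R A] in
theorem connectedSpace_torus {k : Type u} [Field k] {H : Type u} [CommRing H] [HopfAlgebra k H]
    (h : SGA3b.IsTorus k H) : ConnectedSpace (PrimeSpectrum H) := by
  obtain ⟨L, _, _, n, ⟨e⟩⟩ := exists_torus_field h
  have : UniqueProds (ULift.{u} (Multiplicative (Fin n → ℤ))) :=
    UniqueProds.of_injective_mulHom (MulEquiv.ulift : ULift.{u} (Multiplicative (Fin n → ℤ)) ≃* _).toMulHom
      MulEquiv.ulift.injective inferInstance
  have : IsDomain (MonoidAlgebra L (ULift.{u} (Multiplicative (Fin n → ℤ)))) := NoZeroDivisors.to_isDomain _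
  have : IsDomain (L ⊗[k] H) := e.toAlgEquiv.toRingEquiv.toMulEquiv.isDomain _
  let i : H →ₐ[k] L ⊗[k] H := Algebra.TensorProduct.includeRight
  let : Algebra H (L ⊗[k] H) := i.toRingHom.toAlgebra
  have : Module.FaithfullyFlat H (L ⊗[k] H) := by
    let : Algebra H (L ⊗[k] H) := Algebra.TensorProduct.rightAlgebra
    exact Module.FaithfullyFlat.of_linearEquiv _ _ (Algebra.IsPushout.equiv k H L (L ⊗[k] H)).toLinearEquiv.symm
  exact (PrimeSpectrum.comap_surjective_of_faithfullyFlat (A := H) (B := L ⊗[k] H)).connectedSpace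
    (PrimeSpectrum.continuous_comap _)

omit [Module.Flat R A] in
/-- A group of multiplicative type with torus fibres is a torus. -/
theorem isTorus_of_fibres
    (hfib : ∀ (p : Ideal R) [p.IsPrime], SGA3b.IsTorus p.ResidueField (p.ResidueField ⊗[R] A))
    (h : SGA3b.IsMultType R A) : SGA3b.IsTorus R A := by
  obtain ⟨s, hs, hloc⟩ := h
  refine ⟨s, hs, fun f hf => ?_⟩
  obtain ⟨R', _, _, hff, N, _, ⟨e⟩⟩ := hloc f hf
  have := hff
  refine ⟨R', inferInstance, inferInstance, hff, ?_⟩
  rcases subsingleton_or_nontrivial R' with hR | hR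
  · have : Subsingleton (MonoidAlgebra R' N) := (algebraMap R' (MonoidAlgebra R' N)).codomain_trivial
    have : Subsingleton (MonoidAlgebra R' (Multiplicative (Fin 0 → ℤ))) :=
      (algebraMap R' (MonoidAlgebra R' (Multiplicative (Fin 0 → ℤ)))).codomain_trivial
    exact ⟨0, ⟨BialgEquiv.ofBijective
      ((MonoidAlgebra.mapDomainBialgHom R' (1 : N →* Multiplicative (Fin 0 → ℤ))).comp
        (e : _ →ₐc[R'] MonoidAlgebra R' N))
      ⟨fun x y _ => EquivLike.injective e (Subsingleton.elim _ _), fun y => ⟨0, Subsingleton.elim _ _⟩⟩⟩⟩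
  letI : Algebra R R' := ((algebraMap (Localization.Away f) R').comp (algebraMap R _)).toAlgebra
  have : IsScalarTower R (Localization.Away f) R' := .of_algebraMap_eq fun _ => rfl
  obtain ⟨q⟩ : Nonempty (PrimeSpectrum R') := inferInstance
  let p := q.asIdeal.comap (algebraMap R R')
  obtain ⟨L, _, _, n, ⟨eL⟩⟩ := exists_torus_field (hfib p)
  letI : Algebra R L := ((algebraMap p.ResidueField L).comp (algebraMap R _)).toAlgebra
  have : IsScalarTower R p.ResidueField L := .of_algebraMap_eq fun _ => rfl
  obtain ⟨φ⟩ := nonempty_mulEquiv_of_over (R := R) (A := A)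
    ((cancelBC (R := R) (Localization.Away f) R' A).symm.trans e)
    ((cancelBC (R := R) p.ResidueField L A).symm.trans eL) q ⟨⊥, inferInstance⟩ (PrimeSpectrum.ext (by
      show p = (⊥ : Ideal L).comap (algebraMap R L)
      ext r
      rw [Ideal.mem_comap (f := algebraMap R L), Ideal.mem_bot, IsScalarTower.algebraMap_apply R p.ResidueField L,
        _root_.map_eq_zero, Ideal.algebraMap_residueField_eq_zero]))
  exact ⟨n, ⟨e.trans (MonoidAlgebra.domCongrBialgEquiv R' R' (φ.trans MulEquiv.ulift))⟩⟩

end Groth.Agent.IsoTriv
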