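import Groth.Agent.IsoTriv.ExtensionComm
import Groth.Agent.IsoTriv.ExtensionAlg
import Groth.Agent.IsoTriv.SchemeLocal
import Groth.Agent.IsoTriv.FibreCrit
import Groth.Agent.SGA3bLib.MonoDiag
import Groth.Agent.SGA3bLib.DiagQuot
import Groth.Agent.IsoTriv.ExtensionConn
import Groth.Agent.S7979

/-!
# Extensions of groups of multiplicative type
-/

set_option linter.style.haveILetI false
set_option autoImplicit false

universe u

open CategoryTheory CategoryTheory.Limits MonoidalCategory CartesianMonoidalCategory MonObj GrpObj AlgebraicGeometry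
open scoped TensorProduct

noncomputable section

namespace Groth.Agent.IsoTriv.ExtensionMT

open CoactBr HopfLib.SpPoints SchemeSpec SGA3bLib SGA3cLib WithConv

variable {S : Scheme.{u}}

theorem eq_zero_of_primitive_multType {k : Type u} [Field k] {A : Type u} [CommRing A] [HopfAlgebra k A]
    (h : SGA3b.IsMultType k A) {f : A}
    (hf : CoalgebraStruct.comul (R := k) f = f ⊗ₜ[k] (1 : A) + (1 : A) ⊗ₜ[k] f) : f = 0 := by
  obtain ⟨T, _, _, hff, N, _, ⟨e⟩⟩ := isMultTypeConst_of_isLocalRing h
  haveI := hff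
  haveI : Nontrivial T := (FaithfulSMul.algebraMap_injective k T).nontrivial
  obtain ⟨m, hm⟩ := Ideal.exists_maximal T
  letI : Field (T ⧸ m) := Ideal.Quotient.field m
  refine HopfQuot.eq_zero_of_primitive_of_isDiagonalizable_baseChange (K := T ⧸ m) ?_ hf
  exact span_groupLike_of_diag ⟨N, inferInstance, ⟨bcTriv (T := T) (T' := T ⧸ m) e⟩⟩

theorem isMultType_of_primitive {k : Type u} [Field k] {A : Type u} [CommRing A] [HopfAlgebra k A]
    [Algebra.FiniteType k A] [Coalgebra.IsCocomm k A]
    (h : ∀ f : A, CoalgebraStruct.comul (R := k) f = f ⊗ₜ[k] (1 : A) + (1 : A) ⊗ₜ[k] f → f = 0) :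
    SGA3b.IsMultType k A := by
  have hd := isDiag_of_span_groupLike (S7979.result k A |>.mpr ⟨inferInstance, h⟩)
  obtain ⟨M, _, ⟨e⟩⟩ := hd
  exact isMultType_of_const ⟨AlgebraicClosure k, inferInstance, inferInstance, inferInstance, M, inferInstance, ⟨e⟩⟩

variable {H' H H'' : Over S} [GrpObj H'] [GrpObj H] [GrpObj H''] (i : H' ⟶ H) [IsMonHom i] (p : H ⟶ H'') [IsMonHom p]

/-- The Hopf algebra picture of an extension over an affine scheme mapping to the base. -/
theorem chart [Surjective p.left] [Flat p.left] [QuasiCompact p.left] (hker : AlgGrp.IsKernel i p)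
    (hH' : SGA3x.IsMultTypeFT H') (hH'' : SGA3x.IsMultTypeFT H'')
    (hcomm : ∀ (X : Over S) (a b : X ⟶ H), a * b = b * a) {R : Type u} [CommRing R]
    (g : Spec (CommRingCat.of R) ⟶ S) {A : Type u} [CommRing A] [HopfAlgebra R A]
    (e : Grp.mk (Red.bc g H) ≅ Grp.mk (sp R A)) :
    Coalgebra.IsCocomm R A ∧ ∃ (A' A'' : Type u) (_ : CommRing A') (_ : HopfAlgebra R A') (_ : CommRing A'')
      (_ : HopfAlgebra R A'') (φ : A'' →ₐc[R] A) (ψ : A →ₐc[R] A'),
      Algebra.FiniteType R A' ∧ SGA3b.IsMultType R A' ∧ Algebra.FiniteType R A'' ∧ SGA3b.IsMultType R A'' ∧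
      Function.Surjective ψ ∧ (φ : A'' →+* A).FaithfullyFlat ∧ ExtensionAlg.IsKer φ ψ := by
  haveI := SchemeBridge.isAffineHom_of_multTypeFT H' hH'
  haveI := SchemeBridge.isAffineHom_of_multTypeFT H'' hH''
  haveI : IsAffineHom (Red.bc g H').hom := MorphismProperty.pullback_snd (P := @IsAffineHom) _ _ ‹_›
  haveI : IsAffineHom (Red.bc g H'').hom := MorphismProperty.pullback_snd (P := @IsAffineHom) _ _ ‹_›
  haveI : IsAffine (Red.bc g H').left := isAffine_of_isAffineHom (Red.bc g H').hom
  haveI : IsAffine (Red.bc g H'').left := isAffine_of_isAffineHom (Red.bc g H'').hom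
  obtain ⟨A', _, _, ⟨e'⟩⟩ := exists_spec (Red.bc g H')
  obtain ⟨A'', _, _, ⟨e''⟩⟩ := exists_spec (Red.bc g H'')
  let F := Over.pullback g
  let v : Red.bc g H ≅ sp R A := (Grp.forget _).mapIso e
  let v' : Red.bc g H' ≅ sp R A' := (Grp.forget _).mapIso e'
  let v'' : Red.bc g H'' ≅ sp R A'' := (Grp.forget _).mapIso e''
  haveI : IsMonHom v.hom := e.hom.hom.isMonHom_hom
  haveI : IsMonHom v.inv := e.inv.hom.isMonHom_hom
  haveI : IsMonHom v'.inv := e'.inv.hom.isMonHom_hom
  haveI : IsMonHom v''.hom := e''.hom.hom.isMonHom_hom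
  let Fp : Red.bc g H ⟶ Red.bc g H'' := F.map p
  let Fi : Red.bc g H' ⟶ Red.bc g H := F.map i
  let P : sp R A ⟶ sp R A'' := v.inv ≫ Fp ≫ v''.hom
  let I : sp R A' ⟶ sp R A := v'.inv ≫ Fi ≫ v.hom
  obtain ⟨φ, hφ⟩ := exists_bialgHom P
  obtain ⟨ψ, hψ⟩ := exists_bialgHom I
  have hk : AlgGrp.IsKernel I P := by
    refine (ExtensionComm.isKernel_bc i p hker g).of_iso v' v (Iso.refl _) v'' ?_ (toUnit_unique _ _) ?_ ?_
    · simp [I, Fi, F]
    · simp [P, Fp, F]
    · exact ((Category.id_comp _).trans (IsMonHom.one_hom v''.hom).symm).symm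
  haveI := ExtensionComm.mono_of_isKernel I P hk
  -- points
  have hpt : ∀ {B C : Type u} [CommRing B] [HopfAlgebra R B] [CommRing C] [HopfAlgebra R C] (J : sp R B ⟶ sp R C)
      (θ : C →ₐc[R] B), J.left = Spec.map (CommRingCat.ofHom (θ : C →+* B)) →
      ∀ (T : Type u) [CommRing T] [Algebra R T] (x : WithConv (B →ₐ[R] T)),
        (Spec.mapMulEquiv x : _ ⟶ sp R B) ≫ J = Spec.mapMulEquiv (ExtensionAlg.pull θ T x) := by
    intro B C _ _ _ _ J θ hJ T _ _ x
    refine Over.OverMorphism.ext ?_
    show Spec.map _ ≫ J.left = _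
    rw [hJ]
    exact (Spec.map_comp _ _).symm
  have hcc : Coalgebra.IsCocomm R A := by
    let il : WithConv (A →ₐ[R] A ⊗[R] A) := toConv Algebra.TensorProduct.includeLeft
    let ir : WithConv (A →ₐ[R] A ⊗[R] A) := toConv Algebra.TensorProduct.includeRight
    have hc : il * ir = ir * il := by
      refine Spec.mapMulEquiv.injective ?_
      rw [map_mul, map_mul]
      have h2 : ∀ (X : Over (Spec (CommRingCat.of R))) (a b : X ⟶ Red.bc g H), a * b = b * a := fun X a b => by
        obtain ⟨a, rfl⟩ := (BCPoints.pt g H X).surjective a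
        obtain ⟨b, rfl⟩ := (BCPoints.pt g H X).surjective b
        rw [← BCPoints.pt_mul, hcomm, BCPoints.pt_mul]
      rw [← cancel_mono v.inv, MonObj.mul_comp, MonObj.mul_comp, h2]
    refine ⟨LinearMap.ext fun a => ?_⟩
    have h1 : (il * ir).ofConv a = CoalgebraStruct.comul (R := R) a := by
      simp only [AlgHom.convMul_def, il, ir, AlgHom.comp_apply, Bialgebra.comulAlgHom_apply]
      generalize CoalgebraStruct.comul (R := R) a = t
      induction t using TensorProduct.induction_on with
      | zero => simp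
      | tmul x y => simp
      | add x y hx hy => simp_all
    have h2 : (ir * il).ofConv a = TensorProduct.comm R A A (CoalgebraStruct.comul (R := R) a) := by
      simp only [AlgHom.convMul_def, il, ir, AlgHom.comp_apply, Bialgebra.comulAlgHom_apply]
      generalize CoalgebraStruct.comul (R := R) a = t
      induction t using TensorProduct.induction_on with
      | zero => simp
      | tmul x y => simp
      | add x y hx hy => simp_all
    show TensorProduct.comm R A A _ = _
    rw [← h2, ← hc, h1]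
  obtain ⟨hft', hm'⟩ := SchemeLocal.isMultType_of_bc H' hH' g e'
  obtain ⟨hft'', hm''⟩ := SchemeLocal.isMultType_of_bc H'' hH'' g e''
  refine ⟨hcc, A', A'', inferInstance, inferInstance, inferInstance, inferInstance, φ, ψ, hft', hm', hft'', hm'',
    surjective_of_mono hm' ψ (fun T _ _ x y hxy => ?_), ?_, fun T _ _ x hx => ?_⟩
  · have h : Spec.mapMulEquiv (toConv x) = Spec.mapMulEquiv (toConv y) := by
      rw [← cancel_mono I, hpt I ψ hψ, hpt I ψ hψ]
      exact congrArg (fun z => Spec.mapMulEquiv (toConv z)) hxy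
    exact congrArg WithConv.ofConv (Spec.mapMulEquiv.injective h)
  · obtain ⟨hs, hf, -⟩ := ExtensionComm.bc_props p g
    haveI : IsIso v.inv.left := ((Over.forget _).mapIso v).isIso_inv
    haveI : IsIso v''.hom.left := ((Over.forget _).mapIso v'').isIso_hom
    haveI : Flat Fp.left := hf
    haveI : Surjective Fp.left := hs
    have h1 : Flat P.left ∧ Surjective P.left :=
      ⟨(inferInstance : Flat (v.inv.left ≫ Fp.left ≫ v''.hom.left)),
        (inferInstance : Surjective (v.inv.left ≫ Fp.left ≫ v''.hom.left))⟩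
    rw [hφ] at h1
    exact Iff.mp (flat_and_surjective_SpecMap_iff ..) h1
  · have h1 : (Spec.mapMulEquiv (toConv x) : _ ⟶ sp R A) ≫ P = 1 := by
      rw [hpt P φ hφ]
      exact (congrArg (fun z => Spec.mapMulEquiv (toConv z)) hx).trans (map_one _)
    obtain ⟨a, ha⟩ := ExtensionComm.exists_lift_kernel I P hk _ h1
    obtain ⟨a, rfl⟩ := (Spec.mapMulEquiv (R := R) (S := A') (T := T)).surjective a
    rw [hpt I ψ hψ] at ha
    exact ⟨a.ofConv, congrArg WithConv.ofConv (Spec.mapMulEquiv.injective ha)⟩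

/-- An extension of groups of multiplicative type with connected or commutative fibres is of multiplicative type. -/
theorem isMultTypeFT_of_extension (hHa : IsAffineHom H.hom) (hHfl : Flat H.hom)
    (hHfp : LocallyOfFinitePresentation H.hom) [Surjective p.left] [Flat p.left] [QuasiCompact p.left]
    (hker : AlgGrp.IsKernel i p) (hH' : SGA3x.IsMultTypeFT H') (hH'' : SGA3x.IsMultTypeFT H'')
    (hfib : ∀ s : S, _root_.IsConnected (H''.hom.base ⁻¹' {s}) ∨
      ∀ (X : Over (Spec (S.residueField s))) (a b : X ⟶ Red.bc (S.fromSpecResidueField s) H), a * b = b * a) :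
    SGA3x.IsMultTypeFT H := by
  have hcomm := ExtensionConn.comm i p hker hH' hH'' hfib
  refine SchemeLocal.isMultTypeFT_of_hopf H fun R _ g _ A _ _ e => ?_
  let a : Red.bc g H ≅ sp R A := (Grp.forget _).mapIso e
  haveI : IsIso a.inv.left := ((Over.forget _).mapIso a).isIso_inv
  have hflA : Flat (sp R A).hom := by
    rw [← Over.w a.inv]
    haveI : Flat (Red.bc g H).hom := MorphismProperty.pullback_snd (P := @Flat) _ _ hHfl
    infer_instance
  have hfpA : LocallyOfFinitePresentation (sp R A).hom := by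
    rw [← Over.w a.inv]
    haveI : LocallyOfFinitePresentation (Red.bc g H).hom := MorphismProperty.pullback_snd (P := @LocallyOfFinitePresentation) _ _ hHfp
    infer_instance
  have h1 : Flat (Spec.map (CommRingCat.ofHom (algebraMap R A))) := hflA
  rw [HasRingHomProperty.Spec_iff (P := @Flat), CommRingCat.hom_ofHom, RingHom.flat_algebraMap_iff] at h1
  have : Module.Flat R A := h1
  have h2 : LocallyOfFinitePresentation (Spec.map (CommRingCat.ofHom (algebraMap R A))) := hfpA
  rw [LocallyOfFinitePresentation.SpecMap_iff, CommRingCat.hom_ofHom, RingHom.finitePresentation_algebraMap] at h2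
  have h2' : Algebra.FinitePresentation R A := h2
  have : Algebra.FiniteType R A := inferInstance
  obtain ⟨hcc, A', A'', _, _, _, _, φ, ψ, hft', hm', hft'', hm'', hψ, hff, hk⟩ := chart i p hker hH' hH'' hcomm g e
  have := hcc
  refine ⟨inferInstance, isMultType_of_fibres_torsion h2' (fun q _ => ?_) fun n hn =>
    ExtensionAlg.finite_torsion φ ψ hψ hff hk hft' hm' hft'' hm'' hn⟩
  obtain ⟨b⟩ := nonempty_bc_spec (R := R) q.ResidueField A
  obtain ⟨j⟩ := SchemeLocal.nonempty_bc_comp g (str R q.ResidueField) (str R q.ResidueField ≫ g) rfl H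
  obtain ⟨k⟩ := nonempty_bc_congr (str R q.ResidueField) e
  obtain ⟨hcc', B', B'', _, _, _, _, φ', ψ', -, hm₁, -, hm₂, -, hff', hk'⟩ :=
    chart i p hker hH' hH'' hcomm (str R q.ResidueField ≫ g) (j.symm ≪≫ k ≪≫ b)
  have := hcc'
  exact isMultType_of_primitive fun f hf => ExtensionAlg.primitive_eq_zero φ' ψ' hff' hk'
    (fun x hx => eq_zero_of_primitive_multType hm₁ hx) (fun x hx => eq_zero_of_primitive_multType hm₂ hx) hf

/-- Groups of multiplicative type are flat. -/
theorem flat_of_multTypeFT (H : Over S) [GrpObj H] (hH : SGA3x.IsMultTypeFT H) : Flat H.hom := by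
  haveI := SchemeBridge.isAffineHom_of_multTypeFT H hH
  suffices h : ∀ (R : CommRingCat.{u}) (g : Spec R ⟶ S), Flat (Red.bc g H).hom from
    IsZariskiLocalAtTarget.of_openCover (P := @Flat) S.affineCover fun j => h _ (S.affineCover.f j)
  intro R g
  haveI : IsAffineHom (Red.bc g H).hom := MorphismProperty.pullback_snd (P := @IsAffineHom) _ _ ‹_›
  haveI : IsAffine (Red.bc g H).left := isAffine_of_isAffineHom (Red.bc g H).hom
  obtain ⟨A, _, _, ⟨e⟩⟩ := exists_spec (R := (R : Type u)) (Red.bc g H)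
  obtain ⟨-, hm⟩ := SchemeLocal.isMultType_of_bc H hH g e
  let a : Red.bc g H ≅ sp _ A := (Grp.forget _).mapIso e
  haveI : IsIso a.hom.left := ((Over.forget _).mapIso a).isIso_hom
  have h1 : Flat (sp (R : Type u) A).hom := by
    show Flat (Spec.map (CommRingCat.ofHom (algebraMap _ A)))
    rw [HasRingHomProperty.Spec_iff (P := @Flat), CommRingCat.hom_ofHom, RingHom.flat_algebraMap_iff]
    exact flat_of_isMultType hm
  show Flat (Red.bc g H).hom
  rw [← Over.w a.hom]
  infer_instance

end Groth.Agent.IsoTriv.ExtensionMT
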