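import Groth.Prelude.Def_SGA3x
import Groth.Prelude.Def_SGA3b
import Groth.Agent.HopfLib.SpPoints
import Groth.Agent.SGA3cLib.GrpBC
import Mathlib.RingTheory.HopfAlgebra.TensorProduct

/-! Affine group schemes over a ring as Hopf algebras: base change, diagonalisable groups. -/

set_option autoImplicit false
set_option linter.style.haveILetI false
universe u

open CategoryTheory MonoidalCategory CartesianMonoidalCategory MonObj GrpObj AlgebraicGeometry CategoryTheory.Limits
open scoped TensorProduct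

noncomputable section

namespace Groth.Agent.IsoTriv.SchemeSpec

open CoactBr HopfLib.SpPoints

variable {R : Type u} [CommRing R]

/-- An affine group scheme over a ring is the spectrum of a Hopf algebra. -/
theorem exists_spec (G : Over (Spec (CommRingCat.of R))) [GrpObj G] [IsAffine G.left] :
    ∃ (A : Type u) (_ : CommRing A) (_ : HopfAlgebra R A), Nonempty (Grp.mk G ≅ Grp.mk (sp R A)) := by
  obtain ⟨A, ⟨e⟩⟩ := (essImage_hopfSpec (G := Grp.mk G)).2 (inferInstanceAs (IsAffine G.left))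
  exact ⟨A.unop.X, A.unop.commRing, A.unop.hopfAlgebra, ⟨e.symm⟩⟩

/-- The group isomorphism of a bialgebra isomorphism. -/
theorem nonempty_grpIso {A B : Type u} [CommRing A] [CommRing B] [HopfAlgebra R A] [HopfAlgebra R B]
    (e : A ≃ₐc[R] B) : Nonempty (Grp.mk (sp R A) ≅ Grp.mk (sp R B)) :=
  ⟨((hopfSpec (CommRingCat.of R)).mapIso (CommHopfAlgCat.isoMk e).op :
    (hopfSpec (CommRingCat.of R)).obj (.op (.of R B)) ≅ (hopfSpec (CommRingCat.of R)).obj (.op (.of R A))).symm⟩

/-- The bialgebra isomorphism of a group isomorphism. -/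
theorem nonempty_bialgEquiv {A B : Type u} [CommRing A] [CommRing B] [HopfAlgebra R A] [HopfAlgebra R B]
    (e : Grp.mk (sp R A) ≅ Grp.mk (sp R B)) : Nonempty (A ≃ₐc[R] B) := by
  let i : (hopfSpec (CommRingCat.of R)).obj (.op (.of R B)) ≅ (hopfSpec (CommRingCat.of R)).obj (.op (.of R A)) :=
    e.symm
  exact ⟨CommHopfAlgCat.ofIso (hopfSpec.fullyFaithful.preimageIso i).unop⟩

/-- Base change of a group isomorphism. -/
theorem nonempty_bc_congr {S S' : Scheme.{u}} (f : S' ⟶ S) {G H : Over S} [GrpObj G] [GrpObj H]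
    (e : Grp.mk G ≅ Grp.mk H) : Nonempty (Grp.mk (Red.bc f G) ≅ Grp.mk (Red.bc f H)) :=
  ⟨(Over.pullback f).mapGrp.mapIso e⟩

/-- Base change of the spectrum of a Hopf algebra. -/
theorem nonempty_bc_spec (R' : Type u) [CommRing R'] [Algebra R R'] (A : Type u) [CommRing A] [HopfAlgebra R A] :
    Nonempty (Grp.mk (Red.bc (str R R') (sp R A)) ≅ Grp.mk (sp R' (R' ⊗[R] A))) := by
  let i : Red.bc (str R R') (sp R A) ≅ sp R' (R' ⊗[R] A) := bcIso R R' A
  haveI : IsMonHom i.hom := bcIso_isMonHom R R' A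
  exact ⟨Grp.mkIso' i⟩

/-- The diagonalisable group over a ring. -/
theorem nonempty_DS (R : Type u) [CommRing R] (M : Type) [AddCommGroup M] :
    Nonempty (Grp.mk (Red.DS (Spec (CommRingCat.of R)) M) ≅ Grp.mk (sp R (MonoidAlgebra R (Multiplicative M)))) := by
  obtain ⟨i, hi⟩ := exists_dsIso R M
  haveI := hi
  exact ⟨(Grp.mkIso' i).symm⟩

/-- A trivialisation over a scheme restricts to one over a ring mapping to it. -/
theorem nonempty_triv_of_restrict (A : Type u) [CommRing A] [HopfAlgebra R A] {U : Scheme.{u}}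
    (g : U ⟶ Spec (CommRingCat.of R)) {M : Type} [AddCommGroup M]
    (e : Grp.mk (Red.bc g (sp R A)) ≅ Grp.mk (Red.DS U M)) (R' : Type u) [CommRing R'] [Algebra R R']
    (c : Spec (CommRingCat.of R') ⟶ U) (hc : c ≫ g = str R R') :
    Nonempty (R' ⊗[R] A ≃ₐc[R'] MonoidAlgebra R' (Multiplicative M)) := by
  obtain ⟨i, hi, -⟩ := SGA3cLib.GrpBC.nonempty_iso_restrict g c (str R R') hc (sp R A) e
  haveI := hi
  obtain ⟨b⟩ := nonempty_bc_spec (R := R) R' A
  obtain ⟨d⟩ := nonempty_DS R' M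
  exact nonempty_bialgEquiv (b.symm ≪≫ Grp.mkIso' i ≪≫ d)

/-- A trivialisation over a ring as one of group schemes. -/
theorem nonempty_DS_of_triv (A : Type u) [CommRing A] [HopfAlgebra R A] (R' : Type u) [CommRing R'] [Algebra R R']
    {M : Type} [AddCommGroup M] (e : R' ⊗[R] A ≃ₐc[R'] MonoidAlgebra R' (Multiplicative M)) :
    Nonempty (Grp.mk (Red.bc (str R R') (sp R A)) ≅ Grp.mk (Red.DS (Spec (CommRingCat.of R')) M)) := by
  obtain ⟨b⟩ := nonempty_bc_spec (R := R) R' A
  obtain ⟨d⟩ := nonempty_DS R' M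
  obtain ⟨i⟩ := nonempty_grpIso e
  exact ⟨b ≪≫ i ≪≫ d.symm⟩



/-- A homomorphism of affine group schemes is a bialgebra map. -/
theorem exists_bialgHom {A B : Type u} [CommRing A] [CommRing B] [HopfAlgebra R A] [HopfAlgebra R B]
    (j : sp R B ⟶ sp R A) [IsMonHom j] :
    ∃ φ : A →ₐc[R] B, j.left = Spec.map (CommRingCat.ofHom (φ : A →+* B)) := by
  let J : (hopfSpec (CommRingCat.of R)).obj (.op (.of R B)) ⟶ (hopfSpec (CommRingCat.of R)).obj (.op (.of R A)) :=
    Grp.homMk'' j (IsMonHom.one_hom (f := j)) (IsMonHom.mul_hom (f := j))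
  refine ⟨(hopfSpec.fullyFaithful.preimage J).unop.hom, ?_⟩
  have h : ((hopfSpec (CommRingCat.of R)).map (hopfSpec.fullyFaithful.preimage J)).hom.hom = j := by
    rw [Functor.FullyFaithful.map_preimage]
    rfl
  exact (congrArg CommaMorphism.left h).symm

end Groth.Agent.IsoTriv.SchemeSpec
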