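import Groth.Prelude.Def_SGA3b
import Groth.Agent.SGA3bLib.DiagConn
import Mathlib.RingTheory.TensorProduct.MonoidAlgebra
import Mathlib.RingTheory.Bialgebra.MonoidAlgebra
import Mathlib.RingTheory.Flat.FaithfullyFlat.Algebra
import Mathlib.RingTheory.LocalRing.ResidueField.Ideal

/-! Group-like elements in base changes of bialgebras. -/

universe u

open TensorProduct Coalgebra

namespace Groth.Agent.IsoTriv

open SGA3bLib

section Push

variable {R : Type u} [CommRing R] {A : Type u} [CommRing A] [Bialgebra R A]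
  {T T' T'' : Type u} [CommRing T] [CommRing T'] [CommRing T'']
  [Algebra R T] [Algebra R T'] [Algebra R T'']

variable (A) in
/-- The map `T ⊗ A → T' ⊗ A` induced by `T → T'`. -/
noncomputable def push (f : T →ₐ[R] T') : T ⊗[R] A →ₐ[R] T' ⊗[R] A :=
  Algebra.TensorProduct.map f (AlgHom.id R A)

@[simp] theorem push_tmul (f : T →ₐ[R] T') (t : T) (a : A) : push A f (t ⊗ₜ[R] a) = f t ⊗ₜ[R] a := rfl

theorem push_push (f : T →ₐ[R] T') (g : T' →ₐ[R] T'') (x : T ⊗[R] A) :
    push A g (push A f x) = push A (g.comp f) x := by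
  induction x using TensorProduct.induction_on with
  | zero => simp
  | tmul t a => rfl
  | add x y hx hy => simp [hx, hy]

theorem push_eq_cancel [Algebra T T'] [IsScalarTower R T T'] (x : T ⊗[R] A) :
    push A (IsScalarTower.toAlgHom R T T') x = cancelBC T T' A ((1 : T') ⊗ₜ[T] x) := by
  induction x using TensorProduct.induction_on with
  | zero => simp
  | tmul t a =>
    show algebraMap T T' t ⊗ₜ[R] a = Algebra.TensorProduct.cancelBaseChange R T T' T' A ((1 : T') ⊗ₜ[T] (t ⊗ₜ[R] a))
    rw [Algebra.TensorProduct.cancelBaseChange_tmul, Algebra.smul_def, mul_one]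
  | add x y hx hy => simp [tmul_add, hx, hy]

theorem isGroupLike_tmul {B : Type u} [CommRing B] [Bialgebra R B] {g : B} (hg : IsGroupLikeElem R g) :
    IsGroupLikeElem T ((1 : T) ⊗ₜ[R] g) :=
  ⟨by simp [hg.counit_eq_one, Algebra.smul_def], by simp [hg.comul_eq_tmul_self]⟩

theorem isGroupLike_push (f : T →ₐ[R] T') {x : T ⊗[R] A} (hx : IsGroupLikeElem T x) :
    IsGroupLikeElem T' (push A f x) := by
  let : Algebra T T' := f.toRingHom.toAlgebra
  have : IsScalarTower R T T' := .of_algebraMap_eq fun r => (f.commutes r).symm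
  have hf : IsScalarTower.toAlgHom R T T' = f := AlgHom.ext fun t => rfl
  rw [← hf, push_eq_cancel]
  exact (isGroupLike_tmul hx).map (cancelBC (R := R) T T' A : T' ⊗[T] (T ⊗[R] A) →ₐc[T'] T' ⊗[R] A)

end Push

section Descent

variable {R : Type u} [CommRing R] {M : Type u} [AddCommGroup M] [Module R M]
  (T : Type u) [CommRing T] [Algebra R T] [Module.FaithfullyFlat R T]

open Algebra.TensorProduct in
/-- Descent of elements along a faithfully flat algebra. -/
theorem exists_eq_one_tmul (x : T ⊗[R] M)
    (h : (includeLeft : T →ₐ[R] T ⊗[R] T).toLinearMap.rTensor M x =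
      (includeRight : T →ₐ[R] T ⊗[R] T).toLinearMap.rTensor M x) :
    ∃ m : M, x = 1 ⊗ₜ[R] m := by
  let ι : M →ₗ[R] T ⊗[R] M := TensorProduct.mk R T M 1
  let q : T ⊗[R] M →ₗ[R] (T ⊗[R] M) ⧸ LinearMap.range ι := (LinearMap.range ι).mkQ
  suffices q x = 0 by
    obtain ⟨m, hm⟩ := (Submodule.Quotient.mk_eq_zero _).mp this
    exact ⟨m, hm.symm⟩
  apply Module.FaithfullyFlat.tensorProduct_mk_injective (A := R) (B := T) ((T ⊗[R] M) ⧸ LinearMap.range ι)
  show (1 : T) ⊗ₜ[R] q x = (1 : T) ⊗ₜ[R] (0 : (T ⊗[R] M) ⧸ LinearMap.range ι)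
  rw [TensorProduct.tmul_zero]
  let Φ : (T ⊗[R] T) ⊗[R] M →ₗ[R] T ⊗[R] ((T ⊗[R] M) ⧸ LinearMap.range ι) :=
    q.lTensor T ∘ₗ (TensorProduct.assoc R T T M).toLinearMap
  have h1 : ∀ z, Φ ((includeRight : T →ₐ[R] T ⊗[R] T).toLinearMap.rTensor M z) = (1 : T) ⊗ₜ[R] q z := by
    intro z
    induction z using TensorProduct.induction_on with
    | zero => simp
    | tmul t m => rfl
    | add a b ha hb => rw [map_add, map_add, map_add, tmul_add, ha, hb]
  have h2 : ∀ z, Φ ((includeLeft : T →ₐ[R] T ⊗[R] T).toLinearMap.rTensor M z) = 0 := by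
    intro z
    induction z using TensorProduct.induction_on with
    | zero => simp
    | tmul t m =>
      show t ⊗ₜ[R] q ((1 : T) ⊗ₜ[R] m) = 0
      rw [show q ((1 : T) ⊗ₜ[R] m) = 0 from (Submodule.Quotient.mk_eq_zero _).mpr ⟨m, rfl⟩, TensorProduct.tmul_zero]
    | add a b ha hb => rw [map_add, map_add, ha, hb, add_zero]
  rw [← h1, ← h, h2]

end Descent

section Descend

variable {R : Type u} [CommRing R] {A : Type u} [CommRing A] [Bialgebra R A]
  (T : Type u) [CommRing T] [Algebra R T] [Module.FaithfullyFlat R T]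

theorem eq_of_one_tmul {M : Type u} [AddCommGroup M] [Module R M] {a b : M}
    (h : (1 : T) ⊗ₜ[R] a = (1 : T) ⊗ₜ[R] b) : a = b :=
  Module.FaithfullyFlat.tensorProduct_mk_injective (A := R) (B := T) M h

/-- Being group-like descends along faithfully flat algebras. -/
theorem isGroupLike_of_tmul {a : A} (ha : IsGroupLikeElem T ((1 : T) ⊗ₜ[R] a)) : IsGroupLikeElem R a := by
  have hc := ha.counit_eq_one
  rw [TensorProduct.counit_tmul, CommSemiring.counit_apply] at hc
  refine ⟨?_, ?_⟩
  · have h1 : algebraMap R T (counit (R := R) a) = algebraMap R T 1 := by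
      rw [map_one, Algebra.algebraMap_eq_smul_one]; exact hc
    exact FaithfulSMul.algebraMap_injective R T h1
  · refine eq_of_one_tmul (R := R) T ?_
    have h2 := ha.comul_eq_tmul_self
    let D := TensorProduct.AlgebraTensorModule.distribBaseChange R T A A
    have key : ∀ z : A ⊗[R] A, TensorProduct.AlgebraTensorModule.tensorTensorTensorComm R T R T T T A A
        (((1 : T) ⊗ₜ[T] (1 : T)) ⊗ₜ[R] z) = D ((1 : T) ⊗ₜ[R] z) := by
      intro z
      induction z using TensorProduct.induction_on with
      | zero => simp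
      | tmul x y => simp [D, TensorProduct.AlgebraTensorModule.distribBaseChange_tmul]
      | add x y hx hy => simp [tmul_add, hx, hy]
    rw [TensorProduct.comul_tmul, CommSemiring.comul_apply, key] at h2
    apply D.injective
    rw [h2]
    rfl

end Descend

section Idem

variable {T : Type u} [CommRing T]

theorem eq_of_forall_residueField {e f : T} (he : IsIdempotentElem e) (hf : IsIdempotentElem f)
    (h : ∀ (p : Ideal T) [p.IsPrime], e - f ∈ p) : e = f := by
  have hnil : IsNilpotent (e - f) := nilpotent_iff_mem_prime.mpr fun p hp => @h p hp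
  exact eq_of_isNilpotent_sub_of_isIdempotentElem he hf hnil

end Idem

section GroupAlgebra

variable {T : Type u} [CommRing T] {N : Type u} [CommGroup N]

theorem isIdempotentElem_coef {g : MonoidAlgebra T N} (hg : IsGroupLikeElem T g) (n : N) :
    IsIdempotentElem (coef n g) := by
  classical
  have := coef_coef_comul n n g
  rw [hg.comul_eq_tmul_self, if_pos rfl] at this
  simpa [IsIdempotentElem] using this

theorem coef_mapRingHom {T' : Type u} [CommRing T'] (f : T →+* T') (n : N) (g : MonoidAlgebra T N) :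
    coef n (MonoidAlgebra.mapRingHom N f g) = f (coef n g) := by
  simp [coef_apply]

/-- Over a ring without nontrivial idempotents the group-like elements are the monomials. -/
theorem exists_eq_single (hconn : ∀ e : T, IsIdempotentElem e → e = 0 ∨ e = 1) [Nontrivial T]
    {g : MonoidAlgebra T N} (hg : IsGroupLikeElem T g) : ∃ n : N, g = MonoidAlgebra.single n 1 := by
  classical
  by_cases h : ∃ n, coef n g = 1
  · obtain ⟨n, hn⟩ := h
    refine ⟨n, ?_⟩
    have := groupLike_smul hg n
    rwa [hn, one_smul, one_smul] at this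
  · push Not at h
    have h0 : g = 0 := ext_coef fun m => by
      rw [map_zero]
      exact (hconn _ (isIdempotentElem_coef hg m)).resolve_right (h m)
    have := hg.counit_eq_one
    rw [h0, map_zero] at this
    exact absurd this zero_ne_one

end GroupAlgebra

end Groth.Agent.IsoTriv
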