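import Groth.Agent.IsoTriv.SchemeSpec
import Groth.Agent.IsoTriv.TypeLocus
import Groth.Agent.IsoTriv.MultBasic
import Groth.Agent.SGA3cLib.TrivLocus
import Groth.Agent.SGA3cLib.TorusBasic

/-! Groups of multiplicative type over affine schemes versus Hopf algebras of multiplicative type. -/

set_option autoImplicit false
set_option linter.style.haveILetI false
universe u

open CategoryTheory MonoidalCategory CartesianMonoidalCategory MonObj GrpObj AlgebraicGeometry CategoryTheory.Limits
open scoped TensorProduct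

noncomputable section

namespace Groth.Agent.IsoTriv.SchemeBridge

open CoactBr HopfLib.SpPoints SchemeSpec SGA3bLib SGA3cLib

/-- Groups of multiplicative type are affine. -/
theorem isAffineHom_of_multTypeFT {S : Scheme.{u}} (H : Over S) [GrpObj H] (hH : SGA3x.IsMultTypeFT H) :
    IsAffineHom H.hom := by
  obtain ⟨S', f, hfl, -, hq, hU⟩ := hH
  choose U hmem M hMag hM e using hU
  haveI := hfl
  have hcov : TopologicalSpace.IsOpenCover U :=
    TopologicalSpace.IsOpenCover.mk (eq_top_iff.2 fun s _ => TopologicalSpace.Opens.mem_iSup.2 ⟨s, hmem s⟩)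
  haveI := Et18.descends_isAffineHom.{u}
  refine (IsFpqcCov.of_forall f hq).descend @IsAffineHom H.hom ?_
  refine IsZariskiLocalAtTarget.of_openCover (P := @IsAffineHom) (S'.openCoverOfIsOpenCover U hcov) fun s => ?_
  have h1 : IsAffineHom (Red.DS (U s : Scheme.{u}) (M s)).hom := by
    refine MorphismProperty.pullback_snd (P := @IsAffineHom) _ _ ?_
    exact isAffineHom_of_isAffine (X := Spec (CommRingCat.of (MonoidAlgebra (ULift.{u} ℤ) (Multiplicative (M s))))) _
  let i : Red.bc ((U s).ι ≫ f) H ≅ Red.DS (U s : Scheme.{u}) (M s) := (Grp.forget _).mapIso (e s).some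
  change IsAffineHom (pullback.snd (pullback.snd H.hom f) (U s).ι)
  rw [← pullbackLeftPullbackSndIso_hom_snd,
    MorphismProperty.cancel_left_of_respectsIso @IsAffineHom]
  show IsAffineHom (Red.bc ((U s).ι ≫ f) H).hom
  rw [← Over.w i.hom]
  infer_instance

/-- Multiplicative type is invariant under isomorphism. -/
theorem isMultTypeFT_of_iso {S : Scheme.{u}} {H H' : Over S} [GrpObj H] [GrpObj H'] (e : Grp.mk H ≅ Grp.mk H')
    (hH : SGA3x.IsMultTypeFT H) : SGA3x.IsMultTypeFT H' := by
  obtain ⟨S', f, hfl, hsu, hq, hU⟩ := hH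
  refine ⟨S', f, hfl, hsu, hq, fun s => ?_⟩
  obtain ⟨U, hs, M, hMag, hM, ⟨i⟩⟩ := hU s
  obtain ⟨j⟩ := nonempty_bc_congr (U.ι ≫ f) e
  exact ⟨U, hs, M, hMag, hM, ⟨j.symm ≪≫ i⟩⟩

variable {R : Type u} [CommRing R]

theorem finiteType_of_multTypeFT {A : Type u} [CommRing A] [HopfAlgebra R A] (h : SGA3x.IsMultTypeFT (sp R A)) :
    Algebra.FiniteType R A := by
  haveI := SGA3cLib.TrivLocus.locallyOfFinitePresentation_of_multTypeFT (sp R A) h
  have h1 : LocallyOfFiniteType (Spec.map (CommRingCat.ofHom (algebraMap R A))) :=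
    (inferInstance : LocallyOfFiniteType (sp R A).hom)
  rw [HasRingHomProperty.Spec_iff (P := @LocallyOfFiniteType), CommRingCat.hom_ofHom,
    RingHom.finiteType_algebraMap] at h1
  exact h1

/-- The Hopf algebra of a group of multiplicative type is of multiplicative type. -/
theorem isMultType_of_multTypeFT {A : Type u} [CommRing A] [HopfAlgebra R A] (h : SGA3x.IsMultTypeFT (sp R A)) :
    SGA3b.IsMultType R A := by
  classical
  obtain ⟨S', f, hfl, -, hq, hU⟩ := h
  haveI := hfl
  choose U hmem M hMag hM e using hU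
  obtain ⟨W, hWc, hWs⟩ := hq ⊤ (isAffineOpen_top _)
  have hB : ∀ s : S', ∃ B : S'.Opens, IsAffineOpen B ∧ s ∈ B ∧ B ≤ U s := fun s => by
    obtain ⟨B, hB, hs, hle⟩ := exists_isAffineOpen_mem_and_subset (hmem s)
    exact ⟨B, hB, hs, hle⟩
  choose B hBa hBmem hBU using hB
  obtain ⟨F, hF⟩ := hWc.elim_finite_subcover (fun s => (B s : Set S')) (fun s => (B s).2)
    fun x _ => Set.mem_iUnion.mpr ⟨x, hBmem x⟩
  let T : {s // s ∈ F} → Type u := fun s => Γ(S', B s.1)
  let g : ∀ s : {s // s ∈ F}, Spec (CommRingCat.of (T s)) ⟶ Spec (CommRingCat.of R) :=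
    fun s => (hBa s.1).fromSpec ≫ f
  let : ∀ s, Algebra R (T s) := fun s => (Spec.preimage (g s)).hom.toAlgebra
  have hg : ∀ s, str R (T s) = g s := fun s => Spec.map_preimage (g s)
  refine isMultType_of_hasCover ⟨{s // s ∈ F}, inferInstance, T, inferInstance, inferInstance, fun s => ?_,
    fun p => ?_, fun s => ?_⟩
  · have h1 : Flat (str R (T s)) := by rw [hg]; infer_instance
    rw [HasRingHomProperty.Spec_iff (P := @Flat), CommRingCat.hom_ofHom, RingHom.flat_algebraMap_iff] at h1
    exact h1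
  · have hp : (p : Spec (CommRingCat.of R)) ∈ f.base '' (W : Set S') := by rw [hWs]; trivial
    obtain ⟨w, hw, hwp⟩ := hp
    obtain ⟨s, hs⟩ := Set.mem_iUnion.mp (hF hw)
    obtain ⟨hsF, hws⟩ := Set.mem_iUnion.mp hs
    obtain ⟨q, hq'⟩ : w ∈ Set.range (hBa s).fromSpec.base := by rw [(hBa s).range_fromSpec]; exact hws
    refine ⟨⟨s, hsF⟩, q, ?_⟩
    show (str R (T ⟨s, hsF⟩)).base q = p
    rw [hg]
    show f.base ((hBa s).fromSpec.base q) = p
    rw [hq', hwp]
  · let c : Spec (CommRingCat.of (T s)) ⟶ (U s.1 : Scheme.{u}) :=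
      (hBa s.1).isoSpec.inv ≫ S'.homOfLE (hBU s.1)
    obtain ⟨E⟩ := nonempty_triv_of_restrict A ((U s.1).ι ≫ f) (e s.1).some (T s) c (by
      rw [hg, Category.assoc, ← Category.assoc (S'.homOfLE _), Scheme.homOfLE_ι, ← Category.assoc,
        (hBa s.1).isoSpec_inv_ι])
    exact ⟨ULift.{u} (Multiplicative (M s.1)), inferInstance,
      ⟨E.trans (MonoidAlgebra.domCongrBialgEquiv (R := T s) (A := T s) MulEquiv.ulift.symm)⟩⟩

/-- A Hopf algebra of multiplicative type and of finite type gives a group of multiplicative type. -/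
theorem multTypeFT_of_isMultType {A : Type u} [CommRing A] [HopfAlgebra R A] (hft : Algebra.FiniteType R A)
    (h : SGA3b.IsMultType R A) : SGA3x.IsMultTypeFT (sp R A) := by
  classical
  obtain ⟨κ, hκ, T, _, _, hflat, hsurj, hdiag⟩ := hasCover_of_isMultType h
  choose N hN hE using hdiag
  have := hflat
  have := Fintype.ofFinite κ
  let P := ∀ i, T i
  have : Module.Flat R P := Module.Flat.of_linearEquiv (DFinsupp.linearEquivFunOnFintype (R := R)).symm
  let f : Spec (CommRingCat.of P) ⟶ Spec (CommRingCat.of R) := str R P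
  have hfl : Flat f := by
    show Flat (Spec.map _)
    rw [HasRingHomProperty.Spec_iff (P := @Flat), CommRingCat.hom_ofHom, RingHom.flat_algebraMap_iff]
    infer_instance
  let j : ∀ i, Spec (CommRingCat.of (T i)) ⟶ Spec (CommRingCat.of P) := fun i =>
    Spec.map (CommRingCat.ofHom (Pi.evalRingHom T i))
  have hj : ∀ i, j i ≫ f = str R (T i) := fun i => by
    show Spec.map _ ≫ Spec.map _ = Spec.map _
    rw [← Spec.map_comp, ← CommRingCat.ofHom_comp]
    rfl
  have hji : ∀ i, IsOpenImmersion (j i) := fun i => inferInstance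
  have hcov : ∀ x : Spec (CommRingCat.of P), ∃ i, x ∈ Set.range (j i).base := fun x => by
    obtain ⟨⟨i, q⟩, rfl⟩ := (PrimeSpectrum.sigmaToPi_bijective T).surjective x
    exact ⟨i, q, rfl⟩
  have hsur : Function.Surjective f.base := fun p => by
    obtain ⟨i, q, hq⟩ := hsurj p
    exact ⟨(j i).base q, by rw [← Scheme.Hom.comp_apply, hj]; exact hq⟩
  refine ⟨_, f, hfl, ⟨hsur⟩, fun V hV => ⟨f ⁻¹ᵁ V, ?_, Set.image_preimage_eq _ hsur⟩, fun x => ?_⟩
  · exact f.isCompact_preimage hV.isCompact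
  obtain ⟨i, hx⟩ := hcov x
  have := hji i
  refine ⟨(j i).opensRange, hx, ?_⟩
  obtain ⟨q, -⟩ := hx
  obtain ⟨e⟩ := hE i
  have : Nontrivial (T i) := by
    refine nontrivial_iff.mpr ⟨0, 1, fun h => ?_⟩
    exact (q : PrimeSpectrum (T i)).2.ne_top ((Ideal.eq_top_iff_one _).mpr (h ▸ zero_mem _))
  have : Algebra.FiniteType (T i) (MonoidAlgebra (T i) (N i)) :=
    (inferInstance : Algebra.FiniteType (T i) (T i ⊗[R] A)).equiv e.toAlgEquiv
  have hfg : Monoid.FG (N i) := MonoidAlgebra.finiteType_iff_fg.mp this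
  have : Countable (N i) := by
    obtain ⟨S, hS⟩ := hfg.fg_top
    have h1 : Set.Countable (Submonoid.closure (S : Set (N i)) : Set (N i)) := by
      rw [Submonoid.closure_eq_mrange, MonoidHom.coe_mrange]
      have : Countable (FreeMonoid (S : Set (N i))) := FreeMonoid.toList.countable_iff.mpr inferInstance
      exact Set.countable_range _
    rw [hS] at h1
    exact Set.countable_univ_iff.mp h1
  let M : Type := Additive (Shrink.{0} (N i))
  have hM : AddGroup.FG M := by
    have : Monoid.FG (Shrink.{0} (N i)) := Monoid.fg_of_surjective (equivShrink.{0} (N i)).symm.mulEquiv.symm.toMonoidHom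
      (equivShrink.{0} (N i)).symm.mulEquiv.symm.surjective
    exact AddGroup.fg_iff_mul_fg.mpr (Group.fg_iff_monoid_fg.mpr this)
  let eN : N i ≃* Multiplicative M := (equivShrink.{0} (N i)).symm.mulEquiv.symm
  obtain ⟨d⟩ := nonempty_DS_of_triv A (T i) (M := M)
    (e.trans (MonoidAlgebra.domCongrBialgEquiv (R := T i) (A := T i) eN))
  refine ⟨M, inferInstance, hM, ?_⟩
  let c : ((j i).opensRange : Scheme.{u}) ⟶ Spec (CommRingCat.of (T i)) := (Scheme.Hom.isoOpensRange (j i)).inv
  obtain ⟨k, hk, -⟩ := SGA3cLib.GrpBC.nonempty_iso_restrict (str R (T i)) c ((j i).opensRange.ι ≫ f) (by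
    rw [← hj, ← Category.assoc, Scheme.Hom.isoOpensRange_inv_comp]) (sp R A) d
  haveI := hk
  exact ⟨Grp.mkIso' k⟩

theorem multTypeFT_iff {A : Type u} [CommRing A] [HopfAlgebra R A] :
    SGA3x.IsMultTypeFT (sp R A) ↔ Algebra.FiniteType R A ∧ SGA3b.IsMultType R A :=
  ⟨fun h => ⟨finiteType_of_multTypeFT h, isMultType_of_multTypeFT h⟩, fun h => multTypeFT_of_isMultType h.1 h.2⟩

/-- A group of multiplicative type over a ring is the spectrum of a Hopf algebra of multiplicative type. -/
theorem exists_hopf (H : Over (Spec (CommRingCat.of R))) [GrpObj H] (hH : SGA3x.IsMultTypeFT H) :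
    ∃ (A : Type u) (_ : CommRing A) (_ : HopfAlgebra R A),
      Algebra.FiniteType R A ∧ SGA3b.IsMultType R A ∧ Nonempty (Grp.mk H ≅ Grp.mk (sp R A)) := by
  haveI := isAffineHom_of_multTypeFT H hH
  haveI : IsAffine H.left := isAffine_of_isAffineHom H.hom
  obtain ⟨A, _, _, ⟨e⟩⟩ := exists_spec H
  have h := multTypeFT_iff.mp (isMultTypeFT_of_iso e hH)
  exact ⟨A, inferInstance, inferInstance, h.1, h.2, ⟨e⟩⟩

end Groth.Agent.IsoTriv.SchemeBridge
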