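import Groth.Agent.IsoTriv.Criterion
import Mathlib.RingTheory.HopfAlgebra.Convolution
import Mathlib.FieldTheory.IsAlgClosed.Basic
import Mathlib.RingTheory.Jacobson.Ring
import Mathlib.RingTheory.Ideal.MinimalPrime.Noetherian

/-! Commutative algebraic groups with an open diagonalisable subgroup containing all torsion. -/

universe u

open TensorProduct Coalgebra WithConv

namespace Groth.Agent.IsoTriv

open SGA3bLib

/-- A Noetherian ring has finitely many idempotents. -/
theorem finite_idempotents (B : Type u) [CommRing B] [IsNoetherianRing B] :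
    Finite {e : B // IsIdempotentElem e} := by
  have hfin : (minimalPrimes B).Finite := minimalPrimes.finite_of_isNoetherianRing B
  have := hfin.to_subtype
  refine Finite.of_injective (fun e => {P : minimalPrimes B | e.1 ∈ (P : Ideal B)}) fun e f hef => ?_
  refine Subtype.ext (eq_of_isNilpotent_sub_of_isIdempotentElem e.2 f.2 ?_)
  rw [← mem_nilradical, nilradical_eq_sInf, Ideal.mem_sInf]
  intro P hP
  have : P.IsPrime := hP
  obtain ⟨Q, hQ, hQP⟩ := Ideal.exists_minimalPrimes_le (I := (⊥ : Ideal B)) (J := P) bot_le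
  apply hQP
  have hQp : Q.IsPrime := hQ.1.1
  have hiff : e.1 ∈ Q ↔ f.1 ∈ Q := Set.ext_iff.mp hef ⟨Q, hQ⟩
  have hone : ∀ {x : B}, IsIdempotentElem x → x ∉ Q → 1 - x ∈ Q := fun {x} hx hxQ =>
    (hQp.mem_or_mem (show x * (1 - x) ∈ Q by rw [mul_sub, mul_one, hx, sub_self]; exact Q.zero_mem)).resolve_left hxQ
  by_cases he : e.1 ∈ Q
  · exact Q.sub_mem he (hiff.mp he)
  · have h1 := Q.sub_mem (hone f.2 (fun h => he (hiff.mpr h))) (hone e.2 he)
    rwa [sub_sub_sub_cancel_left] at h1

variable {L : Type u} [Field L] {B : Type u} [CommRing B] [HopfAlgebra L B] [Coalgebra.IsCocomm L B]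
  {N : Type u} [CommGroup N]

omit [Coalgebra.IsCocomm L B] in
theorem point_comp_powConv (x : B →ₐ[L] L) (n : ℕ) (b : B) :
    x (SGA3b.powConv L B n b) = (toConv x ^ n).ofConv b := by
  have h : x.comp (SGA3b.powConv L B n) = (toConv x ^ n).ofConv := by
    induction n with
    | zero =>
      simp only [SGA3b.powConv, pow_zero]
      exact AlgHom.ext fun c => x.commutes _
    | succ n ih =>
      simp only [SGA3b.powConv] at ih ⊢
      rw [pow_succ, pow_succ, AlgHom.comp_convMul_distrib, ih]
      rfl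
  exact AlgHom.congr_fun h b

/-- Points of the subgroup cut out by a map to a group algebra. -/
noncomputable def subgroupPoint (Φ : B →ₐc[L] MonoidAlgebra L N) : (N →* L) →* WithConv (B →ₐ[L] L) where
  toFun χ := toConv ((MonoidAlgebra.lift L L N χ).comp (Φ : B →ₐ[L] MonoidAlgebra L N))
  map_one' := by
    refine WithConv.ofConv_injective (AlgHom.ext fun b => ?_)
    refine Eq.trans (AlgHom.congr_fun (show MonoidAlgebra.lift L L N 1 = Bialgebra.counitAlgHom L (MonoidAlgebra L N) from
      MonoidAlgebra.algHom_ext (single_one_left := Subsingleton.elim _ _) fun m => by simp) (Φ b)) ?_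
    exact CoalgHomClass.counit_comp_apply Φ b
  map_mul' χ ψ := by
    have h : MonoidAlgebra.lift L L N (χ * ψ) =
        (toConv (MonoidAlgebra.lift L L N χ) * toConv (MonoidAlgebra.lift L L N ψ)).ofConv :=
      MonoidAlgebra.algHom_ext (single_one_left := Subsingleton.elim _ _) fun m => by
        simp [AlgHom.convMul_def]
    refine WithConv.ofConv_injective ?_
    exact (congrArg (fun F : MonoidAlgebra L N →ₐ[L] L => F.comp (Φ : B →ₐ[L] MonoidAlgebra L N)) h).trans
      (AlgHom.convMul_comp_bialgHom_distrib _ _ Φ)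

/-- Up to torsion, homomorphisms to an algebraically closed field have roots. -/
theorem exists_root_hom [IsAlgClosed L] (hfg : Group.FG N) (γ : N →* L) {m : ℕ} (hm : 0 < m) :
    ∃ (χ : N →* L) (c : ℕ), 0 < c ∧ χ ^ (m * c) = γ ^ c := by
  classical
  have : AddGroup.FG (Additive N) := AddGroup.fg_iff_mul_fg.mpr (by
    show Group.FG (Multiplicative (Additive N))
    exact hfg)
  obtain ⟨r, ι, hι, p, hp, e, ⟨f⟩⟩ := AddCommGroup.equiv_free_prod_directSum_zmod (Additive N)
  let c : ℕ := ∏ i, p i ^ e i
  have hc : 0 < c := Finset.prod_pos fun i _ => pow_pos (hp i).pos _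
  let g : Additive N →+ Additive Lˣ := MonoidHom.toAdditive γ.toHomUnits
  have hroot : ∀ j : Fin r, ∃ z : Lˣ, z ^ m = Additive.toMul (g (f.symm (Finsupp.single j 1, 0))) := fun j => by
    set w : Lˣ := Additive.toMul (g (f.symm (Finsupp.single j 1, 0)))
    obtain ⟨z, hz⟩ := IsAlgClosed.exists_pow_nat_eq (w : L) hm
    have hz0 : z ≠ 0 := fun h => w.ne_zero (by rw [← hz, h, zero_pow hm.ne'])
    exact ⟨Units.mk0 z hz0, Units.ext (by simpa using hz)⟩
  choose z hz using hroot
  let ψ : Additive N →+ Additive Lˣ :=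
    ((Finsupp.liftAddHom fun j => zmultiplesHom (Additive Lˣ) (Additive.ofMul (z j))).comp
      (AddMonoidHom.fst _ _)).comp f.toAddMonoidHom
  have key : ∀ a : Fin r →₀ ℤ, m • ψ (f.symm (a, 0)) = g (f.symm (a, 0)) := fun a => by
    induction a using Finsupp.induction_linear with
    | zero => rw [Prod.mk_zero_zero, map_zero, map_zero, smul_zero, map_zero]
    | add a b ha hb =>
      rw [show f.symm (a + b, 0) = f.symm (a, 0) + f.symm (b, 0) by rw [← map_add]; simp, map_add, nsmul_add, ha, hb,
        map_add]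
    | single j k =>
      have h1 : ((Finsupp.single j k, 0) : (Fin r →₀ ℤ) × (DirectSum ι fun i => ZMod (p i ^ e i))) =
          k • (Finsupp.single j 1, 0) := by simp
      rw [h1, map_zsmul, map_zsmul, map_zsmul, ← natCast_zsmul, smul_comm, natCast_zsmul]
      congr 1
      have : ψ (f.symm (Finsupp.single j 1, 0)) = Additive.ofMul (z j) := by simp [ψ]
      rw [this]
      exact congrArg Additive.ofMul (hz j)
  let χ : N →* L :=
    { toFun := fun x => ((Additive.toMul (ψ (Additive.ofMul x)) : Lˣ) : L)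
      map_one' := by rw [show Additive.ofMul (1 : N) = 0 from rfl, map_zero]; rfl
      map_mul' := fun x y => by
        rw [show Additive.ofMul (x * y) = Additive.ofMul x + Additive.ofMul y from rfl, map_add]; rfl }
  refine ⟨χ, c, hc, MonoidHom.ext fun x => ?_⟩
  have hD : c • (f (Additive.ofMul x)).2 = 0 := by
    refine DFinsupp.ext fun i => ?_
    rw [DFinsupp.smul_apply, nsmul_eq_mul,
      (ZMod.natCast_eq_zero_iff c _).mpr (Finset.dvd_prod_of_mem _ (Finset.mem_univ i)), zero_mul]
    rfl
  have hy : c • Additive.ofMul x = f.symm (c • (f (Additive.ofMul x)).1, 0) := by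
    apply f.injective
    rw [map_nsmul, AddEquiv.apply_symm_apply, ← hD]
    rfl
  have h2 := key (c • (f (Additive.ofMul x)).1)
  rw [← hy, map_nsmul, map_nsmul, ← mul_smul] at h2
  have h3 := congrArg (fun z : Additive Lˣ => ((Additive.toMul z : Lˣ) : L)) h2
  simp only [toMul_nsmul, Units.val_pow_eq_pow_val] at h3
  exact h3

/-- A point killing an idempotent Hopf ideal up to a positive power lies in the open subgroup. -/
theorem exists_pow_mem [Algebra.FiniteType L B] {e : B} (he : IsIdempotentElem e)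
    (hce : counit (R := L) e = 0) (x : B →ₐ[L] L) : ∃ m : ℕ, 0 < m ∧ (toConv x ^ m).ofConv e = 0 := by
  have : IsNoetherianRing B := Algebra.FiniteType.isNoetherianRing L B
  have := finite_idempotents B
  let τ : ℕ → B →ₐ[L] B := fun k => (Algebra.TensorProduct.lift ((Algebra.ofId L B).comp (toConv x ^ k).ofConv)
    (AlgHom.id L B) fun _ _ => Commute.all _ _).comp (Bialgebra.comulAlgHom L B)
  obtain ⟨i, j, hij, heq⟩ :=
    Finite.exists_ne_map_eq_of_infinite fun k => (⟨τ k e, he.map (τ k)⟩ : {b : B // IsIdempotentElem b})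
  wlog hlt : i < j generalizing i j
  · exact this j i hij.symm heq.symm (by omega)
  refine ⟨j - i, by omega, ?_⟩
  have hev : ∀ (k : ℕ) (y : WithConv (B →ₐ[L] L)), y.ofConv (τ k e) = (toConv x ^ k * y).ofConv e := by
    intro k y
    refine Eq.trans ?_ (AlgHom.convMul_apply _ _ _).symm
    exact AlgHom.congr_fun (show y.ofConv.comp (Algebra.TensorProduct.lift ((Algebra.ofId L B).comp (toConv x ^ k).ofConv)
        (AlgHom.id L B) fun _ _ => Commute.all _ _) = Algebra.TensorProduct.lift (toConv x ^ k).ofConv y.ofConv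
          fun _ _ => Commute.all _ _ from Algebra.TensorProduct.ext
      (AlgHom.ext fun b => by simp [Algebra.ofId_apply]) (AlgHom.ext fun b => by simp)) (comul e)
  have h : τ i e = τ j e := congrArg Subtype.val heq
  have h1 := congrArg ((toConv x ^ i)⁻¹).ofConv h
  rw [hev, hev, mul_inv_cancel] at h1
  rw [show toConv x ^ j = toConv x ^ i * toConv x ^ (j - i) by rw [← pow_add]; congr 1; omega, mul_comm (toConv x ^ i),
    mul_inv_cancel_right] at h1
  rw [← h1]
  exact hce

/-- Over an algebraically closed field: an open diagonalisable subgroup containing all torsion is everything. -/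
theorem eq_zero_of_torsion_field [IsAlgClosed L] [Algebra.FiniteType L B] (Φ : B →ₐc[L] MonoidAlgebra L N)
    (hΦ : Function.Surjective Φ) {e : B} (he : IsIdempotentElem e)
    (hker : RingHom.ker (Φ : B →ₐ[L] MonoidAlgebra L N) = Ideal.span {e})
    (htor : ∀ n : ℕ, 0 < n → e ∈ SGA3b.torsionIdeal L B n) : e = 0 := by
  have hΦe : Φ e = 0 := by
    have : e ∈ RingHom.ker (Φ : B →ₐ[L] MonoidAlgebra L N) := hker ▸ Ideal.mem_span_singleton_self e
    exact this
  have hce : counit (R := L) e = 0 := by
    rw [← CoalgHomClass.counit_comp_apply Φ e, hΦe, map_zero]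
  have : Algebra.FiniteType L (MonoidAlgebra L N) :=
    Algebra.FiniteType.of_surjective (Φ : B →ₐ[L] MonoidAlgebra L N) hΦ
  have hfg : Group.FG N := Group.fg_iff_monoid_fg.mpr (MonoidAlgebra.finiteType_iff_fg.mp this)
  have hmem : ∀ z : WithConv (B →ₐ[L] L), z.ofConv e = 0 → ∃ χ, subgroupPoint Φ χ = z := by
    intro z hz
    have hle : RingHom.ker (Φ : B →ₐ[L] MonoidAlgebra L N) ≤ RingHom.ker z.ofConv := by
      rw [hker, Ideal.span_singleton_le_iff_mem]
      exact hz
    let γ := AlgHom.liftOfSurjective (Φ : B →ₐ[L] MonoidAlgebra L N) hΦ z.ofConv hle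
    obtain ⟨χ, hχ⟩ := (MonoidAlgebra.lift L L N).surjective γ
    refine ⟨χ, WithConv.ofConv_injective (AlgHom.ext fun b => ?_)⟩
    show MonoidAlgebra.lift L L N χ (Φ b) = z.ofConv b
    rw [hχ]
    exact AlgHom.liftOfSurjective_apply _ _ _ _ b
  have hsub : ∀ χ, (subgroupPoint Φ χ).ofConv e = 0 := fun χ => by
    show MonoidAlgebra.lift L L N χ (Φ e) = 0
    rw [hΦe, map_zero]
  have hpt : ∀ x : B →ₐ[L] L, x e = 0 := by
    intro x
    obtain ⟨m, hm, hxm⟩ := exists_pow_mem he hce x
    obtain ⟨γ, hγ⟩ := hmem _ hxm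
    obtain ⟨χ, c, hc, hχ⟩ := exists_root_hom hfg γ hm
    set H := subgroupPoint Φ χ
    let z := toConv x * H⁻¹
    have hz : z ^ (m * c) = 1 := by
      rw [mul_pow, inv_pow, ← map_pow, hχ, map_pow, hγ, ← pow_mul, mul_inv_cancel]
    have hze : z.ofConv e = 0 := by
      have hle : SGA3b.torsionIdeal L B (m * c) ≤ RingHom.ker z.ofConv :=
        Ideal.map_le_iff_le_comap.mpr fun a ha => by
          show z.ofConv (SGA3b.powConv L B (m * c) a) = 0
          rw [point_comp_powConv, toConv_ofConv, hz]
          exact ha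
      exact hle (htor _ (Nat.mul_pos hm hc))
    obtain ⟨ζ, hζ⟩ := hmem z hze
    have := hsub (ζ * χ)
    rw [map_mul, hζ, inv_mul_cancel_right] at this
    exact this
  have hnil : IsNilpotent e := by
    have : IsJacobsonRing B := isJacobsonRing_of_finiteType (A := L)
    rw [← mem_nilradical, nilradical, Ideal.radical_eq_jacobson, Ideal.jacobson, Ideal.mem_sInf]
    rintro M ⟨-, hM⟩
    letI : Field (B ⧸ M) := Ideal.Quotient.field M
    have : Algebra.FiniteType L (B ⧸ M) :=
      Algebra.FiniteType.of_surjective (Ideal.Quotient.mkₐ L M) Ideal.Quotient.mk_surjective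
    have : Module.Finite L (B ⧸ M) := finite_of_finite_type_of_isJacobsonRing L (B ⧸ M)
    have hbij : Function.Bijective (algebraMap L (B ⧸ M)) := IsAlgClosed.algebraMap_bijective_of_isIntegral
    let σ : (B ⧸ M) ≃ₐ[L] L := (AlgEquiv.ofBijective (Algebra.ofId L (B ⧸ M)) hbij).symm
    have h := hpt (σ.toAlgHom.comp (Ideal.Quotient.mkₐ L M))
    rw [← Ideal.Quotient.eq_zero_iff_mem]
    exact σ.injective (h.trans (map_zero σ).symm)
  exact he.eq_zero_of_isNilpotent hnil

end Groth.Agent.IsoTriv
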