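import Groth.Agent.IsoTriv.Local
import Groth.Agent.IsoTriv.TypeLocus
import Groth.Agent.IsoTriv.FieldTorsion
import Mathlib.RingTheory.TotallySplit
import Mathlib.RingTheory.HopfAlgebra.GroupLike
import Mathlib.RingTheory.Bialgebra.MonoidAlgebra
import Mathlib.RingTheory.Spectrum.Prime.FreeLocus
import Mathlib.RingTheory.Localization.Away.Lemmas

/-! Finite groups of multiplicative type over a connected base are isotrivial. -/

universe u

open TensorProduct Coalgebra

namespace Groth.Agent.IsoTriv

open SGA3bLib

theorem eq_zero_or_one_of_idempotent {S : Type u} [CommRing S] [ConnectedSpace (PrimeSpectrum S)] {e : S}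
    (he : IsIdempotentElem e) : e = 0 ∨ e = 1 := by
  rcases isClopen_iff.mp (PrimeSpectrum.isClopen_iff.mpr ⟨e, he, rfl⟩) with h | h
  · exact Or.inl (PrimeSpectrum.basicOpen_injOn_isIdempotentElem he IsIdempotentElem.zero
      (SetLike.coe_injective (by rw [h, PrimeSpectrum.basicOpen_zero]; rfl)))
  · exact Or.inr (PrimeSpectrum.basicOpen_injOn_isIdempotentElem he IsIdempotentElem.one
      (SetLike.coe_injective (by rw [h, PrimeSpectrum.basicOpen_one]; rfl)))

variable {R : Type u} [CommRing R]

/-- A finite etale algebra over a connected base has a finite etale connected quotient covering the base. -/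
theorem exists_connected_component [ConnectedSpace (PrimeSpectrum R)] (T : Type u) [CommRing T] [Algebra R T]
    [Nontrivial T] [Module.Finite R T] [Algebra.Etale R T] :
    ∃ (T' : Type u) (_ : CommRing T') (_ : Algebra R T') (_ : T →ₐ[R] T'), Module.Finite R T' ∧ Algebra.Etale R T' ∧
      Module.FaithfullyFlat R T' ∧ Nontrivial T' ∧ ∀ f : T', IsIdempotentElem f → f = 0 ∨ f = 1 := by
  classical
  obtain ⟨p⟩ := (inferInstance : Nonempty (PrimeSpectrum R))
  have hinj : ∀ e e' : T, IsIdempotentElem e → IsIdempotentElem e' →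
      (1 : p.asIdeal.ResidueField) ⊗ₜ[R] e = (1 : p.asIdeal.ResidueField) ⊗ₜ[R] e' → e = e' := by
    intro e e' he he' h
    suffices ∀ d : T, IsIdempotentElem d → (1 : p.asIdeal.ResidueField) ⊗ₜ[R] d = 0 → d = 0 by
      have h1 := this (e * (1 - e')) (he.mul he'.one_sub) (by
        rw [← mul_one (1 : p.asIdeal.ResidueField), ← Algebra.TensorProduct.tmul_mul_tmul, h,
          Algebra.TensorProduct.tmul_mul_tmul, mul_sub, mul_one e', he'.eq, sub_self, TensorProduct.tmul_zero])
      have h2 := this (e' * (1 - e)) (he'.mul he.one_sub) (by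
        rw [← mul_one (1 : p.asIdeal.ResidueField), ← Algebra.TensorProduct.tmul_mul_tmul, ← h,
          Algebra.TensorProduct.tmul_mul_tmul, mul_sub, mul_one e, he.eq, sub_self, TensorProduct.tmul_zero])
      linear_combination h1 - h2
    intro d hd hd0
    let P : T →ₗ[R] T := LinearMap.mulLeft R d
    let N := LinearMap.range P
    let π : T →ₗ[R] N := P.rangeRestrict
    have hπ : π ∘ₗ N.subtype = LinearMap.id := LinearMap.ext fun ⟨x, y, hy⟩ => Subtype.ext (by
      show d * x = x
      rw [← hy]
      show d * (d * y) = d * y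
      rw [← mul_assoc, hd.eq])
    have : Module.Flat R T := inferInstance
    have : Module.FinitePresentation R T := Module.FinitePresentation.of_finite_of_finitePresentation R _
    have : Module.Projective R T := Module.Flat.projective_of_finitePresentation
    have : Module.Projective R N := Module.Projective.of_split N.subtype π hπ
    have : Module.Finite R N := Module.Finite.range P
    have : Module.FinitePresentation R N := Module.finitePresentation_of_projective R N
    have hsub : Subsingleton (p.asIdeal.ResidueField ⊗[R] N) := by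
      refine ⟨fun z w => ?_⟩
      have hz : ∀ z : p.asIdeal.ResidueField ⊗[R] N, z = 0 := fun z => by
        induction z using TensorProduct.induction_on with
        | zero => rfl
        | add a b ha hb => rw [ha, hb, add_zero]
        | tmul c x =>
          have h1 : π (x : T) = x := LinearMap.congr_fun hπ x
          have h2 : c ⊗ₜ[R] (x : T) = 0 := by
            obtain ⟨y, hy⟩ := x.2
            rw [← hy]
            show c ⊗ₜ[R] (d * y) = 0
            rw [← one_mul c, ← Algebra.TensorProduct.tmul_mul_tmul, hd0, zero_mul]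
          have h3 := congrArg (π.lTensor p.asIdeal.ResidueField) h2
          rw [LinearMap.lTensor_tmul, h1, map_zero] at h3
          exact h3
      rw [hz z, hz w]
    have h0 : Module.rankAtStalk (R := R) N = 0 := funext fun q => by
      rw [(Module.isLocallyConstant_rankAtStalk (R := R) (M := N)).apply_eq_of_preconnectedSpace q p,
        Module.rankAtStalk_eq]
      exact Module.finrank_zero_of_subsingleton
    have := Module.rankAtStalk_eq_zero_iff_subsingleton.mp h0
    have h4 : (⟨d, 1, mul_one d⟩ : N) = 0 := Subsingleton.elim _ _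
    exact congrArg Subtype.val h4
  have : Module.Finite p.asIdeal.ResidueField (p.asIdeal.ResidueField ⊗[R] T) := inferInstance
  have : IsNoetherianRing (p.asIdeal.ResidueField ⊗[R] T) :=
    IsNoetherianRing.of_finite p.asIdeal.ResidueField (p.asIdeal.ResidueField ⊗[R] T)
  have := finite_idempotents (p.asIdeal.ResidueField ⊗[R] T)
  have : Finite {e : T // IsIdempotentElem e} :=
    Finite.of_injective (β := {e : p.asIdeal.ResidueField ⊗[R] T // IsIdempotentElem e})
      (fun e => ⟨(Algebra.TensorProduct.includeRight : T →ₐ[R] p.asIdeal.ResidueField ⊗[R] T) e, e.2.map _⟩)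
      fun e e' h => Subtype.ext (hinj e e' e.2 e'.2 (congrArg Subtype.val h))
  have := Fintype.ofFinite {e : T // IsIdempotentElem e}
  obtain ⟨⟨e, he⟩, hemem, hemin⟩ := Finset.exists_min_image
    ((Finset.univ : Finset {e : T // IsIdempotentElem e}).filter fun e : {e : T // IsIdempotentElem e} => e.val ≠ 0)
    (fun e : {e : T // IsIdempotentElem e} =>
      (Finset.univ.filter fun f : {f : T // IsIdempotentElem f} => f.val * e.val = f.val).card)
    ⟨⟨1, IsIdempotentElem.one⟩, Finset.mem_filter.mpr ⟨Finset.mem_univ _, one_ne_zero⟩⟩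
  have he0 : e ≠ 0 := (Finset.mem_filter.mp hemem).2
  have hatom : ∀ f : T, IsIdempotentElem f → f * e = 0 ∨ f * e = e := by
    intro f hf
    by_contra! hcon
    have hfe : IsIdempotentElem (f * e) := hf.mul he
    refine absurd (hemin ⟨f * e, hfe⟩ (Finset.mem_filter.mpr ⟨Finset.mem_univ _, hcon.1⟩)) (not_le.mpr ?_)
    refine Finset.card_lt_card ⟨fun g hg => ?_, fun hss => ?_⟩
    · simp only [Finset.mem_filter, Finset.mem_univ, true_and] at hg ⊢
      rw [← hg, mul_assoc, mul_assoc f e e, he.eq]
    · have h1 := hss (show (⟨e, he⟩ : {f : T // IsIdempotentElem f}) ∈ _ from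
        Finset.mem_filter.mpr ⟨Finset.mem_univ _, he.eq⟩)
      simp only [Finset.mem_filter, Finset.mem_univ, true_and] at h1
      exact hcon.2 (by linear_combination (-f) * he.eq + h1)
  let T' := T ⧸ Ideal.span {1 - e}
  have hloc : IsLocalization.Away e T' := IsLocalization.away_of_isIdempotentElem he Ideal.mk_ker Ideal.Quotient.mk_surjective
  have hfin : Module.Finite R T' :=
    Module.Finite.of_surjective (Ideal.Quotient.mkₐ R (Ideal.span {1 - e})).toLinearMap Ideal.Quotient.mk_surjective
  have : Algebra.Etale T T' := Algebra.Etale.of_isLocalizationAway e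
  have het : Algebra.Etale R T' := Algebra.Etale.comp R T T'
  have hnt : Nontrivial T' := Ideal.Quotient.nontrivial_iff.mpr fun h => he0 (by
    obtain ⟨c, hc⟩ := Ideal.mem_span_singleton'.mp (show (1 : T) ∈ Ideal.span {1 - e} by rw [h]; trivial)
    calc e = e * (c * (1 - e)) := by rw [hc, mul_one]
      _ = c * (e - e * e) := by ring
      _ = 0 := by rw [he.eq, sub_self, mul_zero])
  refine ⟨T', inferInstance, inferInstance, Ideal.Quotient.mkₐ R _, hfin, het, ?_, hnt, fun f hf => ?_⟩
  · have : Module.Flat R T' := inferInstance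
    have : Module.FinitePresentation R T' := Module.FinitePresentation.of_finite_of_finitePresentation R _
    refine Module.FaithfullyFlat.of_comap_surjective ?_
    rw [← PrimeSpectrum.rankAtStalk_pos_iff_comap_surjective]
    intro q
    obtain ⟨m, hm⟩ := Ideal.exists_maximal T'
    have hp : 0 < Module.rankAtStalk (R := R) T' (PrimeSpectrum.comap (algebraMap R T') ⟨m, hm.isPrime⟩) :=
      (PrimeSpectrum.rankAtStalk_pos_iff_mem_range_comap (S := T') _).mpr ⟨_, rfl⟩
    rw [(Module.isLocallyConstant_rankAtStalk (R := R) (M := T')).apply_eq_of_preconnectedSpace q]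
    exact hp
  · obtain ⟨g, rfl⟩ := Ideal.Quotient.mk_surjective f
    have h1 : g * g - g ∈ Ideal.span {1 - e} :=
      (Ideal.Quotient.mk_eq_mk_iff_sub_mem _ _).mp ((map_mul _ g g).trans hf)
    obtain ⟨c, hc⟩ := Ideal.mem_span_singleton'.mp h1
    have hge : IsIdempotentElem (g * e) := by
      show g * e * (g * e) = g * e
      linear_combination (g * g - c) * he.eq - e * hc
    have hq : Ideal.Quotient.mk (Ideal.span {1 - e}) (g * e) = Ideal.Quotient.mk _ g := by
      rw [Ideal.Quotient.mk_eq_mk_iff_sub_mem]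
      exact Ideal.mem_span_singleton'.mpr ⟨-g, by ring⟩
    rcases hatom _ hge with h0 | h0
    · left
      rw [← hq, show g * e = g * e * e by rw [mul_assoc, he.eq], h0, map_zero]
    · right
      rw [← hq, show g * e = g * e * e by rw [mul_assoc, he.eq], h0, ← map_one (Ideal.Quotient.mk _),
        Ideal.Quotient.mk_eq_mk_iff_sub_mem]
      exact Ideal.mem_span_singleton'.mpr ⟨-1, by ring⟩

variable {A : Type u} [CommRing A] [HopfAlgebra R A]

theorem mul'_map_evS (S : Type u) [CommRing S] [Algebra R S] (φ ψ : CartDual.D R A) (z : S ⊗[R] A) :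
    LinearMap.mul' S S (TensorProduct.map (evS S φ) (evS S ψ) (comul (R := S) z)) = evS S (φ * ψ) z := by
  induction z using TensorProduct.induction_on with
  | zero => simp
  | add u v hu hv => simp only [map_add, hu, hv]
  | tmul s a =>
    rw [evS_tmul, CartDual.coe_apply, WithConv.ofConv_toConv, TensorProduct.comul_tmul, CommSemiring.comul_apply]
    show _ = LinearMap.mul' R R (TensorProduct.map φ.ofConv ψ.ofConv (comul a)) • s
    generalize comul (R := R) a = w
    induction w using TensorProduct.induction_on with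
    | zero => simp
    | add u v hu hv => simp [tmul_add, map_add, hu, hv, add_smul]
    | tmul x y =>
      simp [evS_tmul, CartDual.coe_apply, Algebra.smul_def]
      ring

variable [Coalgebra.IsCocomm R A]

/-- A finite group whose dual is split over a ring without nontrivial idempotents is diagonalisable there. -/
theorem isDiag_of_split [Module.Finite R A] [Module.Projective R A] (T : Type u) [CommRing T] [Algebra R T]
    [Nontrivial T] (hT : ∀ f : T, IsIdempotentElem f → f = 0 ∨ f = 1) {n : ℕ}
    (a : T ⊗[R] CartDual.D R A ≃ₐ[T] (Fin n → T)) : SGA3b.IsDiag T (T ⊗[R] A) := by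
  classical
  obtain ⟨k, b, φ, hb⟩ := exists_dualBasis R A
  let τ : Fin n → (CartDual.D R A →ₐ[R] T) := fun i =>
    (((Pi.evalAlgHom T (fun _ : Fin n => T) i).comp a.toAlgHom).restrictScalars R).comp Algebra.TensorProduct.includeRight
  let x : Fin n → T ⊗[R] A := fun i => ∑ j, τ i (φ j) ⊗ₜ[R] b j
  have hev : ∀ i ψ, evS T ψ (x i) = τ i ψ := fun i ψ => by
    conv_rhs => rw [← sum_dual hb ψ, map_sum]
    rw [map_sum]
    refine Finset.sum_congr rfl fun j _ => ?_
    rw [evS_tmul, map_smul]
  have hext : ∀ z w : T ⊗[R] A, (∀ ψ, evS T ψ z = evS T ψ w) → z = w := fun z w h => by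
    rw [← sum_evS hb z, ← sum_evS hb w]
    simp only [h]
  let F : T ⊗[R] CartDual.D R A →ₗ[T] (T ⊗[R] A →ₗ[T] T) := TensorProduct.AlgebraTensorModule.lift
    { toFun := fun t =>
        { toFun := fun ψ => t • evS T ψ
          map_add' := fun u v => by rw [evS_add, smul_add]
          map_smul' := fun r u => LinearMap.ext fun z => by
            simp only [LinearMap.smul_apply, evS_smul, RingHom.id_apply, smul_comm t r] }
      map_add' := fun u v => by ext ψ : 1; exact add_smul u v _
      map_smul' := fun u v => by ext ψ : 1; exact mul_smul u v _ }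
  have hF : ∀ t ψ z, F (t ⊗ₜ[R] ψ) z = t * evS T ψ z := fun t ψ z => rfl
  have hFx : ∀ w i, F w (x i) = a w i := fun w i => by
    induction w using TensorProduct.induction_on with
    | zero => simp
    | add u v hu hv => rw [map_add, LinearMap.add_apply, hu, hv, map_add, Pi.add_apply]
    | tmul t ψ =>
      rw [hF, hev]
      have : t ⊗ₜ[R] ψ = t • ((1 : T) ⊗ₜ[R] ψ) := by rw [TensorProduct.smul_tmul', smul_eq_mul, mul_one]
      rw [this, map_smul, Pi.smul_apply, smul_eq_mul]
      rfl
  have hgl : ∀ i, IsGroupLikeElem T (x i) := fun i => by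
    refine ⟨?_, ?_⟩
    · have key : ∀ z : T ⊗[R] A, evS T (1 : CartDual.D R A) z = counit (R := T) z := fun z => by
        induction z using TensorProduct.induction_on with
        | zero => simp
        | add u v hu hv => rw [map_add, map_add, hu, hv]
        | tmul s c => simp [evS_tmul, CartDual.coe_apply, LinearMap.convOne_def]
      rw [← key, hev, map_one]
    · let Φ : (T ⊗[R] A) ⊗[T] (T ⊗[R] A) → (Fin k → Fin k → T) := fun w p q =>
        LinearMap.mul' T T (TensorProduct.map (evS T (φ p)) (evS T (φ q)) w)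
      have hrec : ∀ w : (T ⊗[R] A) ⊗[T] (T ⊗[R] A),
          ∑ p, ∑ q, Φ w p q • (((1 : T) ⊗ₜ[R] b p) ⊗ₜ[T] ((1 : T) ⊗ₜ[R] b q)) = w := fun w => by
        induction w using TensorProduct.induction_on with
        | zero => simp [Φ]
        | add u v hu hv => simp only [Φ, map_add, add_smul, Finset.sum_add_distrib] at hu hv ⊢; rw [hu, hv]
        | tmul u v =>
          have hs : ∀ u : T ⊗[R] A, ∑ p, evS T (φ p) u • ((1 : T) ⊗ₜ[R] b p) = u := fun u => by
            conv_rhs => rw [← sum_evS hb u]
            exact Finset.sum_congr rfl fun j _ => by rw [TensorProduct.smul_tmul', smul_eq_mul, mul_one]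
          conv_rhs => rw [← hs u, ← hs v, TensorProduct.sum_tmul]
          refine Finset.sum_congr rfl fun p _ => ?_
          rw [TensorProduct.tmul_sum]
          refine Finset.sum_congr rfl fun q _ => ?_
          simp only [Φ, TensorProduct.map_tmul, LinearMap.mul'_apply, TensorProduct.tmul_smul,
            ← TensorProduct.smul_tmul', smul_smul, mul_comm]
      rw [← hrec (comul (x i)), ← hrec (x i ⊗ₜ[T] x i)]
      simp only [Φ, mul'_map_evS, hev, map_mul, TensorProduct.map_tmul, LinearMap.mul'_apply]
  have hproj : ∀ τ' : T ⊗[R] CartDual.D R A →ₐ[T] T, ∃ i, ∀ w, τ' w = a w i := by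
    intro τ'
    let σ := τ'.comp a.symm.toAlgHom
    have hidem : ∀ i, σ (Pi.single i 1) = 0 ∨ σ (Pi.single i 1) = 1 := fun i =>
      hT _ (IsIdempotentElem.map (show IsIdempotentElem (Pi.single i 1 : Fin n → T) by
        show (Pi.single i 1 : Fin n → T) * Pi.single i 1 = Pi.single i 1
        rw [← Pi.single_mul, mul_one]) σ)
    obtain ⟨i, hi⟩ : ∃ i, σ (Pi.single i 1) = 1 := by
      by_contra! hcon
      have : σ 1 = 0 := by
        rw [← Finset.univ_sum_single (1 : Fin n → T), map_sum]
        exact Finset.sum_eq_zero fun i _ => (hidem i).resolve_right (hcon i)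
      exact one_ne_zero ((map_one σ).symm.trans this)
    refine ⟨i, fun w => ?_⟩
    have : σ (a w) = σ (a w * Pi.single i 1) := by rw [map_mul, hi, mul_one]
    rw [show a w * Pi.single i 1 = (a w i) • Pi.single i (1 : T) by
      ext j; by_cases h : j = i
      · subst h; simp
      · simp [Pi.single_eq_of_ne h], map_smul, hi, smul_eq_mul, mul_one] at this
    simpa [σ] using this
  have hall : ∀ g : GroupLike T (T ⊗[R] A), ∃ i, x i = g.val := by
    intro g
    obtain ⟨i, hi⟩ := hproj (Algebra.TensorProduct.lift (Algebra.ofId T T) (toPoint g.val g.2) fun _ _ => Commute.all _ _)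
    refine ⟨i, hext _ _ fun ψ => ?_⟩
    have := hi ((1 : T) ⊗ₜ[R] ψ)
    rw [Algebra.TensorProduct.lift_tmul, map_one, one_mul, toPoint_apply] at this
    rw [this, hev]
    rfl
  have hbas : ∀ z : T ⊗[R] A, ∑ i, F (a.symm (Pi.single i 1)) z • x i = z := fun z => hext _ _ fun ψ => by
    rw [map_sum]
    have h1 : evS T ψ z = F ((1 : T) ⊗ₜ[R] ψ) z := by rw [hF, one_mul]
    rw [h1, show (1 : T) ⊗ₜ[R] ψ = ∑ i, a ((1 : T) ⊗ₜ[R] ψ) i • a.symm (Pi.single i 1) by
      apply a.injective
      simp only [map_sum, map_smul, AlgEquiv.apply_symm_apply]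
      ext j
      simp [Finset.sum_apply, Pi.single_apply], map_sum, LinearMap.sum_apply]
    refine Finset.sum_congr rfl fun i _ => ?_
    rw [map_smul, map_smul, LinearMap.smul_apply, smul_eq_mul, smul_eq_mul, hev, mul_comm]
    rfl
  have hx_inj : Function.Injective x := fun i j hij => by
    by_contra hne
    have h := hFx (a.symm (Pi.single i 1)) i
    rw [hij, hFx, a.apply_symm_apply, Pi.single_eq_same, Pi.single_eq_of_ne (Ne.symm hne)] at h
    exact zero_ne_one h
  let G := GroupLike T (T ⊗[R] A)
  refine ⟨G, inferInstance, ⟨(BialgEquiv.ofBijective ((MonoidAlgebra.liftGroupLikeBialgHom : MonoidAlgebra T (GroupLike T (T ⊗[R] A)) →ₐc[T] T ⊗[R] A)) ⟨?_, ?_⟩).symm⟩⟩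
  · choose idx hidx using hall
    intro u v huv
    rw [← sub_eq_zero, ← map_sub] at huv
    rw [← sub_eq_zero]
    generalize u - v = w at huv ⊢
    have hw : (MonoidAlgebra.liftGroupLikeBialgHom : MonoidAlgebra T (GroupLike T (T ⊗[R] A)) →ₐc[T] T ⊗[R] A) w = ∑ g ∈ w.coeff.support, w.coeff g • g.val := by
      conv_lhs => rw [← MonoidAlgebra.sum_coeff_single w, Finsupp.sum, map_sum]
      refine Finset.sum_congr rfl fun g _ => ?_
      rw [show MonoidAlgebra.single g (w.coeff g) = w.coeff g • MonoidAlgebra.single g (1 : T) by simp, map_smul]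
      congr 1
      simp [MonoidAlgebra.liftGroupLikeBialgHom]
    refine MonoidAlgebra.ext (Finsupp.ext fun g => ?_)
    have h := congrArg (F (a.symm (Pi.single (idx g) 1))) (hw.symm.trans huv)
    rw [map_sum, map_zero] at h
    have key : ∀ g' : G, F (a.symm (Pi.single (idx g) 1)) g'.val = if g' = g then 1 else 0 := fun g' => by
      rw [← hidx g', hFx, a.apply_symm_apply, Pi.single_apply]
      by_cases h : g' = g
      · rw [if_pos (by rw [h]), if_pos h]
      · rw [if_neg (fun hh => h (GroupLike.val_injective (by rw [← hidx g', ← hidx g, hh]))), if_neg h]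
    simp only [map_smul, key, smul_eq_mul, mul_ite, mul_one, mul_zero, Finset.sum_ite_eq', Finsupp.mem_support_iff] at h
    by_cases hg : w.coeff g = 0
    · simpa using hg
    · rw [if_pos hg] at h
      simpa using h
  · intro z
    refine ⟨∑ i, MonoidAlgebra.single (⟨x i, hgl i⟩ : G) (F (a.symm (Pi.single i 1)) z), ?_⟩
    conv_rhs => rw [← hbas z]
    rw [map_sum]
    refine Finset.sum_congr rfl fun i _ => ?_
    rw [show MonoidAlgebra.single (⟨x i, hgl i⟩ : G) (F (a.symm (Pi.single i 1)) z) =
      F (a.symm (Pi.single i 1)) z • MonoidAlgebra.single (⟨x i, hgl i⟩ : G) (1 : T) by simp, map_smul]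
    congr 1
    simp [MonoidAlgebra.liftGroupLikeBialgHom]

/-- A finite group with etale dual over a connected base is isotrivial. -/
theorem isIsotrivial_of_etale_dual [ConnectedSpace (PrimeSpectrum R)] [Module.Finite R A] [Module.Projective R A]
    [Algebra.Etale R (CartDual.D R A)] : SGA3b.IsIsotrivial R A := by
  obtain ⟨p⟩ := (inferInstance : Nonempty (PrimeSpectrum R))
  have : Module.FinitePresentation R (CartDual.D R A) := Module.finitePresentation_of_projective R _
  have hn : Module.rankAtStalk (R := R) (CartDual.D R A) = ((Module.rankAtStalk (R := R) (CartDual.D R A) p : ℕ) : PrimeSpectrum R → ℕ) :=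
    funext fun q => (Module.isLocallyConstant_rankAtStalk (R := R) (M := CartDual.D R A)).apply_eq_of_preconnectedSpace q p
  obtain ⟨T, _, _, hff, hfin, het, hsplit⟩ := Algebra.IsFiniteSplit.exists_tensorProduct_of_etale hn
  have : Nontrivial R := nontrivial_of_ne 0 1 fun h => p.2.ne_top (Ideal.eq_top_iff_one _ |>.mpr (h ▸ zero_mem _))
  have : Nontrivial T := (FaithfulSMul.algebraMap_injective R T).nontrivial
  obtain ⟨T', _, _, f, hfin', het', hff', hnt, hidem⟩ := exists_connected_component (R := R) T
  let : Algebra T T' := f.toRingHom.toAlgebra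
  have : IsScalarTower R T T' := .of_algebraMap_eq fun r => (f.commutes r).symm
  obtain ⟨n, ⟨a⟩⟩ := (Algebra.IsFiniteSplit.of_algEquiv (R := T')
    (Algebra.TensorProduct.cancelBaseChange R T T' T' (CartDual.D R A))).nonempty_algEquiv_fun
  exact ⟨T', inferInstance, inferInstance, het', hfin', hff', isDiag_of_split T' hidem a⟩

/-- The dual of a finite group diagonalisable after a faithfully flat extension is etale. -/
theorem etale_dual_of_diag [Module.Finite R A] [Module.Projective R A] (T : Type u) [CommRing T] [Algebra R T]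
    [Module.FaithfullyFlat R T] (h : SGA3b.IsDiag T (T ⊗[R] A)) : Algebra.Etale R (CartDual.D R A) := by
  rcases subsingleton_or_nontrivial T with hs | hn
  · have : Subsingleton R := (FaithfulSMul.algebraMap_injective R T).subsingleton
    have : Subsingleton (CartDual.D R A) := Module.subsingleton R _
    infer_instance
  obtain ⟨N, _, ⟨e⟩⟩ := h
  have : Module.Finite T (MonoidAlgebra T N) := Module.Finite.equiv e.toAlgEquiv.toLinearEquiv
  have : Module.Finite T (N →₀ T) := Module.Finite.equiv (MonoidAlgebra.coeffLinearEquiv T)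
  have : Finite N := Module.Finite.finite_basis (Finsupp.basisSingleOne (R := T) (ι := N))
  have : Algebra.Etale T (T ⊗[R] CartDual.D R A) :=
    Algebra.Etale.of_equiv (AlgEquiv.ofBijective _ (dualToFun_bijective e)).symm
  exact Algebra.Etale.of_etale_tensorProduct_of_faithfullyFlat T

omit [Coalgebra.IsCocomm R A] in
/-- Over a connected base a group of multiplicative type has constant type. -/
theorem isMultTypeConst_of_connected [ConnectedSpace (PrimeSpectrum R)] (h : HasCover R A) :
    SGA3b.IsMultTypeConst R A := by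
  classical
  obtain ⟨ι, _, T, _, _, hflat, hsurj, hdiag⟩ := h
  choose M hM he using hdiag
  obtain ⟨p₀⟩ := (inferInstance : Nonempty (PrimeSpectrum R))
  obtain ⟨i₀, q₀, -⟩ := hsurj p₀
  let U : ι → Set (PrimeSpectrum R) := fun i =>
    {p | ∃ j, Nonempty (M i ≃* M j) ∧ ∃ q : PrimeSpectrum (T j), q.comap (algebraMap R (T j)) = p}
  have hrange : ∀ (S : ι → Prop), ∀ i, (∀ j, S j ↔ Nonempty (M i ≃* M j)) →
      U i = Set.range (PrimeSpectrum.comap (algebraMap R (∀ j : {j // S j}, T j))) := by
    intro S i hS
    ext p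
    constructor
    · rintro ⟨j, hij, q, rfl⟩
      exact ⟨q.comap (Pi.evalAlgHom R (fun j : {j // S j} => T j) ⟨j, (hS j).mpr hij⟩).toRingHom, rfl⟩
    · rintro ⟨q, rfl⟩
      obtain ⟨j, q', hq'⟩ := hsurj (q.comap (algebraMap R _))
      refine ⟨j, ?_, q', hq'⟩
      obtain ⟨e⟩ := isDiag_pi (fun j : {j // S j} => T j) (N := M i) fun j =>
        ((he j).some).trans (MonoidAlgebra.domCongrBialgEquiv (R := T j) (A := T j) ((hS j).mp j.2).some.symm)
      exact nonempty_mulEquiv_of_over e (he j).some q q' hq'.symm
  have hclosed : ∀ i, IsClosed (U i) := fun i => by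
    rw [hrange _ i fun _ => Iff.rfl, ← PrimeSpectrum.stableUnderSpecialization_range_iff,
      ← hrange _ i fun _ => Iff.rfl]
    rintro p p' hpp ⟨j₁, hij₁, q₁, hq₁⟩
    obtain ⟨j, q', hq'⟩ := hsurj p'
    have := hflat j
    obtain ⟨q, -, hq⟩ := (Algebra.HasGoingDown.iff_generalizingMap_primeSpectrumComap (R := R) (S := T j)).mp
      inferInstance (show p ⤳ PrimeSpectrum.comap (algebraMap R (T j)) q' from hq'.symm ▸ hpp)
    obtain ⟨u⟩ := nonempty_mulEquiv_of_over (he j₁).some (he j).some q₁ q (hq₁.trans hq.symm)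
    exact ⟨j, ⟨hij₁.some.trans u⟩, q', hq'⟩
  have hcompl : (U i₀)ᶜ = ⋃ j ∈ {j | ¬ Nonempty (M i₀ ≃* M j)}, U j := Set.ext fun p => by
    simp only [Set.mem_compl_iff, Set.mem_iUnion, Set.mem_ofPred_eq, exists_prop]
    constructor
    · intro hp
      obtain ⟨j, q, hq⟩ := hsurj p
      exact ⟨j, fun h => hp ⟨j, h, q, hq⟩, j, ⟨MulEquiv.refl _⟩, q, hq⟩
    · rintro ⟨j, hij, k, hjk, q, rfl⟩ ⟨k', hik', q', hq'⟩
      obtain ⟨u⟩ := nonempty_mulEquiv_of_over (he k').some (he k).some q' q hq'
      exact hij ⟨hik'.some.trans (u.trans hjk.some.symm)⟩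
  have huniv : U i₀ = Set.univ := IsClopen.eq_univ
    ⟨hclosed i₀, isClosed_compl_iff.mp (by rw [hcompl]; exact (Set.toFinite _).isClosed_biUnion fun j _ => hclosed j)⟩
    ⟨_, i₀, ⟨MulEquiv.refl _⟩, q₀, rfl⟩
  let S : ι → Prop := fun j => Nonempty (M i₀ ≃* M j)
  refine ⟨∀ j : {j // S j}, T j, inferInstance, inferInstance, faithfullyFlat_pi _ (fun j => hflat j) (fun p => ?_),
    M i₀, hM i₀, isDiag_pi _ fun j => ((he j).some).trans (MonoidAlgebra.domCongrBialgEquiv (R := T j) (A := T j) j.2.some.symm)⟩
  obtain ⟨j, hij, q, hq⟩ : p ∈ U i₀ := huniv ▸ Set.mem_univ p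
  exact ⟨⟨j, hij⟩, q, hq⟩

end Groth.Agent.IsoTriv
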