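import Groth.Agent.IsoTriv.Spread
import Mathlib.LinearAlgebra.TensorProduct.Pi
import Mathlib.RingTheory.Flat.Basic

/-! Trivialisations over finite products and coverings. -/

universe u

open TensorProduct Coalgebra

namespace Groth.Agent.IsoTriv

open SGA3bLib

variable {R : Type u} [CommRing R] {A : Type u} [CommRing A] [HopfAlgebra R A]
  {ι : Type u} (T : ι → Type u) [∀ i, CommRing (T i)] [∀ i, Algebra R (T i)]

/-- Projections separate tensors over a finite product. -/
theorem ext_proj [Finite ι] {M : Type u} [AddCommGroup M] [Module R M] {x y : (∀ i, T i) ⊗[R] M}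
    (h : ∀ i, (Pi.evalAlgHom R T i).toLinearMap.rTensor M x = (Pi.evalAlgHom R T i).toLinearMap.rTensor M y) :
    x = y := by
  classical
  have := Fintype.ofFinite ι
  apply (TensorProduct.piLeft R M T).injective
  have key : ∀ (z : (∀ i, T i) ⊗[R] M) i,
      TensorProduct.piLeft R M T z i = (Pi.evalAlgHom R T i).toLinearMap.rTensor M z := by
    intro z i
    induction z using TensorProduct.induction_on with
    | zero => simp
    | tmul f m => simp
    | add a b ha hb => rw [map_add, Pi.add_apply, ha, hb, map_add]
  exact funext fun i => by rw [key, key]; exact h i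

theorem exists_of_proj [Finite ι] {M : Type u} [AddCommGroup M] [Module R M] (x : ∀ i, T i ⊗[R] M) :
    ∃ z : (∀ i, T i) ⊗[R] M, ∀ i, (Pi.evalAlgHom R T i).toLinearMap.rTensor M z = x i := by
  classical
  have := Fintype.ofFinite ι
  obtain ⟨z, hz⟩ := (TensorProduct.piLeft R M T).surjective x
  refine ⟨z, fun i => ?_⟩
  have key : ∀ (z : (∀ i, T i) ⊗[R] M) i,
      TensorProduct.piLeft R M T z i = (Pi.evalAlgHom R T i).toLinearMap.rTensor M z := by
    intro z i
    induction z using TensorProduct.induction_on with
    | zero => simp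
    | tmul f m => simp
    | add a b ha hb => rw [map_add, Pi.add_apply, ha, hb, map_add]
  rw [← key, hz]

/-- Trivialisations on the factors glue on the product. -/
theorem isDiag_pi [Finite ι] {N : Type u} [CommGroup N] (e : ∀ i, T i ⊗[R] A ≃ₐc[T i] MonoidAlgebra (T i) N) :
    Nonempty ((∀ i, T i) ⊗[R] A ≃ₐc[∀ i, T i] MonoidAlgebra (∀ i, T i) N) := by
  classical
  have := Fintype.ofFinite ι
  choose x hx using fun m : N => exists_of_proj T (M := A) fun i => (e i).symm (MonoidAlgebra.single m 1)
  let p : ∀ i, (∀ i, T i) →ₐ[R] T i := fun i => Pi.evalAlgHom R T i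
  have hxp : ∀ m i, push A (p i) (x m) = (e i).symm (MonoidAlgebra.single m 1) := fun m i => by
    rw [← push_rTensor]; exact hx m i
  have hgl : ∀ m, IsGroupLikeElem (∀ i, T i) (x m) := fun m => by
    refine ⟨funext fun i => ?_, (glDefect_eq_zero_iff _).mp (ext_proj T fun i => ?_)⟩
    · have hc : ∀ y : (∀ i, T i) ⊗[R] A, counit (R := T i) (push A (p i) y) = counit (R := ∀ i, T i) y i := by
        intro y
        induction y using TensorProduct.induction_on with
        | zero => simp
        | tmul t a => simp [p]
        | add a b ha hb => rw [map_add, map_add, map_add, ha, hb]; rfl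
      rw [← hc, hxp]
      exact ((MonoidAlgebra.isGroupLikeElem_single_one (R := T i) (A := T i) m).map
        ((e i).symm : MonoidAlgebra (T i) N →ₐc[T i] T i ⊗[R] A)).counit_eq_one
    · rw [map_zero, glDefect_push, glDefect_eq_zero_iff, hxp]
      exact ((MonoidAlgebra.isGroupLikeElem_single_one (R := T i) (A := T i) m).map
        ((e i).symm : MonoidAlgebra (T i) N →ₐc[T i] T i ⊗[R] A)).comul_eq_tmul_self
  let χ : N →* (∀ i, T i) ⊗[R] A :=
    { toFun := x
      map_one' := ext_proj T fun i => by
        rw [hx, push_rTensor, map_one]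
        exact map_one (e i).symm
      map_mul' := fun a b => ext_proj T fun i => by
        rw [hx, push_rTensor, map_mul, hxp, hxp, ← map_mul (e i).symm, MonoidAlgebra.single_mul_single, mul_one] }
  let F : MonoidAlgebra (∀ i, T i) N →ₐ[∀ i, T i] (∀ i, T i) ⊗[R] A := MonoidAlgebra.lift _ _ N χ
  have hF : ∀ m, F (MonoidAlgebra.single m 1) = x m := fun m => by simp [F, χ]
  let Fb : MonoidAlgebra (∀ i, T i) N →ₐc[∀ i, T i] (∀ i, T i) ⊗[R] A := BialgHom.ofAlgHom F
    (MonoidAlgebra.algHom_ext (single_one_left := Subsingleton.elim _ _) fun m => by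
      simp [hF, (hgl m).counit_eq_one])
    (MonoidAlgebra.algHom_ext (single_one_left := Subsingleton.elim _ _) fun m => by
      simp [hF, (hgl m).comul_eq_tmul_self])
  have hproj : ∀ i v, push A (p i) (F v) = (e i).symm (MonoidAlgebra.mapRingHom N (p i).toRingHom v) := by
    intro i v
    induction v using MonoidAlgebra.induction_linear with
    | zero => rw [map_zero, map_zero, map_zero, map_zero]
    | add a b ha hb => rw [map_add, map_add, map_add, map_add, ha, hb]
    | single m r =>
      rw [show (MonoidAlgebra.single m r : MonoidAlgebra (∀ i, T i) N) = r • MonoidAlgebra.single m 1 by simp, map_smul,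
        hF, Algebra.smul_def r (x m), map_mul, hxp,
        show push A (p i) (algebraMap (∀ i, T i) ((∀ i, T i) ⊗[R] A) r) = algebraMap (T i) (T i ⊗[R] A) (p i r) from rfl,
        ← Algebra.smul_def,
        show MonoidAlgebra.mapRingHom N (p i).toRingHom (r • MonoidAlgebra.single m 1) =
          p i r • MonoidAlgebra.single m (1 : T i) by simp]
      exact (map_smul (e i).symm.toAlgEquiv.toLinearEquiv (p i r) _).symm
  refine ⟨(BialgEquiv.ofBijective Fb ⟨(injective_iff_map_eq_zero _).mpr fun v hv => ?_, fun z => ?_⟩).symm⟩
  · refine ext_coef fun m => funext fun i => ?_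
    have h := hproj i v
    rw [show F v = 0 from hv, map_zero] at h
    have h2 := congrArg (e i) h
    rw [map_zero, BialgEquiv.apply_symm_apply] at h2
    have h3 := congrArg (coef m) h2
    rw [map_zero, coef_mapRingHom] at h3
    simpa [p] using h3.symm
  · let v : ∀ i, MonoidAlgebra (T i) N := fun i => e i (push A (p i) z)
    let s : Finset N := Finset.univ.biUnion fun i => (v i).coeff.support
    refine ⟨∑ m ∈ s, MonoidAlgebra.single m (fun i => coef m (v i)), ext_proj T fun i => ?_⟩
    rw [push_rTensor, push_rTensor]
    refine (hproj i _).trans ?_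
    have hv : MonoidAlgebra.mapRingHom N (p i).toRingHom (∑ m ∈ s, MonoidAlgebra.single m (fun i => coef m (v i))) = v i := by
      refine ext_coef fun n => ?_
      rw [map_sum, map_sum]
      simp only [MonoidAlgebra.mapRingHom_single, coef_single]
      rw [Finset.sum_ite_eq']
      split_ifs with hn
      · rfl
      · by_contra hne
        exact hn (Finset.mem_biUnion.mpr ⟨i, Finset.mem_univ i, Finsupp.mem_support_iff.mpr (Ne.symm hne)⟩)
    rw [hv]
    exact (e i).symm_apply_apply _

/-- A finite jointly surjective family of flat algebras gives a faithfully flat product. -/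
theorem faithfullyFlat_pi [Finite ι] (hflat : ∀ i, Module.Flat R (T i))
    (hsurj : ∀ p : PrimeSpectrum R, ∃ i, ∃ q : PrimeSpectrum (T i), q.comap (algebraMap R (T i)) = p) :
    Module.FaithfullyFlat R (∀ i, T i) := by
  classical
  have := Fintype.ofFinite ι
  have : Module.Flat R (∀ i, T i) := Module.Flat.of_linearEquiv (DFinsupp.linearEquivFunOnFintype (R := R)).symm
  refine Module.FaithfullyFlat.of_comap_surjective fun p => ?_
  obtain ⟨i, q, hq⟩ := hsurj p
  refine ⟨PrimeSpectrum.comap (Pi.evalAlgHom R T i).toRingHom q, ?_⟩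
  rw [← hq]
  rfl

end Groth.Agent.IsoTriv
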