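import Groth.Agent.IsoTriv.GroupAlgLift
import Groth.Agent.IsoTriv.PiTriv
import Groth.Agent.IsoTriv.FieldSplit
import Mathlib.RingTheory.Ideal.Quotient.Operations

/-! Groups of multiplicative type and nil ideals. -/

universe u

open TensorProduct Coalgebra

namespace Groth.Agent.IsoTriv

open SGA3bLib

variable {R : Type u} [CommRing R] {A : Type u} [CommRing A] [HopfAlgebra R A]

/-- A finite jointly surjective family of flat algebras trivialising the group. -/
def HasCover (R : Type u) [CommRing R] (A : Type u) [CommRing A] [HopfAlgebra R A] : Prop :=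
  ∃ (ι : Type u) (_ : Finite ι) (T : ι → Type u) (_ : ∀ i, CommRing (T i)) (_ : ∀ i, Algebra R (T i)),
    (∀ i, Module.Flat R (T i)) ∧
    (∀ p : PrimeSpectrum R, ∃ i, ∃ q : PrimeSpectrum (T i), q.comap (algebraMap R (T i)) = p) ∧
    ∀ i, SGA3b.IsDiag (T i) (T i ⊗[R] A)

theorem hasCover_of_isMultType (h : SGA3b.IsMultType R A) : HasCover R A := by
  classical
  obtain ⟨s, hs, hloc⟩ := h
  obtain ⟨s', hsub, hs'⟩ := (Ideal.span_eq_top_iff_finite s).mp hs
  choose R' i₁ i₂ hff hdiag using fun f : {f : R // f ∈ s'} => hloc f (hsub f.2)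
  let : ∀ f : {f : R // f ∈ s'}, Algebra R (R' f) := fun f =>
    ((algebraMap (Localization.Away (f : R)) (R' f)).comp (algebraMap R (Localization.Away (f : R)))).toAlgebra
  have : ∀ f : {f : R // f ∈ s'}, IsScalarTower R (Localization.Away (f : R)) (R' f) := fun f =>
    .of_algebraMap_eq fun _ => rfl
  refine ⟨{f : R // f ∈ s'}, inferInstance, R', i₁, inferInstance, fun f => ?_, fun p => ?_, fun f => ?_⟩
  · have := hff f
    exact Module.Flat.trans R (Localization.Away (f : R)) (R' f)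
  · obtain ⟨f, hf, hfp⟩ : ∃ f ∈ s', f ∉ p.asIdeal := by
      by_contra! hne
      exact p.2.ne_top (top_le_iff.mp (hs' ▸ Ideal.span_le.mpr hne))
    have hp : p ∈ Set.range (PrimeSpectrum.comap (algebraMap R (Localization.Away f))) := by
      rw [PrimeSpectrum.localization_away_comap_range (Localization.Away f) f]
      exact hfp
    obtain ⟨p', hp'⟩ := hp
    have := hff ⟨f, hf⟩
    letI : Algebra (Localization.Away f) (R' ⟨f, hf⟩) := i₂ ⟨f, hf⟩
    haveI : IsScalarTower R (Localization.Away f) (R' ⟨f, hf⟩) := .of_algebraMap_eq fun _ => rfl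
    obtain ⟨q, hq⟩ := PrimeSpectrum.comap_surjective_of_faithfullyFlat (B := R' ⟨f, hf⟩) p'
    refine ⟨⟨f, hf⟩, q, ?_⟩
    rw [IsScalarTower.algebraMap_eq R (Localization.Away f) (R' ⟨f, hf⟩), PrimeSpectrum.comap_comp_apply, hq, hp']
  · obtain ⟨M, _, ⟨e⟩⟩ := hdiag f
    exact ⟨M, inferInstance, ⟨(cancelBC (R := R) (Localization.Away (f : R)) (R' f) A).symm.trans e⟩⟩

theorem HasCover.baseChange (h : HasCover R A) (S : Type u) [CommRing S] [Algebra R S] :
    HasCover S (S ⊗[R] A) := by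
  obtain ⟨ι, _, T, _, _, hflat, hsurj, hdiag⟩ := h
  refine ⟨ι, inferInstance, fun i => S ⊗[R] T i, inferInstance, inferInstance, fun i => ?_, fun p => ?_, fun i => ?_⟩
  · have := hflat i; infer_instance
  · obtain ⟨i, q, hq⟩ := hsurj (p.comap (algebraMap R S))
    refine ⟨i, ?_⟩
    let κ := (p.asIdeal.comap (algebraMap R S)).ResidueField
    let fp : κ →+* p.asIdeal.ResidueField :=
      Ideal.ResidueField.map _ p.asIdeal (algebraMap R S) rfl
    have hq' : (p.asIdeal.comap (algebraMap R S)) = q.asIdeal.comap (algebraMap R (T i)) :=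
      (congrArg PrimeSpectrum.asIdeal hq).symm
    let fq : κ →+* q.asIdeal.ResidueField := Ideal.ResidueField.map _ q.asIdeal (algebraMap R (T i)) hq'
    let : Algebra κ p.asIdeal.ResidueField := fp.toAlgebra
    let : Algebra κ q.asIdeal.ResidueField := fq.toAlgebra
    obtain ⟨m, hm⟩ := Ideal.exists_maximal (p.asIdeal.ResidueField ⊗[κ] q.asIdeal.ResidueField)
    have := hm.isPrime
    let i₁ : p.asIdeal.ResidueField →+* p.asIdeal.ResidueField ⊗[κ] q.asIdeal.ResidueField :=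
      Algebra.TensorProduct.includeLeftRingHom
    let i₂ : q.asIdeal.ResidueField →+* p.asIdeal.ResidueField ⊗[κ] q.asIdeal.ResidueField :=
      (Algebra.TensorProduct.includeRight : q.asIdeal.ResidueField →ₐ[κ] _).toRingHom
    let g : S →+* (p.asIdeal.ResidueField ⊗[κ] q.asIdeal.ResidueField) ⧸ m :=
      (Ideal.Quotient.mk m).comp (i₁.comp (algebraMap S p.asIdeal.ResidueField))
    let : Algebra R ((p.asIdeal.ResidueField ⊗[κ] q.asIdeal.ResidueField) ⧸ m) := (g.comp (algebraMap R S)).toAlgebra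
    let h : T i →+* (p.asIdeal.ResidueField ⊗[κ] q.asIdeal.ResidueField) ⧸ m :=
      (Ideal.Quotient.mk m).comp (i₂.comp (algebraMap (T i) q.asIdeal.ResidueField))
    let gA : S →ₐ[R] (p.asIdeal.ResidueField ⊗[κ] q.asIdeal.ResidueField) ⧸ m := { g with commutes' := fun r => rfl }
    have hcomm : ∀ r, h (algebraMap R (T i) r) = g (algebraMap R S r) := by
      intro r
      show Ideal.Quotient.mk m (i₂ (algebraMap (T i) q.asIdeal.ResidueField (algebraMap R (T i) r))) =
        Ideal.Quotient.mk m (i₁ (algebraMap S p.asIdeal.ResidueField (algebraMap R S r)))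
      congr 1
      rw [← Ideal.ResidueField.map_algebraMap _ q.asIdeal (algebraMap R (T i)) hq',
        ← Ideal.ResidueField.map_algebraMap _ p.asIdeal (algebraMap R S) rfl]
      show (1 : p.asIdeal.ResidueField) ⊗ₜ[κ] algebraMap κ q.asIdeal.ResidueField _ =
        algebraMap κ p.asIdeal.ResidueField _ ⊗ₜ[κ] (1 : q.asIdeal.ResidueField)
      exact ((Algebra.TensorProduct.includeRight :
        q.asIdeal.ResidueField →ₐ[κ] p.asIdeal.ResidueField ⊗[κ] q.asIdeal.ResidueField).commutes _)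
    let hA : T i →ₐ[R] (p.asIdeal.ResidueField ⊗[κ] q.asIdeal.ResidueField) ⧸ m := { h with commutes' := hcomm }
    let Ψ : S ⊗[R] T i →ₐ[R] (p.asIdeal.ResidueField ⊗[κ] q.asIdeal.ResidueField) ⧸ m :=
      Algebra.TensorProduct.productMap gA hA
    refine ⟨⟨RingHom.ker Ψ, RingHom.ker_isPrime _⟩, PrimeSpectrum.ext ?_⟩
    ext x
    show Ψ (x ⊗ₜ[R] (1 : T i)) = 0 ↔ x ∈ p.asIdeal
    rw [show Ψ (x ⊗ₜ[R] (1 : T i)) = gA x * hA 1 from Algebra.TensorProduct.productMap_apply_tmul gA hA x 1,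
      map_one, mul_one, ← Ideal.algebraMap_residueField_eq_zero (I := p.asIdeal)]
    exact map_eq_zero ((Ideal.Quotient.mk m).comp i₁)
  · obtain ⟨M, _, ⟨e⟩⟩ := hdiag i
    let : Algebra (T i) (S ⊗[R] T i) := Algebra.TensorProduct.rightAlgebra
    have : IsScalarTower R (T i) (S ⊗[R] T i) := .of_algebraMap_eq fun r => by
      show algebraMap R (S ⊗[R] T i) r = (1 : S) ⊗ₜ[R] algebraMap R (T i) r
      rw [Algebra.TensorProduct.algebraMap_apply, Algebra.algebraMap_eq_smul_one, Algebra.algebraMap_eq_smul_one,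
        TensorProduct.smul_tmul]
    exact ⟨M, inferInstance, ⟨(cancelBC (R := R) S (S ⊗[R] T i) A).trans (bcTriv e)⟩⟩

/-- Diagonalisability lifts along nil ideals, for groups with a trivialising cover. -/
theorem isDiag_of_quotient (h : HasCover R A) (I : Ideal R) (hI : ∀ x ∈ I, IsNilpotent x)
    (h0 : SGA3b.IsDiag (R ⧸ I) ((R ⧸ I) ⊗[R] A)) : SGA3b.IsDiag R A := by
  classical
  obtain ⟨N, _, ⟨e₀⟩⟩ := h0
  obtain ⟨ι, _, T, _, _, hflat, hsurj, hdiag⟩ := h
  have hI' : ∀ (U : Type u) [CommRing U] [Algebra R U], ∀ x ∈ I.map (algebraMap R U), IsNilpotent x := fun U _ _ x hx => by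
    have : I.map (algebraMap R U) ≤ nilradical U := Ideal.map_le_iff_le_comap.mpr fun r hr => (hI r hr).map _
    exact mem_nilradical.mp (this hx)
  have hT : ∀ i, Nonempty (T i ⊗[R] A ≃ₐc[T i] MonoidAlgebra (T i) N) := by
    intro i
    obtain ⟨M, _, ⟨e⟩⟩ := hdiag i
    rcases subsingleton_or_nontrivial (T i) with hs | hn
    · have : Subsingleton (T i ⊗[R] A) := Module.subsingleton (T i) _
      have : Subsingleton (MonoidAlgebra (T i) N) := Module.subsingleton (T i) _
      exact ⟨BialgEquiv.ofBijective (BialgHom.ofAlgHom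
        (AlgHom.ofLinearMap (0 : T i ⊗[R] A →ₗ[T i] MonoidAlgebra (T i) N) (Subsingleton.elim _ _)
          fun _ _ => Subsingleton.elim _ _)
        (AlgHom.ext fun _ => Subsingleton.elim _ _)
        (AlgHom.ext fun z => by
          have : Subsingleton (MonoidAlgebra (T i) N ⊗[T i] MonoidAlgebra (T i) N) := Module.subsingleton (T i) _
          exact Subsingleton.elim _ _))
        ⟨fun _ _ _ => Subsingleton.elim _ _, fun y => ⟨0, Subsingleton.elim _ _⟩⟩⟩
    · obtain ⟨m, hm⟩ := Ideal.exists_maximal (T i)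
      have := hm.isPrime
      let L := m.ResidueField
      have hL : ∀ r ∈ I, algebraMap R L r = 0 := fun r hr => ((hI r hr).map (algebraMap R L)).eq_zero
      let : Algebra (R ⧸ I) L := (Ideal.Quotient.lift I (algebraMap R L) hL).toAlgebra
      have : IsScalarTower R (R ⧸ I) L := .of_algebraMap_eq fun r => rfl
      let a₁ : L ⊗[R] A ≃ₐc[L] MonoidAlgebra L M := bcTriv e
      let a₂ : L ⊗[R] A ≃ₐc[L] MonoidAlgebra L N := bcTriv e₀
      obtain ⟨u⟩ := nonempty_mulEquiv (a₁.symm.trans a₂)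
      exact ⟨e.trans (MonoidAlgebra.domCongrBialgEquiv (R := T i) (A := T i) u)⟩
  have eT := fun i => (hT i).some
  obtain ⟨e⟩ := isDiag_pi T eT
  have := faithfullyFlat_pi T hflat hsurj
  let U := ∀ i, T i
  let J : Ideal U := I.map (algebraMap R U)
  let : Algebra (R ⧸ I) (U ⧸ J) := (Ideal.Quotient.lift I ((Ideal.Quotient.mk J).comp (algebraMap R U))
    fun r hr => Ideal.Quotient.eq_zero_iff_mem.mpr (Ideal.mem_map_of_mem _ hr)).toAlgebra
  have : IsScalarTower R (R ⧸ I) (U ⧸ J) := .of_algebraMap_eq fun r => rfl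
  let a₁ : (U ⧸ J) ⊗[R] A ≃ₐc[U ⧸ J] MonoidAlgebra (U ⧸ J) N := bcTriv e
  let a₂ : (U ⧸ J) ⊗[R] A ≃ₐc[U ⧸ J] MonoidAlgebra (U ⧸ J) N := bcTriv e₀
  obtain ⟨E, hE⟩ := exists_lift_equiv (Ideal.Quotient.mk J) Ideal.Quotient.mk_surjective
    (fun x hx => hI' U x (by rwa [Ideal.mk_ker] at hx)) (a₁.symm.trans a₂)
  let π : U →ₐ[R] U ⧸ J := IsScalarTower.toAlgHom R U (U ⧸ J)
  let q : (R ⧸ I) →ₐ[R] U ⧸ J := IsScalarTower.toAlgHom R (R ⧸ I) (U ⧸ J)
  refine ⟨N, inferInstance, nonempty_equiv_of_descend (e.trans E) fun m => ?_⟩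
  set x := (e.trans E).symm (MonoidAlgebra.single m 1)
  have hx : IsGroupLikeElem U x :=
    (MonoidAlgebra.isGroupLikeElem_single_one (R := U) (A := U) m).map
      ((e.trans E).symm : MonoidAlgebra U N →ₐc[U] U ⊗[R] A)
  set x₀ := e₀.symm (MonoidAlgebra.single m 1)
  have hmod : push A π x = push A q x₀ := by
    apply (a₂ : (U ⧸ J) ⊗[R] A ≃ₐc[U ⧸ J] _).toAlgEquiv.injective
    show a₂ (push A π x) = a₂ (push A q x₀)
    rw [bcTriv_push, e₀.apply_symm_apply]
    have h1 : a₂ (push A π x) = (a₁.symm.trans a₂) (a₁ (push A π x)) := by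
      show a₂ _ = a₂ (a₁.symm (a₁ _))
      rw [a₁.symm_apply_apply]
    rw [h1, bcTriv_push]
    show (a₁.symm.trans a₂) (MonoidAlgebra.mapRingHom N (Ideal.Quotient.mk J) (e x)) = _
    rw [← hE, show E (e x) = MonoidAlgebra.single m 1 from (e.trans E).apply_symm_apply _]
    simp
  have hsame : ∀ (V : Type u) [CommRing V] [Algebra R V], (∀ r ∈ I, algebraMap R V r = 0) →
      ∀ f g : U →ₐ[R] V, push A f x = push A g x := by
    intro V _ _ hV f g
    have hker : ∀ f : U →ₐ[R] V, ∀ y ∈ J, f y = 0 := fun f y hy => by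
      refine RingHom.mem_ker.mp ((Ideal.map_le_iff_le_comap.mpr fun r hr => ?_) hy)
      rw [Ideal.mem_comap, RingHom.mem_ker, AlgHom.commutes]
      exact hV r hr
    have h2 : ∀ f : U →ₐ[R] V, push A f x = push A (Ideal.Quotient.liftₐ J f (hker f)) (push A π x) := fun f => by
      rw [push_push]
      congr 1
    rw [h2, h2, hmod, push_push, push_push]
    suffices hcomp : (Ideal.Quotient.liftₐ J f (hker f)).comp q = (Ideal.Quotient.liftₐ J g (hker g)).comp q by
      rw [hcomp]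
    refine AlgHom.ext fun r => ?_
    obtain ⟨r, rfl⟩ := Ideal.Quotient.mk_surjective r
    show (((Ideal.Quotient.liftₐ J f (hker f)).comp q) (algebraMap R (R ⧸ I) r)) =
      (((Ideal.Quotient.liftₐ J g (hker g)).comp q) (algebraMap R (R ⧸ I) r))
    rw [AlgHom.commutes, AlgHom.commutes]
  have heq : push A (Algebra.TensorProduct.includeLeft : U →ₐ[R] U ⊗[R] U) x =
      push A (Algebra.TensorProduct.includeRight : U →ₐ[R] U ⊗[R] U) x := by
    let i₁ : U →ₐ[R] U ⊗[R] U := Algebra.TensorProduct.includeLeft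
    let i₂ : U →ₐ[R] U ⊗[R] U := Algebra.TensorProduct.includeRight
    let : Algebra U (U ⊗[R] U) := Algebra.TensorProduct.leftAlgebra
    let e' : (U ⊗[R] U) ⊗[R] A ≃ₐc[U ⊗[R] U] MonoidAlgebra (U ⊗[R] U) N := bcTriv e
    let K : Ideal (U ⊗[R] U) := I.map (algebraMap R (U ⊗[R] U))
    let ρ := IsScalarTower.toAlgHom R (U ⊗[R] U) ((U ⊗[R] U) ⧸ K)
    apply e'.toAlgEquiv.injective
    refine eq_of_map_eq (algebraMap (U ⊗[R] U) ((U ⊗[R] U) ⧸ K)) (fun z hz => hI' _ z (by
      rw [RingHom.mem_ker] at hz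
      exact Ideal.Quotient.eq_zero_iff_mem.mp hz))
      ((isGroupLike_push i₁ hx).map (e' : _ →ₐc[U ⊗[R] U] MonoidAlgebra (U ⊗[R] U) N))
      ((isGroupLike_push i₂ hx).map (e' : _ →ₐc[U ⊗[R] U] MonoidAlgebra (U ⊗[R] U) N)) ?_
    show MonoidAlgebra.mapRingHom N (algebraMap (U ⊗[R] U) ((U ⊗[R] U) ⧸ K)) (e' (push A i₁ x)) =
      MonoidAlgebra.mapRingHom N (algebraMap (U ⊗[R] U) ((U ⊗[R] U) ⧸ K)) (e' (push A i₂ x))
    have hb1 := bcTriv_push (T' := (U ⊗[R] U) ⧸ K) e' (push A i₁ x)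
    have hb2 := bcTriv_push (T' := (U ⊗[R] U) ⧸ K) e' (push A i₂ x)
    refine hb1.symm.trans (Eq.trans ?_ hb2)
    rw [push_push, push_push, hsame ((U ⊗[R] U) ⧸ K) (fun r hr => by
      rw [IsScalarTower.algebraMap_apply R (U ⊗[R] U) ((U ⊗[R] U) ⧸ K)]
      exact Ideal.Quotient.eq_zero_iff_mem.mpr (Ideal.mem_map_of_mem _ hr)) (ρ.comp i₁) (ρ.comp i₂)]
  obtain ⟨a, ha⟩ := exists_eq_one_tmul U x (by rw [push_rTensor, push_rTensor]; exact heq)
  exact ⟨a, by rw [← ha]; exact (e.trans E).apply_symm_apply _⟩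

end Groth.Agent.IsoTriv
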