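import Groth.Agent.IsoTriv.Criterion
import Groth.Agent.IsoTriv.Nilpotent
import Mathlib.RingTheory.SimpleModule.Basic
import Mathlib.RepresentationTheory.Maschke
import Mathlib.Algebra.Module.Torsion.Basic
import Mathlib.LinearAlgebra.Dual.Lemmas
import Mathlib.RingTheory.Adjoin.FG
import Mathlib.GroupTheory.Perm.Cycle.Type
import Mathlib.RingTheory.Localization.FractionRing
import Mathlib.RingTheory.Localization.Module

/-! The torsion subgroups of a group of multiplicative type are schematically dense. -/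

universe u

open TensorProduct Coalgebra

namespace Groth.Agent.IsoTriv

open SGA3bLib

variable {M : Type u} [CommGroup M]

/-- The map to the group algebra of the quotient by `n`-th powers. -/
noncomputable def powQuot (R : Type u) [CommRing R] (n : ℕ) :
    MonoidAlgebra R M →+* MonoidAlgebra R (M ⧸ (powMonoidHom n : M →* M).range) :=
  MonoidAlgebra.mapDomainRingHom R (QuotientGroup.mk' (powMonoidHom n : M →* M).range)

/-- Up to a power of `p`, elements are separated by powers prime to `p`. -/
theorem exists_exponent_separates (hfg : Group.FG M) (p : ℕ) (hp1 : p = 1 ∨ p.Prime) :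
    ∃ s : ℕ, ∀ y : M, (∀ m : ℕ, 0 < m → Nat.Coprime m p → y ^ p ^ s ∈ (powMonoidHom (p ^ s * m) : M →* M).range) →
      y ^ p ^ s = 1 := by
  classical
  have : AddGroup.FG (Additive M) := AddGroup.fg_iff_mul_fg.mpr (by
    show Group.FG (Multiplicative (Additive M))
    exact hfg)
  obtain ⟨r, ι, hι, P, hP, e, ⟨f⟩⟩ := AddCommGroup.equiv_free_prod_directSum_zmod (Additive M)
  let s := ∑ i, e i
  refine ⟨s, fun y hy => ?_⟩
  have hppos : 0 < p := by rcases hp1 with rfl | hp
                           · exact one_pos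
                           · exact hp.pos
  have key : ∀ m : ℕ, 0 < m → Nat.Coprime m p → ∃ z, p ^ s • f (Additive.ofMul y) = (p ^ s * m) • z := fun m hm hc => by
    obtain ⟨w, hw⟩ := hy m hm hc
    refine ⟨f (Additive.ofMul w), ?_⟩
    rw [← map_nsmul f, ← map_nsmul f, ← ofMul_pow, ← ofMul_pow]
    exact congrArg (fun t => f (Additive.ofMul t)) hw.symm
  suffices p ^ s • f (Additive.ofMul y) = 0 by
    rw [← map_nsmul f, ← ofMul_pow] at this
    exact Additive.ofMul.injective (f.injective (this.trans (map_zero f).symm))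
  refine Prod.ext (Finsupp.ext fun j => ?_) (DFinsupp.ext fun i => ?_)
  · simp only [Prod.smul_fst, Finsupp.smul_apply, Prod.fst_zero, Finsupp.coe_zero, Pi.zero_apply]
    set x : ℤ := (f (Additive.ofMul y)).1 j with hxdef
    by_contra hx
    have hx0 : x ≠ 0 := fun h => hx (by rw [h, smul_zero])
    obtain ⟨ℓ, hℓ, hℓp⟩ := Nat.exists_infinite_primes (x.natAbs + p + 1)
    have hcop : Nat.Coprime ℓ p := (hℓp.coprime_iff_not_dvd).mpr fun hd => by
      have := Nat.le_of_dvd hppos hd
      omega
    obtain ⟨z, hz⟩ := key ℓ hℓp.pos hcop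
    have h1 := congrArg (fun w => (Prod.fst w : Fin r →₀ ℤ) j) hz
    simp only [Prod.smul_fst, Finsupp.smul_apply, nsmul_eq_mul, ← hxdef, Nat.cast_mul] at h1
    have hps : ((p ^ s : ℕ) : ℤ) ≠ 0 := by positivity
    have hd : (ℓ : ℤ) ∣ x := ⟨z.1 j, mul_left_cancel₀ hps (by rw [h1]; ring)⟩
    have := Int.natAbs_dvd_natAbs.mpr hd
    rw [Int.natAbs_natCast] at this
    have := Nat.le_of_dvd (Int.natAbs_pos.mpr hx0) this
    omega
  · rw [Prod.smul_snd, DFinsupp.smul_apply]
    by_cases hpi : P i = p
    · rw [nsmul_eq_mul, (ZMod.natCast_eq_zero_iff (p ^ s) _).mpr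
        (hpi ▸ pow_dvd_pow _ (Finset.single_le_sum (fun k _ => Nat.zero_le (e k)) (Finset.mem_univ i))), zero_mul]
      rfl
    · have hcop : Nat.Coprime (P i ^ e i) p := by
        rcases hp1 with rfl | hp
        · exact Nat.coprime_one_right _
        · exact Nat.Coprime.pow_left _ ((Nat.coprime_primes (hP i) hp).mpr hpi)
      obtain ⟨z, hz⟩ := key _ (pow_pos (hP i).pos _) hcop
      have h1 := congrArg (fun w => (Prod.snd w) i) hz
      rw [Prod.smul_snd, Prod.smul_snd, DFinsupp.smul_apply, DFinsupp.smul_apply] at h1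
      rw [h1, nsmul_eq_mul, (ZMod.natCast_eq_zero_iff (p ^ s * P i ^ e i) _).mpr (Dvd.intro_left _ rfl), zero_mul]
      rfl

theorem isReduced_groupAlgebra {k : Type u} [Field k] (G : Type u) [CommGroup G] [Finite G]
    (h : (Nat.card G : k) ≠ 0) : IsReduced (MonoidAlgebra k G) := by
  have : NeZero (Nat.card G : k) := ⟨h⟩
  infer_instance

/-- Coordinates relative to a coset of a subgroup. -/
noncomputable def cosetCoord (R : Type u) [CommRing R] (H : Subgroup M) (h : M) :
    MonoidAlgebra R M →ₗ[R] MonoidAlgebra R H :=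
  (MonoidAlgebra.coeffLinearEquiv R).symm.toLinearMap ∘ₗ
    Finsupp.lcomapDomain (fun w : H => (w : M) * h) (fun a b hab => Subtype.ext (mul_right_cancel hab)) ∘ₗ
      (MonoidAlgebra.coeffLinearEquiv R).toLinearMap

theorem coef_cosetCoord {R : Type u} [CommRing R] (H : Subgroup M) (h : M) (y : MonoidAlgebra R M) (w : H) :
    (cosetCoord R H h y).coeff w = y.coeff ((w : M) * h) := rfl

theorem cosetCoord_mul {R : Type u} [CommRing R] (H : Subgroup M) (h : M) (z : MonoidAlgebra R H)
    (y : MonoidAlgebra R M) :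
    cosetCoord R H h (MonoidAlgebra.mapDomainRingHom R H.subtype z * y) = z * cosetCoord R H h y := by
  induction z using MonoidAlgebra.induction_linear with
  | zero => simp
  | add a b ha hb => rw [map_add, add_mul, map_add, ha, hb, add_mul]
  | single g r =>
    refine MonoidAlgebra.ext (Finsupp.ext fun w => ?_)
    rw [coef_cosetCoord, MonoidAlgebra.mapDomainRingHom_apply, MonoidAlgebra.mapDomain_single,
      MonoidAlgebra.coeff_single_mul_apply, MonoidAlgebra.coeff_single_mul_apply, coef_cosetCoord]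
    simp [mul_assoc]

/-- Density over a field. -/
theorem exists_pow_mul_eq_zero_field {k : Type u} [Field k] (hfg : Group.FG M) :
    ∃ q : ℕ, ∀ a x : MonoidAlgebra k M, (∀ n : ℕ, 0 < n → ∃ j : ℕ, powQuot k n (a ^ j * x) = 0) →
      a ^ q * x = 0 := by
  classical
  obtain ⟨p, hpc⟩ := ExpChar.exists k
  have := hpc
  have hp1 : p = 1 ∨ p.Prime := (expChar_is_prime_or_one k p).symm
  have hppos : 0 < p := by rcases hp1 with rfl | hp
                           · exact one_pos
                           · exact hp.pos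
  obtain ⟨s, hs⟩ := exists_exponent_separates hfg p hp1
  refine ⟨p ^ s, fun a x hax => ?_⟩
  set q := p ^ s
  let H : Subgroup M := (powMonoidHom q : M →* M).range
  let ι := MonoidAlgebra.mapDomainRingHom k H.subtype
  obtain ⟨b, hb⟩ : ∃ b : MonoidAlgebra k H, ι b = a ^ q := by
    have : ExpChar (MonoidAlgebra k M) p :=
      expChar_of_injective_ringHom (f := algebraMap k (MonoidAlgebra k M)) (RingHom.injective _) p
    induction a using MonoidAlgebra.induction_linear generalizing x with
    | zero => exact ⟨0, by rw [map_zero, zero_pow (by positivity)]⟩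
    | add c d hc hd =>
      obtain ⟨b, hb⟩ := hc 0 (fun n _ => ⟨0, by simp⟩)
      obtain ⟨b', hb'⟩ := hd 0 (fun n _ => ⟨0, by simp⟩)
      exact ⟨b + b', by rw [map_add, hb, hb', add_pow_expChar_pow]⟩
    | single g r => exact ⟨MonoidAlgebra.single ⟨g ^ q, g, rfl⟩ (r ^ q), by simp [ι, MonoidAlgebra.single_pow]⟩
  have hHfg : Group.FG H := by
    have := hfg
    exact Group.fg_range _
  have hmem : ∀ (h : M) (m : ℕ), 0 < m → Nat.Coprime m p → powQuot k m (b * cosetCoord k H h x) = 0 := by
    intro h m hm hmp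
    obtain ⟨j, hj⟩ := hax (q * m) (Nat.mul_pos (pow_pos hppos s) hm)
    have h1 : a ^ (q * j) * x ∈ Ideal.span {w | ∃ g ∈ (powMonoidHom (q * m) : M →* M).range,
        w = MonoidAlgebra.single g (1 : k) - 1} := by
      rw [← ker_mapDomain, RingHom.mem_ker]
      show powQuot k (q * m) _ = 0
      rw [show q * j = (q * j - j) + j by
        have : j ≤ q * j := Nat.le_mul_of_pos_left j (pow_pos hppos s)
        omega, pow_add, mul_assoc, map_mul, hj, mul_zero]
    have h2 : ∀ w ∈ Ideal.span {w | ∃ g ∈ (powMonoidHom (q * m) : M →* M).range,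
        w = MonoidAlgebra.single g (1 : k) - 1}, ∀ h : M, powQuot k m (cosetCoord k H h w) = 0 := by
      intro w hw
      induction hw using Submodule.span_induction with
      | zero => simp
      | add u v _ _ hu hv => intro h; rw [map_add, map_add, hu, hv, add_zero]
      | smul c u _ hu =>
        intro h
        induction c using MonoidAlgebra.induction_linear generalizing h with
        | zero => simp
        | add c d hc hd => rw [add_smul, map_add, map_add, hc, hd, add_zero]
        | single g r =>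
          have e : cosetCoord k H h (MonoidAlgebra.single g r • u) = r • cosetCoord k H (g⁻¹ * h) u := by
            refine MonoidAlgebra.ext (Finsupp.ext fun w => ?_)
            rw [smul_eq_mul, coef_cosetCoord, MonoidAlgebra.coeff_single_mul_apply, MonoidAlgebra.coeff_smul,
              Finsupp.smul_apply, coef_cosetCoord, smul_eq_mul, mul_left_comm g⁻¹]
          rw [e, show r • cosetCoord k H (g⁻¹ * h) u = MonoidAlgebra.single 1 r * cosetCoord k H (g⁻¹ * h) u by
            simp [Algebra.smul_def], map_mul, hu, mul_zero]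
      | mem u hu =>
        obtain ⟨_, ⟨y, rfl⟩, rfl⟩ := hu
        intro h
        let g' : H := ⟨y ^ q, y, rfl⟩
        have e : (MonoidAlgebra.single ((powMonoidHom (q * m) : M →* M) y) (1 : k) - 1 : MonoidAlgebra k M) =
            ι (MonoidAlgebra.single (g' ^ m) 1 - 1) * 1 := by
          rw [mul_one, map_sub, map_one]
          simp [ι, g', pow_mul]
        rw [e, cosetCoord_mul, map_mul]
        have : powQuot k m (MonoidAlgebra.single (g' ^ m) (1 : k) - 1) = 0 := by
          rw [map_sub, map_one]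
          simp only [powQuot, MonoidAlgebra.mapDomainRingHom_apply, MonoidAlgebra.mapDomain_single,
            QuotientGroup.mk'_apply]
          rw [(QuotientGroup.eq_one_iff (g' ^ m)).mpr (MonoidHom.mem_range.mpr ⟨g', rfl⟩), MonoidAlgebra.one_def, sub_self]
        rw [this, zero_mul]
    have h3 := h2 _ h1 h
    rw [pow_mul, ← hb, ← map_pow, cosetCoord_mul] at h3
    have := finite_quot (N := H) hHfg hm
    have hcard : (Nat.card (H ⧸ (powMonoidHom m : H →* H).range) : k) ≠ 0 := by
      intro h0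
      rcases hp1 with rfl | hp
      · have : CharZero k := by
          rcases ‹ExpChar k 1› with _ | ⟨hp⟩
          · infer_instance
          · exact absurd hp Nat.not_prime_one
        exact Nat.card_pos.ne' (Nat.cast_eq_zero.mp h0)
      · have : CharP k p := by
          rcases ‹ExpChar k p› with _ | ⟨_⟩
          · exact absurd hp Nat.not_prime_one
          · infer_instance
        have hd : p ∣ Nat.card (H ⧸ (powMonoidHom m : H →* H).range) := (CharP.cast_eq_zero_iff k p _).mp h0
        have : Fact p.Prime := ⟨hp⟩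
        obtain ⟨z, hz⟩ := exists_prime_orderOf_dvd_card' p hd
        have hzm : z ^ m = 1 := by
          obtain ⟨g, rfl⟩ := QuotientGroup.mk'_surjective _ z
          rw [← map_pow]
          exact (QuotientGroup.eq_one_iff _).mpr ⟨g, rfl⟩
        have := orderOf_dvd_of_pow_eq_one hzm
        rw [hz] at this
        exact hp.ne_one (Nat.eq_one_of_dvd_coprimes hmp this dvd_rfl)
    have := isReduced_groupAlgebra (k := k) (H ⧸ (powMonoidHom m : H →* H).range) hcard
    refine IsReduced.eq_zero _ ⟨j + 1, ?_⟩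
    rw [← map_pow, mul_pow, show b ^ (j + 1) * cosetCoord k H h x ^ (j + 1) =
      (b ^ j * cosetCoord k H h x) * (b * cosetCoord k H h x ^ j) by ring, map_mul, h3, zero_mul]
  have hzero : ∀ h : M, b * cosetCoord k H h x = 0 := by
    intro h
    set z := b * cosetCoord k H h x
    by_contra hne
    have hsup : z.coeff.support.Nonempty := Finsupp.support_nonempty_iff.mpr fun h0 => hne (MonoidAlgebra.ext h0)
    obtain ⟨g₀, hg₀⟩ := hsup
    have hex : ∀ g : H, ∃ m : ℕ, 0 < m ∧ Nat.Coprime m p ∧
        (g ∈ (powMonoidHom m : H →* H).range → g = 1) := by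
      intro g
      by_cases hg : g = 1
      · exact ⟨1, one_pos, Nat.coprime_one_left _, fun _ => hg⟩
      by_contra! hcon
      obtain ⟨y, hy⟩ := g.2
      refine hg (Subtype.ext (hy.symm.trans (hs y fun m hm hmp => ?_)))
      obtain ⟨⟨_, w, rfl⟩, hw⟩ := (hcon m hm hmp).1
      refine ⟨w, Eq.trans ?_ ((congrArg Subtype.val hw).trans hy.symm)⟩
      simp [pow_mul, q]
    choose mf hm0 hmc hmg using hex
    let m := ∏ g ∈ z.coeff.support, mf (g / g₀)
    have hm : 0 < m := Finset.prod_pos fun g _ => hm0 _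
    have hmp : Nat.Coprime m p := Nat.Coprime.prod_left fun g _ => hmc _
    have h0 := congrArg (fun w => w.coeff (QuotientGroup.mk g₀)) (hmem h m hm hmp)
    simp only [powQuot, MonoidAlgebra.mapDomainRingHom_apply, MonoidAlgebra.coeff_zero, Finsupp.coe_zero,
      Pi.zero_apply, MonoidAlgebra.coeff_mapDomain, Finsupp.mapDomain, Finsupp.sum, Finsupp.finsetSum_apply] at h0
    rw [Finset.sum_eq_single g₀] at h0
    · simp only [QuotientGroup.mk'_apply, Finsupp.single_eq_same] at h0
      exact Finsupp.mem_support_iff.mp hg₀ h0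
    · intro g hg hne
      refine Finsupp.single_eq_of_ne fun heq => hne (div_eq_one.mp (hmg (g / g₀) ?_))
      have hmem' : g / g₀ ∈ (powMonoidHom m : H →* H).range := by
        rw [← QuotientGroup.eq_one_iff, QuotientGroup.mk_div, div_eq_one]
        exact heq.symm
      obtain ⟨w, hw⟩ := hmem'
      obtain ⟨c, hc⟩ : mf (g / g₀) ∣ m := Finset.dvd_prod_of_mem (fun g => mf (g / g₀)) hg
      exact ⟨w ^ c, Eq.trans (show (w ^ c) ^ mf (g / g₀) = w ^ m by rw [← pow_mul, hc, mul_comm]) hw⟩
    · intro hn; exact absurd hg₀ hn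
  refine MonoidAlgebra.ext (Finsupp.ext fun g => ?_)
  have h1 : cosetCoord k H g (a ^ q * x) = 0 := by rw [← hb, cosetCoord_mul, hzero]
  have h2 := congrArg (fun w => w.coeff (1 : H)) h1
  rw [coef_cosetCoord] at h2
  simpa using h2

/-- Density over a Noetherian ring. -/
theorem exists_pow_mul_eq_zero_noetherian {R : Type u} [CommRing R] [IsNoetherianRing R] (hfg : Group.FG M)
    (a x : MonoidAlgebra R M) (hax : ∀ n : ℕ, 0 < n → ∃ j : ℕ, powQuot R n (a ^ j * x) = 0) :
    ∃ j : ℕ, a ^ j * x = 0 := by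
  classical
  by_contra hno
  let ann : MonoidAlgebra R M → Ideal R := fun y => LinearMap.ker (LinearMap.toSpanSingleton R (MonoidAlgebra R M) y)
  have hann : ∀ {y r}, r ∈ ann y ↔ r • y = 0 := fun {y r} => Iff.rfl
  let Bad : MonoidAlgebra R M → Prop := fun y =>
    (∀ n : ℕ, 0 < n → ∃ j : ℕ, powQuot R n (a ^ j * y) = 0) ∧ ∀ j : ℕ, a ^ j * y ≠ 0
  obtain ⟨K, ⟨x', hx', rfl⟩, hmax⟩ := set_has_maximal_iff_noetherian.mpr (inferInstance : IsNoetherian R R)
    {K | ∃ y, Bad y ∧ ann y = K} ⟨_, x, ⟨hax, fun j hj => hno ⟨j, hj⟩⟩, rfl⟩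
  set K := ann x' with hKdef
  have hsm : ∀ (r : R) n j, powQuot R n (a ^ j * x') = 0 → powQuot R n (a ^ j * (r • x')) = 0 := fun r n j h => by
    rw [Algebra.smul_def, mul_left_comm, map_mul, h, mul_zero]
  have hpow : ∀ i, Bad (a ^ i * x') := fun i => by
    refine ⟨fun n hn => ?_, fun j => by rw [← mul_assoc, ← pow_add]; exact hx'.2 _⟩
    obtain ⟨j, hj⟩ := hx'.1 n hn
    exact ⟨j, by rw [mul_left_comm, map_mul, hj, mul_zero]⟩
  have hann_pow : ∀ i, ann (a ^ i * x') = K := fun i =>
    ((lt_or_eq_of_le (show K ≤ ann (a ^ i * x') from fun r hr => by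
      rw [hann] at hr ⊢
      rw [← mul_smul_comm, hr, mul_zero])).resolve_left (hmax _ ⟨_, hpow i, rfl⟩)).symm
  have hK : K.IsPrime := by
    refine ⟨fun htop => hx'.2 0 ?_, fun {r s} hrs => or_iff_not_imp_left.mpr fun hr => ?_⟩
    · have : (1 : R) ∈ K := htop ▸ trivial
      rw [hann, one_smul] at this
      rw [this, mul_zero]
    · by_contra hs
      have hbad : Bad (r • x') := ⟨fun n hn => (hx'.1 n hn).imp fun j hj => hsm r n j hj, fun j hj => hr (by
        rw [← hann_pow j, hann, ← mul_smul_comm]; exact hj)⟩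
      refine hmax _ ⟨_, hbad, rfl⟩ ((show K ≤ ann (r • x') from fun t ht => ?_).lt_of_ne fun he => hs ?_)
      · rw [hann] at ht ⊢; rw [smul_comm, ht, smul_zero]
      · rw [he, hann, smul_smul, mul_comm]; exact hrs
  have := hK
  let k := FractionRing (R ⧸ K)
  let W : Submodule R R := Submodule.torsionBySet R R (K : Set R)
  let V := k ⊗[R ⧸ K] W
  obtain ⟨q, hq⟩ := exists_pow_mul_eq_zero_field (k := k) hfg
  let ιG : ∀ G : Type u, (G →₀ W) →ₗ[R] (G →₀ R) := fun G => Finsupp.mapRange.linearMap W.subtype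
  have hex : ∀ y : MonoidAlgebra R M, (∀ r ∈ K, r • y = 0) → ∃ yh : M →₀ W, ιG M yh = y.coeff := by
    intro y hy
    refine ⟨y.coeff.mapRange (fun c => if hc : c ∈ W then ⟨c, hc⟩ else 0) (by simp), Finsupp.ext fun g => ?_⟩
    have hc : y.coeff g ∈ W := (Submodule.mem_torsionBySet_iff _ _).mpr fun r => by
      have := congrArg (fun w => w.coeff g) (hy r r.2)
      simpa using this
    simp [ιG, hc]
  obtain ⟨xh, hxh⟩ := hex x' fun r hr => hr
  have hfun : ∀ φ : W →ₗ[R] k, ∀ yh : M →₀ W, ιG M yh = (a ^ q * x').coeff → Finsupp.mapRange.linearMap φ yh = 0 := by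
    intro φ yh hyh
    let F : ∀ G : Type u, (G →₀ W) → MonoidAlgebra k G := fun G w =>
      MonoidAlgebra.ofCoeff (Finsupp.mapRange.linearMap φ w)
    let abar := MonoidAlgebra.mapRingHom M (algebraMap R k) a
    have hmul : ∀ (c : MonoidAlgebra R M) (w : M →₀ W), ∃ w' : M →₀ W,
        ιG M w' = (c * MonoidAlgebra.ofCoeff (ιG M w)).coeff ∧
          F M w' = MonoidAlgebra.mapRingHom M (algebraMap R k) c * F M w := by
      intro c w
      induction c using MonoidAlgebra.induction_linear with
      | zero => exact ⟨0, by simp, by simp [F]⟩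
      | add c d hc hd =>
        obtain ⟨c', hc1, hc2⟩ := hc
        obtain ⟨d', hd1, hd2⟩ := hd
        exact ⟨c' + d', by rw [map_add, hc1, hd1, add_mul, MonoidAlgebra.coeff_add],
          by simp only [F, map_add, add_mul, ← hc2, ← hd2, MonoidAlgebra.ofCoeff_add]⟩
      | single g r =>
        have key : ∀ h, w.mapDomain (g * ·) h = w (g⁻¹ * h) := fun h => by
          have := Finsupp.mapDomain_apply (mul_right_injective g) w (g⁻¹ * h)
          rwa [mul_inv_cancel_left] at this
        refine ⟨r • w.mapDomain (g * ·), Finsupp.ext fun h => ?_, MonoidAlgebra.ext (Finsupp.ext fun h => ?_)⟩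
        · rw [MonoidAlgebra.coeff_single_mul_apply]
          simp [ιG, key]
        · rw [MonoidAlgebra.mapRingHom_single, MonoidAlgebra.coeff_single_mul_apply]
          simp [F, key, Algebra.smul_def]
    have hinj : ∀ (G : Type u) (w w' : G →₀ W), ιG G w = ιG G w' → w = w' := fun G =>
      Finsupp.mapRange_injective _ (map_zero W.subtype) Subtype.val_injective
    have hp : ∀ i (w : M →₀ W), ιG M w = (a ^ i * x').coeff → F M w = abar ^ i * F M xh := by
      intro i w hw
      obtain ⟨w', hw1, hw2⟩ := hmul (a ^ i) xh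
      rw [hxh, MonoidAlgebra.ofCoeff_coeff] at hw1
      rw [hinj M w w' (hw.trans hw1.symm), hw2, map_pow]
    have hH : ∀ n : ℕ, 0 < n → ∃ j : ℕ, powQuot k n (abar ^ j * F M xh) = 0 := by
      intro n hn
      obtain ⟨j, hj⟩ := hx'.1 n hn
      obtain ⟨w, hw⟩ := hex (a ^ j * x') fun r hr => by
        rw [← hann, hann_pow]; exact hr
      refine ⟨j, ?_⟩
      rw [← hp j w hw]
      set π := QuotientGroup.mk' (powMonoidHom n : M →* M).range
      have e1 : w.mapDomain π = 0 := hinj _ _ _ (by
        rw [map_zero]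
        show Finsupp.mapRange W.subtype (map_zero _) (w.mapDomain π) = 0
        rw [← Finsupp.mapDomain_mapRange _ _ _ (map_zero W.subtype) fun _ _ => map_add _ _ _]
        show (ιG M w).mapDomain π = 0
        rw [hw]
        exact congrArg MonoidAlgebra.coeff hj)
      refine MonoidAlgebra.ext ?_
      show (Finsupp.mapRange φ (map_zero _) w).mapDomain π = 0
      rw [Finsupp.mapDomain_mapRange _ _ _ (map_zero φ) fun _ _ => map_add _ _ _, e1, Finsupp.mapRange_zero]
    have := hq abar (F M xh) hH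
    rw [← hp q yh hyh] at this
    exact congrArg MonoidAlgebra.coeff this
  obtain ⟨yh, hyh⟩ := hex (a ^ q * x') fun r hr => by rw [← hann, hann_pow]; exact hr
  have hkill : ∀ g, ∃ r, r ∉ K ∧ r • yh g = 0 := by
    intro g
    have hV : TensorProduct.mk (R ⧸ K) k W 1 (yh g) = 0 := by
      rw [← Module.forall_dual_apply_eq_zero_iff k]
      intro ψ
      exact DFunLike.congr_fun (hfun ((ψ.restrictScalars R).comp
        ((TensorProduct.mk (R ⧸ K) k W 1).restrictScalars R)) yh hyh) g
    obtain ⟨⟨c, hc⟩, hc0⟩ := (IsLocalizedModule.eq_zero_iff (nonZeroDivisors (R ⧸ K))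
      (TensorProduct.mk (R ⧸ K) k W 1)).mp hV
    obtain ⟨r, rfl⟩ := Ideal.Quotient.mk_surjective c
    exact ⟨r, fun hr => nonZeroDivisors.ne_zero hc (Ideal.Quotient.eq_zero_iff_mem.mpr hr), hc0⟩
  choose r hr hr0 using hkill
  have hprod : ∏ g ∈ yh.support, r g ∈ K := by
    rw [← hann_pow q, hann]
    refine MonoidAlgebra.ext (Finsupp.ext fun g => ?_)
    rw [MonoidAlgebra.coeff_smul, Finsupp.smul_apply, ← hyh]
    show (∏ g ∈ yh.support, r g) • ((yh g : W) : R) = 0
    rw [← Submodule.coe_smul]
    by_cases hg : g ∈ yh.support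
    · rw [← Finset.prod_erase_mul _ _ hg, mul_smul, hr0, smul_zero]
      rfl
    · rw [Finsupp.notMem_support_iff.mp hg, smul_zero]
      rfl
  obtain ⟨g, -, hg⟩ := (hK.prod_mem_iff).mp hprod
  exact hr g hg

/-- Density of the torsion in diagonalisable groups of finite type. -/
theorem exists_pow_mul_eq_zero {R : Type u} [CommRing R] (hfg : Group.FG M) (a x : MonoidAlgebra R M)
    (hax : ∀ n : ℕ, 0 < n → ∃ j : ℕ, powQuot R n (a ^ j * x) = 0) : ∃ j : ℕ, a ^ j * x = 0 := by
  classical
  let S : Finset R := (a.coeff.support.image a.coeff) ∪ (x.coeff.support.image x.coeff)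
  let R₀ := Algebra.adjoin ℤ (S : Set R)
  have : Algebra.FiniteType ℤ R₀ := R₀.fg_iff_finiteType.mp ⟨S, rfl⟩
  have : IsNoetherianRing R₀ := Algebra.FiniteType.isNoetherianRing ℤ R₀
  let f : R₀ →+* R := R₀.val.toRingHom
  have hinj : ∀ G : Type u, [CommGroup G] → Function.Injective (MonoidAlgebra.mapRingHom G f) := fun G _ u v huv =>
    MonoidAlgebra.ext (Finsupp.ext fun g => Subtype.val_injective (by
      have := congrArg (fun w => w.coeff g) huv
      simp only [MonoidAlgebra.coeff_mapRingHom, Finsupp.mapRange_apply] at this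
      exact this))
  have hlift : ∀ y : MonoidAlgebra R M, (∀ g, y.coeff g ∈ R₀) → ∃ y₀, MonoidAlgebra.mapRingHom M f y₀ = y := by
    intro y hy
    refine ⟨MonoidAlgebra.ofCoeff (y.coeff.mapRange (fun c => if h : c ∈ R₀ then ⟨c, h⟩ else 0) (by rw [dif_pos (zero_mem _)]; rfl)),
      MonoidAlgebra.ext (Finsupp.ext fun g => ?_)⟩
    simp [hy g, f]
  have hmem : ∀ (y : MonoidAlgebra R M) (g : M), y.coeff.support.image y.coeff ⊆ S → y.coeff g ∈ R₀ := by
    intro y g hy
    by_cases hg : y.coeff g = 0
    · rw [hg]; exact zero_mem _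
    · exact Algebra.subset_adjoin (hy (Finset.mem_image_of_mem _ (Finsupp.mem_support_iff.mpr hg)))
  obtain ⟨a₀, ha₀⟩ := hlift a fun g => hmem a g Finset.subset_union_left
  obtain ⟨x₀, hx₀⟩ := hlift x fun g => hmem x g Finset.subset_union_right
  obtain ⟨j, hj⟩ := exists_pow_mul_eq_zero_noetherian hfg a₀ x₀ fun n hn => by
    obtain ⟨j, hj⟩ := hax n hn
    refine ⟨j, hinj _ ?_⟩
    rw [map_zero, ← hj, ← ha₀, ← hx₀, ← map_pow, ← map_mul]
    generalize a₀ ^ j * x₀ = w
    induction w using MonoidAlgebra.induction_linear with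
    | zero => simp
    | add u v hu hv => simp only [map_add, hu, hv]
    | single g r => simp [powQuot]
  exact ⟨j, by rw [← ha₀, ← hx₀, ← map_pow, ← map_mul, hj, map_zero]⟩

/-- The torsion subgroups of a group of multiplicative type of finite type are schematically dense. -/
theorem torsion_dense {R : Type u} [CommRing R] {A : Type u} [CommRing A] [HopfAlgebra R A]
    (hft : Algebra.FiniteType R A) (h : SGA3b.IsMultType R A) (a : A) :
    ⨅ n : {n : ℕ // 0 < n}, Ideal.map (algebraMap A (Localization.Away a)) (SGA3b.torsionIdeal R A n.1) = ⊥ := by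
  classical
  obtain ⟨ι, _, T, _, _, hflat, hsurj, hdiag⟩ := hasCover_of_isMultType h
  have := faithfullyFlat_pi T hflat hsurj
  have := Fintype.ofFinite ι
  refine eq_bot_iff.mpr fun y hy => ?_
  rw [Submodule.mem_iInf] at hy
  obtain ⟨x, ⟨_, k, rfl⟩, rfl⟩ := IsLocalization.exists_mk'_eq (Submonoid.powers a) y
  have hx : ∀ n : ℕ, 0 < n → ∃ j : ℕ, a ^ j * x ∈ SGA3b.torsionIdeal R A n := fun n hn => by
    have h1 := IsLocalization.mk'_mem_iff.mp (hy ⟨n, hn⟩)
    obtain ⟨_, ⟨j, rfl⟩, hm⟩ := (IsLocalization.algebraMap_mem_map_algebraMap_iff (Submonoid.powers a) _ _ _).mp h1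
    exact ⟨j, hm⟩
  have hloc : ∀ i, ∃ j : ℕ, (1 : T i) ⊗ₜ[R] (a ^ j * x) = 0 := by
    intro i
    rcases subsingleton_or_nontrivial (T i) with hs | hn
    · have : Subsingleton (T i ⊗[R] A) := Module.subsingleton (T i) _
      exact ⟨0, Subsingleton.elim _ _⟩
    obtain ⟨N, _, ⟨e⟩⟩ := hdiag i
    have : Algebra.FiniteType (T i) (MonoidAlgebra (T i) N) :=
      (inferInstance : Algebra.FiniteType (T i) (T i ⊗[R] A)).equiv e.toAlgEquiv
    have hfg : Group.FG N := Group.fg_iff_monoid_fg.mpr (MonoidAlgebra.finiteType_iff_fg.mp this)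
    let φ : A →ₐ[R] MonoidAlgebra (T i) N :=
      ((e : T i ⊗[R] A →ₐ[T i] MonoidAlgebra (T i) N).restrictScalars R).comp Algebra.TensorProduct.includeRight
    obtain ⟨j, hj⟩ := exists_pow_mul_eq_zero hfg (φ a) (φ x) fun n hn => by
      obtain ⟨j, hj⟩ := hx n hn
      refine ⟨j, ?_⟩
      have h1 : (1 : T i) ⊗ₜ[R] (a ^ j * x) ∈ SGA3b.torsionIdeal (T i) (T i ⊗[R] A) n := by
        rw [torsionIdeal_baseChange]
        exact Ideal.mem_map_of_mem (Algebra.TensorProduct.includeRight : A →ₐ[R] T i ⊗[R] A) hj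
      rw [torsionIdeal_eq_comap e, Ideal.mem_comap, torsionIdeal_monoidAlgebra, RingHom.mem_ker] at h1
      rw [← map_pow, ← map_mul]
      exact h1
    refine ⟨j, e.toAlgEquiv.injective ?_⟩
    rw [map_zero]
    rw [← map_pow, ← map_mul] at hj
    exact hj
  choose j hj using hloc
  rw [Ideal.mem_bot, IsLocalization.mk'_eq_zero_iff]
  refine ⟨⟨a ^ (Finset.univ.sup j), _, rfl⟩, ?_⟩
  refine eq_of_one_tmul (R := R) (∀ i, T i) (ext_proj T fun i => ?_)
  simp only [LinearMap.rTensor_tmul, AlgHom.toLinearMap_apply, map_one, TensorProduct.tmul_zero, map_zero]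
  rw [show Finset.univ.sup j = (Finset.univ.sup j - j i) + j i by
      have := Finset.le_sup (f := j) (Finset.mem_univ i); omega,
    pow_add, mul_assoc, ← mul_one (1 : T i), ← Algebra.TensorProduct.tmul_mul_tmul, hj, mul_zero]

end Groth.Agent.IsoTriv
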