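import Groth.Agent.IsoTriv.FieldTorsion
import Groth.Agent.IsoTriv.TorsionDense
import Groth.Agent.IsoTriv.Henselian
import Groth.Agent.IsoTriv.FieldSplit

/-! Schematic density of torsion in a commutative group with an open subgroup of multiplicative type. -/

universe u

open TensorProduct Coalgebra WithConv

namespace Groth.Agent.IsoTriv

open SGA3bLib

variable {L : Type u} [Field L] {B : Type u} [CommRing B] [HopfAlgebra L B] [Coalgebra.IsCocomm L B]
  {N : Type u} [CommGroup N]

/-- Every component contains a torsion point. -/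
theorem exists_torsion_translate [IsAlgClosed L] [Algebra.FiniteType L B] (Φ : B →ₐc[L] MonoidAlgebra L N)
    (hΦ : Function.Surjective Φ) {e : B} (he : IsIdempotentElem e)
    (hker : RingHom.ker (Φ : B →ₐ[L] MonoidAlgebra L N) = Ideal.span {e}) (x : B →ₐ[L] L) :
    ∃ (z : WithConv (B →ₐ[L] L)) (n : ℕ), 0 < n ∧ z ^ n = 1 ∧ (z⁻¹ * toConv x).ofConv e = 0 := by
  have hΦe : Φ e = 0 := by
    have : e ∈ RingHom.ker (Φ : B →ₐ[L] MonoidAlgebra L N) := hker ▸ Ideal.mem_span_singleton_self e
    exact this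
  have hce : counit (R := L) e = 0 := by rw [← CoalgHomClass.counit_comp_apply Φ e, hΦe, map_zero]
  have : Algebra.FiniteType L (MonoidAlgebra L N) :=
    Algebra.FiniteType.of_surjective (Φ : B →ₐ[L] MonoidAlgebra L N) hΦ
  have hfg : Group.FG N := Group.fg_iff_monoid_fg.mpr (MonoidAlgebra.finiteType_iff_fg.mp this)
  obtain ⟨m, hm, hxm⟩ := exists_pow_mem he hce x
  have hle : RingHom.ker (Φ : B →ₐ[L] MonoidAlgebra L N) ≤ RingHom.ker (toConv x ^ m).ofConv := by
    rw [hker, Ideal.span_singleton_le_iff_mem]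
    exact hxm
  let γ₀ := AlgHom.liftOfSurjective (Φ : B →ₐ[L] MonoidAlgebra L N) hΦ (toConv x ^ m).ofConv hle
  obtain ⟨γ, hγ₀⟩ := (MonoidAlgebra.lift L L N).surjective γ₀
  have hγ : subgroupPoint Φ γ = toConv x ^ m := WithConv.ofConv_injective (AlgHom.ext fun b => by
    show MonoidAlgebra.lift L L N γ (Φ b) = _
    rw [hγ₀]
    exact AlgHom.liftOfSurjective_apply _ _ _ _ b)
  obtain ⟨χ, c, hc, hχ⟩ := exists_root_hom hfg γ hm
  refine ⟨toConv x * (subgroupPoint Φ χ)⁻¹, m * c, Nat.mul_pos hm hc, ?_, ?_⟩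
  · rw [mul_pow, inv_pow, ← map_pow, hχ, map_pow, hγ, ← pow_mul, mul_inv_cancel]
  · rw [mul_inv_rev, inv_inv, mul_assoc, inv_mul_cancel, mul_one]
    show MonoidAlgebra.lift L L N χ (Φ e) = 0
    rw [hΦe, map_zero]

/-- Translation by a point. -/
noncomputable def translate (z : WithConv (B →ₐ[L] L)) : B →ₐ[L] B :=
  (toConv ((Algebra.ofId L B).comp z.ofConv) * toConv (AlgHom.id L B)).ofConv

omit [Coalgebra.IsCocomm L B] in
theorem comp_translate {D : Type u} [CommRing D] [Algebra L D] (f : B →ₐ[L] D) (z : WithConv (B →ₐ[L] L)) :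
    f.comp (translate z) = (toConv ((Algebra.ofId L D).comp z.ofConv) * toConv f).ofConv := by
  rw [translate, AlgHom.comp_convMul_distrib]
  congr 3
  exact AlgHom.ext fun b => f.commutes _

omit [Coalgebra.IsCocomm L B] in
theorem point_translate (y : B →ₐ[L] L) (z : WithConv (B →ₐ[L] L)) (b : B) :
    y (translate z b) = (z * toConv y).ofConv b := by
  rw [← AlgHom.comp_apply, comp_translate]
  congr 3

omit [Coalgebra.IsCocomm L B] in
theorem translate_one : translate (1 : WithConv (B →ₐ[L] L)) = AlgHom.id L B := by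
  rw [translate, show toConv ((Algebra.ofId L B).comp (1 : WithConv (B →ₐ[L] L)).ofConv) = 1 from
    WithConv.ofConv_injective (AlgHom.ext fun b => by simp [Algebra.ofId_apply]), one_mul]

omit [Coalgebra.IsCocomm L B] in
theorem ofId_conv_mul {D : Type u} [CommRing D] [Algebra L D] (z w : WithConv (B →ₐ[L] L)) :
    toConv ((Algebra.ofId L D).comp (z * w).ofConv) =
      toConv ((Algebra.ofId L D).comp z.ofConv) * toConv ((Algebra.ofId L D).comp w.ofConv) :=
  WithConv.ofConv_injective (AlgHom.comp_convMul_distrib _ _ _)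

omit [Coalgebra.IsCocomm L B] in
theorem translate_translate (z w : WithConv (B →ₐ[L] L)) :
    (translate z).comp (translate w) = translate (w * z) := by
  rw [comp_translate, translate, translate, ofId_conv_mul, mul_assoc]

omit [Coalgebra.IsCocomm L B] in
theorem torsion_le_ker_iff {D : Type u} [CommRing D] [Algebra L D] (f : B →ₐ[L] D) (n : ℕ) :
    SGA3b.torsionIdeal L B n ≤ RingHom.ker f ↔ toConv f ^ n = 1 := by
  have hpow : f.comp (SGA3b.powConv L B n) = (toConv f ^ n).ofConv := by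
    induction n with
    | zero =>
      simp only [SGA3b.powConv, pow_zero]
      exact AlgHom.ext fun c => f.commutes _
    | succ n ih =>
      simp only [SGA3b.powConv] at ih ⊢
      rw [pow_succ, pow_succ, AlgHom.comp_convMul_distrib, ih]
      rfl
  constructor
  · intro h
    refine WithConv.ofConv_injective (AlgHom.ext fun b => ?_)
    rw [← hpow]
    have h1 := h (Ideal.mem_map_of_mem (SGA3b.powConv L B n)
      (show b - algebraMap L B (counit b) ∈ RingHom.ker (Bialgebra.counitAlgHom L B) by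
        simp [RingHom.mem_ker]))
    rw [RingHom.mem_ker, map_sub, map_sub, AlgHom.commutes, AlgHom.commutes, sub_eq_zero] at h1
    exact h1
  · intro h
    refine Ideal.map_le_iff_le_comap.mpr fun b hb => ?_
    show f (SGA3b.powConv L B n b) = 0
    rw [← AlgHom.comp_apply, hpow, h, AlgHom.convOne_apply, show counit (R := L) b = 0 from hb, map_zero]

theorem translate_mem {z : WithConv (B →ₐ[L] L)} {N₀ n : ℕ} (hz : z ^ N₀ = 1) {b : B}
    (hb : b ∈ SGA3b.torsionIdeal L B (n * N₀)) : translate z b ∈ SGA3b.torsionIdeal L B n := by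
  let q : B →ₐ[L] B ⧸ SGA3b.torsionIdeal L B n := Ideal.Quotient.mkₐ L _
  have hq : toConv q ^ n = 1 := (torsion_le_ker_iff q n).mp fun x hx => Ideal.Quotient.eq_zero_iff_mem.mpr hx
  have hz' : toConv ((Algebra.ofId L (B ⧸ SGA3b.torsionIdeal L B n)).comp z.ofConv) ^ N₀ = 1 := by
    have : ∀ k, toConv ((Algebra.ofId L (B ⧸ SGA3b.torsionIdeal L B n)).comp z.ofConv) ^ k =
        toConv ((Algebra.ofId L (B ⧸ SGA3b.torsionIdeal L B n)).comp (z ^ k).ofConv) := fun k => by
      induction k with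
      | zero => exact WithConv.ofConv_injective (AlgHom.ext fun b => by simp [Algebra.ofId_apply])
      | succ k ih => rw [pow_succ, pow_succ, ih, ofId_conv_mul]
    rw [this, hz]
    exact WithConv.ofConv_injective (AlgHom.ext fun b => by simp [Algebra.ofId_apply])
  have hle : SGA3b.torsionIdeal L B (n * N₀) ≤ RingHom.ker (q.comp (translate z)) := by
    rw [comp_translate, torsion_le_ker_iff, toConv_ofConv, mul_pow,
      show n * N₀ = N₀ * n from mul_comm _ _, pow_mul, hz', one_pow, mul_comm N₀, pow_mul, hq, one_pow, mul_one]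
  exact Ideal.Quotient.eq_zero_iff_mem.mp (hle hb)

/-- Torsion is dense, over an algebraically closed field. -/
theorem exists_pow_mul_eq_zero_open [IsAlgClosed L] [Algebra.FiniteType L B] (Φ : B →ₐc[L] MonoidAlgebra L N)
    (hΦ : Function.Surjective Φ) {e : B} (he : IsIdempotentElem e)
    (hker : RingHom.ker (Φ : B →ₐ[L] MonoidAlgebra L N) = Ideal.span {e}) (a x : B)
    (hax : ∀ n : ℕ, 0 < n → ∃ j : ℕ, a ^ j * x ∈ SGA3b.torsionIdeal L B n) :
    ∃ j : ℕ, a ^ j * x = 0 := by
  classical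
  have : Algebra.FiniteType L (MonoidAlgebra L N) :=
    Algebra.FiniteType.of_surjective (Φ : B →ₐ[L] MonoidAlgebra L N) hΦ
  have hfg : Group.FG N := Group.fg_iff_monoid_fg.mpr (MonoidAlgebra.finiteType_iff_fg.mp this)
  let I : Ideal B :=
    { carrier := {t | ∃ j : ℕ, t * (a ^ j * x) = 0}
      zero_mem' := ⟨0, zero_mul _⟩
      add_mem' := by
        rintro s t ⟨i, hi⟩ ⟨j, hj⟩
        refine ⟨i + j, ?_⟩
        rw [pow_add, show (s + t) * (a ^ i * a ^ j * x) = a ^ j * (s * (a ^ i * x)) + a ^ i * (t * (a ^ j * x)) by ring,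
          hi, hj, mul_zero, mul_zero, add_zero]
      smul_mem' := by
        rintro c t ⟨j, hj⟩
        exact ⟨j, by rw [smul_eq_mul, mul_assoc, hj, mul_zero]⟩ }
  suffices I = ⊤ by
    obtain ⟨j, hj⟩ : (1 : B) ∈ I := this ▸ trivial
    exact ⟨j, by rwa [one_mul] at hj⟩
  by_contra hI
  obtain ⟨M, hM, hIM⟩ := Ideal.exists_le_maximal I hI
  have : IsJacobsonRing B := isJacobsonRing_of_finiteType (A := L)
  letI : Field (B ⧸ M) := Ideal.Quotient.field M
  have : Algebra.FiniteType L (B ⧸ M) :=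
    Algebra.FiniteType.of_surjective (Ideal.Quotient.mkₐ L M) Ideal.Quotient.mk_surjective
  have : Module.Finite L (B ⧸ M) := finite_of_finite_type_of_isJacobsonRing L (B ⧸ M)
  have hbij : Function.Bijective (algebraMap L (B ⧸ M)) := IsAlgClosed.algebraMap_bijective_of_isIntegral
  let σ : (B ⧸ M) ≃ₐ[L] L := (AlgEquiv.ofBijective (Algebra.ofId L (B ⧸ M)) hbij).symm
  let pt : B →ₐ[L] L := σ.toAlgHom.comp (Ideal.Quotient.mkₐ L M)
  obtain ⟨z, N₀, hN₀, hz, hze⟩ := exists_torsion_translate Φ hΦ he hker pt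
  obtain ⟨j, hj⟩ := exists_pow_mul_eq_zero hfg (Φ (translate z a)) (Φ (translate z x)) fun n hn => by
    obtain ⟨j, hj⟩ := hax (n * N₀) (Nat.mul_pos hn hN₀)
    refine ⟨j, ?_⟩
    have h1 : Φ (translate z (a ^ j * x)) ∈ SGA3b.torsionIdeal L (MonoidAlgebra L N) n := by
      rw [← map_torsionIdeal Φ hΦ]
      exact Ideal.mem_map_of_mem (Φ : B →ₐ[L] MonoidAlgebra L N) (translate_mem hz hj)
    rw [torsionIdeal_monoidAlgebra, RingHom.mem_ker] at h1
    rw [← map_pow, ← map_mul, ← map_pow, ← map_mul]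
    exact h1
  rw [← map_pow, ← map_mul, ← map_pow, ← map_mul] at hj
  have hker' : translate z (a ^ j * x) ∈ Ideal.span {e} := hker ▸ hj
  obtain ⟨b, hb⟩ := Ideal.mem_span_singleton'.mp hker'
  have h0 : (1 - e) * translate z (a ^ j * x) = 0 := by
    rw [← hb, mul_comm b e, ← mul_assoc, sub_mul, one_mul, he.eq, sub_self, zero_mul]
  have h1 := congrArg (translate z⁻¹) h0
  rw [map_mul, map_zero, ← AlgHom.comp_apply, translate_translate, mul_inv_cancel, translate_one] at h1
  have hmem : translate z⁻¹ (1 - e) ∈ M := hIM ⟨j, h1⟩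
  have hval : pt (translate z⁻¹ (1 - e)) = 1 := by
    rw [point_translate, map_sub, map_one, hze, sub_zero]
  rw [show pt (translate z⁻¹ (1 - e)) = σ (Ideal.Quotient.mk M (translate z⁻¹ (1 - e))) from rfl,
    Ideal.Quotient.eq_zero_iff_mem.mpr hmem, map_zero] at hval
  exact zero_ne_one hval

end Groth.Agent.IsoTriv
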