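import Groth.Agent.IsoTriv.Spread
import Groth.Agent.HenselLib.LocalHens
import Mathlib.RingTheory.Spectrum.Prime.Chevalley
import Mathlib.RingTheory.LocalRing.ResidueField.Ideal
import Mathlib.FieldTheory.IsSepClosed

/-! Quasi-isotriviality of groups of multiplicative type. -/

universe u

open TensorProduct

namespace Groth.Agent.IsoTriv

open SGA3bLib

variable {R : Type u} [CommRing R] {A : Type u} [CommRing A] [HopfAlgebra R A]

/-- Constant type: every prime has an etale neighbourhood over which the group is diagonalisable. -/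
theorem exists_etale_nhd [Nontrivial R] (hft : Algebra.FiniteType R A) (h : SGA3b.IsMultTypeConst R A)
    (p : Ideal R) [p.IsPrime] :
    ∃ (P : Type u) (_ : CommRing P) (_ : Algebra R P), Algebra.Etale R P ∧
      (∃ q : Ideal P, q.IsPrime ∧ q.comap (algebraMap R P) = p) ∧ SGA3b.IsDiag P (P ⊗[R] A) := by
  obtain ⟨N₁, _, -, ⟨eK⟩⟩ := exists_iso_sepClosed hft h (SeparableClosure p.ResidueField)
  let K := SeparableClosure p.ResidueField
  let T := HenselLib.Hull R K
  have : HenselianLocalRing T := HenselLib.henselianLocalRing_hull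
  obtain ⟨N, _, hfg, ⟨e⟩⟩ := exists_iso_of_lift hft h T K (HenselLib.hullPt R K) HenselLib.isLocalHom_hullPt
    (fun D _ _ _ σ => by
      obtain ⟨f, hf⟩ := HenselLib.exists_map_of_etale σ
      exact ⟨f, hf⟩) ⟨N₁, inferInstance, ⟨eK⟩⟩
  obtain ⟨R', _, _, N₀, _, hff, hfg₀, ⟨e₀⟩⟩ := exists_triv hft h
  have := hff
  have hfp := finitePresentation_of_triv hfg₀ e₀
  obtain ⟨S, hS⟩ := exists_iso_stage hfp (fun F => by
    classical
    obtain ⟨P, x, hx⟩ := HenselLib.exists_rep_finset F (id : T → T)
    exact ⟨⟨P.Ring, HenselLib.ι P⟩, fun t ht => ⟨x t, hx t ht⟩⟩) hfg e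
  refine ⟨S.P, inferInstance, inferInstance, inferInstance,
    ⟨RingHom.ker ((HenselLib.hullPt R K).comp S.f), RingHom.ker_isPrime _, ?_⟩, N, inferInstance, hS⟩
  ext r
  rw [Ideal.mem_comap, RingHom.mem_ker, AlgHom.commutes,
    IsScalarTower.algebraMap_apply R p.ResidueField K, map_eq_zero, Ideal.algebraMap_residueField_eq_zero]

/-- Every prime has an etale neighbourhood over which a group of multiplicative type is diagonalisable. -/
theorem exists_etale_nhd_of_isMultType (hft : Algebra.FiniteType R A) (h : SGA3b.IsMultType R A)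
    (p : Ideal R) [p.IsPrime] :
    ∃ (P : Type u) (_ : CommRing P) (_ : Algebra R P), Algebra.Etale R P ∧
      (∃ q : Ideal P, q.IsPrime ∧ q.comap (algebraMap R P) = p) ∧ SGA3b.IsDiag P (P ⊗[R] A) := by
  obtain ⟨s, hs, hloc⟩ := h
  obtain ⟨g, hg, hgp⟩ : ∃ g ∈ s, g ∉ p := by
    by_contra! hne
    exact Ideal.IsPrime.ne_top' (top_le_iff.mp (hs ▸ Ideal.span_le.mpr hne) : p = ⊤)
  have hd : Disjoint ((Submonoid.powers g : Submonoid R) : Set R) (p : Set R) :=
    Set.disjoint_left.mpr fun x ⟨n, hn⟩ hx => hgp ((inferInstance : p.IsPrime).mem_of_pow_mem n (by subst hn; exact hx))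
  let p' := p.map (algebraMap R (Localization.Away g))
  have hp' : p'.IsPrime := IsLocalization.isPrime_of_isPrime_disjoint (Submonoid.powers g) _ p inferInstance hd
  have hpc : p'.comap (algebraMap R (Localization.Away g)) = p :=
    IsLocalization.comap_map_of_isPrime_disjoint (Submonoid.powers g) _ inferInstance hd
  have : Nontrivial (Localization.Away g) := ⟨0, 1, fun h01 => hp'.ne_top ((Ideal.eq_top_iff_one _).mpr (h01 ▸ zero_mem _))⟩
  obtain ⟨P, _, _, het, ⟨q, hq, hqc⟩, N, _, ⟨e⟩⟩ :=
    exists_etale_nhd (R := Localization.Away g) (A := Localization.Away g ⊗[R] A) inferInstance (hloc g hg) p'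
  let : Algebra R P := ((algebraMap (Localization.Away g) P).comp (algebraMap R (Localization.Away g))).toAlgebra
  have : IsScalarTower R (Localization.Away g) P := .of_algebraMap_eq fun _ => rfl
  have := het
  exact ⟨P, inferInstance, inferInstance, Algebra.Etale.comp R (Localization.Away g) P,
    ⟨q, hq, by rw [IsScalarTower.algebraMap_eq R (Localization.Away g) P, ← Ideal.comap_comap, hqc, hpc]⟩,
    N, inferInstance, ⟨(cancelBC (R := R) (Localization.Away g) P A).symm.trans e⟩⟩

/-- Quasi-isotriviality is local for the etale topology, pointwise. -/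
theorem isQuasiIsotrivial_of_nhd
    (h : ∀ (p : Ideal R) [p.IsPrime], ∃ (P : Type u) (_ : CommRing P) (_ : Algebra R P), Algebra.Etale R P ∧
      (∃ q : Ideal P, q.IsPrime ∧ q.comap (algebraMap R P) = p) ∧ SGA3b.IsDiag P (P ⊗[R] A)) :
    SGA3b.IsQuasiIsotrivial R A := by
  let G : Set R := {f | ∃ (P : Type u) (_ : CommRing P) (_ : Algebra R P), Algebra.Etale R P ∧
    (∀ p : PrimeSpectrum R, f ∉ p.asIdeal → ∃ q : PrimeSpectrum P, q.comap (algebraMap R P) = p) ∧
    SGA3b.IsDiag P (P ⊗[R] A)}
  refine ⟨G, ?_, fun f hf => ?_⟩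
  · by_contra hne
    obtain ⟨m, hm, hle⟩ := Ideal.exists_le_maximal _ hne
    have := hm.isPrime
    obtain ⟨P, _, _, het, ⟨q, hq, hqc⟩, hd⟩ := h m
    have := het
    have hopen := PrimeSpectrum.isOpenMap_comap_of_hasGoingDown_of_finitePresentation (R := R) (S := P)
    have hmem : (⟨m, inferInstance⟩ : PrimeSpectrum R) ∈ Set.range (PrimeSpectrum.comap (algebraMap R P)) :=
      ⟨⟨q, hq⟩, PrimeSpectrum.ext hqc⟩
    obtain ⟨_, ⟨f, rfl⟩, hfm, hfsub⟩ := PrimeSpectrum.isTopologicalBasis_basic_opens.exists_subset_of_mem_open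
      hmem hopen.isOpen_range
    exact hfm (hle (Ideal.subset_span ⟨P, inferInstance, inferInstance, het, fun x hx => hfsub hx, hd⟩))
  · obtain ⟨P, _, _, het, hsurj, N, _, ⟨e⟩⟩ := hf
    have := het
    let L := Localization.Away f
    let : Algebra P (L ⊗[R] P) := Algebra.TensorProduct.rightAlgebra
    have : IsScalarTower R P (L ⊗[R] P) := .of_algebraMap_eq fun r => by
      show algebraMap R (L ⊗[R] P) r = (1 : L) ⊗ₜ[R] algebraMap R P r
      rw [Algebra.TensorProduct.algebraMap_apply, Algebra.algebraMap_eq_smul_one, Algebra.algebraMap_eq_smul_one,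
        TensorProduct.smul_tmul]
    have hs : Function.Surjective (PrimeSpectrum.comap (algebraMap L (L ⊗[R] P))) := by
      intro x
      have hx : f ∉ (x.comap (algebraMap R L)).asIdeal := fun hfx => x.2.ne_top
        (Ideal.eq_top_of_isUnit_mem _ hfx (IsLocalization.Away.algebraMap_isUnit f))
      obtain ⟨q, hq⟩ := hsurj _ hx
      have hqc : q.asIdeal.comap (algebraMap R P) = x.asIdeal.comap (algebraMap R L) :=
        congrArg PrimeSpectrum.asIdeal hq
      have hu : IsUnit (Algebra.ofId R q.asIdeal.ResidueField f) := by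
        refine Ne.isUnit fun h0 => hx ?_
        show f ∈ x.asIdeal.comap (algebraMap R L)
        rw [← hqc, Ideal.mem_comap, ← Ideal.algebraMap_residueField_eq_zero (I := q.asIdeal),
          ← IsScalarTower.algebraMap_apply]
        exact h0
      let Ψ : L ⊗[R] P →ₐ[R] q.asIdeal.ResidueField := Algebra.TensorProduct.lift
        (IsLocalization.Away.liftAlgHom f hu) (IsScalarTower.toAlgHom R P _) fun _ _ => Commute.all _ _
      refine ⟨⟨RingHom.ker Ψ, RingHom.ker_isPrime _⟩, ?_⟩
      refine PrimeSpectrum.localization_comap_injective L (Submonoid.powers f) (PrimeSpectrum.ext ?_)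
      show ((RingHom.ker Ψ).comap (algebraMap L (L ⊗[R] P))).comap (algebraMap R L) = x.asIdeal.comap (algebraMap R L)
      rw [← hqc, Ideal.comap_comap, ← IsScalarTower.algebraMap_eq R L (L ⊗[R] P)]
      ext r
      rw [Ideal.mem_comap, Ideal.mem_comap, RingHom.mem_ker, AlgHom.commutes,
        IsScalarTower.algebraMap_apply R P q.asIdeal.ResidueField, Ideal.algebraMap_residueField_eq_zero]
    have : Module.FaithfullyFlat L (L ⊗[R] P) := Module.FaithfullyFlat.of_comap_surjective hs
    exact ⟨L ⊗[R] P, inferInstance, inferInstance, inferInstance, this, N, inferInstance,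
      ⟨(cancelBC (R := R) L (L ⊗[R] P) A).trans (bcTriv e)⟩⟩

/-- Groups of multiplicative type of finite type are quasi-isotrivial. -/
theorem isQuasiIsotrivial (hft : Algebra.FiniteType R A) (h : SGA3b.IsMultType R A) :
    SGA3b.IsQuasiIsotrivial R A :=
  isQuasiIsotrivial_of_nhd fun p _ => exists_etale_nhd_of_isMultType hft h p

end Groth.Agent.IsoTriv
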