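import Groth.Agent.IsoTriv.FlatLift
import Groth.Agent.IsoTriv.FieldSplit

/-! Flat groups with diagonalisable reduction modulo a nilpotent ideal are diagonalisable. -/

universe u

open TensorProduct Coalgebra

namespace Groth.Agent.IsoTriv

open SGA3bLib

section SquareZero

variable {T : Type u} [CommRing T] {J : Ideal T} {A : Type u} [CommRing A] [HopfAlgebra T A]
  {N : Type u} [CommGroup N] (e₀ : (T ⧸ J) ⊗[T] A ≃ₐc[T ⧸ J] MonoidAlgebra (T ⧸ J) N)

theorem red_mul (a b : A) : red e₀ (a * b) = red e₀ a * red e₀ b := by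
  rw [red, red, red, ← map_mul e₀, Algebra.TensorProduct.tmul_mul_tmul, one_mul]

theorem red₂_sub (z w : A ⊗[T] A) : red₂ e₀ (z - w) = red₂ e₀ z - red₂ e₀ w := by
  simp only [red₂, TensorProduct.tmul_sub, map_sub]

theorem defect_mem {v : N → A} (hv : ∀ n, red e₀ (v n) = MonoidAlgebra.single n 1)
    (B : Module.Basis N T A) (hB : ∀ n, B n = v n) (n : N) (i : N × N) :
    (B.tensorProduct B).repr (comul (R := T) (B n) - B n ⊗ₜ[T] B n) i ∈ J := by
  refine repr_tensor_mem e₀ hv B hB ?_ i
  rw [red₂_sub, hB, red₂_comul e₀ hv, red₂_tmul, hv, sub_self]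

include e₀ in
theorem isDiag_of_sq_zero [Module.Flat T A] (hJ : J * J = ⊥) : Nonempty (A ≃ₐc[T] MonoidAlgebra T N) := by
  classical
  choose v hv using fun n : N => red_surjective e₀ (MonoidAlgebra.single n 1)
  let B := liftBasis e₀ hJ hv
  have hB : ∀ n, B n = v n := liftBasis_apply e₀ hJ hv
  choose y hy hcy using fun m => exists_cochain hJ B (defect_mem e₀ hv B hB) m
  let x : N → A := fun m => B m + y m
  have hred : ∀ m, red e₀ (x m) = MonoidAlgebra.single m 1 := fun m => by
    show red e₀ (B m + y m) = _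
    rw [red_add, hB, hv, show red e₀ (y m) = 0 from ext_coef fun p => by
      rw [map_zero, ← coef_repr e₀ hv B hB]; exact Ideal.Quotient.eq_zero_iff_mem.mpr (hy m p), add_zero]
  let X := liftBasis e₀ hJ hred
  have hX : ∀ n, X n = x n := liftBasis_apply e₀ hJ hred
  have huniq : ∀ (m : N) (z : A), comul (R := T) z = z ⊗ₜ[T] z → red e₀ z = MonoidAlgebra.single m 1 → z = x m := by
    intro m z hz hzr
    set d := z - x m
    have hd : ∀ p, X.repr d p ∈ J := fun p => by
      rw [← Ideal.Quotient.eq_zero_iff_mem, coef_repr e₀ hred X hX]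
      have h1 := red_add e₀ d (x m)
      rw [sub_add_cancel, hzr, hred] at h1
      have h1' : red e₀ d = 0 := by linear_combination -h1
      rw [h1', map_zero]
    have hdd : ∀ a b, X.repr d a * X.repr d b = 0 := fun a b => by
      have : X.repr d a * X.repr d b ∈ J * J := Ideal.mul_mem_mul (hd a) (hd b)
      rwa [hJ, Ideal.mem_bot] at this
    have h1 : comul (R := T) d = x m ⊗ₜ[T] d + d ⊗ₜ[T] x m + d ⊗ₜ[T] d := by
      rw [map_sub, hz, show comul (R := T) (x m) = x m ⊗ₜ[T] x m from hcy m, show z = x m + d by simp [d]]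
      clear_value d
      generalize x m = w
      simp only [TensorProduct.add_tmul, TensorProduct.tmul_add]
      abel
    refine sub_eq_zero.mp (X.repr.injective (Finsupp.ext fun p => ?_))
    have h2 := coord_comul_add hJ X (defect_mem e₀ hred X hX) hd p p
    rw [h1, ← hX m, map_add, map_add, Finsupp.add_apply, Finsupp.add_apply, Module.Basis.tensorProduct_repr_tmul_apply,
      Module.Basis.tensorProduct_repr_tmul_apply, Module.Basis.tensorProduct_repr_tmul_apply, X.repr_self,
      if_pos rfl, smul_eq_mul, smul_eq_mul, smul_eq_mul, hdd, add_zero, Finsupp.single_apply] at h2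
    rw [map_zero, Finsupp.zero_apply]
    show X.repr d p = 0
    rcases eq_or_ne m p with hmp | hmp
    · subst hmp; simp at h2; linear_combination h2
    · simpa [hmp] using h2.symm
  have hmul : ∀ a b, x (a * b) = x a * x b := fun a b => by
    refine (huniq _ _ ?_ ?_).symm
    · rw [Bialgebra.comul_mul, hcy, hcy, Algebra.TensorProduct.tmul_mul_tmul]
    · rw [red_mul, hred, hred, MonoidAlgebra.single_mul_single, mul_one]
  have hone : x 1 = 1 := by
    refine (huniq _ _ ?_ ?_).symm
    · rw [Bialgebra.comul_one, Algebra.TensorProduct.one_def]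
    · rw [red, ← Algebra.TensorProduct.one_def, map_one e₀]; rfl
  have hunit : ∀ m, IsUnit (x m) := fun m =>
    IsUnit.of_mul_eq_one (x m⁻¹) (by rw [← hmul, mul_inv_cancel, hone])
  have hcu : ∀ m, counit (R := T) (x m) = 1 := fun m => by
    have h := Coalgebra.rTensor_counit_comul (R := T) (x m)
    rw [show comul (R := T) (x m) = x m ⊗ₜ[T] x m from hcy m, LinearMap.rTensor_tmul] at h
    have h' := congrArg (TensorProduct.lid T A) h
    rw [TensorProduct.lid_tmul, TensorProduct.lid_tmul, one_smul] at h'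
    have h'' : algebraMap T A (counit (R := T) (x m)) = 1 := by
      refine (hunit m).mul_right_cancel ?_
      rw [← Algebra.smul_def, one_mul]; exact h'
    have h3 := congrArg (fun a => Ideal.Quotient.mk J (X.repr a 1)) h''
    have hX1 : X 1 = 1 := (hX 1).trans hone
    rw [Algebra.algebraMap_eq_smul_one, ← hX1] at h''
    have := congrArg (fun a => X.repr a 1) h''
    simpa using this
  let χ : N →* A := { toFun := x, map_one' := hone, map_mul' := hmul }
  let F : MonoidAlgebra T N →ₐ[T] A := MonoidAlgebra.lift T A N χ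
  have hF : ∀ m, F (MonoidAlgebra.single m 1) = x m := fun m => by simp [F, χ]
  let Fb : MonoidAlgebra T N →ₐc[T] A := BialgHom.ofAlgHom F
    (MonoidAlgebra.algHom_ext (single_one_left := Subsingleton.elim _ _) fun m => by simp [hF, hcu])
    (MonoidAlgebra.algHom_ext (single_one_left := Subsingleton.elim _ _) fun m => by simp [hF, hcy m, x])
  refine ⟨(BialgEquiv.ofBijective Fb ?_).symm⟩
  have : ∀ w, Fb w = X.repr.symm ((MonoidAlgebra.coeffLinearEquiv T) w) := fun w => by
    induction w using MonoidAlgebra.induction_linear with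
    | zero => simp
    | add a b ha hb => rw [map_add, map_add, map_add, ha, hb]
    | single m r =>
      rw [show (MonoidAlgebra.coeffLinearEquiv T) (MonoidAlgebra.single m r) = Finsupp.single m r by simp,
        X.repr_symm_single, hX, show Fb (MonoidAlgebra.single m r) = F (MonoidAlgebra.single m r) from rfl]
      simp [F, χ]
  rw [funext this]
  exact X.repr.symm.bijective.comp (MonoidAlgebra.coeffLinearEquiv T).bijective

end SquareZero

/-- Flat deformations of diagonalisable groups along nilpotent ideals are diagonalisable. -/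
theorem isDiag_of_flat_nilpotent {T : Type u} [CommRing T] {A : Type u} [CommRing A] [HopfAlgebra T A]
    [Module.Flat T A] {N : Type u} [CommGroup N] (J : Ideal T) (hJ : IsNilpotent J)
    (h0 : Nonempty ((T ⧸ J) ⊗[T] A ≃ₐc[T ⧸ J] MonoidAlgebra (T ⧸ J) N)) :
    Nonempty (A ≃ₐc[T] MonoidAlgebra T N) := by
  obtain ⟨k, hk⟩ := hJ
  induction k using Nat.strong_induction_on generalizing T A J with
  | _ k ih =>
    rcases Nat.lt_or_ge k 3 with hk3 | hk3
    · obtain ⟨e₀⟩ := h0
      refine isDiag_of_sq_zero e₀ ?_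
      rw [← sq]
      exact le_bot_iff.mp ((Ideal.pow_le_pow_right (by omega : k ≤ 2)).trans hk.le)
    · -- first reduce modulo the square
      let K : Ideal T := J ^ 2
      have hKJ : K ≤ J := Ideal.pow_le_self two_ne_zero
      let J' : Ideal (T ⧸ K) := J.map (Ideal.Quotient.mk K)
      obtain ⟨e₀⟩ := h0
      let : Algebra (T ⧸ J) ((T ⧸ K) ⧸ J') :=
        (Ideal.Quotient.lift J ((Ideal.Quotient.mk J').comp (Ideal.Quotient.mk K))
          fun r hr => Ideal.Quotient.eq_zero_iff_mem.mpr (Ideal.mem_map_of_mem _ hr)).toAlgebra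
      have : IsScalarTower T (T ⧸ J) ((T ⧸ K) ⧸ J') := .of_algebraMap_eq fun r => rfl
      have h1 : Nonempty (((T ⧸ K) ⊗[T] A) ≃ₐc[T ⧸ K] MonoidAlgebra (T ⧸ K) N) := by
        refine ih 2 (by omega) J' ⟨(cancelBC (R := T) (T ⧸ K) ((T ⧸ K) ⧸ J') A).trans (bcTriv e₀)⟩ ?_
        rw [← Ideal.map_pow]
        exact Ideal.map_quotient_self K
      refine ih (k - 1) (by omega) K h1 ?_
      rw [← pow_mul]
      exact le_bot_iff.mp ((Ideal.pow_le_pow_right (by omega : k ≤ 2 * (k - 1))).trans hk.le)

end Groth.Agent.IsoTriv
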