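import Groth.Agent.IsoTriv.FieldSplit
import Groth.Agent.HenselLib.FiniteEtaleLift
import Groth.Agent.HenselLib.Unique
import Groth.Agent.HenselLib.Local
import Groth.Agent.HenselLib.Perm
import Mathlib.RingTheory.Smooth.Flat

/-! Isotriviality over henselian local rings. -/

universe u

open TensorProduct

namespace Groth.Agent.IsoTriv

open SGA3bLib

variable {R : Type u} [CommRing R]

theorem exists_local_lift [HenselianLocalRing R] (k' : Type u) [Field k']
    [alg : Algebra (IsLocalRing.ResidueField R) k'] [hfin' : Module.Finite (IsLocalRing.ResidueField R) k']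
    [Algebra.IsSeparable (IsLocalRing.ResidueField R) k'] :
    ∃ (B : Type u) (_ : CommRing B) (_ : Algebra R B) (θ : B →+* k'),
      IsLocalRing B ∧ Module.Finite R B ∧ Algebra.Etale R B ∧ Module.FaithfullyFlat R B ∧
      IsLocalHom θ ∧ Function.Surjective θ ∧
      RingHom.ker θ = (IsLocalRing.maximalIdeal R).map (algebraMap R B) ∧
      ∀ r, θ (algebraMap R B r) = algebraMap (IsLocalRing.ResidueField R) k' (IsLocalRing.residue R r) := by
  let m := IsLocalRing.maximalIdeal R
  letI : Algebra (R ⧸ m) k' := alg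
  haveI : Module.Finite (R ⧸ m) k' := hfin'
  have hfe : Algebra.FormallyEtale (IsLocalRing.ResidueField R) k' := Algebra.FormallyEtale.of_isSeparable _ _
  have he : Algebra.Etale (IsLocalRing.ResidueField R) k' :=
    ⟨hfe, Algebra.FinitePresentation.of_finiteType.mp inferInstance⟩
  have : Algebra.Etale (R ⧸ m) k' := he
  obtain ⟨B, _, _, hfin, het, ⟨E⟩⟩ := HenselLib.exists_finiteEtale_lift R m k'
  have := hfin
  have := het
  let θ : B →+* k' := E.toAlgHom.toRingHom.comp
    (Algebra.TensorProduct.includeRight : B →ₐ[R] (R ⧸ m) ⊗[R] B).toRingHom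
  have hincl : Function.Surjective (Algebra.TensorProduct.includeRight : B →ₐ[R] (R ⧸ m) ⊗[R] B) := by
    intro z
    induction z using TensorProduct.induction_on with
    | zero => exact ⟨0, map_zero _⟩
    | tmul q b =>
      obtain ⟨r, rfl⟩ := Ideal.Quotient.mk_surjective q
      refine ⟨r • b, ?_⟩
      rw [Algebra.TensorProduct.includeRight_apply, ← TensorProduct.smul_tmul, Algebra.smul_def, mul_one]
      rfl
    | add x y hx hy =>
      obtain ⟨a, rfl⟩ := hx
      obtain ⟨b, rfl⟩ := hy
      exact ⟨a + b, map_add _ _ _⟩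
  have hθ : Function.Surjective θ := E.surjective.comp hincl
  have hker : RingHom.ker θ = m.map (algebraMap R B) := by
    refine le_antisymm (fun b hb => ?_) ?_
    · have h1 : (1 : R ⧸ m) ⊗ₜ[R] b = 0 := E.injective (hb.trans (map_zero E).symm)
      have h2 := congrArg (Algebra.TensorProduct.quotIdealMapEquivTensorQuot B m).symm
        (congrArg (TensorProduct.comm R (R ⧸ m) B) h1)
      rw [map_zero, map_zero, TensorProduct.comm_tmul] at h2
      rw [← Ideal.Quotient.eq_zero_iff_mem, ← h2,
        show (1 : R ⧸ m) = Ideal.Quotient.mk m (1 : R) from rfl,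
        Algebra.TensorProduct.quotIdealMapEquivTensorQuot_symm_tmul, one_smul]
      rfl
    · rw [Ideal.map_le_iff_le_comap]
      intro r hr
      show E ((1 : R ⧸ m) ⊗ₜ[R] algebraMap R B r) = 0
      rw [Algebra.algebraMap_eq_smul_one, TensorProduct.tmul_smul, TensorProduct.smul_tmul', Algebra.smul_def, mul_one]
      rw [show algebraMap R (R ⧸ m) r = 0 from Ideal.Quotient.eq_zero_iff_mem.mpr hr, TensorProduct.zero_tmul, map_zero]
  have hjac : m.map (algebraMap R B) ≤ Ideal.jacobson ⊥ := HenselLib.map_maximalIdeal_le_jacobson R B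
  have hunit : ∀ b, θ b ≠ 0 → IsUnit b := fun b hb => by
    obtain ⟨c, hc⟩ := hθ (θ b)⁻¹
    have h1 : b * c - 1 ∈ m.map (algebraMap R B) := by
      rw [← hker, RingHom.mem_ker, map_sub, map_mul, hc, mul_inv_cancel₀ hb, map_one, sub_self]
    exact isUnit_of_mul_isUnit_left (HenselLib.isUnit_of_sub_one_mem hjac h1)
  have : Nontrivial B := θ.domain_nontrivial
  have hloc : IsLocalRing B := IsLocalRing.of_isUnit_or_isUnit_one_sub_self fun b => by
    by_cases hb : θ b = 0
    · exact Or.inr (hunit _ (by rw [map_sub, map_one, hb, sub_zero]; exact one_ne_zero))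
    · exact Or.inl (hunit _ hb)
  have hlθ : IsLocalHom θ := ⟨fun b hb => hunit b hb.ne_zero⟩
  have hcomm : ∀ r, θ (algebraMap R B r) = algebraMap (IsLocalRing.ResidueField R) k' (IsLocalRing.residue R r) := by
    intro r
    show E ((1 : R ⧸ m) ⊗ₜ[R] algebraMap R B r) = _
    rw [Algebra.algebraMap_eq_smul_one, TensorProduct.tmul_smul, TensorProduct.smul_tmul', Algebra.smul_def, mul_one]
    exact E.commutes (Ideal.Quotient.mk m r)
  have : IsLocalHom (algebraMap R B) := ⟨fun r hr => by
    by_contra hnu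
    have h1 : θ (algebraMap R B r) = 0 := by
      rw [hcomm, show IsLocalRing.residue R r = 0 from
        Ideal.Quotient.eq_zero_iff_mem.mpr ((IsLocalRing.mem_maximalIdeal r).mpr hnu), map_zero]
    exact (hr.map θ).ne_zero h1⟩
  have : Module.FaithfullyFlat R B := Module.FaithfullyFlat.of_flat_of_isLocalHom
  exact ⟨B, inferInstance, inferInstance, θ, hloc, hfin, het, this, hlθ, hθ, hker, hcomm⟩

/-- Groups of multiplicative type of finite type over henselian local rings are isotrivial. -/
theorem isIsotrivial_henselian [HenselianLocalRing R] {A : Type u} [CommRing A] [HopfAlgebra R A]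
    (hft : Algebra.FiniteType R A) (h : SGA3b.IsMultType R A) : SGA3b.IsIsotrivial R A := by
  let k := IsLocalRing.ResidueField R
  obtain ⟨k', _, _, hkfin, hksep, N', _, hN', ⟨ek⟩⟩ :=
    exists_splitting (k := k) (A := k ⊗[R] A) inferInstance (isMultTypeConst_bc (isMultTypeConst_of_isLocalRing h) k)
  have := hkfin
  have := hksep
  obtain ⟨B, _, _, θ, hloc, hfin, het, hff, hlθ, hθ, hker, hcomm⟩ := exists_local_lift (R := R) k'
  have := hloc
  let : Algebra R k' := ((algebraMap k k').comp (algebraMap R k)).toAlgebra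
  have : IsScalarTower R k k' := .of_algebraMap_eq fun _ => rfl
  let π : B →ₐ[R] k' := { θ with commutes' := hcomm }
  have hB : HenselianRing B ((IsLocalRing.maximalIdeal R).map (algebraMap R B)) :=
    HenselLib.henselianRing_of_isIntegral (IsLocalRing.maximalIdeal R) B
  have hlift : ∀ (D : Type u) [CommRing D] [Algebra R D] [Algebra.Etale R D] (σ : D →ₐ[R] k'),
      ∃ τ : D →ₐ[R] B, π.comp τ = σ := by
    intro D _ _ _ σ
    let e := (Ideal.quotientEquivAlgOfEq R hker.symm).trans
      (Ideal.quotientKerAlgEquivOfSurjective (f := π) hθ)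
    obtain ⟨τ, hτ, -⟩ := HenselLib.existsUnique_lift ((IsLocalRing.maximalIdeal R).map (algebraMap R B))
      (e.symm.toAlgHom.comp σ)
    refine ⟨τ, AlgHom.ext fun d => ?_⟩
    have h1 := AlgHom.congr_fun hτ d
    have h2 := congrArg e h1
    simp only [AlgHom.comp_apply, AlgEquiv.coe_toAlgHom, AlgEquiv.apply_symm_apply] at h2
    rw [← h2]
    rfl
  obtain ⟨N, _, -, ⟨e⟩⟩ := exists_iso_of_lift hft (isMultTypeConst_of_isLocalRing h) B k' π hlθ hlift
    ⟨N', inferInstance, ⟨(cancelBC (R := R) k k' A).symm.trans ek⟩⟩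
  exact ⟨B, inferInstance, inferInstance, het, hfin, hff, N, inferInstance, ⟨e⟩⟩

end Groth.Agent.IsoTriv
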