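import Groth.Agent.IsoTriv.NilLift
import Groth.Agent.IsoTriv.FlatNil
import Groth.Agent.IsoTriv.HenselianIso

/-! Applications: flat deformations of groups of multiplicative type. -/

universe u

open TensorProduct

namespace Groth.Agent.IsoTriv

open SGA3bLib

variable {R : Type u} [CommRing R] {A : Type u} [CommRing A] [HopfAlgebra R A]

theorem isDiag_of_flat_map [Module.Flat R A] (I : Ideal R) (hI : IsNilpotent I) (B : Type u) [CommRing B]
    [Algebra R B] (C : Type u) [CommRing C] [Algebra (R ⧸ I) C]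
    (hC : SGA3b.IsDiag C (C ⊗[R ⧸ I] ((R ⧸ I) ⊗[R] A))) (f : C →+* B ⧸ I.map (algebraMap R B))
    (hf : ∀ r : R, f (algebraMap (R ⧸ I) C (Ideal.Quotient.mk I r)) = Ideal.Quotient.mk _ (algebraMap R B r)) :
    SGA3b.IsDiag B (B ⊗[R] A) := by
  obtain ⟨N, _, ⟨e⟩⟩ := hC
  let : Algebra R C := ((algebraMap (R ⧸ I) C).comp (Ideal.Quotient.mk I)).toAlgebra
  have : IsScalarTower R (R ⧸ I) C := .of_algebraMap_eq fun _ => rfl
  let : Algebra C (B ⧸ I.map (algebraMap R B)) := f.toAlgebra
  have : IsScalarTower R C (B ⧸ I.map (algebraMap R B)) := .of_algebraMap_eq fun r => (hf r).symm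
  let e₁ : C ⊗[R] A ≃ₐc[C] MonoidAlgebra C N := (cancelBC (R := R) (R ⧸ I) C A).symm.trans e
  refine ⟨N, inferInstance, isDiag_of_flat_nilpotent (I.map (algebraMap R B)) ?_
    ⟨(cancelBC (R := R) B (B ⧸ I.map (algebraMap R B)) A).trans (bcTriv e₁)⟩⟩
  obtain ⟨n, hn⟩ := hI
  exact ⟨n, by rw [← Ideal.map_pow, hn]; exact Ideal.map_bot⟩

theorem isQuasiIsotrivial_of_flat [Module.Flat R A] (I : Ideal R) (hI : IsNilpotent I)
    (h0 : SGA3b.IsQuasiIsotrivial (R ⧸ I) ((R ⧸ I) ⊗[R] A)) : SGA3b.IsQuasiIsotrivial R A := by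
  obtain ⟨n, hn⟩ := hI
  exact isQuasiIsotrivial_of_lift I (fun x hx => ⟨n, by have := Ideal.pow_mem_pow hx n; rw [hn] at this; exact this⟩)
    (fun B _ _ _ C _ _ hC f hf => isDiag_of_flat_map I ⟨n, hn⟩ B C hC f hf) h0

/-- An isotrivial group is of multiplicative type. -/
theorem isMultType_of_isIsotrivial (h : SGA3b.IsIsotrivial R A) : SGA3b.IsMultType R A := by
  obtain ⟨B, _, _, -, -, hff, hd⟩ := h
  have := hff
  refine ⟨{1}, Ideal.span_singleton_one, ?_⟩
  rintro f rfl
  exact isMultTypeConst_bc ⟨B, inferInstance, inferInstance, hff, hd⟩ _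

/-- Flat groups over Artinian local rings with special fibre of multiplicative type. -/
theorem isIsotrivial_artinian [IsArtinianRing R] [IsLocalRing R] [Module.Flat R A] (hft : Algebra.FiniteType R A)
    (h0 : SGA3b.IsMultType (IsLocalRing.ResidueField R) (IsLocalRing.ResidueField R ⊗[R] A)) :
    SGA3b.IsIsotrivial R A := by
  have hnil : IsNilpotent (IsLocalRing.maximalIdeal R) := by
    rw [← IsLocalRing.jacobson_eq_maximalIdeal ⊥ bot_ne_top]
    exact IsArtinianRing.isNilpotent_jacobson_bot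
  obtain ⟨n, hn⟩ := hnil
  have := HenselLib.henselianRing_of_nilpotent (IsLocalRing.maximalIdeal R)
    (fun x hx => ⟨n, by have := Ideal.pow_mem_pow hx n; rw [hn] at this; exact this⟩)
  have : HenselianLocalRing R := HenselLib.henselianLocalRing_of_henselianRing R
  let k := IsLocalRing.ResidueField R
  obtain ⟨k', _, _, hfin, hsep, N', _, -, ⟨ek⟩⟩ :=
    exists_splitting (k := k) (A := k ⊗[R] A) inferInstance (isMultTypeConst_of_isLocalRing h0)
  have := hfin
  have := hsep
  obtain ⟨B, _, _, θ, hloc, hBfin, het, hff, hlθ, hθ, hker, hcomm⟩ := exists_local_lift (R := R) k'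
  let e := (Ideal.quotEquivOfEq hker).toRingHom.comp (RingHom.quotientKerEquivOfSurjective hθ).symm.toRingHom
  letI : Algebra (R ⧸ IsLocalRing.maximalIdeal R) k' := inferInstanceAs (Algebra (IsLocalRing.ResidueField R) k')
  refine ⟨B, inferInstance, inferInstance, het, hBfin, hff, isDiag_of_flat_map (IsLocalRing.maximalIdeal R) ⟨n, hn⟩ B k'
    ⟨N', inferInstance, ⟨ek⟩⟩ e fun r => ?_⟩
  refine (congrArg (fun z => Ideal.quotEquivOfEq hker ((RingHom.quotientKerEquivOfSurjective hθ).symm z))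
    (show algebraMap (R ⧸ IsLocalRing.maximalIdeal R) k' (Ideal.Quotient.mk _ r) = θ (algebraMap R B r) from
      (hcomm r).symm)).trans ?_
  rw [show (RingHom.quotientKerEquivOfSurjective hθ).symm (θ (algebraMap R B r)) =
    Ideal.Quotient.mk _ (algebraMap R B r) from by
      apply (RingHom.quotientKerEquivOfSurjective hθ).injective
      rw [RingEquiv.apply_symm_apply]
      exact (RingHom.quotientKerEquivOfSurjective_apply_mk (f := θ) _ _).symm]
  rfl

end Groth.Agent.IsoTriv
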