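import Groth.Agent.IsoTriv.ClopenNoeth
import Groth.Agent.IsoTriv.FlatLiftApply

/-! Clopen isotrivial subgroups on etale neighbourhoods, any base. -/

universe u

open TensorProduct

namespace Groth.Agent.IsoTriv

open SGA3bLib IsLocalRing

/-- Isotriviality is stable under base change. -/
theorem isIsotrivial_bc {R : Type u} [CommRing R] {A : Type u} [CommRing A] [HopfAlgebra R A] (R' : Type u)
    [CommRing R'] [Algebra R R'] (h : SGA3b.IsIsotrivial R A) : SGA3b.IsIsotrivial R' (R' ⊗[R] A) := by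
  obtain ⟨B, _, _, het, hfin, hff, N, _, ⟨e⟩⟩ := h
  have := het
  have := hfin
  have := hff
  let : Algebra B (R' ⊗[R] B) := Algebra.TensorProduct.rightAlgebra
  exact ⟨R' ⊗[R] B, inferInstance, inferInstance, inferInstance, inferInstance, inferInstance, N, inferInstance,
    ⟨(cancelBC (R := R) R' (R' ⊗[R] B) A).trans (bcTriv (T := B) (T' := R' ⊗[R] B) e)⟩⟩

/-- Elements of a localisation at a prime come from a basic open. -/
theorem exists_rep_atPrime {R : Type u} [CommRing R] (p : Ideal R) [p.IsPrime] (F : Finset (Localization.AtPrime p)) :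
    ∃ S : Stage R (Localization.AtPrime p), ∀ t ∈ F, t ∈ Set.range S.f := by
  obtain ⟨⟨s, hs⟩, hF⟩ := IsLocalization.exist_integer_multiples_of_finset p.primeCompl F
  have hu : IsUnit (Algebra.ofId R (Localization.AtPrime p) s) :=
    IsLocalization.map_units (Localization.AtPrime p) (⟨s, hs⟩ : p.primeCompl)
  refine ⟨⟨Localization.Away s, IsLocalization.Away.liftAlgHom s (f := Algebra.ofId R _) hu⟩, fun t ht => ?_⟩
  obtain ⟨r, hr⟩ := hF t ht
  refine ⟨IsLocalization.mk' (Localization.Away s) r ⟨s, Submonoid.mem_powers s⟩, hu.mul_left_cancel ?_⟩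
  have h := congrArg (IsLocalization.Away.liftAlgHom s (f := Algebra.ofId R (Localization.AtPrime p)) hu)
    (IsLocalization.mk'_spec' (Localization.Away s) r (⟨s, Submonoid.mem_powers s⟩ : Submonoid.powers s))
  rw [map_mul, AlgHom.commutes, AlgHom.commutes] at h
  exact h.trans (hr.trans (by rw [Algebra.smul_def]; rfl))

/-- Flatness at the primes over `p` gives flatness along the closed fibre over the local ring. -/
theorem flat_atPrime_tensor {R : Type u} [CommRing R] (p : Ideal R) [p.IsPrime] {C : Type u} [CommRing C] [Algebra R C]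
    (hfl : ∀ (q : Ideal C) [q.IsPrime], q.comap (algebraMap R C) = p → Module.Flat R (Localization.AtPrime q))
    (Q : Ideal (Localization.AtPrime p ⊗[R] C)) [Q.IsPrime]
    (hQ : Ideal.map (algebraMap (Localization.AtPrime p) (Localization.AtPrime p ⊗[R] C))
      (maximalIdeal (Localization.AtPrime p)) ≤ Q) :
    Module.Flat (Localization.AtPrime p) (Localization.AtPrime Q) := by
  set O := Localization.AtPrime p
  let : Algebra C (O ⊗[R] C) := Algebra.TensorProduct.rightAlgebra
  let q := Q.comap (algebraMap C (O ⊗[R] C))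
  have hmax : Q.comap (algebraMap O (O ⊗[R] C)) = maximalIdeal O :=
    (IsLocalRing.maximalIdeal.isMaximal O).eq_of_le (Ideal.IsPrime.comap _).ne_top
      (Ideal.map_le_iff_le_comap.mp hQ) |>.symm
  have hq : q.comap (algebraMap R C) = p := by
    rw [Ideal.comap_comap, ← IsScalarTower.algebraMap_eq R C (O ⊗[R] C), IsScalarTower.algebraMap_eq R O (O ⊗[R] C),
      ← Ideal.comap_comap, hmax]
    exact IsLocalization.AtPrime.under_maximalIdeal O p
  have : IsLocalization.AtPrime (Localization.AtPrime Q) q :=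
    IsLocalization.isLocalization_isLocalization_atPrime_isLocalization (Algebra.algebraMapSubmonoid C p.primeCompl)
      (Localization.AtPrime Q) Q
  have := hfl q hq
  have : Module.Flat R (Localization.AtPrime Q) := Module.Flat.of_linearEquiv
    ((IsLocalization.algEquiv q.primeCompl (Localization.AtPrime q) (Localization.AtPrime Q)).restrictScalars R).symm.toLinearEquiv
  exact (Module.flat_iff_of_isLocalization O p.primeCompl (Localization.AtPrime Q)).mpr this

/-- Base change of a quotient by an idempotent. -/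
theorem exists_bc_quot {R₁ : Type u} [CommRing R₁] {D A : Type u} [CommRing D] [HopfAlgebra R₁ D] [CommRing A]
    [HopfAlgebra R₁ A] (π₁ : D →ₐc[R₁] A) (hπ : Function.Surjective π₁) {x : D}
    (hk : RingHom.ker (π₁ : D →ₐ[R₁] A) = Ideal.span {x}) {R' : Type u} [CommRing R'] [Algebra R₁ R']
    {D' : Type u} [CommRing D'] [HopfAlgebra R' D'] (E : R' ⊗[R₁] D ≃ₐc[R'] D') :
    ∃ π : D' →ₐc[R'] R' ⊗[R₁] A, Function.Surjective π ∧
      RingHom.ker (π : D' →ₐ[R'] R' ⊗[R₁] A) = Ideal.span {E ((1 : R') ⊗ₜ x)} := by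
  refine ⟨(bcHom R' π₁).comp (E.symm : D' →ₐc[R'] R' ⊗[R₁] D), fun y => ?_, Ideal.ext fun y => ?_⟩
  · obtain ⟨w, hw⟩ := bcHom_surjective R' π₁ hπ y
    obtain ⟨v, rfl⟩ := E.symm.surjective w
    exact ⟨v, hw⟩
  · show bcHom R' π₁ (E.symm y) = 0 ↔ _
    have hE : E.symm (E ((1 : R') ⊗ₜ x)) = (1 : R') ⊗ₜ x := E.symm_apply_apply _
    rw [show bcHom R' π₁ (E.symm y) = 0 ↔ E.symm y ∈ RingHom.ker (bcHom R' π₁ : R' ⊗[R₁] D →ₐ[R'] R' ⊗[R₁] A)
        from Iff.rfl,
      ker_bcHom R' π₁ hπ, hk, Ideal.map_span, Set.image_singleton, Algebra.TensorProduct.includeRight_apply, ← hE,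
      Ideal.mem_span_singleton, Ideal.mem_span_singleton]
    exact (map_dvd_iff E.symm.toAlgEquiv).trans (by rw [hE])

variable {R : Type u} [CommRing R] (p : Ideal R) [p.IsPrime] {C : Type u} [CommRing C] [HopfAlgebra R C]

/-- The construction from a Noetherian model over a stage. -/
theorem exists_clopen_of_model {U : Type u} [CommRing U] [IsNoetherianRing U] {P : Type u} [CommRing P] [Algebra R P]
    [Algebra.Etale R P] [Algebra U P] (ρ : P →ₐ[R] p.ResidueField) (pU : Ideal U) [pU.IsPrime]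
    (hpU : pU = RingHom.ker (ρ.toRingHom.comp (algebraMap U P))) {C₁ : Type u} [CommRing C₁] [HopfAlgebra U C₁]
    (hft : Algebra.FiniteType U C₁) (hfl : ∀ n : ℕ, Module.Flat (U ⧸ pU ^ n) ((U ⧸ pU ^ n) ⊗[U] C₁))
    (E : P ⊗[U] C₁ ≃ₐc[P] P ⊗[R] C) (hs : SGA3b.IsMultType p.ResidueField (p.ResidueField ⊗[R] C)) :
    ∃ (R' : Type u) (_ : CommRing R') (_ : Algebra R R') (σ : R' →ₐ[R] p.ResidueField) (A : Type u) (_ : CommRing A)
      (_ : HopfAlgebra R' A) (π : R' ⊗[R] C →ₐc[R'] A) (x : R' ⊗[R] C),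
      Algebra.Etale R R' ∧ Function.Surjective π ∧ IsIdempotentElem x ∧
      RingHom.ker (π : R' ⊗[R] C →ₐ[R'] A) = Ideal.span {x} ∧ push C σ x = 0 ∧
      Algebra.FiniteType R' A ∧ SGA3b.IsIsotrivial R' A := by
  let K := p.ResidueField
  let : Algebra P K := ρ.toRingHom.toAlgebra
  have : IsScalarTower R P K := .of_algebraMap_eq fun r => (ρ.commutes r).symm
  let : Algebra U K := (ρ.toRingHom.comp (algebraMap U P)).toAlgebra
  have : IsScalarTower U P K := .of_algebraMap_eq fun _ => rfl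
  have hker : pU = RingHom.ker (algebraMap U K) := hpU
  let res : pU.ResidueField →ₐ[U] K :=
    { Ideal.ResidueField.lift pU (algebraMap U K) hker.le
        (fun a ha => Ne.isUnit fun h => ha (hker.ge (RingHom.mem_ker.mpr h))) with
      commutes' := fun a => by exact Ideal.ResidueField.lift_algebraMap .. }
  let : Algebra pU.ResidueField K := res.toRingHom.toAlgebra
  have : IsScalarTower U pU.ResidueField K := .of_algebraMap_eq fun a => (res.commutes a).symm
  let eK : K ⊗[R] C ≃ₐc[K] K ⊗[pU.ResidueField] (pU.ResidueField ⊗[U] C₁) :=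
    ((((cancelBC (R := R) P K C).symm.trans (bcEquiv K E).symm)).trans (cancelBC (R := U) P K C₁)).trans
      (cancelBC (R := U) pU.ResidueField K C₁).symm
  have hsU := isMultTypeConst_descend K eK (isMultTypeConst_of_isLocalRing hs)
  obtain ⟨R₁, _, _, σ₁, A₁, _, _, π₁, x₁, het₁, hπ₁, hx₁, hk₁, hσ₁, hftA, hiso⟩ :=
    exists_clopen_noeth pU (C := C₁) hft hfl hsU
  let R' := P ⊗[U] R₁
  have : Algebra.Etale R R' := by
    have := het₁
    exact Algebra.Etale.comp R P R'
  let : Algebra R₁ R' := Algebra.TensorProduct.rightAlgebra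
  have : IsScalarTower U R₁ R' := .of_algebraMap_eq fun v => by
    show algebraMap U R' v = (1 : P) ⊗ₜ[U] algebraMap U R₁ v
    exact (Algebra.TensorProduct.includeRight (R := U) (A := P) (B := R₁)).commutes v |>.symm
  let ρU : P →ₐ[U] K := IsScalarTower.toAlgHom U P K
  let σU : R' →ₐ[U] K := Algebra.TensorProduct.lift ρU (res.comp σ₁) fun _ _ => Commute.all _ _
  let σ : R' →ₐ[R] K :=
    { σU.toRingHom with
      commutes' := fun r => by
        show σU (algebraMap R P r ⊗ₜ[U] (1 : R₁)) = algebraMap R K r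
        rw [Algebra.TensorProduct.lift_tmul, map_one, mul_one]
        exact ρ.commutes r }
  let E' : R' ⊗[R₁] (R₁ ⊗[U] C₁) ≃ₐc[R'] R' ⊗[R] C :=
    (((cancelBC (R := U) R₁ R' C₁).trans (cancelBC (R := U) P R' C₁).symm).trans (bcEquiv R' E)).trans
      (cancelBC (R := R) P R' C)
  obtain ⟨π, hπ, hk⟩ := exists_bc_quot π₁ hπ₁ hk₁ E'
  refine ⟨R', inferInstance, inferInstance, σ, R' ⊗[R₁] A₁, inferInstance, inferInstance, π, E' ((1 : R') ⊗ₜ x₁),
    inferInstance, hπ, (hx₁.map (Algebra.TensorProduct.includeRight : R₁ ⊗[U] C₁ →ₐ[R₁] _)).map E', hk, ?_,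
    inferInstance, isIsotrivial_bc R' hiso⟩
  have key : ∀ z : R₁ ⊗[U] C₁,
      push C σ (E' ((1 : R') ⊗ₜ[R₁] z)) = eK.symm ((1 : K) ⊗ₜ[pU.ResidueField] push C₁ σ₁ z) := by
    intro z
    induction z using TensorProduct.induction_on with
    | zero => simp
    | add a b ha hb => simp only [tmul_add, map_add, ha, hb]
    | tmul r c =>
      have hE : E' ((1 : R') ⊗ₜ[R₁] (r ⊗ₜ[U] c)) =
          cancelBC (R := R) P R' C ((r • (1 : R')) ⊗ₜ[P] E ((1 : P) ⊗ₜ[U] c)) := rfl
      have hK : eK.symm ((1 : K) ⊗ₜ[pU.ResidueField] (σ₁ r ⊗ₜ[U] c)) =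
          cancelBC (R := R) P K C ((σ₁ r • (1 : K)) ⊗ₜ[P] E ((1 : P) ⊗ₜ[U] c)) := rfl
      rw [hE, push_tmul, hK]
      generalize E ((1 : P) ⊗ₜ[U] c) = w
      induction w using TensorProduct.induction_on with
      | zero => simp
      | add a b ha hb => simp only [tmul_add, map_add, ha, hb]
      | tmul q d =>
        show σU (q • (r • (1 : R'))) ⊗ₜ[R] d = (q • (σ₁ r • (1 : K))) ⊗ₜ[R] d
        congr 1
        rw [Algebra.smul_def r, mul_one, Algebra.smul_def (σ₁ r), mul_one]
        show σU ((q • (1 : P)) ⊗ₜ[U] r) = _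
        rw [Algebra.TensorProduct.lift_tmul, smul_eq_mul, mul_one, Algebra.smul_def]
        rfl
  rw [key, hσ₁, TensorProduct.tmul_zero, map_zero]

/-- A group flat along a fibre of multiplicative type contains, over an etale neighbourhood, a clopen isotrivial
subgroup with full fibre. -/
theorem exists_clopen_nbhd (hfp : Algebra.FinitePresentation R C)
    (hfl : ∀ (q : Ideal C) [q.IsPrime], q.comap (algebraMap R C) = p → Module.Flat R (Localization.AtPrime q))
    (hs : SGA3b.IsMultType p.ResidueField (p.ResidueField ⊗[R] C)) :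
    ∃ (R' : Type u) (_ : CommRing R') (_ : Algebra R R') (σ : R' →ₐ[R] p.ResidueField) (A : Type u) (_ : CommRing A)
      (_ : HopfAlgebra R' A) (π : R' ⊗[R] C →ₐc[R'] A) (x : R' ⊗[R] C),
      Algebra.Etale R R' ∧ Function.Surjective π ∧ IsIdempotentElem x ∧
      RingHom.ker (π : R' ⊗[R] C →ₐ[R'] A) = Ideal.span {x} ∧ push C σ x = 0 ∧
      Algebra.FiniteType R' A ∧ SGA3b.IsIsotrivial R' A := by
  classical
  obtain ⟨T, _, _, C₀, _, _, hT, hft₀, ⟨e₀⟩⟩ := exists_hopf_model R C hfp
  set O := Localization.AtPrime p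
  let φ : O ⊗[T] C₀ ≃ₐc[O] O ⊗[R] C := (cancelBC (R := T) R O C₀).symm.trans (bcEquiv O e₀)
  have : Algebra.FiniteType T C₀ := hft₀
  obtain ⟨U, hU, hUfl⟩ := exists_flat_stage φ.toAlgEquiv (fun Q _ hQ => flat_atPrime_tensor p hfl Q hQ)
  have : IsNoetherianRing U := EGA43.FlatDescent.isNoetherianRing_of_fg hU
  have hpU : (stageIdeal U).IsPrime := Ideal.IsPrime.comap _
  have : Algebra.FiniteType T U := Subalgebra.fg_iff_finiteType U |>.mp hU
  have : Algebra.FinitePresentation T U := Algebra.FinitePresentation.of_finiteType.mp this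
  let Q := R ⊗[T] U
  let f : Q →ₐ[R] O ⊗[R] R :=
    ((Algebra.TensorProduct.includeLeft : O →ₐ[R] O ⊗[R] R)).comp
      (Algebra.TensorProduct.lift (Algebra.ofId R O) U.val fun _ _ => Commute.all _ _)
  obtain ⟨S, h, hh⟩ := exists_factor_stage (fun F => exists_rep_atPrime p F) f
  let u : Q →ₐ[R] S.P := (Algebra.TensorProduct.rid R R S.P).toAlgHom.comp h
  have hu : ∀ v : U, S.f (u ((1 : R) ⊗ₜ[T] v)) = algebraMap U O v := fun v => by
    have h1 := congrArg (Algebra.TensorProduct.rid R R O) (AlgHom.congr_fun hh ((1 : R) ⊗ₜ[T] v))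
    have h2 : ∀ z : S.P ⊗[R] R, Algebra.TensorProduct.rid R R O (Algebra.TensorProduct.map S.f (AlgHom.id R R) z) =
        S.f (Algebra.TensorProduct.rid R R S.P z) := fun z => by
      induction z using TensorProduct.induction_on with
      | zero => simp
      | tmul a b => simp
      | add a b ha hb => simp only [map_add, ha, hb]
    rw [AlgHom.comp_apply, h2] at h1
    refine h1.trans ?_
    simp [f]
    erw [Algebra.TensorProduct.lift_tmul]
    rw [map_one, one_mul]
    rfl
  let : Algebra T S.P := ((algebraMap R S.P).comp (algebraMap T R)).toAlgebra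
  have : IsScalarTower T R S.P := .of_algebraMap_eq fun _ => rfl
  let : Algebra U S.P := (u.toRingHom.comp (Algebra.TensorProduct.includeRight : U →ₐ[T] Q).toRingHom).toAlgebra
  have : IsScalarTower T U S.P := .of_algebraMap_eq fun t => by
    show algebraMap T S.P t = u ((Algebra.TensorProduct.includeRight : U →ₐ[T] Q) (algebraMap T U t))
    rw [AlgHom.commutes, IsScalarTower.algebraMap_apply T R Q, AlgHom.commutes,
      ← IsScalarTower.algebraMap_apply T R S.P]
  let ρ : S.P →ₐ[R] p.ResidueField := (IsScalarTower.toAlgHom R O p.ResidueField).comp S.f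
  refine exists_clopen_of_model p ρ (stageIdeal U) (C₁ := U ⊗[T] C₀) (Ideal.ext fun v => ?_) inferInstance
    (flat_levels (stageIdeal U) (U ⊗[T] C₀) hUfl)
    (((cancelBC (R := T) U S.P C₀).trans (cancelBC (R := T) R S.P C₀).symm).trans (bcEquiv S.P e₀)) hs
  rw [RingHom.mem_ker]
  show algebraMap U O v ∈ maximalIdeal O ↔ algebraMap O p.ResidueField (S.f (u ((1 : R) ⊗ₜ[T] v))) = 0
  rw [hu]
  exact (IsLocalRing.residue_eq_zero_iff _).symm

end Groth.Agent.IsoTriv
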