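import Groth.Agent.IsoTriv.Spread
import Mathlib.RingTheory.HopfAlgebra.Quotient
import Mathlib.RingTheory.HopfAlgebra.TensorProduct
import Mathlib.RingTheory.HopfAlgebra.Convolution

/-! Clopen subgroups and their trivialisations descend to etale stages. -/

universe u

open TensorProduct Coalgebra

namespace Groth.Agent.IsoTriv

open SGA3bLib

section Idem

variable {P : Type u} [CommRing P] {D : Type u} [CommRing D] [HopfAlgebra P D] {x : D}

theorem map_mkQ_eq (z : D ⊗[P] D) :
    TensorProduct.map ((Ideal.span {x}).restrictScalars P).mkQ ((Ideal.span {x}).restrictScalars P).mkQ z =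
      Algebra.TensorProduct.map (Ideal.Quotient.mkₐ P (Ideal.span {x})) (Ideal.Quotient.mkₐ P (Ideal.span {x})) z := by
  induction z using TensorProduct.induction_on with
  | zero => rw [map_zero, map_zero]; rfl
  | tmul a b => rfl
  | add a b ha hb => rw [map_add, map_add, ha, hb]; rfl

theorem mem_span_iff_mul (hx : IsIdempotentElem x) {y : D} : y ∈ Ideal.span {x} ↔ (1 - x) * y = 0 := by
  rw [Ideal.mem_span_singleton]
  refine ⟨fun ⟨w, hw⟩ => by rw [hw, ← mul_assoc, sub_mul, one_mul, hx, sub_self, zero_mul],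
    fun h => ⟨y, ?_⟩⟩
  rw [sub_mul, one_mul, sub_eq_zero] at h
  exact h

theorem map_mk_eq_zero_iff (hx : IsIdempotentElem x) (z : D ⊗[P] D) :
    Algebra.TensorProduct.map (Ideal.Quotient.mkₐ P (Ideal.span {x})) (Ideal.Quotient.mkₐ P (Ideal.span {x})) z = 0 ↔
      ((1 - x) ⊗ₜ[P] (1 - x)) * z = 0 := by
  set q := Ideal.Quotient.mkₐ P (Ideal.span {x})
  have h0 : q x = 0 := Ideal.Quotient.eq_zero_iff_mem.mpr (Ideal.mem_span_singleton_self x)
  constructor
  · intro h
    let μ : (D ⧸ Ideal.span {x}) →ₗ[P] D :=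
      ((Ideal.span {x}).restrictScalars P).liftQ (LinearMap.mulLeft P (1 - x)) fun y hy =>
        (mem_span_iff_mul hx).mp hy
    have key : ∀ w : D ⊗[P] D,
        TensorProduct.map μ μ (Algebra.TensorProduct.map q q w) = ((1 - x) ⊗ₜ[P] (1 - x)) * w := fun w => by
      induction w using TensorProduct.induction_on with
      | zero => simp
      | tmul a b =>
        rw [Algebra.TensorProduct.map_tmul, TensorProduct.map_tmul, Algebra.TensorProduct.tmul_mul_tmul]
        rfl
      | add a b ha hb => rw [map_add, map_add, mul_add, ha, hb]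
    rw [← key, h, map_zero]
  · intro h
    have h1 := congrArg (Algebra.TensorProduct.map q q) h
    rw [map_mul, map_zero, Algebra.TensorProduct.map_tmul, map_sub, map_one, h0, sub_zero,
      ← Algebra.TensorProduct.one_def, one_mul] at h1
    exact h1

/-- A criterion for the ideal of an idempotent to be a Hopf ideal. -/
theorem isHopfIdeal_span_idem (hx : IsIdempotentElem x) (h1 : counit (R := P) x = 0)
    (h2 : ((1 - x) ⊗ₜ[P] (1 - x)) * comul (R := P) x = 0) (h3 : (1 - x) * HopfAlgebra.antipode P x = 0) :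
    (Ideal.span {x}).IsHopfIdeal P := by
  refine { counit_eq_zero := ?_, map_mkQ_comul_eq_zero := ?_, antipode_mem := ?_ }
  · intro y hy
    obtain ⟨w, rfl⟩ := Ideal.mem_span_singleton.mp hy
    show Bialgebra.counitAlgHom P D (x * w) = 0
    rw [map_mul, show Bialgebra.counitAlgHom P D x = 0 from h1, zero_mul]
  · intro y hy
    obtain ⟨w, rfl⟩ := Ideal.mem_span_singleton.mp hy
    refine (map_mkQ_eq _).trans ?_
    rw [show comul (R := P) (x * w) = Bialgebra.comulAlgHom P D x * Bialgebra.comulAlgHom P D w from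
      map_mul (Bialgebra.comulAlgHom P D) x w, map_mul]
    rw [show Algebra.TensorProduct.map _ _ (Bialgebra.comulAlgHom P D x) = 0 from (map_mk_eq_zero_iff hx _).mpr h2,
      zero_mul]
    rfl
  · intro y hy
    obtain ⟨w, rfl⟩ := Ideal.mem_span_singleton.mp hy
    rw [mem_span_iff_mul hx, show HopfAlgebra.antipode P (x * w) = HopfAlgebra.antipode P x * HopfAlgebra.antipode P w
      from map_mul (HopfAlgebra.antipodeAlgHom P D) x w, ← mul_assoc, h3, zero_mul]

theorem idem_conditions (hx : IsIdempotentElem x) [h : (Ideal.span {x}).IsHopfIdeal P] :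
    counit (R := P) x = 0 ∧ ((1 - x) ⊗ₜ[P] (1 - x)) * comul (R := P) x = 0 ∧
      (1 - x) * HopfAlgebra.antipode P x = 0 :=
  ⟨h.counit_eq_zero (Ideal.mem_span_singleton_self x),
    (map_mk_eq_zero_iff hx _).mp ((map_mkQ_eq _).symm.trans (h.map_mkQ_comul_eq_zero (Ideal.mem_span_singleton_self x))),
    (mem_span_iff_mul hx).mp (h.antipode_mem (Ideal.mem_span_singleton_self x))⟩

end Idem

variable {R : Type u} [CommRing R]

theorem rTensor_eq_map {P P' : Type u} [CommRing P] [CommRing P'] [Algebra R P] [Algebra R P'] (g : P →ₐ[R] P')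
    {M : Type u} [CommRing M] [Algebra R M] (z : P ⊗[R] M) :
    g.toLinearMap.rTensor M z = Algebra.TensorProduct.map g (AlgHom.id R M) z := by
  induction z using TensorProduct.induction_on with
  | zero => simp
  | tmul t a => rfl
  | add p q hp hq => simp only [map_add, hp, hq]

theorem map_comm {P P' : Type u} [CommRing P] [CommRing P'] [Algebra R P] [Algebra R P'] (g : P →ₐ[R] P')
    {M M' : Type u} [CommRing M] [Algebra R M] [CommRing M'] [Algebra R M'] (φ : M →ₐ[R] M') (z : P ⊗[R] M) :
    Algebra.TensorProduct.map g (AlgHom.id R M') (Algebra.TensorProduct.map (AlgHom.id R P) φ z) =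
      Algebra.TensorProduct.map (AlgHom.id R P') φ (Algebra.TensorProduct.map g (AlgHom.id R M) z) := by
  induction z using TensorProduct.induction_on with
  | zero => simp
  | tmul t a => rfl
  | add p q hp hq => simp only [map_add, hp, hq]

variable {C : Type u} [CommRing C] [HopfAlgebra R C]

section Defects

variable {P : Type u} [CommRing P] [Algebra R P]

/-- The tensor square of a base change, read at the level of the base. -/
noncomputable def squareHom (P : Type u) [CommRing P] [Algebra R P] :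
    (P ⊗[R] C) ⊗[P] (P ⊗[R] C) →ₐ[P] P ⊗[R] (C ⊗[R] C) :=
  Algebra.TensorProduct.lift
    (Algebra.TensorProduct.map (AlgHom.id P P) (Algebra.TensorProduct.includeLeft : C →ₐ[R] C ⊗[R] C))
    (Algebra.TensorProduct.map (AlgHom.id P P) (Algebra.TensorProduct.includeRight : C →ₐ[R] C ⊗[R] C))
    fun _ _ => Commute.all _ _

theorem squareHom_injective : Function.Injective (squareHom (R := R) (C := C) P) := by
  let incl : C →ₐ[R] P ⊗[R] C := Algebra.TensorProduct.includeRight
  let l : P ⊗[R] C →ₐ[R] (P ⊗[R] C) ⊗[P] (P ⊗[R] C) :=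
    (Algebra.TensorProduct.includeLeft (R := P) (S := P) (A := P ⊗[R] C) (B := P ⊗[R] C)).restrictScalars R
  let r : P ⊗[R] C →ₐ[R] (P ⊗[R] C) ⊗[P] (P ⊗[R] C) :=
    (Algebra.TensorProduct.includeRight (R := P) (A := P ⊗[R] C) (B := P ⊗[R] C)).restrictScalars R
  let ψ : P ⊗[R] (C ⊗[R] C) →ₐ[P] (P ⊗[R] C) ⊗[P] (P ⊗[R] C) :=
    Algebra.TensorProduct.lift (Algebra.ofId _ _)
      (Algebra.TensorProduct.lift (l.comp incl) (r.comp incl) fun _ _ => Commute.all _ _) fun _ _ => Commute.all _ _
  have h : ψ.comp (squareHom (R := R) (C := C) P) = AlgHom.id P _ := by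
    refine Algebra.TensorProduct.ext ?_ ?_
    · refine Algebra.TensorProduct.ext (Subsingleton.elim _ _) (AlgHom.ext fun c => ?_)
      simp [ψ, squareHom, l, r, incl, ← Algebra.TensorProduct.one_def]
    · refine Algebra.TensorProduct.ext (Subsingleton.elim _ _) (AlgHom.ext fun c => ?_)
      simp [ψ, squareHom, l, r, incl, ← Algebra.TensorProduct.one_def]
  exact Function.LeftInverse.injective (g := ψ) fun z => AlgHom.congr_fun h z

theorem squareHom_comul (y : P ⊗[R] C) :
    squareHom P (comul (R := P) y) = Algebra.TensorProduct.map (AlgHom.id R P) (Bialgebra.comulAlgHom R C) y := by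
  induction y using TensorProduct.induction_on with
  | zero => simp
  | add a b ha hb => simp only [map_add, ha, hb]
  | tmul p c =>
    rw [TensorProduct.comul_tmul, CommSemiring.comul_apply, Algebra.TensorProduct.map_tmul, AlgHom.id_apply,
      Bialgebra.comulAlgHom_apply]
    generalize comul (R := R) c = z
    induction z using TensorProduct.induction_on with
    | zero => simp
    | tmul a b => simp [squareHom, TensorProduct.AlgebraTensorModule.tensorTensorTensorComm_tmul]
    | add a b ha hb => simp only [tmul_add, map_add, ha, hb]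

/-- The defect of comultiplication. -/
noncomputable def comulDefect (P : Type u) [CommRing P] [Algebra R P] (x : P ⊗[R] C) : P ⊗[R] (C ⊗[R] C) :=
  Algebra.TensorProduct.map (AlgHom.id R P) (Algebra.TensorProduct.includeLeft : C →ₐ[R] C ⊗[R] C) (1 - x) *
    Algebra.TensorProduct.map (AlgHom.id R P) (Algebra.TensorProduct.includeRight : C →ₐ[R] C ⊗[R] C) (1 - x) *
    Algebra.TensorProduct.map (AlgHom.id R P) (Bialgebra.comulAlgHom R C) x

theorem comulDefect_eq (x : P ⊗[R] C) :
    comulDefect P x = squareHom P (((1 - x) ⊗ₜ[P] (1 - x)) * comul (R := P) x) := by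
  rw [map_mul, squareHom_comul, comulDefect]
  congr 1

theorem antipode_eq_map (y : P ⊗[R] C) :
    HopfAlgebra.antipode P y = Algebra.TensorProduct.map (AlgHom.id R P) (HopfAlgebra.antipodeAlgHom R C) y := by
  induction y using TensorProduct.induction_on with
  | zero => simp
  | add a b ha hb => simp only [map_add, ha, hb]
  | tmul p c => simp [TensorProduct.antipode_def]

theorem counit_eq_map (y : P ⊗[R] C) :
    counit (R := P) y = Algebra.TensorProduct.rid R R P
      (Algebra.TensorProduct.map (AlgHom.id R P) (Bialgebra.counitAlgHom R C) y) := by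
  induction y using TensorProduct.induction_on with
  | zero => simp
  | add a b ha hb => simp only [map_add, ha, hb]
  | tmul p c => simp [Algebra.smul_def, mul_comm]

theorem map_comulDefect {P' : Type u} [CommRing P'] [Algebra R P'] (g : P →ₐ[R] P') (x : P ⊗[R] C) :
    Algebra.TensorProduct.map g (AlgHom.id R (C ⊗[R] C)) (comulDefect P x) = comulDefect P' (push C g x) := by
  rw [comulDefect, comulDefect, map_mul, map_mul, map_comm, map_comm, map_comm, map_sub, map_one]
  rfl

end Defects

variable {T : Type u} [CommRing T] [IsLocalRing T] [Algebra R T] [Module.Flat R T]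

/-- An idempotent cutting out a subgroup over the local algebra does so at a finer stage. -/
theorem exists_hopfIdeal_stage (S : Stage R T) (x : S.P ⊗[R] C) (hx : IsIdempotentElem (push C S.f x))
    (hop : (Ideal.span {push C S.f x}).IsHopfIdeal T) :
    ∃ (S' : Stage R T) (g : S.P →ₐ[R] S'.P), S'.f.comp g = S.f ∧ IsIdempotentElem (push C g x) ∧
      (Ideal.span {push C g x}).IsHopfIdeal S'.P := by
  classical
  obtain ⟨hc, hm, ha⟩ := idem_conditions hx (h := hop)
  let Ant : ∀ (P : Type u) [CommRing P] [Algebra R P], P ⊗[R] C →ₐ[R] P ⊗[R] C := fun P _ _ =>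
    Algebra.TensorProduct.map (AlgHom.id R P) (HopfAlgebra.antipodeAlgHom R C)
  obtain ⟨S₁, g₁, h₁, hz₁⟩ := exists_shrink S (M := C) {x * x - x, (1 - x) * Ant S.P x} fun z hz => by
    rw [push_rTensor]
    rcases Finset.mem_insert.mp hz with rfl | hz
    · rw [map_sub, map_mul, hx.eq, sub_self]
    · rw [Finset.mem_singleton.mp hz, map_mul, map_sub, map_one,
        show push C S.f (Ant S.P x) = Ant T (push C S.f x) from map_comm _ _ _, ← antipode_eq_map]
      exact ha
  obtain ⟨S₂, g₂, h₂, hz₂⟩ := exists_shrink S₁ (M := R)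
      {Algebra.TensorProduct.map (AlgHom.id R S₁.P) (Bialgebra.counitAlgHom R C) (push C g₁ x)} fun z hz => by
    rw [Finset.mem_singleton.mp hz, rTensor_eq_map, map_comm]
    show Algebra.TensorProduct.map _ _ (push C S₁.f (push C g₁ x)) = 0
    rw [push_push, h₁]
    exact (Algebra.TensorProduct.rid R R T).injective (by rw [← counit_eq_map, hc, map_zero])
  obtain ⟨S₃, g₃, h₃, hz₃⟩ := exists_shrink S₂ (M := C ⊗[R] C) {comulDefect S₂.P (push C (g₂.comp g₁) x)}
      fun z hz => by
    rw [Finset.mem_singleton.mp hz, rTensor_eq_map, map_comulDefect, push_push, ← AlgHom.comp_assoc, h₂, h₁,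
      comulDefect_eq, hm, map_zero]
  let g := (g₃.comp g₂).comp g₁
  have hidem : IsIdempotentElem (push C g x) := by
    have h := hz₁ _ (Finset.mem_insert_self _ _)
    rw [push_rTensor] at h
    have h' := congrArg (push C (g₃.comp g₂)) h
    rw [push_push, map_zero, map_sub, map_mul, sub_eq_zero] at h'
    exact h'
  refine ⟨S₃, g, by simp only [g, ← AlgHom.comp_assoc]; rw [h₃, h₂, h₁], hidem,
    isHopfIdeal_span_idem hidem ?_ ?_ ?_⟩
  · have h := hz₂ _ (Finset.mem_singleton_self _)
    rw [rTensor_eq_map, map_comm] at h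
    have h' := congrArg (Algebra.TensorProduct.map g₃ (AlgHom.id R R)) h
    rw [map_zero, map_comm] at h'
    rw [counit_eq_map]
    refine (congrArg (Algebra.TensorProduct.rid R R S₃.P) ?_).trans (map_zero _)
    refine Eq.trans ?_ h'
    show _ = Algebra.TensorProduct.map _ _ (push C g₃ (push C g₂ (push C g₁ x)))
    rw [push_push, push_push]
  · have h := hz₃ _ (Finset.mem_singleton_self _)
    rw [rTensor_eq_map, map_comulDefect, push_push] at h
    refine squareHom_injective (P := S₃.P) ?_
    rw [map_zero, ← comulDefect_eq]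
    exact h
  · have h := hz₁ _ (Finset.mem_insert_of_mem (Finset.mem_singleton_self _))
    rw [push_rTensor] at h
    have h' := congrArg (push C (g₃.comp g₂)) h
    rw [push_push, map_zero, map_mul, map_sub, map_one,
      show push C ((g₃.comp g₂).comp g₁) (Ant S.P x) = Ant S₃.P (push C g x) from map_comm _ _ _,
      ← antipode_eq_map] at h'
    exact h'

/-- A map from a finitely presented algebra into a base change of the local algebra is defined at a stage. -/
theorem exists_factor_stage (hrep : ∀ F : Finset T, ∃ S : Stage R T, ∀ t ∈ F, t ∈ Set.range S.f)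
    {L : Type u} [CommRing L] [Algebra R L] {Q : Type u} [CommRing Q] [Algebra R Q] [Algebra.FinitePresentation R Q]
    (f : Q →ₐ[R] T ⊗[R] L) :
    ∃ (S : Stage R T) (h : Q →ₐ[R] S.P ⊗[R] L), (Algebra.TensorProduct.map S.f (AlgHom.id R L)).comp h = f := by
  classical
  obtain ⟨n, φ, hφ, hK⟩ := Algebra.FinitePresentation.out (R := R) (A := Q)
  obtain ⟨K, hK⟩ := hK
  choose N t a hz using fun i : Fin n => TensorProduct.exists_sum_tmul_eq (f (φ (MvPolynomial.X i)))
  obtain ⟨S, hS⟩ := hrep (Finset.univ.biUnion fun i => Finset.univ.image (t i))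
  choose p hp using fun i j => hS (t i j)
    (Finset.mem_biUnion.mpr ⟨i, Finset.mem_univ i, Finset.mem_image_of_mem _ (Finset.mem_univ j)⟩)
  let ψ : MvPolynomial (Fin n) R →ₐ[R] S.P ⊗[R] L := MvPolynomial.aeval fun i => ∑ j, p i j ⊗ₜ[R] a i j
  have hψ : (Algebra.TensorProduct.map S.f (AlgHom.id R L)).comp ψ = f.comp φ := MvPolynomial.algHom_ext fun i => by
    rw [AlgHom.comp_apply, AlgHom.comp_apply, MvPolynomial.aeval_X, map_sum, hz i]
    exact Finset.sum_congr rfl fun j _ => by rw [Algebra.TensorProduct.map_tmul, hp]; rfl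
  obtain ⟨S', g, hg, hkill⟩ := exists_shrink S (M := L) (K.image ψ) fun z hz => by
    obtain ⟨k, hk, rfl⟩ := Finset.mem_image.mp hz
    rw [rTensor_eq_map, show Algebra.TensorProduct.map S.f (AlgHom.id R L) (ψ k) = f (φ k) from AlgHom.congr_fun hψ k,
      show φ k = 0 from RingHom.mem_ker.mp (hK.le (Ideal.subset_span hk)), map_zero]
  let ψ' := (Algebra.TensorProduct.map g (AlgHom.id R L)).comp ψ
  have hle : RingHom.ker φ ≤ RingHom.ker ψ' := by
    rw [← show Ideal.span (K : Set (MvPolynomial (Fin n) R)) = RingHom.ker φ from hK, Ideal.span_le]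
    intro k hk
    show ψ' k = 0
    have h := hkill _ (Finset.mem_image_of_mem ψ hk)
    rw [rTensor_eq_map] at h
    exact h
  let h : Q →ₐ[R] S'.P ⊗[R] L :=
    (Ideal.Quotient.liftₐ (RingHom.ker φ) ψ' fun a ha => hle ha).comp
      (Ideal.quotientKerAlgEquivOfSurjective hφ).symm.toAlgHom
  refine ⟨S', h, AlgHom.ext fun q => ?_⟩
  obtain ⟨y, rfl⟩ := hφ q
  have hy : (Ideal.quotientKerAlgEquivOfSurjective hφ).symm (φ y) = Ideal.Quotient.mk _ y := by
    rw [AlgEquiv.symm_apply_eq]
    rfl
  show Algebra.TensorProduct.map S'.f (AlgHom.id R L)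
    (Ideal.Quotient.liftₐ (RingHom.ker φ) ψ' (fun a ha => hle ha)
      ((Ideal.quotientKerAlgEquivOfSurjective hφ).symm (φ y))) = f (φ y)
  rw [hy]
  show Algebra.TensorProduct.map S'.f (AlgHom.id R L) (Algebra.TensorProduct.map g (AlgHom.id R L) (ψ y)) = _
  rw [← AlgHom.comp_apply, ← Algebra.TensorProduct.map_comp, hg, AlgHom.comp_id]
  exact AlgHom.congr_fun hψ y

omit [IsLocalRing T] [Module.Flat R T] in
/-- Elements of the local algebra come from stages over a given stage. -/
theorem exists_rep_over (hrep : ∀ F : Finset T, ∃ S : Stage R T, ∀ t ∈ F, t ∈ Set.range S.f) (S : Stage R T)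
    [Algebra S.P T] [IsScalarTower R S.P T] (F : Finset T) : ∃ S' : Stage S.P T, ∀ t ∈ F, t ∈ Set.range S'.f := by
  obtain ⟨S₁, h₁⟩ := hrep F
  refine ⟨⟨S.P ⊗[R] S₁.P, Algebra.TensorProduct.lift (Algebra.ofId S.P T) S₁.f fun _ _ => Commute.all _ _⟩,
    fun t ht => ?_⟩
  obtain ⟨p, hp⟩ := h₁ t ht
  exact ⟨(1 : S.P) ⊗ₜ p, by simp [hp]⟩

/-- A trivialisation over a finite etale local algebra over the local algebra gives isotriviality at a stage. -/
theorem exists_isotrivial_stage (hrep : ∀ F : Finset T, ∃ S : Stage R T, ∀ t ∈ F, t ∈ Set.range S.f)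
    (L : Type u) [CommRing L] [Algebra R L] [Algebra.Etale R L] [Module.Finite R L] [Module.FaithfullyFlat R L]
    [IsLocalRing (T ⊗[R] L)] {A : Type u} [CommRing A] [HopfAlgebra R A] (hfp : Algebra.FinitePresentation R A)
    {N : Type u} [CommGroup N] (hN : Group.FG N) (e : (T ⊗[R] L) ⊗[R] A ≃ₐc[T ⊗[R] L] MonoidAlgebra (T ⊗[R] L) N) :
    ∃ S : Stage R T, SGA3b.IsIsotrivial S.P (S.P ⊗[R] A) := by
  classical
  have := hfp
  have hrepL : ∀ F : Finset (T ⊗[R] L), ∃ S : Stage R (T ⊗[R] L), ∀ z ∈ F, z ∈ Set.range S.f := by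
    intro F
    choose N t a hz using fun z : F => TensorProduct.exists_sum_tmul_eq z.1
    obtain ⟨S, hS⟩ := hrep (Finset.univ.biUnion fun z => Finset.univ.image (t z))
    have : Algebra.Etale R (S.P ⊗[R] L) := Algebra.Etale.comp R S.P (S.P ⊗[R] L)
    refine ⟨⟨S.P ⊗[R] L, Algebra.TensorProduct.map S.f (AlgHom.id R L)⟩, fun z hz' => ?_⟩
    choose p hp using fun j => hS (t ⟨z, hz'⟩ j)
      (Finset.mem_biUnion.mpr ⟨⟨z, hz'⟩, Finset.mem_univ _, Finset.mem_image_of_mem _ (Finset.mem_univ j)⟩)
    refine ⟨∑ j, p j ⊗ₜ[R] a ⟨z, hz'⟩ j, ?_⟩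
    show Algebra.TensorProduct.map S.f (AlgHom.id R L) _ = _
    rw [map_sum]
    exact (Finset.sum_congr rfl fun j _ => by rw [Algebra.TensorProduct.map_tmul, hp]; rfl).trans (hz ⟨z, hz'⟩).symm
  obtain ⟨S₂, ⟨e₂⟩⟩ := exists_iso_stage hfp hrepL hN e
  obtain ⟨S₃, h, -⟩ := exists_factor_stage hrep S₂.f
  let : Algebra S₂.P (S₃.P ⊗[R] L) := h.toRingHom.toAlgebra
  have : IsScalarTower R S₂.P (S₃.P ⊗[R] L) := .of_algebraMap_eq fun r => (h.commutes r).symm
  exact ⟨S₃, S₃.P ⊗[R] L, inferInstance, inferInstance, inferInstance, inferInstance, inferInstance, N, inferInstance,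
    ⟨(cancelBC (R := R) S₃.P (S₃.P ⊗[R] L) A).trans (bcTriv (T := S₂.P) (T' := S₃.P ⊗[R] L) e₂)⟩⟩

end Groth.Agent.IsoTriv
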