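import Groth.Agent.IsoTriv.HenselClopen
import Groth.Agent.IsoTriv.ClopenStage
import Groth.Agent.IsoTriv.StrictHensel
import Groth.Agent.HenselLib.PtPrime
import Groth.Agent.HenselLib.HullFlat

/-! Clopen isotrivial subgroups on etale neighbourhoods, Noetherian base. -/

universe u

open TensorProduct

namespace Groth.Agent.IsoTriv

open SGA3bLib HenselLib IsLocalRing

theorem isMultTypeConst_congr {R : Type u} [CommRing R] {A C : Type u} [CommRing A] [HopfAlgebra R A] [CommRing C]
    [HopfAlgebra R C] (e : C ≃ₐc[R] A) (h : SGA3b.IsMultTypeConst R A) : SGA3b.IsMultTypeConst R C := by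
  obtain ⟨R', _, _, hff, N, _, ⟨ε⟩⟩ := h
  exact ⟨R', inferInstance, inferInstance, hff, N, inferInstance, ⟨(bcEquiv R' e).trans ε⟩⟩

/-- A monic separable polynomial over the local algebra comes from a stage. -/
theorem exists_poly_stage {R : Type u} [CommRing R] {T : Type u} [CommRing T] [IsLocalRing T] [Algebra R T]
    [Module.Flat R T] (hrep : ∀ F : Finset T, ∃ S : Stage R T, ∀ t ∈ F, t ∈ Set.range S.f)
    {f : Polynomial T} (hm : f.Monic) (hs : f.Separable) :
    ∃ (S : Stage R T) (f₀ : Polynomial S.P), f₀.Monic ∧ f₀.Separable ∧ f₀.natDegree = f.natDegree ∧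
      f₀.map S.f.toRingHom = f := by
  classical
  obtain ⟨a, b, hab⟩ := hs
  obtain ⟨S, hS⟩ := hrep (f.support.image f.coeff ∪ a.support.image a.coeff ∪ b.support.image b.coeff)
  have hlift : ∀ q : Polynomial T, q.support.image q.coeff ⊆
      f.support.image f.coeff ∪ a.support.image a.coeff ∪ b.support.image b.coeff →
      q ∈ Polynomial.lifts S.f.toRingHom := fun q hq => by
    rw [Polynomial.lifts_iff_coeff_lifts]
    intro n
    by_cases hn : n ∈ q.support
    · exact hS _ (hq (Finset.mem_image_of_mem _ hn))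
    · exact ⟨0, by rw [map_zero, Polynomial.notMem_support_iff.mp hn]⟩
  obtain ⟨a₀, ha⟩ := (Polynomial.mem_lifts _).mp (hlift a fun z hz => by simp [hz])
  obtain ⟨b₀, hb⟩ := (Polynomial.mem_lifts _).mp (hlift b fun z hz => by simp [hz])
  obtain ⟨f₀, hf, hfd, hfm⟩ := Polynomial.lifts_and_natDegree_eq_and_monic (hlift f fun z hz => by simp [hz]) hm
  let d := a₀ * f₀ + b₀ * Polynomial.derivative f₀ - 1
  obtain ⟨S', g, hg, hz⟩ := exists_shrink S (M := R) (d.support.image fun n => d.coeff n ⊗ₜ[R] (1 : R)) fun z hz => by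
    obtain ⟨n, -, rfl⟩ := Finset.mem_image.mp hz
    rw [LinearMap.rTensor_tmul]
    have h0 : d.map S.f.toRingHom = 0 := by
      simp only [d, Polynomial.map_sub, Polynomial.map_add, Polynomial.map_mul, Polynomial.map_one,
        ← Polynomial.derivative_map, ha, hb, hf, hab, sub_self]
    have h1 : S.f (d.coeff n) = 0 := by
      rw [← Polynomial.coeff_zero n, ← h0, Polynomial.coeff_map]
      rfl
    show S.f (d.coeff n) ⊗ₜ[R] (1 : R) = 0
    rw [h1, TensorProduct.zero_tmul]
  have hd : d.map g.toRingHom = 0 := by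
    refine Polynomial.ext fun n => ?_
    rw [Polynomial.coeff_map, Polynomial.coeff_zero]
    by_cases hn : n ∈ d.support
    · have h := congrArg (TensorProduct.rid R S'.P) (hz _ (Finset.mem_image_of_mem _ hn))
      simpa using h
    · rw [Polynomial.notMem_support_iff.mp hn, map_zero]
  have : Nontrivial S'.P := S'.f.toRingHom.domain_nontrivial
  refine ⟨S', f₀.map g.toRingHom, hfm.map _, ⟨a₀.map g.toRingHom, b₀.map g.toRingHom, ?_⟩, ?_, ?_⟩
  · simp only [d, Polynomial.map_sub, Polynomial.map_add, Polynomial.map_mul, Polynomial.map_one, sub_eq_zero,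
      ← Polynomial.derivative_map] at hd
    exact hd
  · rw [hfm.natDegree_map, hfd]
  · rw [Polynomial.map_map, show S'.f.toRingHom.comp g.toRingHom = S.f.toRingHom from congrArg AlgHom.toRingHom hg, hf]

/-- Base change of a monogenic algebra. -/
theorem exists_adjoinRoot_bc {P : Type u} [CommRing P] (H : Type u) [CommRing H] [Algebra P H] (f₀ : Polynomial P)
    [IsLocalRing (AdjoinRoot (f₀.map (algebraMap P H)))] :
    IsLocalRing (H ⊗[P] AdjoinRoot f₀) ∧
      Nonempty (AdjoinRoot (f₀.map (algebraMap P H)) →ₐ[H] H ⊗[P] AdjoinRoot f₀) := by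
  set f := f₀.map (algebraMap P H) with hf
  let incl : AdjoinRoot f₀ →ₐ[P] H ⊗[P] AdjoinRoot f₀ := Algebra.TensorProduct.includeRight
  have hroot : Polynomial.aeval (incl (AdjoinRoot.root f₀)) f = 0 := by
    rw [hf, Polynomial.aeval_map_algebraMap, Polynomial.aeval_algHom_apply, AdjoinRoot.aeval_eq, AdjoinRoot.mk_self,
      map_zero]
  let g : AdjoinRoot f →ₐ[H] H ⊗[P] AdjoinRoot f₀ :=
    AdjoinRoot.liftAlgHom f (Algebra.ofId H _) (incl (AdjoinRoot.root f₀)) hroot
  have hg : ∀ h : Polynomial P, g (AdjoinRoot.mk f (h.map (algebraMap P H))) = incl (AdjoinRoot.mk f₀ h) := fun h => by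
    refine (AdjoinRoot.liftAlgHom_mk ..).trans ?_
    show Polynomial.aeval (incl (AdjoinRoot.root f₀)) (h.map (algebraMap P H)) = _
    rw [Polynomial.aeval_map_algebraMap, Polynomial.aeval_algHom_apply, AdjoinRoot.aeval_eq]
  have hsurj : Function.Surjective g := fun z => by
    induction z using TensorProduct.induction_on with
    | zero => exact ⟨0, map_zero g⟩
    | add a b ha hb =>
      obtain ⟨a, rfl⟩ := ha
      obtain ⟨b, rfl⟩ := hb
      exact ⟨a + b, map_add g a b⟩
    | tmul a l =>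
      obtain ⟨h, rfl⟩ := AdjoinRoot.mk_surjective l
      refine ⟨a • AdjoinRoot.mk f (h.map (algebraMap P H)), ?_⟩
      rw [map_smul, hg]
      simp [incl, TensorProduct.smul_tmul']
  have hroot' : Polynomial.aeval (AdjoinRoot.root f) f₀ = 0 := by
    rw [← Polynomial.aeval_map_algebraMap H, AdjoinRoot.aeval_eq, AdjoinRoot.mk_self]
  let back : H ⊗[P] AdjoinRoot f₀ →ₐ[H] AdjoinRoot f :=
    Algebra.TensorProduct.lift (Algebra.ofId H _)
      (AdjoinRoot.liftAlgHom f₀ (Algebra.ofId P _) (AdjoinRoot.root f) hroot') fun _ _ => Commute.all _ _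
  have : Nontrivial (H ⊗[P] AdjoinRoot f₀) := back.toRingHom.domain_nontrivial
  exact ⟨IsLocalRing.of_surjective' g.toRingHom hsurj, ⟨g⟩⟩

section Transport

variable {R : Type u} [CommRing R] {C : Type u} [CommRing C] [HopfAlgebra R C] {P : Type u} [CommRing P] [Algebra R P]

/-- A split quotient over an algebra over `H` trivialises the quotient at the stage. -/
theorem exists_triv_stage {H : Type u} [CommRing H] [Algebra R H] [Algebra P H] [IsScalarTower R P H]
    (B : Type u) [CommRing B] [Algebra R B] [Algebra P B] [Algebra H B] [IsScalarTower R H B] [IsScalarTower R P B]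
    [IsScalarTower P H B] (x : P ⊗[R] C) {A : Type u} [CommRing A] [HopfAlgebra P A]
    (ρ : P ⊗[R] C →ₐc[P] A) (hρ : Function.Surjective ρ)
    (hρk : RingHom.ker (ρ : P ⊗[R] C →ₐ[P] A) = Ideal.span {x}) (e : H ⊗[R] C)
    (hxe : push C (IsScalarTower.toAlgHom R P H) x = e) {N : Type u} [CommGroup N]
    (Φ : B ⊗[H] (H ⊗[R] C) →ₐc[B] MonoidAlgebra B N) (hΦ : Function.Surjective Φ)
    (hker : RingHom.ker (Φ : B ⊗[H] (H ⊗[R] C) →ₐ[B] MonoidAlgebra B N) = Ideal.span {(1 : B) ⊗ₜ[H] e}) :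
    Nonempty (B ⊗[P] A ≃ₐc[B] MonoidAlgebra B N) := by
  let ψ : B ⊗[H] (H ⊗[R] C) ≃ₐc[B] B ⊗[P] (P ⊗[R] C) :=
    (cancelBC (R := R) H B C).trans (cancelBC (R := R) P B C).symm
  have hψ : ψ ((1 : B) ⊗ₜ[H] e) = (1 : B) ⊗ₜ[P] x := by
    refine (cancelBC (R := R) P B C).injective ?_
    refine ((cancelBC (R := R) P B C).apply_symm_apply (cancelBC (R := R) H B C ((1 : B) ⊗ₜ[H] e))).trans
      ((push_cancel e).trans (Eq.trans ?_ (push_cancel x).symm))
    rw [← hxe, push_push]
    congr 2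
    exact AlgHom.ext fun r => (IsScalarTower.algebraMap_apply P H B r).symm
  let π₀ : B ⊗[H] (H ⊗[R] C) →ₐc[B] B ⊗[P] A :=
    (bcHom B ρ).comp (ψ : _ →ₐc[B] B ⊗[P] (P ⊗[R] C))
  have hπ₀ : Function.Surjective π₀ := fun y => by
    obtain ⟨w, hw⟩ := bcHom_surjective B ρ hρ y
    obtain ⟨v, rfl⟩ := ψ.surjective w
    exact ⟨v, hw⟩
  have hkerπ : RingHom.ker (π₀ : B ⊗[H] (H ⊗[R] C) →ₐ[B] B ⊗[P] A) =
      RingHom.ker (Φ : B ⊗[H] (H ⊗[R] C) →ₐ[B] MonoidAlgebra B N) := by
    rw [hker]
    refine Ideal.ext fun y => ?_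
    show bcHom B ρ (ψ y) = 0 ↔ _
    rw [show bcHom B ρ (ψ y) = 0 ↔ ψ y ∈ RingHom.ker (bcHom B ρ : B ⊗[P] (P ⊗[R] C) →ₐ[B] B ⊗[P] A) from Iff.rfl,
      ker_bcHom B ρ hρ, hρk, Ideal.map_span, Set.image_singleton,
      Algebra.TensorProduct.includeRight_apply, ← hψ, Ideal.mem_span_singleton, Ideal.mem_span_singleton]
    exact map_dvd_iff ψ.toAlgEquiv
  obtain ⟨E⟩ := nonempty_equiv_of_ker_eq π₀ Φ hπ₀ hΦ hkerπ
  exact ⟨E⟩

/-- The quotient at a stage over a stage, read over the original base. -/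
theorem exists_quot_stage (x : P ⊗[R] C) (hx : IsIdempotentElem x) {A : Type u} [CommRing A] [HopfAlgebra P A]
    (ρ : P ⊗[R] C →ₐc[P] A) (hρ : Function.Surjective ρ) (hρk : RingHom.ker (ρ : P ⊗[R] C →ₐ[P] A) = Ideal.span {x})
    (R' : Type u) [CommRing R'] [Algebra R R'] [Algebra P R'] [IsScalarTower R P R'] :
    ∃ π : R' ⊗[R] C →ₐc[R'] R' ⊗[P] A,
      Function.Surjective π ∧ IsIdempotentElem (push C (IsScalarTower.toAlgHom R P R') x) ∧
      RingHom.ker (π : R' ⊗[R] C →ₐ[R'] R' ⊗[P] A) =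
        Ideal.span {push C (IsScalarTower.toAlgHom R P R') x} := by
  let c := cancelBC (R := R) P R' C
  set x' : R' ⊗[R] C := push C (IsScalarTower.toAlgHom R P R') x with hx'
  refine ⟨(bcHom R' ρ).comp (c.symm : _ →ₐc[R'] R' ⊗[P] (P ⊗[R] C)),
    fun y => ?_, hx.map _, ?_⟩
  · obtain ⟨w, hw⟩ := bcHom_surjective R' ρ hρ y
    obtain ⟨v, rfl⟩ := c.symm.surjective w
    exact ⟨v, hw⟩
  have hcx : c.symm x' = (1 : R') ⊗ₜ[P] x :=
    c.injective ((c.apply_symm_apply x').trans (push_cancel x).symm)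
  refine Ideal.ext fun y => ?_
  show bcHom R' ρ (c.symm y) = 0 ↔ _
  rw [show bcHom R' ρ (c.symm y) = 0 ↔ c.symm y ∈ RingHom.ker (bcHom R' ρ : R' ⊗[P] (P ⊗[R] C) →ₐ[R'] R' ⊗[P] A)
      from Iff.rfl,
    ker_bcHom R' ρ hρ, hρk, Ideal.map_span, Set.image_singleton,
    Algebra.TensorProduct.includeRight_apply, ← hcx, Ideal.mem_span_singleton, Ideal.mem_span_singleton]
  exact map_dvd_iff c.symm.toAlgEquiv

/-- Idempotents in the maximal ideal die at the point of a hull. -/
theorem push_hullPt_eq_zero {K : Type u} [Field K] [Algebra R K] [IsLocalRing (Hull R K)] {e : Hull R K ⊗[R] C}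
    (he : e ∈ (maximalIdeal (Hull R K)).map (algebraMap (Hull R K) (Hull R K ⊗[R] C))) :
    push C (hullPt R K) e = 0 := by
  refine (?_ : (maximalIdeal (Hull R K)).map (algebraMap (Hull R K) (Hull R K ⊗[R] C)) ≤
    RingHom.ker (push C (hullPt R K))) he
  refine Ideal.map_le_iff_le_comap.mpr fun a ha => ?_
  show push C (hullPt R K) (a ⊗ₜ[R] (1 : C)) = 0
  rw [maximalIdeal_hull, RingHom.mem_ker] at ha
  rw [push_tmul, ha, TensorProduct.zero_tmul]

end Transport

variable {R : Type u} [CommRing R] [IsNoetherianRing R] (p : Ideal R) [p.IsPrime]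
  {C : Type u} [CommRing C] [HopfAlgebra R C]

set_option maxHeartbeats 1000000 in
/-- Over a Noetherian base, a group flat along a fibre of multiplicative type contains, over an etale neighbourhood,
a clopen isotrivial subgroup with full fibre. -/
theorem exists_clopen_noeth (hft : Algebra.FiniteType R C)
    (hfl : ∀ n : ℕ, Module.Flat (R ⧸ p ^ n) ((R ⧸ p ^ n) ⊗[R] C))
    (hs : SGA3b.IsMultTypeConst p.ResidueField (p.ResidueField ⊗[R] C)) :
    ∃ (R' : Type u) (_ : CommRing R') (_ : Algebra R R') (σ : R' →ₐ[R] p.ResidueField) (A : Type u) (_ : CommRing A)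
      (_ : HopfAlgebra R' A) (π : R' ⊗[R] C →ₐc[R'] A) (x : R' ⊗[R] C),
      Algebra.Etale R R' ∧ Function.Surjective π ∧ IsIdempotentElem x ∧
      RingHom.ker (π : R' ⊗[R] C →ₐ[R'] A) = Ideal.span {x} ∧ push C σ x = 0 ∧
      Algebra.FiniteType R' A ∧ SGA3b.IsIsotrivial R' A := by
  classical
  have := hft
  let H := Hull R p.ResidueField
  have : IsLocalRing H := isLocalRing_hull
  have : HenselianLocalRing H := henselianLocalRing_hull
  have : IsNoetherianRing H := by
    let O := Localization.AtPrime p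
    let Rh := LocalH O
    let : Algebra R Rh := ((algebraMap O Rh).comp (algebraMap R O)).toAlgebra
    have : IsScalarTower R O Rh := .of_algebraMap_eq fun _ => rfl
    have hh := isHenselization_localH (R := O)
    have : IsNoetherianRing O := IsLocalization.isNoetherianRing p.primeCompl O inferInstance
    have : IsNoetherianRing Rh := isNoetherianRing_localH
    obtain ⟨ε⟩ := PtPrime.exists_equiv_hull p Rh (hS := hh)
    exact isNoetherianRing_of_ringEquiv Rh ε.symm.toRingEquiv
  have hmH : maximalIdeal H = p.map (algebraMap R H) := by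
    rw [maximalIdeal_hull]
    exact PtPrime.ker_hullPt_eq_map p p.ker_algebraMap_residueField
  have hflH : ∀ n : ℕ, Module.Flat (H ⧸ maximalIdeal H ^ n) ((H ⧸ maximalIdeal H ^ n) ⊗[H] (H ⊗[R] C)) := fun n => by
    rw [hmH]; exact flat_levels_bc p H hfl n
  let θ : p.ResidueField →ₐ[R] ResidueField H :=
    ((Ideal.quotientKerAlgEquivOfSurjective (PtPrime.hull_point_surjective p)).symm.trans
      (Ideal.quotientEquivAlgOfEq R (maximalIdeal_hull (K := p.ResidueField)).symm)).toAlgHom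
  let : Algebra p.ResidueField (ResidueField H) := θ.toRingHom.toAlgebra
  have : IsScalarTower R p.ResidueField (ResidueField H) := .of_algebraMap_eq fun r => (θ.commutes r).symm
  have hsH : SGA3b.IsMultTypeConst (ResidueField H) (ResidueField H ⊗[H] (H ⊗[R] C)) :=
    isMultTypeConst_congr ((cancelBC (R := R) H (ResidueField H) C).trans
      (cancelBC (R := R) p.ResidueField (ResidueField H) C).symm) (isMultTypeConst_bc hs (ResidueField H))
  obtain ⟨e, f, N, _, he, hem, hop, hfm, hfs, hfd, hloc, hN, Φ, hΦ, hker⟩ :=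
    exists_clopen_henselian (R := H) (C := H ⊗[R] C) inferInstance hflH hsH
  have hrep : ∀ F : Finset H, ∃ S : Stage R H, ∀ t ∈ F, t ∈ Set.range S.f := fun F => by
    obtain ⟨P, y, hy⟩ := exists_rep_finset F id
    exact ⟨⟨P.Ring, ι P⟩, fun t ht => ⟨y t, hy t ht⟩⟩
  obtain ⟨S₁, f₁, hf₁m, hf₁s, hf₁d, hf₁⟩ := exists_poly_stage hrep hfm hfs
  obtain ⟨S₂, x₂, hx₂⟩ := exists_rep_tensor (A := C) hrep (fun _ : Unit => e)
  obtain ⟨S₃, g₁, g₂, hg₁, hg₂⟩ := exists_join S₁ S₂
  have hx₃ : push C S₃.f (push C g₂ (x₂ ())) = e := by rw [push_push, hg₂, hx₂]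
  obtain ⟨S, g, hg, hxi, hxh⟩ := exists_hopfIdeal_stage S₃ (push C g₂ (x₂ ())) (hx₃.symm ▸ he) (hx₃.symm ▸ hop)
  let P := S.P
  set x : P ⊗[R] C := push C g (push C g₂ (x₂ ())) with hx
  have hxe : push C S.f x = e := by rw [hx, push_push, hg, hx₃]
  let : Algebra P H := S.f.toRingHom.toAlgebra
  have : IsScalarTower R P H := .of_algebraMap_eq fun r => (S.f.commutes r).symm
  have : Module.Flat P H := flat_of_flat_of_etale (R := R)
  let f₀ : Polynomial P := f₁.map (g.comp g₁).toRingHom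
  have hf₀ : f₀.map (algebraMap P H) = f := by
    rw [Polynomial.map_map, show (algebraMap P H).comp (g.comp g₁).toRingHom = S₁.f.toRingHom from
      congrArg AlgHom.toRingHom (show S.f.comp (g.comp g₁) = S₁.f by rw [← AlgHom.comp_assoc, hg, hg₁]), hf₁]
  have hf₀m : f₀.Monic := hf₁m.map _
  subst hf₀
  obtain ⟨hlocL, ⟨γ⟩⟩ := exists_adjoinRoot_bc H f₀
  let L := AdjoinRoot f₀
  have : Module.Finite P L := hf₀m.finite_adjoinRoot
  have : Module.Free P L := hf₀m.free_adjoinRoot
  have : Algebra.Etale P L := SmoothLib.etale_adjoinRoot_of_separable f₀ hf₀m hf₁s.map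
  have : Nontrivial L := (Algebra.TensorProduct.includeRight : L →ₐ[P] H ⊗[P] L).toRingHom.domain_nontrivial
  have : Module.FaithfullyFlat P L := inferInstance
  let A := (P ⊗[R] C) ⧸ Ideal.span {x}
  have := hxh
  set B := AdjoinRoot (f₀.map (algebraMap P H))
  let ρ : P ⊗[R] C →ₐc[P] A := Bialgebra.Quotient.mkBialgHom (R := P) (Ideal.span {x})
  have hρ : Function.Surjective ρ := Ideal.Quotient.mk_surjective
  have hρk : RingHom.ker (ρ : P ⊗[R] C →ₐ[P] A) = Ideal.span {x} :=
    Ideal.ext fun y => Ideal.Quotient.eq_zero_iff_mem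
  obtain ⟨ε⟩ := exists_triv_stage B x ρ hρ hρk e hxe Φ hΦ hker
  let : Algebra B (H ⊗[P] L) := γ.toRingHom.toAlgebra
  have : IsScalarTower P B (H ⊗[P] L) := .of_algebraMap_eq fun r => by
    show algebraMap P (H ⊗[P] L) r = γ (algebraMap P B r)
    rw [IsScalarTower.algebraMap_apply P H B, γ.commutes, ← IsScalarTower.algebraMap_apply]
  have : Algebra.FinitePresentation R C := Algebra.FinitePresentation.of_finiteType.mp hft
  have hfpA : Algebra.FinitePresentation P A :=
    Algebra.FinitePresentation.quotient (Submodule.fg_span_singleton x)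
  obtain ⟨S₈, hiso⟩ := exists_isotrivial_stage (T := H) (fun F => exists_rep_over hrep S F) L hfpA hN
    (bcTriv (T := B) (T' := H ⊗[P] L) ε)
  let R' := S₈.P
  let : Algebra R R' := ((algebraMap P R').comp (algebraMap R P)).toAlgebra
  have : IsScalarTower R P R' := .of_algebraMap_eq fun _ => rfl
  have : Algebra.Etale R R' := Algebra.Etale.comp R P R'
  let h : R' →ₐ[R] H :=
    { S₈.f.toRingHom with
      commutes' := fun r => by
        show S₈.f (algebraMap P R' (algebraMap R P r)) = _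
        rw [S₈.f.commutes, ← IsScalarTower.algebraMap_apply] }
  obtain ⟨π, hπ, hxi', hπk⟩ := exists_quot_stage x hxi ρ hρ hρk R'
  refine ⟨R', inferInstance, inferInstance, (hullPt R p.ResidueField).comp h, R' ⊗[P] A, inferInstance, inferInstance,
    π, push C (IsScalarTower.toAlgHom R P R') x, inferInstance, hπ, hxi', hπk, ?_, inferInstance, hiso⟩
  have hh : h.comp (IsScalarTower.toAlgHom R P R') = S.f := AlgHom.ext fun r => S₈.f.commutes r
  rw [push_push, AlgHom.comp_assoc, hh, ← push_push, hxe]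
  exact push_hullPt_eq_zero hem

end Groth.Agent.IsoTriv
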