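import Groth.Agent.IsoTriv.ClopenNbhd
import Groth.Agent.IsoTriv.SchemeLocal
import Mathlib.AlgebraicGeometry.Morphisms.Preimmersion
import Mathlib.AlgebraicGeometry.Morphisms.IsIso
import Mathlib.AlgebraicGeometry.Morphisms.Flat

/-! Scheme-level tools for clopen isotrivial subgroups on etale neighbourhoods. -/

set_option autoImplicit false
set_option linter.style.haveILetI false
set_option backward.isDefEq.respectTransparency.types false
universe u

open CategoryTheory MonoidalCategory CartesianMonoidalCategory MonObj GrpObj AlgebraicGeometry CategoryTheory.Limits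
open scoped TensorProduct

namespace Groth.Agent.IsoTriv.ClopenScheme

open SchemeSpec CoactBr HopfLib.SpPoints

/-- Flatness of the stalk map in an affine chart, read on the localisation. -/
theorem flat_localization {S X : Scheme.{u}} (q : X ⟶ S) {R C : Type u} [CommRing R] [CommRing C] [Algebra R C]
    (g : Spec (CommRingCat.of R) ⟶ S) [IsOpenImmersion g] (k : Spec (CommRingCat.of C) ⟶ X) [IsOpenImmersion k]
    (hk : k ≫ q = Spec.map (CommRingCat.ofHom (algebraMap R C)) ≫ g) (Q : Spec (CommRingCat.of C))
    (h : (q.stalkMap (k Q)).hom.Flat) :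
    Module.Flat R (Localization.AtPrime (Q : PrimeSpectrum C).asIdeal) := by
  have h1 : ((k ≫ q).stalkMap Q).hom.Flat := by
    rw [Scheme.Hom.stalkMap_comp]
    exact (RingHom.Flat.respectsIso.cancel_right_isIso (q.stalkMap (k Q)) (k.stalkMap Q)).mpr h
  rw [Scheme.Hom.stalkMap_congr_hom _ _ hk] at h1
  replace h1 := (RingHom.Flat.respectsIso.cancel_left_isIso _
    ((Spec.map (CommRingCat.ofHom (algebraMap R C)) ≫ g).stalkMap Q)).mp h1
  rw [Scheme.Hom.stalkMap_comp] at h1
  replace h1 := (RingHom.Flat.respectsIso.cancel_left_isIso (g.stalkMap _)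
    ((Spec.map (CommRingCat.ofHom (algebraMap R C))).stalkMap Q)).mp h1
  have h2 := (RingHom.Flat.respectsIso.arrow_mk_iso_iff
    (Scheme.arrowStalkMapSpecIso (CommRingCat.ofHom (algebraMap R C)) Q)).mp h1
  set p := ((Q : PrimeSpectrum C).asIdeal.comap (algebraMap R C))
  have h3 : ((Localization.localRingHom p (Q : PrimeSpectrum C).asIdeal (algebraMap R C) rfl).comp
      (algebraMap R (Localization.AtPrime p))).Flat :=
    RingHom.Flat.comp (RingHom.flat_algebraMap_iff.mpr inferInstance) h2
  rw [show (Localization.localRingHom p (Q : PrimeSpectrum C).asIdeal (algebraMap R C) rfl).comp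
      (algebraMap R (Localization.AtPrime p)) = algebraMap R (Localization.AtPrime (Q : PrimeSpectrum C).asIdeal) from
    RingHom.ext fun r => (Localization.localRingHom_to_map p _ _ rfl r).trans
      (IsScalarTower.algebraMap_apply R C _ r).symm, RingHom.flat_algebraMap_iff] at h3
  exact h3

/-- The spectrum of a residue field sits in the spectrum as a preimmersion. -/
theorem isPreimmersion_residueField {R : Type u} [CommRing R] (p : Ideal R) [p.IsPrime] :
    IsPreimmersion (Spec.map (CommRingCat.ofHom (algebraMap R p.ResidueField))) := by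
  have h : Spec.map (CommRingCat.ofHom (algebraMap R p.ResidueField)) =
      Spec.map (CommRingCat.ofHom (algebraMap (Localization.AtPrime p) p.ResidueField)) ≫
        Spec.map (CommRingCat.ofHom (algebraMap R (Localization.AtPrime p))) := by
    rw [← Spec.map_comp, ← CommRingCat.ofHom_comp, ← IsScalarTower.algebraMap_eq]
  rw [h]
  haveI : IsPreimmersion (Spec.map (CommRingCat.ofHom (algebraMap R (Localization.AtPrime p)))) :=
    IsPreimmersion.of_isLocalization p.primeCompl
  haveI : IsClosedImmersion (Spec.map (CommRingCat.ofHom (algebraMap (Localization.AtPrime p) p.ResidueField))) :=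
    IsClosedImmersion.spec_of_surjective _ IsLocalRing.residue_surjective
  infer_instance

/-- An idempotent killed at the point lies in every prime over the point. -/
theorem mem_of_point {R : Type u} [CommRing R] (p : Ideal R) [p.IsPrime] {C : Type u} [CommRing C] [HopfAlgebra R C]
    {R' : Type u} [CommRing R'] [Algebra R R'] (σ : R' →ₐ[R] p.ResidueField) (Q : Ideal (R' ⊗[R] C)) [Q.IsPrime]
    (hQ : Q.comap (algebraMap R' (R' ⊗[R] C)) = RingHom.ker σ) {z : R' ⊗[R] C} (hz : push C σ z = 0) : z ∈ Q := by
  let L := Q.ResidueField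
  let mR : R →+* L := algebraMap R L
  have hmem : ∀ r : R', algebraMap R' L r = 0 ↔ σ r = 0 := fun r => by
    rw [IsScalarTower.algebraMap_apply R' (R' ⊗[R] C) L, Ideal.algebraMap_residueField_eq_zero, ← Ideal.mem_comap, hQ,
      RingHom.mem_ker]
  have hp : ∀ a : R, mR a = 0 ↔ a ∈ p := fun a => by
    show algebraMap R L a = 0 ↔ _
    rw [IsScalarTower.algebraMap_apply R R' L, hmem, AlgHom.commutes, Ideal.algebraMap_residueField_eq_zero]
  let ι₀ : p.ResidueField →ₐ[R] L :=
    { Ideal.ResidueField.lift p mR (fun a ha => (hp a).mpr ha) (fun a ha => Ne.isUnit fun h => ha ((hp a).mp h)) with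
      commutes' := fun a => by exact Ideal.ResidueField.lift_algebraMap .. }
  have hι : ∀ r : R', ι₀ (σ r) = algebraMap R' L r := fun r => by
    obtain ⟨a, s, hs, h⟩ := HenselLib.PtPrime.exists_mul_eq p (σ r)
    have h0 : algebraMap R' L (algebraMap R R' s * r - algebraMap R R' a) = 0 := (hmem _).mpr (by
      rw [map_sub, map_mul, σ.commutes, σ.commutes, h, sub_self])
    rw [map_sub, map_mul, ← IsScalarTower.algebraMap_apply, ← IsScalarTower.algebraMap_apply, sub_eq_zero] at h0
    refine mul_left_cancel₀ (fun hs0 => hs ((hp s).mp hs0) : mR s ≠ 0) ?_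
    rw [show mR s * algebraMap R' L r = algebraMap R L a from h0, ← ι₀.commutes a, ← h, map_mul, ι₀.commutes]
  let κ : C →ₐ[R] L := (IsScalarTower.toAlgHom R (R' ⊗[R] C) L).comp Algebra.TensorProduct.includeRight
  let Λ : p.ResidueField ⊗[R] C →ₐ[R] L := Algebra.TensorProduct.lift ι₀ κ fun _ _ => Commute.all _ _
  have key : ∀ w, Λ (push C σ w) = algebraMap (R' ⊗[R] C) L w := fun w => by
    induction w using TensorProduct.induction_on with
    | zero => simp
    | add a b ha hb => simp only [map_add, ha, hb]
    | tmul r c =>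
      rw [push_tmul, Algebra.TensorProduct.lift_tmul, hι, IsScalarTower.algebraMap_apply R' (R' ⊗[R] C) L]
      show algebraMap (R' ⊗[R] C) L (r ⊗ₜ 1) * algebraMap (R' ⊗[R] C) L (1 ⊗ₜ c) = _
      rw [← map_mul, Algebra.TensorProduct.tmul_mul_tmul, _root_.mul_one, _root_.one_mul]
  refine Ideal.algebraMap_residueField_eq_zero.mp ?_
  rw [← key, hz, map_zero]

/-- A finitely generated abelian group in the bottom universe. -/
theorem exists_small {T : Type u} [CommRing T] [Nontrivial T] {N : Type u} [CommGroup N] {A : Type u} [CommRing A]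
    [Algebra T A] [Algebra.FiniteType T A] (e : A ≃ₐ[T] MonoidAlgebra T N) :
    ∃ (M : Type) (_ : AddCommGroup M), AddGroup.FG M ∧ Nonempty (N ≃* Multiplicative M) := by
  have : Algebra.FiniteType T (MonoidAlgebra T N) := (inferInstance : Algebra.FiniteType T A).equiv e
  have hfg : Monoid.FG N := MonoidAlgebra.finiteType_iff_fg.mp this
  have : Countable N := by
    obtain ⟨S, hS⟩ := hfg.fg_top
    have h1 : Set.Countable (Submonoid.closure (S : Set N) : Set N) := by
      rw [Submonoid.closure_eq_mrange, MonoidHom.coe_mrange]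
      have : Countable (FreeMonoid (S : Set N)) := FreeMonoid.toList.countable_iff.mpr inferInstance
      exact Set.countable_range _
    rw [hS] at h1
    exact Set.countable_univ_iff.mp h1
  refine ⟨Additive (Shrink.{0} N), inferInstance, ?_, ⟨(equivShrink.{0} N).symm.mulEquiv.symm⟩⟩
  have : Monoid.FG (Shrink.{0} N) := Monoid.fg_of_surjective (equivShrink.{0} N).symm.mulEquiv.symm.toMonoidHom
    (equivShrink.{0} N).symm.mulEquiv.symm.surjective
  exact AddGroup.fg_iff_mul_fg.mpr (Group.fg_iff_monoid_fg.mpr this)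

/-- A surjection cut out by an idempotent is a clopen immersion. -/
theorem isOpenImmersion_of_idem {D A : Type u} [CommRing D] [CommRing A] (π : D →+* A) (hπ : Function.Surjective π)
    {x : D} (hx : IsIdempotentElem x) (hk : RingHom.ker π = Ideal.span {x}) :
    IsOpenImmersion (Spec.map (CommRingCat.ofHom π)) := by
  algebraize [π]
  haveI : IsLocalization.Away (1 - x) A := IsLocalization.away_of_isIdempotentElem hx.one_sub
    (by rw [RingHom.algebraMap_toAlgebra, hk, sub_sub_cancel]) hπ
  exact IsOpenImmersion.of_isLocalization (1 - x)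

/-- An open immersion over `S'` hitting all points over `s'` is an isomorphism on the fibre. -/
theorem isIso_fibre {S' : Scheme.{u}} {G' K : Over S'} (j : G' ⟶ K) [IsOpenImmersion j.left] (s' : S')
    (h : ∀ y : K.left, K.hom y = s' → y ∈ Set.range j.left) :
    IsIso ((Over.pullback (S'.fromSpecResidueField s')).map j).left := by
  let k := S'.fromSpecResidueField s'
  have e1 : ((Over.pullback k).map j).left ≫ pullback.snd K.hom k = pullback.snd G'.hom k := pullback.lift_snd _ _ _
  have sq : IsPullback (pullback.fst G'.hom k) ((Over.pullback k).map j).left j.left (pullback.fst K.hom k) :=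
    IsPullback.of_bot (v₂₁ := pullback.snd K.hom k) (v₂₂ := K.hom) (h₃₁ := k)
      (by rw [e1, Over.w j]; exact IsPullback.of_hasPullback G'.hom k) (pullback.lift_fst _ _ _).symm
      (IsPullback.of_hasPullback K.hom k)
  haveI : IsOpenImmersion ((Over.pullback k).map j).left := MorphismProperty.of_isPullback sq ‹_›
  rw [isIso_iff_isOpenImmersion_and_surjective]
  refine ⟨inferInstance, ⟨fun w => ?_⟩⟩
  have hw : K.hom (pullback.fst K.hom k w) = s' := by
    rw [← Scheme.Hom.comp_apply, pullback.condition, Scheme.Hom.comp_apply]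
    exact Scheme.fromSpecResidueField_apply _ _
  obtain ⟨a, ha⟩ := h _ hw
  obtain ⟨v, -, hv⟩ := Scheme.exists_preimage_of_isPullback sq a w ha
  exact ⟨v, hv⟩

/-- A preimmersion has bijective residue field maps. -/
theorem isIso_residueFieldMap {X Y : Scheme.{u}} (f : X ⟶ Y) [IsPreimmersion f] (x : X) :
    IsIso (f.residueFieldMap x) := by
  rw [ConcreteCategory.isIso_iff_bijective]
  refine ⟨(f.residueFieldMap x).hom.injective, fun b => ?_⟩
  obtain ⟨b, rfl⟩ := X.residue_surjective x b
  obtain ⟨a, rfl⟩ := f.stalkMap_surjective x b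
  exact ⟨Y.residue _ a, congr($(Scheme.residue_residueFieldMap f x) a)⟩

/-- A factor of a preimmersion from a point has trivial residue extension. -/
theorem isIso_residueFieldMap_of_comp {X Y Z : Scheme.{u}} (c : X ⟶ Y) (f : Y ⟶ Z) [IsPreimmersion (c ≫ f)] (x : X) :
    IsIso (f.residueFieldMap (c x)) := by
  have h := isIso_residueFieldMap (c ≫ f) x
  rw [Scheme.residueFieldMap_comp, ConcreteCategory.isIso_iff_bijective] at h
  rw [ConcreteCategory.isIso_iff_bijective]
  refine ⟨(f.residueFieldMap (c x)).hom.injective, fun b => ?_⟩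
  obtain ⟨a, ha⟩ := h.2 ((c.residueFieldMap x) b)
  exact ⟨a, (c.residueFieldMap x).hom.injective ha⟩

/-- The chart of a base change. -/
theorem nonempty_bc_chart {S : Scheme.{u}} (H : Over S) [GrpObj H] {R C : Type u} [CommRing R] [CommRing C] [HopfAlgebra R C]
    (g : Spec (CommRingCat.of R) ⟶ S) (e : Grp.mk (Red.bc g H) ≅ Grp.mk (sp R C)) (R' : Type u) [CommRing R']
    [Algebra R R'] (h : Spec (CommRingCat.of R') ⟶ S) (hh : str R R' ≫ g = h) :
    Nonempty (Grp.mk (Red.bc h H) ≅ Grp.mk (sp R' (R' ⊗[R] C))) := by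
  obtain ⟨a⟩ := SchemeLocal.nonempty_bc_comp g (str R R') h hh H
  obtain ⟨b⟩ := nonempty_bc_congr (str R R') e
  obtain ⟨c⟩ := nonempty_bc_spec (R := R) R' C
  exact ⟨a.symm ≪≫ b ≪≫ c⟩

end Groth.Agent.IsoTriv.ClopenScheme
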