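import Groth.Agent.IsoTriv.Criterion
import Mathlib.RingTheory.AdicCompletion.Basic
import Mathlib.RingTheory.Noetherian.Basic
import Mathlib.RingTheory.Finiteness.Cardinality

/-! Algebraisation of formal homomorphisms into diagonalisable groups. -/

universe u

open TensorProduct Coalgebra

namespace Groth.Agent.IsoTriv

open SGA3bLib

/-- A diagonal matrix of finite rank over a Noetherian ring has finite support. -/
theorem finite_support_of_diag {A : Type u} [CommRing A] [IsNoetherianRing A] {N : Type u}
    [DecidableEq N] {ι : Type*} [Finite ι] (g : N → A) (v : ι → N → A)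
    (h : ∀ m, Pi.single m (g m) ∈ Submodule.span A (Set.range v)) : Set.Finite {m | g m ≠ 0} := by
  classical
  let W : Submodule A (N → A) := Submodule.span A (Set.range fun m => Pi.single m (g m))
  have hW : W ≤ Submodule.span A (Set.range v) := Submodule.span_le.mpr (by rintro _ ⟨m, rfl⟩; exact h m)
  have : Module.Finite A (Submodule.span A (Set.range v)) :=
    Module.Finite.span_of_finite A (Set.finite_range v)
  have : IsNoetherian A (Submodule.span A (Set.range v)) := isNoetherian_of_isNoetherianRing_of_finite A _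
  have hfg : W.FG := by
    have h1 : (W.comap (Submodule.span A (Set.range v)).subtype).FG := IsNoetherian.noetherian _
    have h2 := h1.map (Submodule.span A (Set.range v)).subtype
    rwa [Submodule.map_comap_subtype, inf_eq_right.mpr hW] at h2
  obtain ⟨F, hF⟩ := hfg
  have hfin : ∀ w ∈ W, Set.Finite {m | w m ≠ 0} := fun w hw => by
    induction hw using Submodule.span_induction with
    | mem y hy =>
      obtain ⟨k, rfl⟩ := hy
      exact (Set.finite_singleton k).subset fun m hm => by
        by_contra hk
        exact hm (Pi.single_eq_of_ne hk _)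
    | zero => simp
    | add a b _ _ ha hb =>
      exact (ha.union hb).subset fun m hm => by
        by_contra hk
        simp only [Set.mem_union, Set.mem_setOf_eq, not_or, not_not] at hk
        exact hm (by simp [hk.1, hk.2])
    | smul r a _ ha => exact ha.subset fun m hm h0 => hm (by simp [h0])
  refine ((F.finite_toSet.biUnion fun w hw => hfin w (hF ▸ Submodule.subset_span hw))).subset fun m hm => ?_
  by_contra hout
  simp only [Set.mem_iUnion, Set.mem_setOf_eq, not_exists, not_not] at hout
  have hm' : Pi.single m (g m) ∈ W := Submodule.subset_span ⟨m, rfl⟩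
  rw [← hF] at hm'
  have h0 : ∀ w ∈ Submodule.span A (F : Set (N → A)), w m = 0 := fun w hw => by
    induction hw using Submodule.span_induction with
    | mem y hy => exact hout y hy
    | zero => rfl
    | add a b _ _ ha hb => simp [ha, hb]
    | smul r a _ ha => simp [ha]
  exact hm (by simpa using h0 _ hm')

variable {A : Type u} [CommRing A] (I : Ideal A) {C : Type u} [CommRing C] [Bialgebra A C] {N : Type u}
  [CommGroup N]

/-- Level maps determine elements of the group algebra. -/
theorem ext_level [IsAdicComplete I A] {x y : MonoidAlgebra A N}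
    (h : ∀ n, MonoidAlgebra.mapRingHom N (Ideal.Quotient.mk (I ^ n)) x =
      MonoidAlgebra.mapRingHom N (Ideal.Quotient.mk (I ^ n)) y) : x = y := by
  refine ext_coef fun m => (IsHausdorff.eq_iff_smodEq (I := I)).mpr fun n => ?_
  rw [SModEq.sub_mem, smul_eq_mul, Ideal.mul_top, ← Ideal.Quotient.eq_zero_iff_mem, map_sub, sub_eq_zero]
  have := congrArg (coef m) (h n)
  rwa [coef_mapRingHom, coef_mapRingHom] at this

/-- Formal homomorphisms into a diagonalisable group are algebraic. -/
theorem exists_hom_of_formal [IsNoetherianRing A] [IsAdicComplete I A]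
    (φ : ∀ n : ℕ, (A ⧸ I ^ n) ⊗[A] C →ₐc[A ⧸ I ^ n] MonoidAlgebra (A ⧸ I ^ n) N)
    (hφ : ∀ (n : ℕ) (c : C), MonoidAlgebra.mapRingHom N (Ideal.Quotient.factor (Ideal.pow_le_pow_right n.le_succ))
      (φ (n + 1) (1 ⊗ₜ[A] c)) = φ n (1 ⊗ₜ[A] c)) :
    ∃ Φ : C →ₐc[A] MonoidAlgebra A N, ∀ (n : ℕ) (c : C),
      MonoidAlgebra.mapRingHom N (Ideal.Quotient.mk (I ^ n)) (Φ c) = φ n (1 ⊗ₜ[A] c) := by
  classical
  choose q hq using fun (n : ℕ) (c : C) (m : N) => Ideal.Quotient.mk_surjective (coef m (φ n (1 ⊗ₜ[A] c)))
  have hcompat : ∀ c m {i j : ℕ}, i ≤ j → q i c m ≡ q j c m [SMOD (I ^ i • ⊤ : Submodule A A)] := by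
    intro c m i j hij
    induction j, hij using Nat.le_induction with
    | base => exact SModEq.rfl
    | succ j hij ih =>
      refine ih.trans (SModEq.sub_mem.mpr ?_)
      rw [smul_eq_mul, Ideal.mul_top]
      refine Ideal.pow_le_pow_right hij ?_
      rw [← Ideal.Quotient.eq_zero_iff_mem, map_sub, sub_eq_zero, hq, ← hφ j c, coef_mapRingHom, ← hq (j + 1)]
      exact Ideal.Quotient.factor_mk _ _
  choose g hg using fun c m => IsPrecomplete.prec' (I := I) (M := A) (fun n => q n c m) (fun {i j} h => hcompat c m h)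
  have hgn : ∀ n c m, Ideal.Quotient.mk (I ^ n) (g c m) = coef m (φ n (1 ⊗ₜ[A] c)) := fun n c m => by
    rw [← hq, eq_comm, ← sub_eq_zero, ← map_sub, Ideal.Quotient.eq_zero_iff_mem]
    have := hg c m n
    rwa [SModEq.sub_mem, smul_eq_mul, Ideal.mul_top] at this
  have hext : ∀ {a b : A}, (∀ n, Ideal.Quotient.mk (I ^ n) a = Ideal.Quotient.mk (I ^ n) b) → a = b := fun {a b} h =>
    (IsHausdorff.eq_iff_smodEq (I := I)).mpr fun n => by
      rw [SModEq.sub_mem, smul_eq_mul, Ideal.mul_top, ← Ideal.Quotient.eq_zero_iff_mem, map_sub, sub_eq_zero]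
      exact h n
  have hfin : ∀ c, Set.Finite {m | g c m ≠ 0} := by
    intro c
    obtain ⟨s, hs⟩ := TensorProduct.exists_finset (comul (R := A) c)
    refine finite_support_of_diag (g c) (fun i : s => g i.1.2) fun m => ?_
    have : Pi.single m (g c m) = ∑ i : s, g i.1.1 m • g i.1.2 := by
      funext k
      rw [Finset.sum_apply]
      refine hext fun n => ?_
      rw [map_sum]
      simp only [Pi.smul_apply, smul_eq_mul, map_mul, hgn]
      have h := coef_coef_comul m k (φ n (1 ⊗ₜ[A] c))
      rw [← CoalgHomClass.map_comp_comul_apply (φ n), TensorProduct.comul_tmul, CommSemiring.comul_apply, hs,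
        TensorProduct.tmul_sum, map_sum, map_sum, map_sum, map_sum] at h
      simp only [TensorProduct.AlgebraTensorModule.tensorTensorTensorComm_tmul, TensorProduct.map_tmul,
        LinearMap.mul'_apply] at h
      rw [Finset.sum_coe_sort s fun i => coef m (φ n (1 ⊗ₜ[A] i.1)) * coef k (φ n (1 ⊗ₜ[A] i.2))]
      refine Eq.trans ?_ h.symm
      rcases eq_or_ne m k with rfl | hmk
      · simp [hgn]
      · simp [hmk, Pi.single_eq_of_ne (Ne.symm hmk)]
    rw [this]
    exact Submodule.sum_mem _ fun i _ => Submodule.smul_mem _ _ (Submodule.subset_span ⟨i, rfl⟩)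
  let Φ₀ : C → MonoidAlgebra A N := fun c => ∑ m ∈ (hfin c).toFinset, MonoidAlgebra.single m (g c m)
  have hlev : ∀ n c, MonoidAlgebra.mapRingHom N (Ideal.Quotient.mk (I ^ n)) (Φ₀ c) = φ n (1 ⊗ₜ[A] c) := by
    intro n c
    refine ext_coef fun k => ?_
    rw [coef_mapRingHom, map_sum]
    simp only [coef_single]
    rw [Finset.sum_ite_eq']
    split_ifs with hk
    · exact hgn n c k
    · rw [map_zero, ← hgn]
      simp only [Set.Finite.mem_toFinset, Set.mem_setOf_eq, not_not] at hk
      rw [hk, map_zero]
  have halg : ∀ (n : ℕ) (a : A), MonoidAlgebra.mapRingHom N (Ideal.Quotient.mk (I ^ n)) (algebraMap A (MonoidAlgebra A N) a) =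
      algebraMap (A ⧸ I ^ n) (MonoidAlgebra (A ⧸ I ^ n) N) (Ideal.Quotient.mk (I ^ n) a) := fun n a => by
    rw [MonoidAlgebra.coe_algebraMap, MonoidAlgebra.coe_algebraMap]
    simp
  let Φ : C →ₐ[A] MonoidAlgebra A N :=
    { toFun := Φ₀
      map_one' := ext_level I fun n => by
        rw [hlev, map_one, ← Algebra.TensorProduct.one_def]
        exact map_one (φ n)
      map_mul' := fun x y => ext_level I fun n => by
        rw [hlev, map_mul, hlev, hlev, ← map_mul (φ n), Algebra.TensorProduct.tmul_mul_tmul, one_mul]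
      map_zero' := ext_level I fun n => by
        rw [hlev, map_zero, TensorProduct.tmul_zero]
        exact map_zero (φ n)
      map_add' := fun x y => ext_level I fun n => by
        rw [hlev, map_add, hlev, hlev, ← map_add (φ n), TensorProduct.tmul_add]
      commutes' := fun a => ext_level I fun n => by
        rw [hlev, halg, ← AlgHomClass.commutes (φ n)]
        congr 1
        rw [Algebra.TensorProduct.algebraMap_apply, Algebra.algebraMap_eq_smul_one, TensorProduct.tmul_smul,
          TensorProduct.smul_tmul', Algebra.smul_def, mul_one, Algebra.algebraMap_self, RingHom.id_apply,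
          Ideal.Quotient.algebraMap_eq] }
  have hcu : ∀ c, counit (R := A) (Φ c) = counit (R := A) c := by
    intro c
    refine hext fun n => ?_
    have h := (CoalgHomClass.counit_comp_apply (φ n) ((1 : A ⧸ I ^ n) ⊗ₜ[A] c))
    rw [← hlev, TensorProduct.counit_tmul, CommSemiring.counit_apply] at h
    have hm : ∀ x : MonoidAlgebra A N, counit (R := A ⧸ I ^ n) (MonoidAlgebra.mapRingHom N (Ideal.Quotient.mk (I ^ n)) x) =
        Ideal.Quotient.mk (I ^ n) (counit (R := A) x) := fun x => by
      induction x using MonoidAlgebra.induction_linear with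
      | zero => simp
      | add a b ha hb => simp only [map_add, ha, hb]
      | single m r => simp
    rw [hm, Algebra.smul_def, mul_one] at h
    exact h
  refine ⟨BialgHom.ofAlgHom Φ (AlgHom.ext hcu) (AlgHom.ext fun c => ?_), fun n c => hlev n c⟩
  show Algebra.TensorProduct.map Φ Φ (comul (R := A) c) = comul (R := A) (Φ c)
  let Bs : Module.Basis N A (MonoidAlgebra A N) := Module.Basis.ofRepr (MonoidAlgebra.coeffLinearEquiv A)
  apply (Bs.tensorProduct Bs).repr.injective
  refine Finsupp.ext fun ⟨m, k⟩ => hext fun n => ?_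
  have key : ∀ z : MonoidAlgebra A N ⊗[A] MonoidAlgebra A N, (Bs.tensorProduct Bs).repr z (m, k) =
      LinearMap.mul' A A (TensorProduct.map (coef m) (coef k) z) := fun z => by
    induction z using TensorProduct.induction_on with
    | zero => simp
    | tmul x y =>
      rw [Module.Basis.tensorProduct_repr_tmul_apply, TensorProduct.map_tmul, LinearMap.mul'_apply, smul_eq_mul, mul_comm]
      rfl
    | add x y hx hy => rw [map_add, Finsupp.add_apply, hx, hy, map_add, map_add]
  rw [key, key, coef_coef_comul]
  have h := coef_coef_comul m k (φ n (1 ⊗ₜ[A] c))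
  rw [← CoalgHomClass.map_comp_comul_apply (φ n), TensorProduct.comul_tmul, CommSemiring.comul_apply] at h
  have h2 : ∀ z : C ⊗[A] C, Ideal.Quotient.mk (I ^ n) (LinearMap.mul' A A (TensorProduct.map (coef m) (coef k)
      (Algebra.TensorProduct.map Φ Φ z))) =
      LinearMap.mul' (A ⧸ I ^ n) (A ⧸ I ^ n) (TensorProduct.map (coef m) (coef k) (TensorProduct.map (φ n).toLinearMap (φ n).toLinearMap
        (TensorProduct.AlgebraTensorModule.tensorTensorTensorComm A (A ⧸ I ^ n) A (A ⧸ I ^ n) (A ⧸ I ^ n) (A ⧸ I ^ n) C C
          (((1 : A ⧸ I ^ n) ⊗ₜ[A ⧸ I ^ n] (1 : A ⧸ I ^ n)) ⊗ₜ[A] z)))) := fun z => by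
    induction z using TensorProduct.induction_on with
    | zero => simp
    | tmul x y =>
      simp only [Algebra.TensorProduct.map_tmul, TensorProduct.AlgebraTensorModule.tensorTensorTensorComm_tmul,
        TensorProduct.map_tmul, LinearMap.mul'_apply, map_mul]
      rw [← coef_mapRingHom, ← coef_mapRingHom]
      exact congrArg₂ (fun a b => coef m a * coef k b) (hlev n x) (hlev n y)
    | add x y hx hy => simp only [map_add, TensorProduct.tmul_add, hx, hy]
  refine (h2 (comul (R := A) c)).trans (h.trans ?_)
  rcases eq_or_ne m k with rfl | hmk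
  · rw [if_pos rfl, if_pos rfl, ← hlev, coef_mapRingHom]; rfl
  · rw [if_neg hmk, if_neg hmk, map_zero]

end Groth.Agent.IsoTriv
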