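import Groth.Agent.IsoTriv.Criterion
import Mathlib.RingTheory.Idempotents

/-! Lifting group-like elements and isomorphisms of group algebras along nil ideals. -/

universe u

open TensorProduct Coalgebra

namespace Groth.Agent.IsoTriv

open SGA3bLib

/-- Over a field, isomorphic group algebras have isomorphic groups. -/
theorem nonempty_mulEquiv {L : Type u} [Field L] {M N : Type u} [CommGroup M] [CommGroup N]
    (f : MonoidAlgebra L M ≃ₐc[L] MonoidAlgebra L N) : Nonempty (M ≃* N) := by
  refine ⟨MonoidHom.toMulEquiv (MonoidAlgebra.mapDomainOfBialgHom (f : MonoidAlgebra L M →ₐc[L] MonoidAlgebra L N))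
    (MonoidAlgebra.mapDomainOfBialgHom (f.symm : MonoidAlgebra L N →ₐc[L] MonoidAlgebra L M)) ?_ ?_⟩
  · rw [← MonoidAlgebra.mapDomainOfBialgHom_comp, ← MonoidAlgebra.mapDomainOfBialgHom_id (R := L)]
    exact congrArg _ (BialgHom.ext fun x => f.symm_apply_apply x)
  · rw [← MonoidAlgebra.mapDomainOfBialgHom_comp, ← MonoidAlgebra.mapDomainOfBialgHom_id (R := L)]
    exact congrArg _ (BialgHom.ext fun x => f.apply_symm_apply x)

section Lift

variable {T T₀ : Type u} [CommRing T] [CommRing T₀] (π : T →+* T₀) {N : Type u} [CommGroup N]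

theorem eq_of_map_eq (hker : ∀ x ∈ RingHom.ker π, IsNilpotent x) {x y : MonoidAlgebra T N}
    (hx : IsGroupLikeElem T x) (hy : IsGroupLikeElem T y)
    (h : MonoidAlgebra.mapRingHom N π x = MonoidAlgebra.mapRingHom N π y) : x = y := by
  refine ext_coef fun m => ?_
  refine eq_of_isNilpotent_sub_of_isIdempotentElem (isIdempotentElem_coef hx m) (isIdempotentElem_coef hy m)
    (hker _ ?_)
  rw [RingHom.mem_ker, map_sub, ← coef_mapRingHom, ← coef_mapRingHom, h, sub_self]

theorem exists_groupLike_lift (hπ : Function.Surjective π) (hker : ∀ x ∈ RingHom.ker π, IsNilpotent x)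
    {x₀ : MonoidAlgebra T₀ N} (hx₀ : IsGroupLikeElem T₀ x₀) :
    ∃ x : MonoidAlgebra T N, IsGroupLikeElem T x ∧ MonoidAlgebra.mapRingHom N π x = x₀ := by
  classical
  let s := x₀.coeff.support
  have hsum : x₀ = ∑ i : s, MonoidAlgebra.single (i : N) (coef (i : N) x₀) := by
    rw [Finset.sum_coe_sort s fun i => MonoidAlgebra.single i (coef i x₀)]
    refine ext_coef fun m => ?_
    rw [map_sum]
    simp only [coef_single]
    rw [Finset.sum_ite_eq']
    split_ifs with hm
    · rfl
    · exact Finsupp.notMem_support_iff.mp hm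
  have he : CompleteOrthogonalIdempotents fun i : s => coef (i : N) x₀ := by
    refine ⟨⟨fun i => isIdempotentElem_coef hx₀ _, fun i j hij => groupLike_orth hx₀ fun h => hij (Subtype.ext h)⟩, ?_⟩
    have := hx₀.counit_eq_one
    rw [hsum, map_sum] at this
    simpa using this
  obtain ⟨e, he', hcomp⟩ := he.lift_of_isNilpotent_ker π hker fun i => hπ _
  refine ⟨∑ i : s, MonoidAlgebra.single (i : N) (e i), ⟨?_, ?_⟩, ?_⟩
  · rw [map_sum]
    simpa using he'.complete
  · have hc : ∀ i : s, comul (R := T) (MonoidAlgebra.single (i : N) (e i)) =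
        e i • (MonoidAlgebra.single (i : N) (1 : T) ⊗ₜ[T] MonoidAlgebra.single (i : N) (1 : T)) := fun i => by
      rw [show (MonoidAlgebra.single (i : N) (e i) : MonoidAlgebra T N) = e i • MonoidAlgebra.single (i : N) 1 by simp,
        map_smul, (MonoidAlgebra.isGroupLikeElem_single_one (R := T) (A := T) (i : N)).comul_eq_tmul_self]
    have hs : ∀ i : s, (MonoidAlgebra.single (i : N) (e i) : MonoidAlgebra T N) =
        e i • MonoidAlgebra.single (i : N) 1 := fun i => by simp
    rw [map_sum, TensorProduct.sum_tmul]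
    refine Finset.sum_congr rfl fun i _ => ?_
    rw [hc, TensorProduct.tmul_sum, Finset.sum_eq_single i]
    · rw [hs, TensorProduct.smul_tmul', TensorProduct.tmul_smul, TensorProduct.smul_tmul', smul_smul,
        (he'.idem i).eq]
    · intro j _ hj
      rw [hs i, hs j, TensorProduct.tmul_smul, TensorProduct.smul_tmul', smul_smul, he'.ortho hj, zero_smul,
        TensorProduct.zero_tmul]
    · simp
  · rw [hsum, map_sum]
    refine Finset.sum_congr rfl fun i _ => ?_
    rw [MonoidAlgebra.mapRingHom_single]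
    exact congrArg _ (congrFun hcomp i)

/-- An automorphism of the group algebra over the quotient lifts. -/
theorem exists_lift_equiv (hπ : Function.Surjective π) (hker : ∀ x ∈ RingHom.ker π, IsNilpotent x)
    (f₀ : MonoidAlgebra T₀ N ≃ₐc[T₀] MonoidAlgebra T₀ N) :
    ∃ f : MonoidAlgebra T N ≃ₐc[T] MonoidAlgebra T N,
      ∀ x, MonoidAlgebra.mapRingHom N π (f x) = f₀ (MonoidAlgebra.mapRingHom N π x) := by
  classical
  have key : ∀ g₀ : MonoidAlgebra T₀ N →ₐc[T₀] MonoidAlgebra T₀ N, ∃ g : MonoidAlgebra T N →ₐc[T] MonoidAlgebra T N,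
      ∀ x, MonoidAlgebra.mapRingHom N π (g x) = g₀ (MonoidAlgebra.mapRingHom N π x) := by
    intro g₀
    choose y hy hy' using fun m => exists_groupLike_lift π hπ hker
      ((MonoidAlgebra.isGroupLikeElem_single_one (R := T₀) (A := T₀) m).map g₀ : IsGroupLikeElem T₀ (g₀ (MonoidAlgebra.single (m : N) 1)))
    let χ : N →* MonoidAlgebra T N :=
      { toFun := y
        map_one' := eq_of_map_eq π hker (hy 1) .one (by rw [hy', map_one]; exact map_one g₀)
        map_mul' := fun a b => eq_of_map_eq π hker (hy _) ((hy a).mul (hy b)) (by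
          rw [map_mul, hy', hy', hy', ← map_mul g₀, MonoidAlgebra.single_mul_single, mul_one]) }
    let F : MonoidAlgebra T N →ₐ[T] MonoidAlgebra T N := MonoidAlgebra.lift T _ N χ
    have hF : ∀ m, F (MonoidAlgebra.single m 1) = y m := fun m => by simp [F, χ]
    refine ⟨BialgHom.ofAlgHom F
      (MonoidAlgebra.algHom_ext (single_one_left := Subsingleton.elim _ _) fun m => by
        simp [hF, (hy m).counit_eq_one])
      (MonoidAlgebra.algHom_ext (single_one_left := Subsingleton.elim _ _) fun m => by
        simp [hF, (hy m).comul_eq_tmul_self]), fun x => ?_⟩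
    show MonoidAlgebra.mapRingHom N π (F x) = _
    induction x using MonoidAlgebra.induction_linear with
    | zero => rw [map_zero, map_zero, map_zero]
    | add a b ha hb => rw [map_add, map_add, map_add, map_add, ha, hb]
    | single m r =>
      rw [show (MonoidAlgebra.single m r : MonoidAlgebra T N) = r • MonoidAlgebra.single m 1 by simp, map_smul, hF]
      have hsm : ∀ z : MonoidAlgebra T N, MonoidAlgebra.mapRingHom N π (r • z) = π r • MonoidAlgebra.mapRingHom N π z :=
        fun z => by
          rw [Algebra.smul_def, map_mul, Algebra.smul_def, MonoidAlgebra.coe_algebraMap, MonoidAlgebra.coe_algebraMap]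
          simp
      rw [hsm, hsm, map_smul, hy', MonoidAlgebra.mapRingHom_single, map_one]
  obtain ⟨f, hf⟩ := key (f₀ : MonoidAlgebra T₀ N →ₐc[T₀] MonoidAlgebra T₀ N)
  obtain ⟨f', hf'⟩ := key (f₀.symm : MonoidAlgebra T₀ N →ₐc[T₀] MonoidAlgebra T₀ N)
  have hid : ∀ (g g' : MonoidAlgebra T N →ₐc[T] MonoidAlgebra T N) (g₀ g₀' : MonoidAlgebra T₀ N →ₐc[T₀] MonoidAlgebra T₀ N),
      (∀ x, MonoidAlgebra.mapRingHom N π (g x) = g₀ (MonoidAlgebra.mapRingHom N π x)) →
      (∀ x, MonoidAlgebra.mapRingHom N π (g' x) = g₀' (MonoidAlgebra.mapRingHom N π x)) →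
      (∀ z, g₀' (g₀ z) = z) → ∀ x, g' (g x) = x := by
    intro g g' g₀ g₀' hg hg' hinv
    have heq : (g'.comp g : MonoidAlgebra T N →ₐ[T] MonoidAlgebra T N) = AlgHom.id T _ :=
      MonoidAlgebra.algHom_ext (single_one_left := Subsingleton.elim _ _) fun m =>
        eq_of_map_eq π hker ((MonoidAlgebra.isGroupLikeElem_single_one (R := T) (A := T) m).map (g'.comp g))
          (MonoidAlgebra.isGroupLikeElem_single_one m) (by
            show MonoidAlgebra.mapRingHom N π (g' (g _)) = _
            rw [hg', hg, hinv]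
            rfl)
    exact fun x => AlgHom.congr_fun heq x
  exact ⟨BialgEquiv.ofBijective f (Function.bijective_iff_has_inverse.mpr
    ⟨f', hid f f' _ _ hf hf' f₀.symm_apply_apply, hid f' f _ _ hf' hf f₀.apply_symm_apply⟩), hf⟩

end Lift

end Groth.Agent.IsoTriv
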