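import Groth.Agent.IsoTriv.FlatNil
import Groth.Agent.IsoTriv.FormalHom
import Groth.Agent.IsoTriv.GroupAlgLift

/-! Groups over complete rings whose reduction is diagonalisable: the algebraisation map. -/

universe u

open TensorProduct

namespace Groth.Agent.IsoTriv

open SGA3bLib

variable {A : Type u} [CommRing A] {C : Type u} [CommRing C] [HopfAlgebra A C] {N : Type u} [CommGroup N]

/-- A trivialisation lifts along a nilpotent thickening. -/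
theorem exists_equiv_lift {T T' : Type u} [CommRing T] [CommRing T'] [Algebra A T] [Algebra A T'] [Algebra T T']
    [IsScalarTower A T T'] (hπ : Function.Surjective (algebraMap T T'))
    (hker : IsNilpotent (RingHom.ker (algebraMap T T'))) [Module.Flat T (T ⊗[A] C)]
    (e : T' ⊗[A] C ≃ₐc[T'] MonoidAlgebra T' N) :
    ∃ e' : T ⊗[A] C ≃ₐc[T] MonoidAlgebra T N,
      ∀ c : C, MonoidAlgebra.mapRingHom N (algebraMap T T') (e' (1 ⊗ₜ[A] c)) = e (1 ⊗ₜ[A] c) := by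
  set J := RingHom.ker (algebraMap T T')
  let q := RingHom.quotientKerEquivOfSurjective hπ
  let : Algebra T' (T ⧸ J) := q.symm.toRingHom.toAlgebra
  have hq : ∀ t : T, algebraMap T' (T ⧸ J) (algebraMap T T' t) = algebraMap T (T ⧸ J) t := fun t => by
    show q.symm (algebraMap T T' t) = Ideal.Quotient.mk J t
    rw [RingEquiv.symm_apply_eq]
    exact (RingHom.quotientKerEquivOfSurjective_apply_mk hπ t).symm
  have : IsScalarTower A T' (T ⧸ J) := .of_algebraMap_eq fun a => by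
    rw [IsScalarTower.algebraMap_apply A T T', hq, ← IsScalarTower.algebraMap_apply]
  let e₀ : (T ⧸ J) ⊗[T] (T ⊗[A] C) ≃ₐc[T ⧸ J] MonoidAlgebra (T ⧸ J) N :=
    (cancelBC (R := A) T (T ⧸ J) C).trans (bcTriv e)
  obtain ⟨e₁⟩ := isDiag_of_flat_nilpotent J hker ⟨e₀⟩
  let e₂ : T' ⊗[A] C ≃ₐc[T'] MonoidAlgebra T' N := bcTriv e₁
  obtain ⟨β, hβ⟩ := exists_lift_equiv (algebraMap T T') hπ (fun x hx => by
    obtain ⟨k, hk⟩ := hker
    exact ⟨k, by have := Ideal.pow_mem_pow hx k; rw [hk] at this; exact this⟩) (e₂.symm.trans e)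
  refine ⟨e₁.trans β, fun c => ?_⟩
  show MonoidAlgebra.mapRingHom N (algebraMap T T') (β (e₁ (1 ⊗ₜ[A] c))) = _
  rw [hβ, ← bcTriv_push e₁]
  show (e₂.symm.trans e) (e₂ _) = _
  rw [show ∀ z, (e₂.symm.trans e) (e₂ z) = e z from fun z => congrArg e (e₂.symm_apply_apply z)]
  simp

variable (I : Ideal A)

/-- Compatible trivialisations of all levels. -/
theorem exists_levels (hflat : ∀ n : ℕ, Module.Flat (A ⧸ I ^ n) ((A ⧸ I ^ n) ⊗[A] C))
    (h0 : (A ⧸ I) ⊗[A] C ≃ₐc[A ⧸ I] MonoidAlgebra (A ⧸ I) N) :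
    ∃ e : ∀ n : ℕ, (A ⧸ I ^ n) ⊗[A] C ≃ₐc[A ⧸ I ^ n] MonoidAlgebra (A ⧸ I ^ n) N,
      ∀ (n : ℕ) (c : C), MonoidAlgebra.mapRingHom N (Ideal.Quotient.factor (Ideal.pow_le_pow_right n.le_succ))
        (e (n + 1) (1 ⊗ₜ[A] c)) = e n (1 ⊗ₜ[A] c) := by
  have step : ∀ (n : ℕ) (e : (A ⧸ I ^ (n + 1)) ⊗[A] C ≃ₐc[A ⧸ I ^ (n + 1)] MonoidAlgebra (A ⧸ I ^ (n + 1)) N),
      ∃ e' : (A ⧸ I ^ (n + 2)) ⊗[A] C ≃ₐc[A ⧸ I ^ (n + 2)] MonoidAlgebra (A ⧸ I ^ (n + 2)) N,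
        ∀ c : C, MonoidAlgebra.mapRingHom N (Ideal.Quotient.factor (Ideal.pow_le_pow_right (n + 1).le_succ))
          (e' (1 ⊗ₜ[A] c)) = e (1 ⊗ₜ[A] c) := by
    intro n e
    let : Algebra (A ⧸ I ^ (n + 2)) (A ⧸ I ^ (n + 1)) :=
      (Ideal.Quotient.factor (Ideal.pow_le_pow_right (n + 1).le_succ)).toAlgebra
    have : IsScalarTower A (A ⧸ I ^ (n + 2)) (A ⧸ I ^ (n + 1)) := .of_algebraMap_eq fun a => rfl
    have := hflat (n + 2)
    refine exists_equiv_lift (Ideal.Quotient.factor_surjective _) ⟨2, ?_⟩ e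
    refine eq_bot_iff.mpr ?_
    rw [pow_two, Ideal.mul_le]
    intro x hx y hy
    obtain ⟨a, rfl⟩ := Ideal.Quotient.mk_surjective x
    obtain ⟨b, rfl⟩ := Ideal.Quotient.mk_surjective y
    have ha : a ∈ I ^ (n + 1) := Ideal.Quotient.eq_zero_iff_mem.mp hx
    have hb : b ∈ I ^ (n + 1) := Ideal.Quotient.eq_zero_iff_mem.mp hy
    rw [Ideal.mem_bot, ← map_mul, Ideal.Quotient.eq_zero_iff_mem]
    refine Ideal.pow_le_pow_right (by omega : n + 2 ≤ n + 1 + (n + 1)) ?_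
    rw [pow_add]
    exact Ideal.mul_mem_mul ha hb
  have base : Nonempty ((A ⧸ I ^ (0 + 1)) ⊗[A] C ≃ₐc[A ⧸ I ^ (0 + 1)] MonoidAlgebra (A ⧸ I ^ (0 + 1)) N) := by
    let : Algebra (A ⧸ I) (A ⧸ I ^ (0 + 1)) := (Ideal.Quotient.factor (le_of_eq (pow_one I).symm)).toAlgebra
    have : IsScalarTower A (A ⧸ I) (A ⧸ I ^ (0 + 1)) := .of_algebraMap_eq fun a => rfl
    exact ⟨bcTriv h0⟩
  choose f hf using step
  let E : ∀ n, (A ⧸ I ^ (n + 1)) ⊗[A] C ≃ₐc[A ⧸ I ^ (n + 1)] MonoidAlgebra (A ⧸ I ^ (n + 1)) N :=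
    fun n => Nat.rec base.some (fun k ek => f k ek) n
  let : Algebra (A ⧸ I ^ (0 + 1)) (A ⧸ I ^ 0) :=
    (Ideal.Quotient.factor (Ideal.pow_le_pow_right (Nat.le_succ 0))).toAlgebra
  have : IsScalarTower A (A ⧸ I ^ (0 + 1)) (A ⧸ I ^ 0) := .of_algebraMap_eq fun a => rfl
  refine ⟨fun n => Nat.casesOn n (bcTriv (E 0)) E, fun n c => ?_⟩
  cases n with
  | zero =>
    show MonoidAlgebra.mapRingHom N (algebraMap (A ⧸ I ^ (0 + 1)) (A ⧸ I ^ 0)) (E 0 (1 ⊗ₜ[A] c)) = bcTriv (E 0) _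
    rw [← bcTriv_push (E 0)]
    simp
  | succ k => exact hf k (E k) c

end Groth.Agent.IsoTriv
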