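import Mathlib.RingTheory.Flat.Localization
import Mathlib.RingTheory.Flat.Stability
import Mathlib.RingTheory.Localization.LocalizationLocalization
import Mathlib.RingTheory.TensorProduct.Quotient
import Mathlib.RingTheory.Jacobson.Ideal
import Mathlib.RingTheory.Nilpotent.Basic
import Mathlib.Tactic.LinearCombination

/-! Flatness modulo powers of an ideal from flatness at the primes over it. -/

universe u

open TensorProduct

namespace Groth.Agent.IsoTriv

variable {A : Type u} [CommRing A] (I : Ideal A) (C : Type u) [CommRing C] [Algebra A C]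

/-- The multiplicative set `1 + IC`. -/
def oneAdd : Submonoid C where
  carrier := {s | s - 1 ∈ I.map (algebraMap A C)}
  mul_mem' {a b} ha hb := by
    show a * b - 1 ∈ I.map (algebraMap A C)
    rw [show a * b - 1 = a * (b - 1) + (a - 1) by ring]
    exact add_mem (Ideal.mul_mem_left _ _ hb) ha
  one_mem' := by simp

theorem mem_oneAdd {s : C} : s ∈ oneAdd I C ↔ s - 1 ∈ I.map (algebraMap A C) := Iff.rfl

theorem flat_localization_oneAdd
    (hfl : ∀ (q : Ideal C) [q.IsPrime], Ideal.map (algebraMap A C) I ≤ q → Module.Flat A (Localization.AtPrime q)) :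
    Module.Flat A (Localization (oneAdd I C)) := by
  refine Module.flat_of_isLocalized_maximal (S := Localization (oneAdd I C)) (Localization (oneAdd I C))
    (fun P _ => Localization.AtPrime P) (fun P _ => Algebra.linearMap _ _) fun P hP => ?_
  have hle : I.map (algebraMap A C) ≤ P.comap (algebraMap C (Localization (oneAdd I C))) := by
    intro i hi
    by_contra hni
    obtain ⟨z, y, hy, hyz⟩ := hP.exists_inv (x := algebraMap C (Localization (oneAdd I C)) i) hni
    obtain ⟨⟨c, s⟩, hcs : z * algebraMap C _ (s : C) = algebraMap C _ c⟩ := IsLocalization.surj (oneAdd I C) z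
    refine hP.ne_top (Ideal.eq_top_of_isUnit_mem _ (x := algebraMap C (Localization (oneAdd I C)) (s - i * c)) ?_
      (IsLocalization.map_units (M := oneAdd I C) (Localization (oneAdd I C)) ⟨(s : C) - i * c, ?_⟩))
    · rw [map_sub, map_mul, ← hcs, ← mul_assoc, mul_comm _ z,
        show algebraMap C (Localization (oneAdd I C)) (s : C) - z * algebraMap C _ i * algebraMap C _ (s : C) =
          y * algebraMap C _ (s : C) by linear_combination (-algebraMap C (Localization (oneAdd I C)) (s : C)) * hyz]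
      exact P.mul_mem_right _ hy
    · rw [mem_oneAdd, show (s : C) - i * c - 1 = ((s : C) - 1) - i * c by ring]
      exact sub_mem s.2 (Ideal.mul_mem_right _ _ hi)
  have := hfl _ hle
  exact Module.Flat.of_linearEquiv
    ((IsLocalization.localizationLocalizationAtPrimeIsoLocalization (oneAdd I C) P).restrictScalars A).symm.toLinearEquiv

theorem isUnit_one_tmul (n : ℕ) {s : C} (hs : s ∈ oneAdd I C) :
    IsUnit ((1 : A ⧸ I ^ n) ⊗ₜ[A] s) := by
  have hnil : IsNilpotent ((1 : A ⧸ I ^ n) ⊗ₜ[A] (s - 1)) := by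
    refine ⟨n, ?_⟩
    rw [Algebra.TensorProduct.tmul_pow, one_pow]
    have hle : (I ^ n).map (algebraMap A C) ≤
        RingHom.ker (Algebra.TensorProduct.includeRight : C →ₐ[A] (A ⧸ I ^ n) ⊗[A] C) :=
      Ideal.map_le_iff_le_comap.mpr fun a ha => by
        show (1 : A ⧸ I ^ n) ⊗ₜ[A] (algebraMap A C a) = 0
        rw [Algebra.algebraMap_eq_smul_one, TensorProduct.tmul_smul, TensorProduct.smul_tmul', Algebra.smul_def,
          Ideal.Quotient.algebraMap_eq, Ideal.Quotient.eq_zero_iff_mem.mpr ha, zero_mul, TensorProduct.zero_tmul]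
    exact hle (by rw [Ideal.map_pow]; exact Ideal.pow_mem_pow hs n)
  have h := IsNilpotent.isUnit_add_one hnil
  rwa [show (1 : A ⧸ I ^ n) ⊗ₜ[A] (s - 1) + 1 = (1 : A ⧸ I ^ n) ⊗ₜ[A] s by
    rw [Algebra.TensorProduct.one_def, ← TensorProduct.tmul_add, sub_add_cancel]] at h

/-- Flatness at the primes over `IC` gives flatness modulo every power of `I`. -/
theorem flat_levels
    (hfl : ∀ (q : Ideal C) [q.IsPrime], Ideal.map (algebraMap A C) I ≤ q → Module.Flat A (Localization.AtPrime q))
    (n : ℕ) : Module.Flat (A ⧸ I ^ n) ((A ⧸ I ^ n) ⊗[A] C) := by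
  have := flat_localization_oneAdd I C hfl
  let L := Localization (oneAdd I C)
  let f : (A ⧸ I ^ n) ⊗[A] C →ₐ[A ⧸ I ^ n] (A ⧸ I ^ n) ⊗[A] L :=
    Algebra.TensorProduct.map (AlgHom.id _ _) (IsScalarTower.toAlgHom A C L)
  let g₀ : L →ₐ[A] (A ⧸ I ^ n) ⊗[A] C :=
    IsLocalization.liftAlgHom (M := oneAdd I C) (f := Algebra.TensorProduct.includeRight)
      (fun s => isUnit_one_tmul I C n s.2)
  have hg₀ : ∀ c : C, g₀ (algebraMap C L c) = (1 : A ⧸ I ^ n) ⊗ₜ[A] c := fun c => by
    simp [g₀, L, IsLocalization.liftAlgHom_apply, IsLocalization.lift_eq]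
  let g : (A ⧸ I ^ n) ⊗[A] L →ₐ[A ⧸ I ^ n] (A ⧸ I ^ n) ⊗[A] C :=
    Algebra.TensorProduct.lift (Algebra.ofId _ _) g₀ fun _ _ => Commute.all _ _
  have h1 : g.comp f = AlgHom.id _ _ := Algebra.TensorProduct.ext (Subsingleton.elim _ _)
    (AlgHom.ext fun c => by simp [f, g, hg₀])
  have h2 : f.comp g = AlgHom.id _ _ := by
    refine Algebra.TensorProduct.ext (Subsingleton.elim _ _) ?_
    refine IsLocalization.algHom_ext (oneAdd I C) (AlgHom.ext fun c => ?_)
    show f (g ((1 : A ⧸ I ^ n) ⊗ₜ[A] algebraMap C L c)) = (1 : A ⧸ I ^ n) ⊗ₜ[A] algebraMap C L c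
    rw [show g ((1 : A ⧸ I ^ n) ⊗ₜ[A] algebraMap C L c) = (1 : A ⧸ I ^ n) ⊗ₜ[A] c by
      rw [Algebra.TensorProduct.lift_tmul, map_one, one_mul, hg₀]]
    rfl
  exact Module.Flat.of_linearEquiv (AlgEquiv.ofAlgHom f g h2 h1).toLinearEquiv

end Groth.Agent.IsoTriv
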