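import Groth.Agent.IsoTriv.FieldSplit
import Mathlib.RingTheory.Etale.Basic

/-! Base change of quasi-isotrivial groups. -/

universe u

open TensorProduct

namespace Groth.Agent.IsoTriv

open SGA3bLib

variable {R : Type u} [CommRing R] {A : Type u} [CommRing A] [HopfAlgebra R A]

theorem isQuasiIsotrivial_bc (h : SGA3b.IsQuasiIsotrivial R A) (S : Type u) [CommRing S] [Algebra R S]
    {D : Type u} [CommRing D] [HopfAlgebra S D] (eD : S ⊗[R] A ≃ₐc[S] D) : SGA3b.IsQuasiIsotrivial S D := by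
  obtain ⟨s, hs, hloc⟩ := h
  refine ⟨algebraMap R S '' s, by rw [← Ideal.map_span, hs, Ideal.map_top], ?_⟩
  rintro _ ⟨f, hf, rfl⟩
  obtain ⟨R', _, _, het, hff, N, _, ⟨e⟩⟩ := hloc f hf
  have := het
  have := hff
  let L := Localization.Away f
  let L' := Localization.Away (algebraMap R S f)
  let g : L →+* L' := IsLocalization.Away.map L L' (algebraMap R S) f
  let : Algebra L L' := g.toAlgebra
  have : IsScalarTower R L L' := .of_algebraMap_eq fun r => by
    show algebraMap R L' r = g (algebraMap R L r)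
    rw [IsScalarTower.algebraMap_apply R S L']
    exact (IsLocalization.map_eq _ r).symm
  let : Algebra R' (L' ⊗[L] R') := Algebra.TensorProduct.rightAlgebra
  have : IsScalarTower L R' (L' ⊗[L] R') := .of_algebraMap_eq fun r => by
    show algebraMap L (L' ⊗[L] R') r = (1 : L') ⊗ₜ[L] algebraMap L R' r
    exact (congrArg (fun z => z ⊗ₜ[L] (1 : R')) (Algebra.algebraMap_eq_smul_one r)).trans
      ((TensorProduct.smul_tmul r (1 : L') (1 : R')).trans
        (congrArg (fun z => (1 : L') ⊗ₜ[L] z) (Algebra.algebraMap_eq_smul_one r).symm))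
  refine ⟨L' ⊗[L] R', inferInstance, inferInstance, inferInstance, inferInstance, N, inferInstance, ?_⟩
  let e₁ : (L' ⊗[L] R') ⊗[L] (L ⊗[R] A) ≃ₐc[L' ⊗[L] R'] MonoidAlgebra (L' ⊗[L] R') N := bcTriv e
  let e₂ : (L' ⊗[L] R') ⊗[R] A ≃ₐc[L' ⊗[L] R'] MonoidAlgebra (L' ⊗[L] R') N :=
    (cancelBC (R := R) L (L' ⊗[L] R') A).symm.trans e₁
  let ebc : L' ⊗[S] D ≃ₐc[L'] L' ⊗[R] A :=
    (BialgEquiv.ofBijective (bcHom L' (eD.symm : D →ₐc[S] S ⊗[R] A))
      ((TensorProduct.AlgebraTensorModule.congr (LinearEquiv.refl L' L') eD.symm.toAlgEquiv.toLinearEquiv).bijective)).trans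
        (cancelBC (R := R) S L' A)
  let E := BialgEquiv.ofBijective (bcHom (L' ⊗[L] R') (ebc : L' ⊗[S] D →ₐc[L'] L' ⊗[R] A))
    ((TensorProduct.AlgebraTensorModule.congr (LinearEquiv.refl (L' ⊗[L] R') (L' ⊗[L] R'))
      ebc.toAlgEquiv.toLinearEquiv).bijective)
  exact ⟨(E.trans (cancelBC (R := R) L' (L' ⊗[L] R') A)).trans e₂⟩

theorem isMultType_of_isQuasiIsotrivial (h : SGA3b.IsQuasiIsotrivial R A) : SGA3b.IsMultType R A := by
  obtain ⟨s, hs, hloc⟩ := h
  refine ⟨s, hs, fun f hf => ?_⟩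
  obtain ⟨R', i₁, i₂, -, hff, hd⟩ := hloc f hf
  exact ⟨R', i₁, i₂, hff, hd⟩

end Groth.Agent.IsoTriv
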