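import Groth.Agent.IsoTriv.HomLift
import Groth.Agent.IsoTriv.QuasiBC
import Groth.Agent.IsoTriv.CompleteClopen

/-! Homomorphisms over complete rings. -/

universe u

open TensorProduct Coalgebra

namespace Groth.Agent.IsoTriv

open SGA3bLib

variable {A : Type u} [CommRing A] {C : Type u} [CommRing C] [HopfAlgebra A C] {M : Type u} [CommGroup M]

/-- Push a homomorphism into a group algebra forward. -/
theorem exists_push_hom {T T' : Type u} [CommRing T] [CommRing T'] [Algebra A T] [Algebra A T'] [Algebra T T']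
    [IsScalarTower A T T'] (e : T ⊗[A] C →ₐc[T] MonoidAlgebra T M) :
    ∃ e' : T' ⊗[A] C →ₐc[T'] MonoidAlgebra T' M, ∀ c : C,
      e' (1 ⊗ₜ[A] c) = MonoidAlgebra.mapRingHom M (algebraMap T T') (e (1 ⊗ₜ[A] c)) := by
  refine ⟨((monoidBC (T := T) T' M : _ →ₐc[T'] MonoidAlgebra T' M).comp (bcHom T' e)).comp
    ((cancelBC (R := A) T T' C).symm : T' ⊗[A] C →ₐc[T'] T' ⊗[T] (T ⊗[A] C)), fun c => ?_⟩
  have hc : (cancelBC (R := A) T T' C).symm ((1 : T') ⊗ₜ[A] c) = (1 : T') ⊗ₜ[T] ((1 : T) ⊗ₜ[A] c) := by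
    apply (cancelBC (R := A) T T' C).toAlgEquiv.injective
    show cancelBC (R := A) T T' C ((cancelBC (R := A) T T' C).symm _) = _
    rw [BialgEquiv.apply_symm_apply]
    exact (show cancelBC (R := A) T T' C ((1 : T') ⊗ₜ[T] ((1 : T) ⊗ₜ[A] c)) = (1 : T') ⊗ₜ[A] c from
      (Algebra.TensorProduct.cancelBaseChange_tmul ..).trans (by simp)).symm
  show monoidBC (T := T) T' M (bcHom T' e ((cancelBC (R := A) T T' C).symm ((1 : T') ⊗ₜ[A] c))) = _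
  rw [hc, bcHom_tmul, monoidBC_one_tmul]

theorem hom_ext_one_tmul {T : Type u} [CommRing T] [Algebra A T] {φ ψ : T ⊗[A] C →ₐc[T] MonoidAlgebra T M}
    (h : ∀ c : C, φ (1 ⊗ₜ[A] c) = ψ (1 ⊗ₜ[A] c)) : φ = ψ := by
  refine DFunLike.ext _ _ fun z => ?_
  exact AlgHom.congr_fun (show (φ : T ⊗[A] C →ₐ[T] MonoidAlgebra T M) = (ψ : T ⊗[A] C →ₐ[T] MonoidAlgebra T M) from
    Algebra.TensorProduct.ext (Subsingleton.elim _ _) (AlgHom.ext h)) z

/-- A homomorphism lifts along a nilpotent thickening. -/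
theorem exists_hom_level_lift {T T' : Type u} [CommRing T] [CommRing T'] [Algebra A T] [Algebra A T'] [Algebra T T']
    [IsScalarTower A T T'] (hπ : Function.Surjective (algebraMap T T'))
    (hker : IsNilpotent (RingHom.ker (algebraMap T T'))) (hcov : HasCover T (T ⊗[A] C))
    [Coalgebra.IsCocomm T (T ⊗[A] C)] (e : T' ⊗[A] C →ₐc[T'] MonoidAlgebra T' M) :
    ∃ e' : T ⊗[A] C →ₐc[T] MonoidAlgebra T M,
      ∀ c : C, MonoidAlgebra.mapRingHom M (algebraMap T T') (e' (1 ⊗ₜ[A] c)) = e (1 ⊗ₜ[A] c) := by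
  set J := RingHom.ker (algebraMap T T')
  let q := RingHom.quotientKerEquivOfSurjective hπ
  let : Algebra T' (T ⧸ J) := q.symm.toRingHom.toAlgebra
  have hq : ∀ t : T, algebraMap T' (T ⧸ J) (algebraMap T T' t) = algebraMap T (T ⧸ J) t := fun t => by
    show q.symm (algebraMap T T' t) = Ideal.Quotient.mk J t
    rw [RingEquiv.symm_apply_eq]
    exact (RingHom.quotientKerEquivOfSurjective_apply_mk hπ t).symm
  have : IsScalarTower A T' (T ⧸ J) := .of_algebraMap_eq fun a => by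
    rw [IsScalarTower.algebraMap_apply A T T', hq, ← IsScalarTower.algebraMap_apply]
  obtain ⟨e₁, he₁⟩ := exists_push_hom (T' := T ⧸ J) e
  obtain ⟨φ, hφ⟩ := exists_hom_lift hcov J hker
    (e₁.comp (cancelBC (R := A) T (T ⧸ J) C : (T ⧸ J) ⊗[T] (T ⊗[A] C) →ₐc[T ⧸ J] (T ⧸ J) ⊗[A] C))
  refine ⟨φ, fun c => ?_⟩
  have h1 := hφ ((1 : T) ⊗ₜ[A] c)
  have h2 : cancelBC (R := A) T (T ⧸ J) C ((1 : T ⧸ J) ⊗ₜ[T] ((1 : T) ⊗ₜ[A] c)) = (1 : T ⧸ J) ⊗ₜ[A] c :=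
    (Algebra.TensorProduct.cancelBaseChange_tmul ..).trans (by simp)
  have h3 : MonoidAlgebra.mapRingHom M (Ideal.Quotient.mk J) (φ ((1 : T) ⊗ₜ[A] c)) = e₁ ((1 : T ⧸ J) ⊗ₜ[A] c) :=
    h1.trans (congrArg e₁ h2)
  rw [he₁] at h3
  refine ext_coef fun m => ?_
  have h4 := congrArg (coef m) h3
  rw [coef_mapRingHom, coef_mapRingHom] at h4
  rw [coef_mapRingHom]
  apply q.symm.injective
  exact (hq _).trans h4

variable (I : Ideal A)

theorem level_good (hflat : ∀ n : ℕ, Module.Flat (A ⧸ I ^ n) ((A ⧸ I ^ n) ⊗[A] C))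
    (h0 : SGA3b.IsQuasiIsotrivial (A ⧸ I) ((A ⧸ I) ⊗[A] C)) (n : ℕ) :
    HasCover (A ⧸ I ^ n) ((A ⧸ I ^ n) ⊗[A] C) ∧ Coalgebra.IsCocomm (A ⧸ I ^ n) ((A ⧸ I ^ n) ⊗[A] C) := by
  have := hflat n
  let T := A ⧸ I ^ n
  let J : Ideal T := I.map (algebraMap A T)
  have hJ : IsNilpotent J := ⟨n, by
    rw [← Ideal.map_pow, Ideal.zero_eq_bot, Ideal.map_eq_bot_iff_le_ker, Ideal.Quotient.algebraMap_eq, Ideal.mk_ker]⟩
  let : Algebra (A ⧸ I) (T ⧸ J) := (Ideal.quotientMap J (algebraMap A T) Ideal.le_comap_map).toAlgebra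
  have : IsScalarTower A (A ⧸ I) (T ⧸ J) := .of_algebraMap_eq fun r => rfl
  have hqi : SGA3b.IsQuasiIsotrivial T (T ⊗[A] C) := isQuasiIsotrivial_of_flat J hJ (isQuasiIsotrivial_bc h0 (T ⧸ J)
    ((cancelBC (R := A) (A ⧸ I) (T ⧸ J) C).trans (cancelBC (R := A) T (T ⧸ J) C).symm))
  exact ⟨hasCover_of_isMultType (isMultType_of_isQuasiIsotrivial hqi),
    isCocomm_of_isMultType (isMultType_of_isQuasiIsotrivial hqi)⟩

/-- Two homomorphisms with the same reduction agree. -/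
theorem hom_eq_of_reduction [IsAdicComplete I A] (hflat : ∀ n : ℕ, Module.Flat (A ⧸ I ^ n) ((A ⧸ I ^ n) ⊗[A] C))
    (h0 : SGA3b.IsQuasiIsotrivial (A ⧸ I) ((A ⧸ I) ⊗[A] C)) (φ ψ : C →ₐc[A] MonoidAlgebra A M)
    (h : ∀ c, MonoidAlgebra.mapRingHom M (Ideal.Quotient.mk I) (φ c) =
      MonoidAlgebra.mapRingHom M (Ideal.Quotient.mk I) (ψ c)) : φ = ψ := by
  refine DFunLike.ext _ _ fun c => ?_
  refine ext_level I fun n => ?_
  obtain ⟨-, hc⟩ := level_good I hflat h0 n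
  let T := A ⧸ I ^ n
  let push' : (C →ₐc[A] MonoidAlgebra A M) → (T ⊗[A] C →ₐc[T] MonoidAlgebra T M) := fun f =>
    (monoidBC (T := A) T M : _ →ₐc[T] MonoidAlgebra T M).comp (bcHom T f)
  have hpush : ∀ f c, push' f ((1 : T) ⊗ₜ[A] c) = MonoidAlgebra.mapRingHom M (Ideal.Quotient.mk (I ^ n)) (f c) :=
    fun f c => by
      show monoidBC (T := A) T M (bcHom T f ((1 : T) ⊗ₜ[A] c)) = _
      rw [bcHom_tmul, monoidBC_one_tmul]
      rfl
  have hJ : IsNilpotent (I.map (algebraMap A T)) := ⟨n, by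
    rw [← Ideal.map_pow, Ideal.zero_eq_bot, Ideal.map_eq_bot_iff_le_ker, Ideal.Quotient.algebraMap_eq, Ideal.mk_ker]⟩
  have heq : push' φ = push' ψ := eq_of_hom_nilpotent _ hJ _ _ fun z => by
    induction z using TensorProduct.induction_on with
    | zero => simp
    | tmul u c =>
      rw [show (u ⊗ₜ[A] c : T ⊗[A] C) = algebraMap T (T ⊗[A] C) u * ((1 : T) ⊗ₜ[A] c) by
          rw [Algebra.TensorProduct.algebraMap_apply, Algebra.TensorProduct.tmul_mul_tmul, Algebra.algebraMap_self,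
            RingHom.id_apply, mul_one, one_mul],
        map_mul, map_mul, map_mul, map_mul, AlgHomClass.commutes (push' φ), AlgHomClass.commutes (push' ψ), hpush, hpush]
      congr 1
      refine ext_coef fun m => ?_
      have h1 := congrArg (coef m) (h c)
      rw [coef_mapRingHom, coef_mapRingHom, Ideal.Quotient.eq] at h1
      simp only [coef_mapRingHom]
      rw [Ideal.Quotient.eq, ← map_sub]
      exact Ideal.mem_map_of_mem _ h1
    | add a b ha hb => rw [map_add, map_add, map_add, map_add, ha, hb]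
  rw [← hpush, ← hpush, heq]

/-- Homomorphisms of the reductions into a group algebra lift. -/
theorem exists_hom_lift_complete [IsNoetherianRing A] [IsAdicComplete I A]
    (hflat : ∀ n : ℕ, Module.Flat (A ⧸ I ^ n) ((A ⧸ I ^ n) ⊗[A] C))
    (h0 : SGA3b.IsQuasiIsotrivial (A ⧸ I) ((A ⧸ I) ⊗[A] C))
    (φ₀ : (A ⧸ I) ⊗[A] C →ₐc[A ⧸ I] MonoidAlgebra (A ⧸ I) M) :
    ∃ Φ : C →ₐc[A] MonoidAlgebra A M,
      ∀ c, MonoidAlgebra.mapRingHom M (Ideal.Quotient.mk I) (Φ c) = φ₀ (1 ⊗ₜ[A] c) := by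
  have step : ∀ (n : ℕ) (e : (A ⧸ I ^ (n + 1)) ⊗[A] C →ₐc[A ⧸ I ^ (n + 1)] MonoidAlgebra (A ⧸ I ^ (n + 1)) M),
      ∃ e' : (A ⧸ I ^ (n + 2)) ⊗[A] C →ₐc[A ⧸ I ^ (n + 2)] MonoidAlgebra (A ⧸ I ^ (n + 2)) M,
        ∀ c : C, MonoidAlgebra.mapRingHom M (Ideal.Quotient.factor (Ideal.pow_le_pow_right (n + 1).le_succ))
          (e' (1 ⊗ₜ[A] c)) = e (1 ⊗ₜ[A] c) := by
    intro n e
    let : Algebra (A ⧸ I ^ (n + 2)) (A ⧸ I ^ (n + 1)) :=
      (Ideal.Quotient.factor (Ideal.pow_le_pow_right (n + 1).le_succ)).toAlgebra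
    have : IsScalarTower A (A ⧸ I ^ (n + 2)) (A ⧸ I ^ (n + 1)) := .of_algebraMap_eq fun a => rfl
    obtain ⟨hcov, hcc⟩ := level_good I hflat h0 (n + 2)
    refine exists_hom_level_lift (Ideal.Quotient.factor_surjective _) ⟨2, ?_⟩ hcov e
    refine eq_bot_iff.mpr ?_
    rw [pow_two, Ideal.mul_le]
    intro x hx y hy
    obtain ⟨a, rfl⟩ := Ideal.Quotient.mk_surjective x
    obtain ⟨b, rfl⟩ := Ideal.Quotient.mk_surjective y
    have ha : a ∈ I ^ (n + 1) := Ideal.Quotient.eq_zero_iff_mem.mp hx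
    have hb : b ∈ I ^ (n + 1) := Ideal.Quotient.eq_zero_iff_mem.mp hy
    rw [Ideal.mem_bot, ← map_mul, Ideal.Quotient.eq_zero_iff_mem]
    refine Ideal.pow_le_pow_right (by omega : n + 2 ≤ n + 1 + (n + 1)) ?_
    rw [pow_add]
    exact Ideal.mul_mem_mul ha hb
  have hI1 : I ≤ I ^ (0 + 1) := by rw [zero_add, pow_one]
  obtain ⟨b0, hb0⟩ : ∃ b : (A ⧸ I ^ (0 + 1)) ⊗[A] C →ₐc[A ⧸ I ^ (0 + 1)] MonoidAlgebra (A ⧸ I ^ (0 + 1)) M,
      ∀ c, b (1 ⊗ₜ[A] c) = MonoidAlgebra.mapRingHom M (Ideal.Quotient.factor hI1) (φ₀ ((1 : A ⧸ I) ⊗ₜ[A] c)) := by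
    let : Algebra (A ⧸ I) (A ⧸ I ^ (0 + 1)) := (Ideal.Quotient.factor hI1).toAlgebra
    have : IsScalarTower A (A ⧸ I) (A ⧸ I ^ (0 + 1)) := .of_algebraMap_eq fun a => rfl
    exact exists_push_hom φ₀
  choose f hf using step
  let E : ∀ n, (A ⧸ I ^ (n + 1)) ⊗[A] C →ₐc[A ⧸ I ^ (n + 1)] MonoidAlgebra (A ⧸ I ^ (n + 1)) M :=
    fun n => Nat.rec b0 (fun k ek => f k ek) n
  let : Algebra (A ⧸ I ^ (0 + 1)) (A ⧸ I ^ 0) :=
    (Ideal.Quotient.factor (Ideal.pow_le_pow_right (Nat.le_succ 0))).toAlgebra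
  have : IsScalarTower A (A ⧸ I ^ (0 + 1)) (A ⧸ I ^ 0) := .of_algebraMap_eq fun a => rfl
  obtain ⟨z0, hz0⟩ := exists_push_hom (T' := A ⧸ I ^ 0) (E 0)
  obtain ⟨Φ, hΦ⟩ := exists_hom_of_formal I (fun n => Nat.casesOn n z0 E) fun n c => by
    cases n with
    | zero => exact (hz0 c).symm
    | succ k => exact hf k (E k) c
  refine ⟨Φ, fun c => ?_⟩
  have h1 := hΦ 1 c
  rw [show (Nat.casesOn 1 z0 E : (A ⧸ I ^ 1) ⊗[A] C →ₐc[A ⧸ I ^ 1] MonoidAlgebra (A ⧸ I ^ 1) M) = b0 from rfl, hb0] at h1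
  refine ext_coef fun m => ?_
  have h2 := congrArg (coef m) h1
  rw [coef_mapRingHom, coef_mapRingHom] at h2
  rw [coef_mapRingHom]
  have h3 := congrArg (Ideal.Quotient.factor (le_of_eq (pow_one I))) h2
  rw [Ideal.Quotient.factor_comp_apply, Ideal.Quotient.factor_mk, Ideal.Quotient.factor_eq, RingHom.id_apply] at h3
  exact h3

end Groth.Agent.IsoTriv
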