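import Groth.Agent.IsoTriv.CompleteHom

/-! Homomorphisms from isotrivial groups over complete rings. -/

universe u

open TensorProduct Coalgebra

namespace Groth.Agent.IsoTriv

open SGA3bLib

variable {A : Type u} [CommRing A] [IsNoetherianRing A] (I : Ideal A) [IsAdicComplete I A]
  {C : Type u} [CommRing C] [HopfAlgebra A C] {B : Type u} [CommRing B] [HopfAlgebra A B]

theorem level_qi_bc (hflat : ∀ n : ℕ, Module.Flat (A ⧸ I ^ n) ((A ⧸ I ^ n) ⊗[A] C))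
    (h0 : SGA3b.IsQuasiIsotrivial (A ⧸ I) ((A ⧸ I) ⊗[A] C)) (U : Type u) [CommRing U] [Algebra A U] :
    SGA3b.IsQuasiIsotrivial (U ⧸ I.map (algebraMap A U))
      ((U ⧸ I.map (algebraMap A U)) ⊗[U] (U ⊗[A] C)) := by
  let J := I.map (algebraMap A U)
  let : Algebra (A ⧸ I) (U ⧸ J) := (Ideal.quotientMap J (algebraMap A U) Ideal.le_comap_map).toAlgebra
  have : IsScalarTower A (A ⧸ I) (U ⧸ J) := .of_algebraMap_eq fun r => rfl
  exact isQuasiIsotrivial_bc h0 (U ⧸ J)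
    ((cancelBC (R := A) (A ⧸ I) (U ⧸ J) C).trans (cancelBC (R := A) U (U ⧸ J) C).symm)

omit [IsNoetherianRing A] [IsAdicComplete I A] in
theorem coef_sub_mem {U : Type u} [CommRing U] [Algebra A U] {M : Type u} [CommGroup M] {x y : MonoidAlgebra U M}
    (h : x - y ∈ I.map (algebraMap A (MonoidAlgebra U M))) :
    MonoidAlgebra.mapRingHom M (Ideal.Quotient.mk (I.map (algebraMap A U))) x =
      MonoidAlgebra.mapRingHom M (Ideal.Quotient.mk (I.map (algebraMap A U))) y := by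
  refine ext_coef fun m => ?_
  rw [IsScalarTower.algebraMap_eq A U (MonoidAlgebra U M), ← Ideal.map_map] at h
  have h1 := mem_map_ideal_iff.mp h m
  rw [coef_mapRingHom, coef_mapRingHom, Ideal.Quotient.eq, ← map_sub]
  exact h1

omit [IsNoetherianRing A] [IsAdicComplete I A] in
theorem map_mem {X Y : Type u} [CommRing X] [CommRing Y] [Algebra A X] [Algebra A Y] (f : X →ₐ[A] Y) {x : X}
    (h : x ∈ I.map (algebraMap A X)) : f x ∈ I.map (algebraMap A Y) := by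
  have := Ideal.mem_map_of_mem (f : X →+* Y) h
  rwa [Ideal.map_map, f.comp_algebraMap] at this

omit [IsNoetherianRing A] [IsAdicComplete I A] in
theorem one_tmul_eq_iff {x y : B} :
    ((1 : A ⧸ I) ⊗ₜ[A] x = (1 : A ⧸ I) ⊗ₜ[A] y) ↔ x - y ∈ I.map (algebraMap A B) := by
  rw [← one_tmul_eq_zero_iff, TensorProduct.tmul_sub, sub_eq_zero]

/-- Uniqueness of a homomorphism with given reduction. -/
theorem hom_eq_of_isotrivial (hflat : ∀ n : ℕ, Module.Flat (A ⧸ I ^ n) ((A ⧸ I ^ n) ⊗[A] C))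
    (h0 : SGA3b.IsQuasiIsotrivial (A ⧸ I) ((A ⧸ I) ⊗[A] C)) (U : Type u) [CommRing U] [Algebra A U]
    [Module.Finite A U] {M : Type u} [CommGroup M] (e : U ⊗[A] B ≃ₐc[U] MonoidAlgebra U M)
    (φ ψ : U ⊗[A] C →ₐc[U] U ⊗[A] B)
    (h : ∀ c : C, φ (1 ⊗ₜ[A] c) - ψ (1 ⊗ₜ[A] c) ∈ I.map (algebraMap A (U ⊗[A] B))) : φ = ψ := by
  have : IsNoetherianRing U := IsNoetherianRing.of_finite A U
  have : IsAdicComplete I U := Groth.Agent.AdicRing.isAdicComplete_of_finite (I := I) U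
  have : IsAdicComplete (I.map (algebraMap A U)) U :=
    (IsAdicComplete.map_algebraMap_iff (I := I) (M := U) (S := U)).mpr ‹_›
  let eh : U ⊗[A] B →ₐc[U] MonoidAlgebra U M := e
  have key : eh.comp φ = eh.comp ψ := by
    refine hom_eq_of_reduction (I.map (algebraMap A U)) (flat_levels_bc I U hflat) (level_qi_bc I hflat h0 U) _ _
      fun z => ?_
    induction z using TensorProduct.induction_on with
    | zero => simp
    | tmul u c =>
      have hu : (u ⊗ₜ[A] c : U ⊗[A] C) = algebraMap U (U ⊗[A] C) u * ((1 : U) ⊗ₜ[A] c) := by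
        rw [Algebra.TensorProduct.algebraMap_apply, Algebra.TensorProduct.tmul_mul_tmul, Algebra.algebraMap_self,
          RingHom.id_apply, mul_one, one_mul]
      rw [hu, map_mul, map_mul, map_mul, map_mul, AlgHomClass.commutes (eh.comp φ), AlgHomClass.commutes (eh.comp ψ)]
      congr 1
      refine coef_sub_mem I ?_
      show eh (φ _) - eh (ψ _) ∈ _
      rw [← map_sub]
      exact map_mem I ((eh : U ⊗[A] B →ₐ[U] MonoidAlgebra U M).restrictScalars A) (h c)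
    | add a b ha hb => rw [map_add, map_add, map_add, map_add, ha, hb]
  exact DFunLike.ext _ _ fun z => e.toAlgEquiv.injective (DFunLike.congr_fun key z)

set_option maxRecDepth 4000 in
/-- Existence of a homomorphism with given reduction. -/
theorem exists_hom_of_reduction (hflat : ∀ n : ℕ, Module.Flat (A ⧸ I ^ n) ((A ⧸ I ^ n) ⊗[A] C))
    (h0 : SGA3b.IsQuasiIsotrivial (A ⧸ I) ((A ⧸ I) ⊗[A] C)) (hB : SGA3b.IsIsotrivial A B)
    (φ₀ : (A ⧸ I) ⊗[A] C →ₐc[A ⧸ I] (A ⧸ I) ⊗[A] B) :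
    ∃ φ : C →ₐc[A] B, ∀ c : C, φ₀ ((1 : A ⧸ I) ⊗ₜ[A] c) = (1 : A ⧸ I) ⊗ₜ[A] φ c := by
  obtain ⟨T, _, _, het, hfin, hff, M, _, ⟨e⟩⟩ := hB
  have := het
  have := hfin
  have := hff
  have : IsNoetherianRing T := IsNoetherianRing.of_finite A T
  have : IsAdicComplete I T := Groth.Agent.AdicRing.isAdicComplete_of_finite (I := I) T
  have : IsAdicComplete (I.map (algebraMap A T)) T :=
    (IsAdicComplete.map_algebraMap_iff (I := I) (M := T) (S := T)).mpr ‹_›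
  set J := I.map (algebraMap A T)
  have hlift : ∀ c : C, ∃ b : B, φ₀ ((1 : A ⧸ I) ⊗ₜ[A] c) = (1 : A ⧸ I) ⊗ₜ[A] b := by
    intro c
    generalize φ₀ ((1 : A ⧸ I) ⊗ₜ[A] c) = z
    induction z using TensorProduct.induction_on with
    | zero => exact ⟨0, (TensorProduct.tmul_zero _ _).symm⟩
    | tmul a b =>
      obtain ⟨r, rfl⟩ := Ideal.Quotient.mk_surjective a
      exact ⟨r • b, by rw [TensorProduct.tmul_smul, TensorProduct.smul_tmul', Algebra.smul_def, mul_one]; rfl⟩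
    | add a b ha hb =>
      obtain ⟨a, rfl⟩ := ha
      obtain ⟨b, rfl⟩ := hb
      exact ⟨a + b, (TensorProduct.tmul_add _ _ _).symm⟩
  choose b hb using hlift
  obtain ⟨Φ, hΦ⟩ : ∃ Φ : T ⊗[A] C →ₐc[T] MonoidAlgebra T M, ∀ c,
      MonoidAlgebra.mapRingHom M (Ideal.Quotient.mk J) (Φ ((1 : T) ⊗ₜ[A] c)) =
        MonoidAlgebra.mapRingHom M (Ideal.Quotient.mk J) (e ((1 : T) ⊗ₜ[A] b c)) := by
    let : Algebra (A ⧸ I) (T ⧸ J) := (Ideal.quotientMap J (algebraMap A T) Ideal.le_comap_map).toAlgebra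
    have : IsScalarTower A (A ⧸ I) (T ⧸ J) := .of_algebraMap_eq fun r => rfl
    let K : (T ⧸ J) ⊗[A] B ≃ₐc[T ⧸ J] MonoidAlgebra (T ⧸ J) M := bcTriv e
    let φ₁ : (T ⧸ J) ⊗[T] (T ⊗[A] C) →ₐc[T ⧸ J] MonoidAlgebra (T ⧸ J) M :=
      ((((K : (T ⧸ J) ⊗[A] B →ₐc[T ⧸ J] MonoidAlgebra (T ⧸ J) M).comp
        (cancelBC (R := A) (A ⧸ I) (T ⧸ J) B : (T ⧸ J) ⊗[A ⧸ I] ((A ⧸ I) ⊗[A] B) →ₐc[T ⧸ J] (T ⧸ J) ⊗[A] B)).comp
        (bcHom (T ⧸ J) φ₀)).comp
        ((cancelBC (R := A) (A ⧸ I) (T ⧸ J) C).symm : (T ⧸ J) ⊗[A] C →ₐc[T ⧸ J] (T ⧸ J) ⊗[A ⧸ I] ((A ⧸ I) ⊗[A] C))).comp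
        (cancelBC (R := A) T (T ⧸ J) C : (T ⧸ J) ⊗[T] (T ⊗[A] C) →ₐc[T ⧸ J] (T ⧸ J) ⊗[A] C)
    obtain ⟨Φ, hΦ⟩ := exists_hom_lift_complete J (flat_levels_bc I T hflat) (level_qi_bc I hflat h0 T) φ₁
    refine ⟨Φ, fun c => (hΦ _).trans ?_⟩
    show K (cancelBC (R := A) (A ⧸ I) (T ⧸ J) B (bcHom (T ⧸ J) φ₀ ((cancelBC (R := A) (A ⧸ I) (T ⧸ J) C).symm
      (cancelBC (R := A) T (T ⧸ J) C ((1 : T ⧸ J) ⊗ₜ[T] ((1 : T) ⊗ₜ[A] c)))))) = _
    rw [show cancelBC (R := A) T (T ⧸ J) C ((1 : T ⧸ J) ⊗ₜ[T] ((1 : T) ⊗ₜ[A] c)) = (1 : T ⧸ J) ⊗ₜ[A] c from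
      (Algebra.TensorProduct.cancelBaseChange_tmul ..).trans (by simp)]
    have hc : (cancelBC (R := A) (A ⧸ I) (T ⧸ J) C).symm ((1 : T ⧸ J) ⊗ₜ[A] c) =
        (1 : T ⧸ J) ⊗ₜ[A ⧸ I] ((1 : A ⧸ I) ⊗ₜ[A] c) := by
      apply (cancelBC (R := A) (A ⧸ I) (T ⧸ J) C).toAlgEquiv.injective
      show cancelBC (R := A) (A ⧸ I) (T ⧸ J) C ((cancelBC (R := A) (A ⧸ I) (T ⧸ J) C).symm _) = _
      rw [BialgEquiv.apply_symm_apply]
      exact (show cancelBC (R := A) (A ⧸ I) (T ⧸ J) C ((1 : T ⧸ J) ⊗ₜ[A ⧸ I] ((1 : A ⧸ I) ⊗ₜ[A] c)) = (1 : T ⧸ J) ⊗ₜ[A] c from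
        (Algebra.TensorProduct.cancelBaseChange_tmul ..).trans (by simp)).symm
    rw [hc, bcHom_tmul, hb, show cancelBC (R := A) (A ⧸ I) (T ⧸ J) B ((1 : T ⧸ J) ⊗ₜ[A ⧸ I] ((1 : A ⧸ I) ⊗ₜ[A] b c)) =
      (1 : T ⧸ J) ⊗ₜ[A] b c from (Algebra.TensorProduct.cancelBaseChange_tmul ..).trans (by simp)]
    have := bcTriv_push (T' := T ⧸ J) e ((1 : T) ⊗ₜ[A] b c)
    rw [push_tmul, map_one] at this
    exact this
  let φT : T ⊗[A] C →ₐc[T] T ⊗[A] B := (e.symm : MonoidAlgebra T M →ₐc[T] T ⊗[A] B).comp Φ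
  have hφT : ∀ c, φT ((1 : T) ⊗ₜ[A] c) - (1 : T) ⊗ₜ[A] b c ∈ I.map (algebraMap A (T ⊗[A] B)) := by
    intro c
    have h1 : Φ ((1 : T) ⊗ₜ[A] c) - e ((1 : T) ⊗ₜ[A] b c) ∈ I.map (algebraMap A (MonoidAlgebra T M)) := by
      rw [IsScalarTower.algebraMap_eq A T (MonoidAlgebra T M), ← Ideal.map_map]
      refine mem_map_ideal_iff.mpr fun m => ?_
      have := congrArg (coef m) (hΦ c)
      rw [coef_mapRingHom, coef_mapRingHom, Ideal.Quotient.eq] at this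
      rw [map_sub]
      exact this
    have h2 := map_mem I ((e.symm : MonoidAlgebra T M →ₐ[T] T ⊗[A] B).restrictScalars A) h1
    rw [map_sub] at h2
    have h3 : e.symm (e ((1 : T) ⊗ₜ[A] b c)) = (1 : T) ⊗ₜ[A] b c := e.symm_apply_apply _
    rw [← h3]
    exact h2
  have hmk : ∀ (U : Type u) [CommRing U] [Algebra A U] (f : T →ₐ[A] U), ∃ G : U ⊗[A] C →ₐc[U] U ⊗[A] B, ∀ c,
      G ((1 : U) ⊗ₜ[A] c) = push B f (φT ((1 : T) ⊗ₜ[A] c)) := by
    intro U _ _ f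
    let : Algebra T U := f.toRingHom.toAlgebra
    have : IsScalarTower A T U := .of_algebraMap_eq fun r => (f.commutes r).symm
    refine ⟨((cancelBC (R := A) T U B : U ⊗[T] (T ⊗[A] B) →ₐc[U] U ⊗[A] B).comp (bcHom U φT)).comp
      ((cancelBC (R := A) T U C).symm : U ⊗[A] C →ₐc[U] U ⊗[T] (T ⊗[A] C)), fun c => ?_⟩
    have hc : (cancelBC (R := A) T U C).symm ((1 : U) ⊗ₜ[A] c) = (1 : U) ⊗ₜ[T] ((1 : T) ⊗ₜ[A] c) := by
      apply (cancelBC (R := A) T U C).toAlgEquiv.injective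
      show cancelBC (R := A) T U C ((cancelBC (R := A) T U C).symm _) = _
      rw [BialgEquiv.apply_symm_apply]
      exact (show cancelBC (R := A) T U C ((1 : U) ⊗ₜ[T] ((1 : T) ⊗ₜ[A] c)) = (1 : U) ⊗ₜ[A] c from
        (Algebra.TensorProduct.cancelBaseChange_tmul ..).trans (by simp)).symm
    show cancelBC (R := A) T U B (bcHom U φT ((cancelBC (R := A) T U C).symm ((1 : U) ⊗ₜ[A] c))) = _
    rw [hc, bcHom_tmul, ← push_eq_cancel]
    rfl
  let U := T ⊗[A] T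
  have hU : ∃ (M' : Type u) (_ : CommGroup M'), Nonempty (U ⊗[A] B ≃ₐc[U] MonoidAlgebra U M') := by
    exact ⟨M, inferInstance, ⟨bcTriv (T' := U) e⟩⟩
  obtain ⟨M', _, ⟨eU⟩⟩ := hU
  have : Module.Finite A U := Module.Finite.tensorProduct A T T
  obtain ⟨φ, hφ⟩ := exists_hom_of_cover (ι := PUnit.{u + 1}) (fun _ => T) (fun _ => inferInstance)
    (fun p => ⟨PUnit.unit, PrimeSpectrum.comap_surjective_of_faithfullyFlat p⟩) (fun _ => φT) fun _ _ c => by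
    obtain ⟨GL', hGL⟩ := hmk U Algebra.TensorProduct.includeLeft
    obtain ⟨GR, hGR⟩ := hmk U Algebra.TensorProduct.includeRight
    have hG : GL' = GR := hom_eq_of_isotrivial I hflat h0 U eU GL' GR fun c => by
      rw [hGL, hGR, show push B Algebra.TensorProduct.includeLeft (φT ((1 : T) ⊗ₜ[A] c)) -
          push B Algebra.TensorProduct.includeRight (φT ((1 : T) ⊗ₜ[A] c)) =
        push B (Algebra.TensorProduct.includeLeft : T →ₐ[A] U) (φT ((1 : T) ⊗ₜ[A] c) - (1 : T) ⊗ₜ[A] b c) -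
          push B (Algebra.TensorProduct.includeRight : T →ₐ[A] U) (φT ((1 : T) ⊗ₜ[A] c) - (1 : T) ⊗ₜ[A] b c) by
        rw [map_sub, map_sub, push_tmul, push_tmul, map_one, map_one, sub_sub_sub_cancel_right]]
      exact sub_mem (map_mem I _ (hφT c)) (map_mem I _ (hφT c))
    have h1 := DFunLike.congr_fun hG ((1 : U) ⊗ₜ[A] c)
    rw [hGL, hGR] at h1
    exact h1
  refine ⟨φ, fun c => ?_⟩
  rw [hb, one_tmul_eq_iff, ← Ideal.Quotient.eq_zero_iff_mem]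
  let q : B →ₐ[A] B ⧸ I.map (algebraMap A B) := Ideal.Quotient.mkₐ A _
  refine eq_of_one_tmul (R := A) T (M := B ⧸ I.map (algebraMap A B)) (b := 0) ?_
  rw [TensorProduct.tmul_zero]
  have h1 := hφT c
  rw [hφ PUnit.unit c, ← TensorProduct.tmul_sub] at h1
  have h2 := map_mem I ((Algebra.TensorProduct.map (AlgHom.id A T) q)) h1
  have hbot : I.map (algebraMap A (T ⊗[A] (B ⧸ I.map (algebraMap A B)))) = ⊥ := by
    rw [← (Algebra.TensorProduct.includeRight : (B ⧸ I.map (algebraMap A B)) →ₐ[A] _).comp_algebraMap, ← Ideal.map_map,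
      IsScalarTower.algebraMap_eq A B (B ⧸ I.map (algebraMap A B)), ← Ideal.map_map, Ideal.Quotient.algebraMap_eq,
      Ideal.map_quotient_self, Ideal.map_bot]
  rw [hbot, Ideal.mem_bot, Algebra.TensorProduct.map_tmul, ← neg_sub, map_neg, TensorProduct.tmul_neg, neg_eq_zero] at h2
  exact h2

end Groth.Agent.IsoTriv
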