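import Groth.Agent.SGA3bLib.MonoDiag
import Mathlib.RingTheory.HopfAlgebra.TensorProduct
import Mathlib.RingTheory.Ideal.IdempotentFG

/-! A split Hopf quotient with trivial conormal space at the identity is cut out by an idempotent. -/

universe u

open TensorProduct Coalgebra

namespace Groth.Agent.IsoTriv

open SGA3bLib

variable {A : Type u} [CommRing A] {C : Type u} [CommRing C] [HopfAlgebra A C] {B : Type u} [CommRing B]
  [HopfAlgebra A B]

/-- If the kernel `K` of a split surjection of Hopf algebras equals `aug * K`, then `K = K²`. -/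
theorem ker_le_sq (Φ : C →ₐc[A] B) (s : B →ₗ[A] C) (hs : ∀ b, Φ (s b) = b)
    (hK : RingHom.ker (Φ : C →ₐ[A] B) ≤
      RingHom.ker (Bialgebra.counitAlgHom A C) * RingHom.ker (Φ : C →ₐ[A] B)) :
    RingHom.ker (Φ : C →ₐ[A] B) ≤ RingHom.ker (Φ : C →ₐ[A] B) * RingHom.ker (Φ : C →ₐ[A] B) := by
  set K := RingHom.ker (Φ : C →ₐ[A] B)
  have hKmem : ∀ x, x ∈ K ↔ Φ x = 0 := fun x => Iff.rfl
  let σ : C →ₗ[A] C := s ∘ₗ (Φ : C →ₐ[A] B).toLinearMap
  let p : C →ₗ[A] C := LinearMap.id - σ
  have hσ : ∀ x, σ x = s (Φ x) := fun _ => rfl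
  have hp : ∀ x, p x ∈ K := fun x => by
    rw [hKmem]
    show Φ (x - s (Φ x)) = 0
    rw [map_sub, hs, sub_self]
  have hσK : ∀ x ∈ K, σ x = 0 := fun x hx => by rw [hσ, (hKmem x).mp hx, map_zero]
  have hpK : ∀ x ∈ K, p x = x := fun x hx => by
    show x - σ x = x
    rw [hσK x hx, sub_zero]
  let mk : C →ₗ[A] C ⧸ (K * K) := (Ideal.Quotient.mkₐ A (K * K)).toLinearMap
  let Γ : C ⊗[A] C →ₗ[A] C ⧸ (K * K) :=
    mk ∘ₗ (LinearMap.mul' A C) ∘ₗ TensorProduct.map σ p
  have hΓ : ∀ c d, Γ (c ⊗ₜ[A] d) = Ideal.Quotient.mk (K * K) (σ c * p d) := fun _ _ => rfl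
  have hΓl : ∀ k ∈ K, ∀ w : C ⊗[A] C, Γ (w * (k ⊗ₜ[A] (1 : C))) = 0 := by
    intro k hk w
    induction w using TensorProduct.induction_on with
    | zero => simp
    | tmul a b =>
      rw [Algebra.TensorProduct.tmul_mul_tmul, hΓ, hσK _ (K.mul_mem_left a hk), zero_mul, map_zero]
    | add x y hx hy => rw [add_mul, map_add, hx, hy, add_zero]
  have hΓl' : ∀ k ∈ K, ∀ d : C, ∀ w : C ⊗[A] C, Γ (w * (k ⊗ₜ[A] d)) = 0 := by
    intro k hk d w
    rw [show (k ⊗ₜ[A] d : C ⊗[A] C) = ((1 : C) ⊗ₜ[A] d) * (k ⊗ₜ[A] 1) by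
      rw [Algebra.TensorProduct.tmul_mul_tmul, one_mul, mul_one], ← mul_assoc]
    exact hΓl k hk _
  have hΓr : ∀ k ∈ K, ∀ y : C, ∀ w : C ⊗[A] C,
      Γ (w * (y ⊗ₜ[A] k)) = Ideal.Quotient.mk (K * K) (LinearMap.mul' A C w * (y * k)) := by
    intro k hk y w
    induction w using TensorProduct.induction_on with
    | zero => simp
    | tmul a b =>
      rw [Algebra.TensorProduct.tmul_mul_tmul, hΓ, hpK _ (K.mul_mem_left b hk), LinearMap.mul'_apply,
        Ideal.Quotient.eq]
      rw [show σ (a * y) * (b * k) - a * b * (y * k) = -((a * y - σ (a * y)) * (b * k)) by ring]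
      exact neg_mem (Ideal.mul_mem_mul (hp _) (K.mul_mem_left b hk))
    | add x z hx hz => rw [add_mul, map_add, hx, hz, map_add, add_mul, map_add]
  have hS : ∀ x ∈ K, HopfAlgebra.antipode A x ∈ K := fun x hx => by
    rw [hKmem, map_antipode Φ x, (hKmem x).mp hx, map_zero]
  have hdec : ∀ x ∈ K, comul (R := A) x = TensorProduct.map p LinearMap.id (comul x) + TensorProduct.map σ p (comul x) := by
    intro x hx
    have h1 : ∀ z : C ⊗[A] C, TensorProduct.map p LinearMap.id z + TensorProduct.map σ p z +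
        TensorProduct.map s s (TensorProduct.map (Φ : C →ₐ[A] B).toLinearMap (Φ : C →ₐ[A] B).toLinearMap z) = z := by
      intro z
      induction z using TensorProduct.induction_on with
      | zero => simp
      | tmul a b =>
        show p a ⊗ₜ[A] b + σ a ⊗ₜ[A] p b + σ a ⊗ₜ[A] σ b = a ⊗ₜ[A] b
        rw [add_assoc, ← TensorProduct.tmul_add, show p b + σ b = b from sub_add_cancel b _, ← TensorProduct.add_tmul,
          show p a + σ a = a from sub_add_cancel a _]
      | add y z hy hz =>
        simp only [map_add]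
        conv_rhs => rw [← hy, ← hz]
        abel
    have h2 : TensorProduct.map (Φ : C →ₐ[A] B).toLinearMap (Φ : C →ₐ[A] B).toLinearMap (comul (R := A) x) = 0 := by
      refine Eq.trans (CoalgHomClass.map_comp_comul_apply Φ x) ?_
      rw [(hKmem x).mp hx, map_zero]
    conv_lhs => rw [← h1 (comul x)]
    rw [h2, map_zero, add_zero]
  let θ₂ : C →ₐ[A] C ⊗[A] C :=
    (Algebra.TensorProduct.map (HopfAlgebra.antipodeAlgHom A C) (AlgHom.id A C)).comp (Bialgebra.comulAlgHom A C)
  let θ : C ⊗[A] C →ₐ[A] C ⊗[A] C :=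
    Algebra.TensorProduct.lift Algebra.TensorProduct.includeLeft θ₂ fun _ _ => Commute.all _ _
  have hθ : ∀ c d, θ (c ⊗ₜ[A] d) = (c ⊗ₜ[A] (1 : C)) * θ₂ d := fun c d => by simp [θ]
  have hθ₂ : ∀ d, θ₂ d = TensorProduct.map (HopfAlgebra.antipode A) LinearMap.id (comul (R := A) d) := by
    intro d
    show Algebra.TensorProduct.map (HopfAlgebra.antipodeAlgHom A C) (AlgHom.id A C) (comul (R := A) d) = _
    generalize comul (R := A) d = z
    induction z using TensorProduct.induction_on with
    | zero => simp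
    | tmul a b => rfl
    | add y z hy hz => rw [map_add, map_add, hy, hz]
  have hmθ : ∀ c d, LinearMap.mul' A C (θ (c ⊗ₜ[A] d)) = c * algebraMap A C (counit d) := by
    intro c d
    have hm : ∀ z : C ⊗[A] C, LinearMap.mul' A C ((c ⊗ₜ[A] (1 : C)) * z) = c * LinearMap.mul' A C z := fun z => by
      induction z using TensorProduct.induction_on with
      | zero => simp
      | tmul a b => simp [mul_assoc]
      | add y z hy hz => rw [mul_add, map_add, map_add, hy, hz, mul_add]
    rw [hθ, hm, hθ₂]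
    congr 1
    exact HopfAlgebra.mul_antipode_rTensor_comul_apply d
  have hθK : ∀ k ∈ K, ∀ w : C ⊗[A] C,
      LinearMap.mul' A C w = 0 → Γ (w * θ₂ k) = 0 := by
    intro k hk w hw
    rw [hθ₂, hdec k hk, map_add, mul_add, map_add]
    have e1 : ∀ z : C ⊗[A] C, Γ (w * TensorProduct.map (HopfAlgebra.antipode A) LinearMap.id
        (TensorProduct.map p LinearMap.id z)) = 0 := fun z => by
      induction z using TensorProduct.induction_on with
      | zero => simp
      | tmul a b => exact hΓl' _ (hS _ (hp a)) b w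
      | add y z hy hz => simp only [map_add, mul_add, hy, hz, add_zero]
    have e2 : ∀ z : C ⊗[A] C, Γ (w * TensorProduct.map (HopfAlgebra.antipode A) LinearMap.id
        (TensorProduct.map σ p z)) = 0 := fun z => by
      induction z using TensorProduct.induction_on with
      | zero => simp
      | tmul a b =>
        refine (hΓr _ (hp b) _ w).trans ?_
        rw [hw, zero_mul, map_zero]
      | add y z hy hz => simp only [map_add, mul_add, hy, hz, add_zero]
    rw [e1, e2, add_zero]
  have hθd : ∀ d ∈ RingHom.ker (Bialgebra.counitAlgHom A C) * K, ∀ c, Γ (θ (c ⊗ₜ[A] d)) = 0 := by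
    intro d hd c
    induction hd using Submodule.mul_induction_on' with
    | mem_mul_mem a ha k hk =>
      rw [show (c ⊗ₜ[A] (a * k) : C ⊗[A] C) = (c ⊗ₜ[A] a) * ((1 : C) ⊗ₜ[A] k) by
        rw [Algebra.TensorProduct.tmul_mul_tmul, mul_one], map_mul, hθ 1 k, ← Algebra.TensorProduct.one_def, one_mul]
      refine hθK k hk _ ?_
      rw [hmθ, show counit (R := A) a = 0 from ha, map_zero, mul_zero]
    | add y _ z _ hy hz => rw [TensorProduct.tmul_add, map_add, map_add, hy, hz, add_zero]
  intro x hx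
  have hfix : θ (comul (R := A) x) = (1 : C) ⊗ₜ[A] x := by
    have h1 : ∀ z : C ⊗[A] C, θ z = LinearMap.rTensor C (LinearMap.mul' A C ∘ₗ LinearMap.lTensor C (HopfAlgebra.antipode A))
        ((TensorProduct.assoc A C C C).symm (LinearMap.lTensor C (comul (R := A)) z)) := fun z => by
      induction z using TensorProduct.induction_on with
      | zero => simp
      | tmul c d =>
        rw [hθ, hθ₂, LinearMap.lTensor_tmul]
        generalize comul (R := A) d = t
        induction t using TensorProduct.induction_on with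
        | zero => simp
        | tmul a b => simp
        | add y z hy hz => simp only [map_add, TensorProduct.tmul_add, mul_add, hy, hz]
      | add y z hy hz => simp only [map_add, hy, hz]
    rw [h1, Coalgebra.coassoc_symm_apply, ← LinearMap.rTensor_comp_apply, LinearMap.comp_assoc,
      show LinearMap.mul' A C ∘ₗ LinearMap.lTensor C (HopfAlgebra.antipode A) ∘ₗ comul =
        (Algebra.linearMap A C) ∘ₗ counit from LinearMap.ext fun y => HopfAlgebra.mul_antipode_lTensor_comul_apply y,
      LinearMap.rTensor_comp_apply, Coalgebra.rTensor_counit_comul]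
    simp
  have h0 : Γ (θ (comul (R := A) x)) = 0 := by
    rw [hdec x hx, map_add, map_add]
    have e1 : ∀ z : C ⊗[A] C, Γ (θ (TensorProduct.map p LinearMap.id z)) = 0 := fun z => by
      induction z using TensorProduct.induction_on with
      | zero => simp
      | tmul a b =>
        show Γ (θ (p a ⊗ₜ[A] b)) = 0
        rw [hθ]
        refine (congrArg Γ (mul_comm _ _)).trans ?_
        exact hΓl _ (hp a) _
      | add y z hy hz => simp only [map_add, hy, hz, add_zero]
    have e2 : ∀ z : C ⊗[A] C, Γ (θ (TensorProduct.map σ p z)) = 0 := fun z => by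
      induction z using TensorProduct.induction_on with
      | zero => simp
      | tmul a b => exact hθd _ (hK (hp b)) _
      | add y z hy hz => simp only [map_add, hy, hz, add_zero]
    rw [e1, e2, add_zero]
  rw [hfix, ← one_mul ((1 : C) ⊗ₜ[A] x), hΓr x hx 1] at h0
  refine Ideal.Quotient.eq_zero_iff_mem.mp ?_
  simpa [Algebra.TensorProduct.one_def] using h0

theorem exists_idempotent_ker [IsNoetherianRing C] (Φ : C →ₐc[A] B) (s : B →ₗ[A] C) (hs : ∀ b, Φ (s b) = b)
    (hK : RingHom.ker (Φ : C →ₐ[A] B) ≤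
      RingHom.ker (Bialgebra.counitAlgHom A C) * RingHom.ker (Φ : C →ₐ[A] B)) :
    ∃ e : C, IsIdempotentElem e ∧ RingHom.ker (Φ : C →ₐ[A] B) = Ideal.span {e} :=
  (Ideal.isIdempotentElem_iff_of_fg _ (IsNoetherian.noetherian _)).mp
    (le_antisymm Ideal.mul_le_left (ker_le_sq Φ s hs hK))

end Groth.Agent.IsoTriv
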