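import Groth.Agent.IsoTriv.Complete
import Groth.Agent.IsoTriv.QuotIdem
import Mathlib.RingTheory.Nakayama
import Mathlib.RingTheory.FiniteType

/-! The maximal diagonalisable subgroup over a complete ring, split case. -/

universe u

open TensorProduct

namespace Groth.Agent.IsoTriv

open SGA3bLib

variable {A : Type u} [CommRing A] {C : Type u} [CommRing C] [HopfAlgebra A C] {N : Type u} [CommGroup N]

theorem one_tmul_eq_zero_iff (J : Ideal A) (x : C) :
    ((1 : A ⧸ J) ⊗ₜ[A] x) = 0 ↔ x ∈ J.map (algebraMap A C) := by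
  constructor
  · intro h
    have := mem_map_of_one_tmul (R := A) (I := J) (x := x) (y := 0) (by rw [h, TensorProduct.tmul_zero])
    rwa [sub_zero] at this
  · intro h
    have hle : J.map (algebraMap A C) ≤
        RingHom.ker (Algebra.TensorProduct.includeRight : C →ₐ[A] (A ⧸ J) ⊗[A] C) :=
      Ideal.map_le_iff_le_comap.mpr fun a ha => by
        show (1 : A ⧸ J) ⊗ₜ[A] (algebraMap A C a) = 0
        rw [Algebra.algebraMap_eq_smul_one, TensorProduct.tmul_smul, TensorProduct.smul_tmul', Algebra.smul_def,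
          Ideal.Quotient.algebraMap_eq, Ideal.Quotient.eq_zero_iff_mem.mpr ha, zero_mul, TensorProduct.zero_tmul]
    exact hle h

variable (I : Ideal A) [IsNoetherianRing A] [IsAdicComplete I A]

theorem exists_algebraisation (hflat : ∀ n : ℕ, Module.Flat (A ⧸ I ^ n) ((A ⧸ I ^ n) ⊗[A] C))
    (h0 : (A ⧸ I) ⊗[A] C ≃ₐc[A ⧸ I] MonoidAlgebra (A ⧸ I) N) :
    ∃ Φ : C →ₐc[A] MonoidAlgebra A N, Function.Surjective Φ ∧
      ∀ x : C, Φ x = 0 ↔ ∀ n : ℕ, x ∈ (I ^ n).map (algebraMap A C) := by
  obtain ⟨e, he⟩ := exists_levels I hflat h0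
  obtain ⟨Φ, hΦ⟩ := exists_hom_of_formal I
    (fun n => (e n : (A ⧸ I ^ n) ⊗[A] C →ₐc[A ⧸ I ^ n] MonoidAlgebra (A ⧸ I ^ n) N)) he
  refine ⟨Φ, fun y => ?_, fun x => ?_⟩
  · have hsurj : ∀ m : N, ∃ c : C, Φ c = MonoidAlgebra.single m 1 := by
      intro m
      obtain ⟨z, hz⟩ := (e 1).toAlgEquiv.surjective (MonoidAlgebra.single m 1)
      obtain ⟨c, rfl⟩ : ∃ c : C, (1 : A ⧸ I ^ 1) ⊗ₜ[A] c = z := by
        clear hz
        induction z using TensorProduct.induction_on with
        | zero => exact ⟨0, TensorProduct.tmul_zero _ _⟩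
        | tmul a c =>
          obtain ⟨r, rfl⟩ := Ideal.Quotient.mk_surjective a
          exact ⟨r • c, by rw [TensorProduct.tmul_smul, TensorProduct.smul_tmul', Algebra.smul_def, mul_one]; rfl⟩
        | add a b ha hb =>
          obtain ⟨a, rfl⟩ := ha
          obtain ⟨b, rfl⟩ := hb
          exact ⟨a + b, TensorProduct.tmul_add _ _ _⟩
      have h1 := congrArg (coef m) ((hΦ 1 c).trans hz)
      rw [coef_mapRingHom] at h1
      classical
      rw [coef_single, if_pos rfl] at h1
      have hu : IsUnit (coef m (Φ c)) := by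
        have hmem : coef m (Φ c) - 1 ∈ I := by
          rw [← pow_one I, ← Ideal.Quotient.eq_zero_iff_mem, map_sub, h1, map_one, sub_self]
        have := IsAdicComplete.le_jacobson_bot I hmem
        rw [Ideal.mem_jacobson_bot] at this
        simpa using this 1
      obtain ⟨d, hd⟩ := single_coeff_mem_range Φ c m
      obtain ⟨u, hu⟩ := hu
      refine ⟨((u⁻¹ : Aˣ) : A) • d, ?_⟩
      rw [map_smul, show Φ d = MonoidAlgebra.single m ((Φ c).coeff m) from hd, ← coef_apply, ← hu]
      simp
    induction y using MonoidAlgebra.induction_linear with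
    | zero => exact ⟨0, map_zero _⟩
    | add a b ha hb =>
      obtain ⟨a, rfl⟩ := ha
      obtain ⟨b, rfl⟩ := hb
      exact ⟨a + b, map_add _ _ _⟩
    | single m r =>
      obtain ⟨c, hc⟩ := hsurj m
      exact ⟨r • c, by rw [map_smul, hc]; simp⟩
  · constructor
    · intro hx n
      rw [← one_tmul_eq_zero_iff]
      apply (e n).toAlgEquiv.injective
      rw [map_zero]
      refine (hΦ n x).symm.trans ?_
      rw [hx, map_zero]
    · intro hx
      refine ext_level I fun n => ?_
      rw [hΦ, (one_tmul_eq_zero_iff _ x).mpr (hx n), map_zero, map_zero]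

theorem exists_idempotent_split (hft : Algebra.FiniteType A C)
    (hflat : ∀ n : ℕ, Module.Flat (A ⧸ I ^ n) ((A ⧸ I ^ n) ⊗[A] C))
    (h0 : (A ⧸ I) ⊗[A] C ≃ₐc[A ⧸ I] MonoidAlgebra (A ⧸ I) N) :
    ∃ Φ : C →ₐc[A] MonoidAlgebra A N, Function.Surjective Φ ∧
      (∀ x : C, Φ x = 0 ↔ ∀ n : ℕ, x ∈ (I ^ n).map (algebraMap A C)) ∧
      ∃ e : C, IsIdempotentElem e ∧ RingHom.ker (Φ : C →ₐ[A] MonoidAlgebra A N) = Ideal.span {e} := by
  obtain ⟨Φ, hΦ, hker⟩ := exists_algebraisation I hflat h0
  refine ⟨Φ, hΦ, hker, ?_⟩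
  have : IsNoetherianRing C := Algebra.FiniteType.isNoetherianRing A C
  set K := RingHom.ker (Φ : C →ₐ[A] MonoidAlgebra A N)
  let Bs : Module.Basis N A (MonoidAlgebra A N) := Module.Basis.ofRepr (MonoidAlgebra.coeffLinearEquiv A)
  choose c hc using fun m => hΦ (Bs m)
  let s : MonoidAlgebra A N →ₗ[A] C := Bs.constr A c
  have hs : ∀ b, Φ (s b) = b := fun b => LinearMap.congr_fun
    (show (Φ : C →ₐ[A] MonoidAlgebra A N).toLinearMap ∘ₗ s = LinearMap.id from Bs.ext fun m => by
      show Φ (s (Bs m)) = Bs m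
      rw [show s (Bs m) = c m from Bs.constr_basis A c m, hc]) b
  refine exists_idempotent_ker Φ s hs ?_
  have hIK : K ≤ I.map (algebraMap A C) • K := by
    intro x hx
    have hxI : x ∈ I • (⊤ : Submodule A C) := by
      rw [Ideal.smul_top_eq_map]
      have := (hker x).mp hx 1
      rwa [pow_one] at this
    have hp : ∀ y, y - s (Φ y) ∈ K := fun y => by
      show Φ (y - s (Φ y)) = 0
      rw [map_sub, hs, sub_self]
    have : x - s (Φ x) ∈ I.map (algebraMap A C) • K := by
      clear hx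
      induction hxI using Submodule.smul_induction_on' with
      | smul r hr y _ =>
        rw [map_smul, map_smul, ← smul_sub, ← algebraMap_smul C r]
        exact Submodule.smul_mem_smul (Ideal.mem_map_of_mem (algebraMap A C) hr) (hp y)
      | add y _ z _ hy hz =>
        rw [map_add, map_add, add_sub_add_comm]
        exact add_mem hy hz
    rwa [show Φ x = 0 from hx, map_zero, sub_zero] at this
  obtain ⟨r, hr1, hr⟩ := Submodule.exists_sub_one_mem_and_smul_eq_zero_of_fg_of_le_smul
    (I.map (algebraMap A C)) K (IsNoetherian.noetherian _) hIK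
  intro x hx
  set ε := Bialgebra.counitAlgHom A C
  have hu : IsUnit (ε r) := by
    have hmem : ε r - 1 ∈ I := by
      have := Ideal.mem_map_of_mem (ε : C →+* A) hr1
      rw [Ideal.map_map, map_sub, map_one] at this
      rwa [show (ε : C →+* A).comp (algebraMap A C) = RingHom.id A from RingHom.ext fun a => ε.commutes a,
        Ideal.map_id] at this
    have := IsAdicComplete.le_jacobson_bot I hmem
    rw [Ideal.mem_jacobson_bot] at this
    simpa using this 1
  obtain ⟨u, hu⟩ := hu
  have h := hr x hx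
  have hx' : x = ((r - algebraMap A C (ε r)) * (-algebraMap A C ((u⁻¹ : Aˣ) : A))) * x := by
    rw [smul_eq_mul] at h
    have hinv : algebraMap A C (ε r) * algebraMap A C ((u⁻¹ : Aˣ) : A) = 1 := by
      rw [← map_mul, ← hu, Units.mul_inv, map_one]
    linear_combination (-x) * hinv + (algebraMap A C ((u⁻¹ : Aˣ) : A)) * h
  rw [hx']
  refine Ideal.mul_mem_mul (Ideal.mul_mem_right _ _ ?_) hx
  rw [RingHom.mem_ker, map_sub, AlgHom.commutes]
  exact sub_self _

end Groth.Agent.IsoTriv
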