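import Groth.Agent.IsoTriv.HenselianHom
import Groth.Agent.IsoTriv.HenselianIso
import Groth.Agent.IsoTriv.CompleteConn
import Groth.Agent.IsoTriv.FieldSplit
import Groth.Agent.IsoTriv.CompleteFlat
import Mathlib.RingTheory.Unramified.Field
import Mathlib.RingTheory.AdicCompletion.LocalRing
import Mathlib.RingTheory.Filtration

/-! Homomorphisms into groups of multiplicative type descend from the completion. -/

universe u

open TensorProduct

namespace Groth.Agent.IsoTriv

open SGA3bLib

/-- Two groups of multiplicative type over a field split over one finite separable extension. -/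
theorem exists_common_split {k : Type u} [Field k] {H₁ H₂ : Type u} [CommRing H₁] [HopfAlgebra k H₁] [CommRing H₂]
    [HopfAlgebra k H₂] (hft₁ : Algebra.FiniteType k H₁) (h₁ : SGA3b.IsMultTypeConst k H₁)
    (hft₂ : Algebra.FiniteType k H₂) (h₂ : SGA3b.IsMultTypeConst k H₂) :
    ∃ (k' : Type u) (_ : Field k') (_ : Algebra k k'), Module.Finite k k' ∧ Algebra.IsSeparable k k' ∧
      (∃ (N : Type u) (_ : CommGroup N), Group.FG N ∧ Nonempty (k' ⊗[k] H₁ ≃ₐc[k'] MonoidAlgebra k' N)) ∧
      (∃ (N : Type u) (_ : CommGroup N), Group.FG N ∧ Nonempty (k' ⊗[k] H₂ ≃ₐc[k'] MonoidAlgebra k' N)) := by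
  obtain ⟨k₁, _, _, _, _, N₁, _, hN₁, ⟨e₁⟩⟩ := exists_splitting hft₁ h₁
  obtain ⟨k₂, _, _, _, _, N₂, _, hN₂, ⟨e₂⟩⟩ := exists_splitting hft₂ h₂
  obtain ⟨M, hM⟩ := Ideal.exists_maximal (k₁ ⊗[k] k₂)
  let k' := (k₁ ⊗[k] k₂) ⧸ M
  letI : Field k' := Ideal.Quotient.field M
  let f₁ : k₁ →ₐ[k] k' := (Ideal.Quotient.mkₐ k M).comp Algebra.TensorProduct.includeLeft
  let f₂ : k₂ →ₐ[k] k' := (Ideal.Quotient.mkₐ k M).comp Algebra.TensorProduct.includeRight
  letI : Algebra k₂ k' := f₂.toRingHom.toAlgebra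
  have : IsScalarTower k k₂ k' := .of_algebraMap_eq fun r => (f₂.commutes r).symm
  have : Algebra.FormallyUnramified k k₁ := Algebra.FormallyUnramified.of_isSeparable k k₁
  have : Algebra.FormallyUnramified k k₂ := Algebra.FormallyUnramified.of_isSeparable k k₂
  have : Algebra.FormallyUnramified k (k₁ ⊗[k] k₂) := Algebra.FormallyUnramified.comp k k₁ _
  have hfin : Module.Finite k k' :=
    Module.Finite.of_surjective (Ideal.Quotient.mkₐ k M).toLinearMap Ideal.Quotient.mk_surjective
  have : Algebra.FormallyUnramified k k' :=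
    Algebra.FormallyUnramified.of_surjective (Ideal.Quotient.mkₐ k M) Ideal.Quotient.mk_surjective
  refine ⟨k', inferInstance, inferInstance, hfin, Algebra.FormallyUnramified.isSeparable k k', ?_,
    ⟨N₂, inferInstance, hN₂, ⟨bcTriv e₂⟩⟩⟩
  have : IsScalarTower k k₁ k' := .of_algebraMap_eq fun r => (f₁.commutes r).symm
  exact ⟨N₁, inferInstance, hN₁, ⟨bcTriv e₁⟩⟩

/-- An element lies in the base as soon as it is defined over two extensions, one being finite free. -/
theorem exists_eq_one_tmul_of_two {A : Type u} [CommRing A] {P Q : Type u} [CommRing P] [CommRing Q] [Algebra A P]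
    [Algebra A Q] [Module.Finite A Q] [Module.FaithfullyFlat A Q] [Module.FinitePresentation A Q]
    {B : Type u} [AddCommGroup B] [Module A B] {x : P ⊗[A] B} {y : Q ⊗[A] B}
    (h : (Algebra.TensorProduct.includeLeft : P →ₐ[A] P ⊗[A] Q).toLinearMap.rTensor B x =
      (Algebra.TensorProduct.includeRight : Q →ₐ[A] P ⊗[A] Q).toLinearMap.rTensor B y) :
    ∃ b : B, x = (1 : P) ⊗ₜ[A] b := by
  have : Module.Projective A Q := Module.Flat.projective_of_finitePresentation
  have hs : ∃ r : Q →ₗ[A] A, r 1 = 1 := by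
    let J : Ideal A := LinearMap.range (LinearMap.applyₗ (R := A) (M₂ := A) (1 : Q))
    suffices hJ : (1 : A) ∈ J from hJ
    by_contra hne
    obtain ⟨m, hm, hle⟩ := Ideal.exists_le_maximal J (fun ht => hne (ht ▸ Submodule.mem_top))
    obtain ⟨s, hs⟩ := (Module.projective_def (R := A) (P := Q)).mp ‹_›
    have h1 : (1 : Q) ∈ m • (⊤ : Submodule A Q) := by
      rw [← hs 1, Finsupp.linearCombination_apply]
      exact Submodule.sum_mem _ fun q _ =>
        Submodule.smul_mem_smul (hle ⟨(Finsupp.lapply q).comp s, rfl⟩) Submodule.mem_top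
    refine Module.FaithfullyFlat.submodule_ne_top (M := Q) hm (Submodule.eq_top_iff'.mpr fun q => ?_)
    rw [Ideal.smul_top_eq_map] at h1 ⊢
    rw [← mul_one q]
    exact Ideal.mul_mem_left _ q h1
  obtain ⟨r, hr⟩ := hs
  let p : P ⊗[A] Q →ₗ[A] P := (TensorProduct.rid A P).toLinearMap ∘ₗ r.lTensor P
  refine ⟨TensorProduct.lid A B (r.rTensor B y), ?_⟩
  have h1 : ∀ x : P ⊗[A] B, p.rTensor B
      ((Algebra.TensorProduct.includeLeft : P →ₐ[A] P ⊗[A] Q).toLinearMap.rTensor B x) = x := fun x => by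
    induction x using TensorProduct.induction_on with
    | zero => simp
    | add a b ha hb => simp only [map_add, ha, hb]
    | tmul a b => simp [p, hr]
  have h2 : ∀ y : Q ⊗[A] B, p.rTensor B
      ((Algebra.TensorProduct.includeRight : Q →ₐ[A] P ⊗[A] Q).toLinearMap.rTensor B y) =
        (1 : P) ⊗ₜ[A] TensorProduct.lid A B (r.rTensor B y) := fun y => by
    induction y using TensorProduct.induction_on with
    | zero => simp
    | add a b ha hb => simp only [map_add, TensorProduct.tmul_add, ha, hb]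
    | tmul a b => simp [p, TensorProduct.smul_tmul, TensorProduct.tmul_smul]
  rw [← h1 x, h, h2]

/-- A bialgebra map killing the kernel of a surjection factors through it. -/
theorem exists_bialgHom_factor {T X Y Z : Type u} [CommRing T] [CommRing X] [HopfAlgebra T X] [CommRing Y]
    [HopfAlgebra T Y] [CommRing Z] [HopfAlgebra T Z] (π : X →ₐc[T] Y) (hπ : Function.Surjective π) (η : X →ₐc[T] Z)
    (h : RingHom.ker (π : X →ₐ[T] Y) ≤ RingHom.ker (η : X →ₐ[T] Z)) :
    ∃ θ : Y →ₐc[T] Z, ∀ x, θ (π x) = η x := by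
  let f : Y →ₐ[T] Z := AlgHom.liftOfSurjective (π : X →ₐ[T] Y) hπ (η : X →ₐ[T] Z) h
  have hf : ∀ x, f (π x) = η x := fun x => AlgHom.liftOfSurjective_apply _ hπ _ h x
  have hlin : f.toLinearMap ∘ₗ (π : X →ₐ[T] Y).toLinearMap = (η : X →ₐ[T] Z).toLinearMap := LinearMap.ext hf
  refine ⟨BialgHom.ofAlgHom f (AlgHom.ext fun y => ?_) (AlgHom.ext fun y => ?_), hf⟩
  · obtain ⟨x, rfl⟩ := hπ y
    show Coalgebra.counit (R := T) (f (π x)) = Coalgebra.counit (π x)
    rw [hf, CoalgHomClass.counit_comp_apply, CoalgHomClass.counit_comp_apply]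
  · obtain ⟨x, rfl⟩ := hπ y
    show TensorProduct.map f.toLinearMap f.toLinearMap (Coalgebra.comul (π x)) = Coalgebra.comul (f (π x))
    rw [hf, ← CoalgHomClass.map_comp_comul_apply π x, ← CoalgHomClass.map_comp_comul_apply η x,
      TensorProduct.map_map]
    exact congrArg (fun g => TensorProduct.map g g (Coalgebra.comul x)) hlin

/-- Maps into a group algebra over a local algebra are defined over the base if they kill the extra component. -/
theorem exists_descend_groupAlg {A C : Type u} [CommRing A] [CommRing C] [HopfAlgebra A C] (I : Ideal A)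
    {N M : Type u} [CommGroup N] [CommGroup M] (Φ : C →ₐc[A] MonoidAlgebra A N) (hΦ : Function.Surjective Φ) {e : C}
    (he : IsIdempotentElem e) (hem : e ∈ I.map (algebraMap A C))
    (hker : RingHom.ker (Φ : C →ₐ[A] MonoidAlgebra A N) = Ideal.span {e})
    (T : Type u) [CommRing T] [IsNoetherianRing T] [IsLocalRing T] [Algebra A T]
    (hT : I.map (algebraMap A T) ≤ IsLocalRing.maximalIdeal T) (η : T ⊗[A] C →ₐc[T] MonoidAlgebra T M) :
    ∃ f : N →* M, ∀ c, η ((1 : T) ⊗ₜ[A] c) =
      MonoidAlgebra.mapRingHom M (algebraMap A T) (MonoidAlgebra.mapDomainBialgHom A f (Φ c)) := by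
  classical
  set J := IsLocalRing.maximalIdeal T
  let π : T ⊗[A] C →ₐc[T] MonoidAlgebra T N :=
    (monoidBC (T := A) T N : _ →ₐc[T] MonoidAlgebra T N).comp (bcHom T Φ)
  have hπ : Function.Surjective π :=
    (monoidBC (T := A) T N).toAlgEquiv.surjective.comp (bcHom_surjective T Φ hΦ)
  let ι : C →ₐ[A] T ⊗[A] C := Algebra.TensorProduct.includeRight
  have hηe : η (ι e) = 0 := by
    have hid : IsIdempotentElem (η (ι e)) := (he.map ι).map (η : T ⊗[A] C →ₐ[T] MonoidAlgebra T M)
    have h1 : η (ι e) ∈ J.map (algebraMap T (MonoidAlgebra T M)) := by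
      refine (?_ : I.map (algebraMap A C) ≤ ((J.map (algebraMap T (MonoidAlgebra T M))).comap
        (η : T ⊗[A] C →ₐ[T] MonoidAlgebra T M)).comap ι) hem
      refine Ideal.map_le_iff_le_comap.mpr fun a ha => ?_
      rw [Ideal.mem_comap, Ideal.mem_comap, Ideal.mem_comap, AlgHom.commutes,
        IsScalarTower.algebraMap_apply A T (T ⊗[A] C), AlgHom.commutes]
      exact Ideal.mem_map_of_mem _ (hT (Ideal.mem_map_of_mem _ ha))
    refine ext_coef fun m => ?_
    rw [map_zero]
    have h3 : coef m (η (ι e)) ∈ ⨅ n : ℕ, J ^ n := by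
      refine (Submodule.mem_iInf _).mpr fun n => ?_
      have h2 : η (ι e) ∈ (J ^ n).map (algebraMap T (MonoidAlgebra T M)) := by
        rcases n with _ | n
        · simp [Ideal.one_eq_top, Ideal.map_top]
        · rw [Ideal.map_pow, ← hid.pow_succ_eq n]
          exact Ideal.pow_mem_pow h1 _
      rw [← Submodule.restrictScalars_mem T, ← Ideal.smul_top_eq_map] at h2
      have h4 := Submodule.mem_map_of_mem (f := coef (R := T) m) h2
      rw [Submodule.map_smul''] at h4
      exact Ideal.mul_le_left (Submodule.smul_mono (le_refl (J ^ n)) (le_top (a := Submodule.map _ ⊤)) h4)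
    rwa [Ideal.iInf_pow_eq_bot_of_isLocalRing J (IsLocalRing.maximalIdeal.isMaximal T).ne_top, Ideal.mem_bot] at h3
  obtain ⟨θ, hθ⟩ := exists_bialgHom_factor π hπ η fun x hx => by
    have h1 : bcHom T Φ x = 0 :=
      (monoidBC (T := A) T N).toAlgEquiv.injective (hx.trans (map_zero (monoidBC (T := A) T N)).symm)
    have h2 : x ∈ RingHom.ker (bcHom T Φ : T ⊗[A] C →ₐ[T] T ⊗[A] MonoidAlgebra A N) := h1
    rw [ker_bcHom T Φ hΦ, hker, Ideal.map_span, Set.image_singleton, Ideal.mem_span_singleton] at h2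
    obtain ⟨w, rfl⟩ := h2
    show η (ι e * w) = 0
    rw [map_mul, hηe, zero_mul]
  have hconn : ∀ z : T, IsIdempotentElem z → z = 0 ∨ z = 1 := fun z hz => by
    rcases IsLocalRing.isUnit_or_isUnit_one_sub_self z with h | h
    · exact Or.inr ((IsIdempotentElem.iff_eq_one_of_isUnit h).mp hz)
    · exact Or.inl (by simpa using (IsIdempotentElem.iff_eq_one_of_isUnit h).mp hz.one_sub)
  have hg : ∀ n : N, ∃ m : M, θ (MonoidAlgebra.single n 1) = MonoidAlgebra.single m 1 := fun n =>
    exists_eq_single hconn ((MonoidAlgebra.isGroupLikeElem_single_one (A := T) (R := T) n).map θ)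
  choose f hf using hg
  let fh : N →* M :=
    { toFun := f
      map_one' := by
        have h := hf 1
        rw [← MonoidAlgebra.one_def, map_one, MonoidAlgebra.one_def] at h
        exact (MonoidAlgebra.single_left_injective one_ne_zero h.symm)
      map_mul' := fun a b => by
        have h := hf (a * b)
        rw [show MonoidAlgebra.single (a * b) (1 : T) = MonoidAlgebra.single a 1 * MonoidAlgebra.single b 1 by
          simp, map_mul, hf a, hf b, MonoidAlgebra.single_mul_single, one_mul] at h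
        exact (MonoidAlgebra.single_left_injective one_ne_zero h.symm) }
  refine ⟨fh, fun c => ?_⟩
  rw [← hθ]
  have hall : ∀ w : MonoidAlgebra A N, θ (MonoidAlgebra.mapRingHom N (algebraMap A T) w) =
      MonoidAlgebra.mapRingHom M (algebraMap A T) (MonoidAlgebra.mapDomainBialgHom A fh w) := by
    intro w
    induction w using MonoidAlgebra.induction_linear with
    | zero => simp
    | add a b ha hb => simp only [map_add, ha, hb]
    | single n r =>
      rw [MonoidAlgebra.mapRingHom_single, MonoidAlgebra.mapDomainBialgHom_single, MonoidAlgebra.mapRingHom_single,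
        show MonoidAlgebra.single n (algebraMap A T r) = algebraMap A T r • MonoidAlgebra.single n (1 : T) by simp [MonoidAlgebra.smul_single, Algebra.smul_def],
        map_smul, hf]
      simp [fh, MonoidAlgebra.smul_single, Algebra.smul_def]
  rw [← hall]
  refine congrArg θ ?_
  show monoidBC (T := A) T N (bcHom T Φ ((1 : T) ⊗ₜ[A] c)) = _
  rw [bcHom_tmul, monoidBC_one_tmul]

/-- The completion tensor a finite local extension with the same closed fibre is local. -/
theorem isLocalRing_completion_tmul {A : Type u} [CommRing A] [IsNoetherianRing A] [IsLocalRing A]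
    (Q : Type u) [CommRing Q] [IsLocalRing Q] [Algebra A Q] [Module.Finite A Q] [Module.FaithfullyFlat A Q]
    (hQ : (IsLocalRing.maximalIdeal A).map (algebraMap A Q) = IsLocalRing.maximalIdeal Q) :
    IsLocalRing (AdicCompletion (IsLocalRing.maximalIdeal A) A ⊗[A] Q) ∧
    ∀ q ∈ IsLocalRing.maximalIdeal Q,
      ¬ IsUnit (Algebra.TensorProduct.includeRight (A := AdicCompletion (IsLocalRing.maximalIdeal A) A) (R := A) q) := by
  classical
  set m := IsLocalRing.maximalIdeal A
  let P := AdicCompletion m A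
  have hmfg : m.FG := IsNoetherian.noetherian m
  let T := P ⊗[A] Q
  let ι : Q →ₐ[A] T := Algebra.TensorProduct.includeRight
  let mT : Ideal T := (m.map (algebraMap A P)).map (algebraMap P T)
  have hcomplete : IsAdicComplete (m.map (algebraMap A P)) P := AdicCompletion.isAdicComplete_self m hmfg
  have hjac : mT ≤ (⊥ : Ideal T).jacobson :=
    HenselLib.map_le_jacobson_of_isIntegral (IsAdicComplete.le_jacobson_bot _) T
  have hq : ∀ q ∈ IsLocalRing.maximalIdeal Q, ι q ∈ mT := fun q hq => by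
    rw [← hQ] at hq
    have h1 := Ideal.mem_map_of_mem (ι : Q →+* T) hq
    rw [Ideal.map_map] at h1
    rw [show mT = m.map ((ι : Q →+* T).comp (algebraMap A Q)) by
      rw [show mT = _ from Ideal.map_map _ _, AlgHom.comp_algebraMap, ← IsScalarTower.algebraMap_eq]]
    exact h1
  have hgen : ∀ x : T, ∃ q : Q, x - ι q ∈ mT := fun x => by
    induction x using TensorProduct.induction_on with
    | zero => exact ⟨0, by simp⟩
    | add a b ha hb =>
      obtain ⟨qa, ha⟩ := ha
      obtain ⟨qb, hb⟩ := hb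
      exact ⟨qa + qb, by rw [map_add, add_sub_add_comm]; exact add_mem ha hb⟩
    | tmul a q =>
      obtain ⟨r, hr⟩ := Ideal.Quotient.mk_surjective (AdicCompletion.evalOneₐ m a)
      have h1 : a - algebraMap A P r ∈ m.map (algebraMap A P) := by
        refine (SetLike.ext_iff.mp (AdicCompletion.ker_evalOneₐ_eq_map m hmfg) _).mp ?_
        show AdicCompletion.evalOneₐ m (a - algebraMap A P r) = 0
        rw [map_sub, AlgHom.commutes, ← hr]
        exact sub_self _
      refine ⟨r • q, ?_⟩
      have h2 : a ⊗ₜ[A] q - ι (r • q) = (a - algebraMap A P r) ⊗ₜ[A] q := by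
        rw [TensorProduct.sub_tmul, Algebra.TensorProduct.includeRight_apply, TensorProduct.tmul_smul,
          TensorProduct.smul_tmul', Algebra.algebraMap_eq_smul_one]
      rw [h2, show (a - algebraMap A P r) ⊗ₜ[A] q = algebraMap P T (a - algebraMap A P r) * ι q by
        show _ = ((a - algebraMap A P r) ⊗ₜ[A] (1 : Q)) * ((1 : P) ⊗ₜ[A] q)
        rw [Algebra.TensorProduct.tmul_mul_tmul, mul_one, one_mul]]
      exact Ideal.mul_mem_right _ _ (Ideal.mem_map_of_mem _ h1)
  have : Module.FaithfullyFlat P T := inferInstance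
  have : Nontrivial P := (AdicCompletion.evalOneₐ m).toRingHom.domain_nontrivial
  have : Nontrivial T := (FaithfulSMul.algebraMap_injective P T).nontrivial
  have hnu : ∀ x ∈ mT, ¬ IsUnit x := fun x hx hu => by
    obtain ⟨M, hM⟩ := Ideal.exists_maximal T
    exact hM.ne_top (Ideal.eq_top_of_isUnit_mem _ ((sInf_le (a := M) ⟨bot_le, hM⟩ : (⊥ : Ideal T).jacobson ≤ M) (hjac hx)) hu)
  refine ⟨IsLocalRing.of_isUnit_or_isUnit_one_sub_self fun x => ?_, fun q h => hnu _ (hq q h)⟩
  obtain ⟨q, hxq⟩ := hgen x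
  have hu : ∀ {x : T} {q : Q}, x - ι q ∈ mT → IsUnit q → IsUnit x := fun {x q} hxq hu => by
    have h1 : x * ι ↑hu.unit⁻¹ - 1 ∈ mT := by
      have : x * ι ↑hu.unit⁻¹ - 1 = (x - ι q) * ι ↑hu.unit⁻¹ := by
        rw [sub_mul, ← map_mul, IsUnit.mul_val_inv, map_one]
      exact this ▸ Ideal.mul_mem_right _ _ hxq
    exact isUnit_of_mul_isUnit_left (HenselLib.isUnit_of_sub_one_mem hjac h1)
  rcases IsLocalRing.isUnit_or_isUnit_one_sub_self q with h | h
  · exact Or.inl (hu hxq h)
  · refine Or.inr (hu (q := 1 - q) ?_ h)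
    rw [map_sub, map_one, sub_sub_sub_cancel_left, ← neg_sub]
    exact neg_mem hxq

variable {A : Type u} [CommRing A] [IsNoetherianRing A] [HenselianLocalRing A]
  {B : Type u} [CommRing B] [HopfAlgebra A B] {C : Type u} [CommRing C] [HopfAlgebra A C]

/-- Homomorphisms into groups of multiplicative type over the completion descend. -/
theorem exists_hom_of_completion (hGft : Algebra.FiniteType A B) (hG : SGA3b.IsMultType A B)
    (hHft : Algebra.FiniteType A C)
    (hfl : ∀ (q : Ideal C) [q.IsPrime], Ideal.map (algebraMap A C) (IsLocalRing.maximalIdeal A) ≤ q →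
      Module.Flat A (Localization.AtPrime q))
    (hs : SGA3b.IsMultType (IsLocalRing.ResidueField A) (IsLocalRing.ResidueField A ⊗[A] C))
    (φ' : (AdicCompletion (IsLocalRing.maximalIdeal A) A ⊗[A] C) →ₐc[AdicCompletion (IsLocalRing.maximalIdeal A) A]
      (AdicCompletion (IsLocalRing.maximalIdeal A) A ⊗[A] B)) :
    ∃ φ : C →ₐc[A] B, ∀ c : C, φ' ((1 : AdicCompletion (IsLocalRing.maximalIdeal A) A) ⊗ₜ[A] c) =
      (1 : AdicCompletion (IsLocalRing.maximalIdeal A) A) ⊗ₜ[A] (φ c) := by
  let m := IsLocalRing.maximalIdeal A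
  let k := IsLocalRing.ResidueField A
  let P := AdicCompletion m A
  have hmfg : m.FG := IsNoetherian.noetherian m
  have := CommAlg6.isLocalHom_completion A
  have : Module.FaithfullyFlat A P := Module.FaithfullyFlat.of_flat_of_isLocalHom
  have : IsNoetherianRing P := Matlis6.isNoetherianRing_adicCompletion _
  obtain ⟨k', _, _, hkfin, hksep, ⟨M', _, -, ⟨eB'⟩⟩, ⟨N, _, hN, ⟨eC'⟩⟩⟩ :=
    exists_common_split (k := k) (H₁ := k ⊗[A] B) (H₂ := k ⊗[A] C) inferInstance
      (isMultTypeConst_bc (isMultTypeConst_of_isLocalRing hG) k) inferInstance (isMultTypeConst_of_isLocalRing hs)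
  have := hkfin
  have := hksep
  obtain ⟨Q, _, _, θ, hloc, hfin, het, hff, hlθ, hθ, hker, hcomm⟩ := exists_local_lift (R := A) k'
  have := hloc
  have := hfin
  have := hff
  let : Algebra A k' := ((algebraMap k k').comp (algebraMap A k)).toAlgebra
  have : IsScalarTower A k k' := .of_algebraMap_eq fun _ => rfl
  let π : Q →ₐ[A] k' := { θ with commutes' := hcomm }
  have hQm : m.map (algebraMap A Q) = IsLocalRing.maximalIdeal Q := by
    rw [← hker]
    exact IsLocalRing.eq_maximalIdeal (RingHom.ker_isMaximal_of_surjective θ hθ)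
  have := henselianRing_maximal (R := A)
  have hQ : HenselianRing Q (m.map (algebraMap A Q)) := HenselLib.henselianRing_of_isIntegral m Q
  have : HenselianLocalRing Q := {
    is_henselian := fun f hf a₀ h₁ h₂ => by
      rw [← hQm] at h₁ ⊢
      exact hQ.is_henselian f hf a₀ h₁ (h₂.map _) }
  have : IsNoetherianRing Q := IsNoetherianRing.of_finite A Q
  have hlift : ∀ (D : Type u) [CommRing D] [Algebra A D] [Algebra.Etale A D] (σ : D →ₐ[A] k'),
      ∃ τ : D →ₐ[A] Q, π.comp τ = σ := by
    intro D _ _ _ σ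
    let e := (Ideal.quotientEquivAlgOfEq A hker.symm).trans
      (Ideal.quotientKerAlgEquivOfSurjective (f := π) hθ)
    obtain ⟨τ, hτ, -⟩ := HenselLib.existsUnique_lift (m.map (algebraMap A Q)) (e.symm.toAlgHom.comp σ)
    refine ⟨τ, AlgHom.ext fun d => ?_⟩
    have h1 := AlgHom.congr_fun hτ d
    have h2 := congrArg e h1
    simp only [AlgHom.comp_apply, AlgEquiv.coe_toAlgHom, AlgEquiv.apply_symm_apply] at h2
    rw [← h2]
    rfl
  obtain ⟨M, _, -, ⟨eB⟩⟩ := exists_iso_of_lift hGft (isMultTypeConst_of_isLocalRing hG) Q k' π hlθ hlift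
    ⟨M', inferInstance, ⟨(cancelBC (R := A) k k' B).symm.trans eB'⟩⟩
  let eK : k' ≃ₐ[A] Q ⧸ IsLocalRing.maximalIdeal Q :=
    ((Ideal.quotientEquivAlgOfEq A (show IsLocalRing.maximalIdeal Q = RingHom.ker π from
      (hQm.symm.trans hker.symm))).trans (Ideal.quotientKerAlgEquivOfSurjective (f := π) hθ)).symm
  obtain ⟨e₀⟩ := nonempty_triv_square (T := Q) (S := Q ⧸ IsLocalRing.maximalIdeal Q) eK.toAlgHom
    ((cancelBC (R := A) k k' C).symm.trans eC')
  have hfl₂ : ∀ n : ℕ, Module.Flat (Q ⧸ IsLocalRing.maximalIdeal Q ^ n)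
      ((Q ⧸ IsLocalRing.maximalIdeal Q ^ n) ⊗[Q] (Q ⊗[A] C)) := fun n => by
    rw [← hQm]
    exact flat_levels_bc m Q (flat_levels m C hfl) n
  obtain ⟨Φ, hΦ, e, he, hem, hkerΦ⟩ :=
    exists_hom_henselian (C := Q ⊗[A] C) inferInstance hfl₂ e₀
  let T := P ⊗[A] Q
  obtain ⟨hTloc, hTnu⟩ := isLocalRing_completion_tmul Q hQm
  have : IsNoetherianRing T := IsNoetherianRing.of_finite P T
  let : Algebra Q T := Algebra.TensorProduct.rightAlgebra
  have : IsScalarTower A Q T := .of_algebraMap_eq fun r => by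
    show algebraMap A T r = (1 : P) ⊗ₜ[A] algebraMap A Q r
    rw [Algebra.TensorProduct.algebraMap_apply, Algebra.algebraMap_eq_smul_one, Algebra.algebraMap_eq_smul_one,
      TensorProduct.smul_tmul]
  let E : T ⊗[A] B ≃ₐc[T] MonoidAlgebra T M := bcTriv (T' := T) eB
  let η : T ⊗[Q] (Q ⊗[A] C) →ₐc[T] MonoidAlgebra T M :=
    (E : T ⊗[A] B →ₐc[T] MonoidAlgebra T M).comp
      ((cancelBC (R := A) P T B : _ →ₐc[T] T ⊗[A] B).comp ((bcHom T φ').comp
        ((cancelBC (R := A) P T C).symm.toBialgHom.comp (cancelBC (R := A) Q T C).toBialgHom)))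
  obtain ⟨f, hf⟩ := exists_descend_groupAlg (IsLocalRing.maximalIdeal Q) Φ hΦ he hem hkerΦ T
    (Ideal.map_le_iff_le_comap.mpr fun q hq => (IsLocalRing.mem_maximalIdeal _).mpr (hTnu q hq)) η
  have hη : ∀ z, η z = E (cancelBC (R := A) P T B (bcHom T φ' ((cancelBC (R := A) P T C).symm
      (cancelBC (R := A) Q T C z)))) := fun z => by
    simp only [η, BialgHom.comp_apply, BialgEquiv.toBialgHom_eq_coe, BialgHom.coe_coe]
  have : Module.FinitePresentation A Q := Module.finitePresentation_of_finite A Q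
  have hb : ∀ c, ∃ b : B, φ' ((1 : P) ⊗ₜ[A] c) = (1 : P) ⊗ₜ[A] b := fun c => by
    refine exists_eq_one_tmul_of_two (Q := Q)
      (y := eB.symm (MonoidAlgebra.mapDomainBialgHom Q f (Φ ((1 : Q) ⊗ₜ[A] c)))) ?_
    show push B (IsScalarTower.toAlgHom A P T) _ = push B (IsScalarTower.toAlgHom A Q T) _
    refine EquivLike.injective E ?_
    show bcTriv (T' := T) eB _ = bcTriv (T' := T) eB _
    conv_rhs => rw [bcTriv_push, BialgEquiv.apply_symm_apply, ← hf]
    rw [push_eq_cancel]
    have h1 : (cancelBC (R := A) P T C).symm (cancelBC (R := A) Q T C ((1 : T) ⊗ₜ[Q] ((1 : Q) ⊗ₜ[A] c))) =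
        (1 : T) ⊗ₜ[P] ((1 : P) ⊗ₜ[A] c) := by
      apply EquivLike.injective (cancelBC (R := A) P T C)
      rw [BialgEquiv.apply_symm_apply, ← push_eq_cancel, ← push_eq_cancel]
      simp
    rw [hη, h1, bcHom_tmul]
  obtain ⟨φ, hφ⟩ := exists_hom_of_cover (R := A) (B := B) (C := C) (fun _ : PUnit.{u+1} => P)
    (fun _ => inferInstance) (fun p => ⟨PUnit.unit, PrimeSpectrum.comap_surjective_of_faithfullyFlat (B := P) p⟩)
    (fun _ => φ') (fun _ _ c => by
      obtain ⟨b, hb⟩ := hb c
      rw [hb, LinearMap.rTensor_tmul, LinearMap.rTensor_tmul, AlgHom.toLinearMap_apply, AlgHom.toLinearMap_apply,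
        map_one, map_one])
  exact ⟨φ, fun c => hφ PUnit.unit c⟩

end Groth.Agent.IsoTriv
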