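import Groth.Agent.IsoTriv.HomDescent
import Groth.Agent.SGA3bLib.MonoDiag
import Groth.Agent.SGA3bLib.DiagQuot

/-! Descending quotients of Hopf algebras and homomorphisms along faithfully flat algebras. -/

universe u

open TensorProduct Coalgebra

namespace Groth.Agent.IsoTriv

open SGA3bLib

variable {R : Type u} [CommRing R] {C : Type u} [CommRing C] [HopfAlgebra R C]

/-- An ideal which becomes the kernel of a surjection of Hopf algebras after a faithfully flat extension is a
Hopf ideal. -/
theorem exists_isHopfIdeal_descend (T : Type u) [CommRing T] [Algebra R T] [Module.FaithfullyFlat R T]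
    {D : Type u} [CommRing D] [HopfAlgebra T D] (K : Ideal C) (π : T ⊗[R] C →ₐc[T] D)
    (hπ : Function.Surjective π)
    (hker : RingHom.ker (π : T ⊗[R] C →ₐ[T] D) = K.map (Algebra.TensorProduct.includeRight : C →ₐ[R] T ⊗[R] C)) :
    ∃ _ : K.IsHopfIdeal R, ∃ E : T ⊗[R] (C ⧸ K) ≃ₐc[T] D,
      ∀ c : C, E ((1 : T) ⊗ₜ[R] Ideal.Quotient.mk K c) = π ((1 : T) ⊗ₜ[R] c) := by
  let q : C →ₐ[R] C ⧸ K := Ideal.Quotient.mkₐ R K
  have hq : Function.Surjective q := Ideal.Quotient.mk_surjective
  let qT : T ⊗[R] C →ₐ[T] T ⊗[R] (C ⧸ K) := Algebra.TensorProduct.map (AlgHom.id T T) q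
  have hkq : RingHom.ker qT = RingHom.ker (π : T ⊗[R] C →ₐ[T] D) := by
    have h : RingHom.ker q = K := Ideal.ext fun x => Ideal.Quotient.eq_zero_iff_mem
    rw [hker, ← congrArg (Ideal.map (Algebra.TensorProduct.includeRight : C →ₐ[R] T ⊗[R] C)) h,
      ← Algebra.TensorProduct.lTensor_ker (A := T) q hq]
    rfl
  have hqT : Function.Surjective qT := LinearMap.lTensor_surjective T (g := q.toLinearMap) hq
  let E : T ⊗[R] (C ⧸ K) →ₐ[T] D := AlgHom.liftOfSurjective qT hqT (π : T ⊗[R] C →ₐ[T] D) hkq.le
  have hEq : ∀ w, E (qT w) = π w := fun w => AlgHom.liftOfSurjective_apply qT hqT _ hkq.le w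
  have hEinj : Function.Injective E := (injective_iff_map_eq_zero _).mpr fun z hz => by
    obtain ⟨w, rfl⟩ := hqT z
    rw [hEq] at hz
    have : w ∈ RingHom.ker qT := hkq.ge hz
    exact this
  have h0 : ∀ x ∈ K, π ((1 : T) ⊗ₜ[R] x) = 0 := fun x hx => by
    have := Ideal.mem_map_of_mem (Algebra.TensorProduct.includeRight : C →ₐ[R] T ⊗[R] C) hx
    rw [← hker] at this
    exact this
  have hop : K.IsHopfIdeal R := by
    refine { counit_eq_zero := ?_, map_mkQ_comul_eq_zero := ?_, antipode_mem := ?_ }
    · intro x hx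
      refine FaithfulSMul.algebraMap_injective R T ?_
      have h := CoalgHomClass.counit_comp_apply π ((1 : T) ⊗ₜ[R] x)
      rw [h0 x hx, map_zero, TensorProduct.counit_tmul, Algebra.smul_def] at h
      rw [map_zero]
      simpa using h.symm
    · intro x hx
      have hmap : ∀ z : C ⊗[R] C, TensorProduct.map (K.restrictScalars R).mkQ (K.restrictScalars R).mkQ z =
          Algebra.TensorProduct.map q q z := fun z => by
        induction z using TensorProduct.induction_on with
        | zero => rw [map_zero, map_zero]; rfl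
        | tmul x y => rfl
        | add x y hx hy => rw [map_add, map_add, hx, hy]; rfl
      suffices h : Algebra.TensorProduct.map q q (Coalgebra.comul (R := R) x) = 0 from (hmap _).trans h
      refine eq_of_one_tmul (R := R) T (b := 0) ?_
      rw [TensorProduct.tmul_zero]
      let Dd := TensorProduct.AlgebraTensorModule.distribBaseChange R T (C ⧸ K) (C ⧸ K)
      apply Dd.injective
      have hb : Function.Bijective E := ⟨hEinj, fun y => by
        obtain ⟨w, rfl⟩ := hπ y
        exact ⟨qT w, hEq w⟩⟩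
      apply (TensorProduct.congr (LinearEquiv.ofBijective E.toLinearMap hb)
        (LinearEquiv.ofBijective E.toLinearMap hb)).injective
      rw [map_zero, map_zero]
      show TensorProduct.map E.toLinearMap E.toLinearMap _ = 0
      have key : ∀ z : C ⊗[R] C, TensorProduct.map E.toLinearMap E.toLinearMap
          (Dd ((1 : T) ⊗ₜ[R] Algebra.TensorProduct.map q q z)) =
          TensorProduct.map (π : T ⊗[R] C →ₐ[T] D).toLinearMap (π : T ⊗[R] C →ₐ[T] D).toLinearMap
            (TensorProduct.AlgebraTensorModule.distribBaseChange R T C C ((1 : T) ⊗ₜ[R] z)) := fun z => by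
        induction z using TensorProduct.induction_on with
        | zero => simp
        | tmul a b =>
          simp only [Dd, Algebra.TensorProduct.map_tmul, TensorProduct.AlgebraTensorModule.distribBaseChange_tmul,
            LinearMap.map_smul_of_tower, TensorProduct.map_tmul, AlgHom.toLinearMap_apply]
          exact congrArg₂ (· ⊗ₜ[T] ·) (hEq ((1 : T) ⊗ₜ a)) (hEq ((1 : T) ⊗ₜ b))
        | add y z hy hz => simp only [map_add, TensorProduct.tmul_add, hy, hz]
      rw [key, ← comul_one_tmul]
      refine (CoalgHomClass.map_comp_comul_apply π ((1 : T) ⊗ₜ[R] x)).trans ?_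
      rw [h0 x hx, map_zero]
    · intro x hx
      have h1 : π (HopfAlgebra.antipode T ((1 : T) ⊗ₜ[R] x)) = 0 := by
        rw [map_antipode π, h0 x hx, map_zero]
      rw [← Ideal.Quotient.eq_zero_iff_mem]
      refine eq_of_one_tmul (R := R) T (b := (0 : C ⧸ K)) (hEinj ?_)
      rw [TensorProduct.tmul_zero, map_zero]
      refine (hEq ((1 : T) ⊗ₜ[R] HopfAlgebra.antipode R x)).trans ?_
      simpa [TensorProduct.antipode_def] using h1
  refine ⟨hop, ?_⟩
  have := hop
  let ρ : C →ₐc[R] C ⧸ K := Bialgebra.Quotient.mkBialgHom (R := R) K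
  have hρ : ∀ w, E (bcHom T ρ w) = π w := fun w => hEq w
  exact ⟨BialgEquiv.ofBijective
    (bialgHomOfComp (bcHom T ρ) π (bcHom_surjective T ρ Ideal.Quotient.mk_surjective) E hρ)
    ⟨hEinj, fun y => by
      obtain ⟨w, rfl⟩ := hπ y
      exact ⟨qT w, hEq w⟩⟩, fun c => hEq ((1 : T) ⊗ₜ[R] c)⟩

end Groth.Agent.IsoTriv
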