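import Groth.Prelude.Def_CartDual
import Groth.Agent.IsoTriv.Criterion
import Mathlib.RingTheory.Bialgebra.MonoidAlgebra

/-! Group-like elements and points of the dual algebra. -/

universe u

open TensorProduct Coalgebra

namespace Groth.Agent.IsoTriv

open SGA3bLib

variable {R : Type u} [CommRing R] {B : Type u} [CommRing B] [Bialgebra R B]

/-- Evaluation of a linear form on a base change. -/
noncomputable def evS (S : Type u) [CommRing S] [Algebra R S] (φ : CartDual.D R B) : S ⊗[R] B →ₗ[S] S :=
  (TensorProduct.AlgebraTensorModule.rid R S S).toLinearMap ∘ₗ φ.ofConv.baseChange S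

variable {S : Type u} [CommRing S] [Algebra R S]

theorem evS_tmul (φ : CartDual.D R B) (s : S) (b : B) : evS S φ (s ⊗ₜ[R] b) = φ b • s := by
  simp [evS, CartDual.coe_apply]

theorem evS_mul_apply {x : S ⊗[R] B} (hx : IsGroupLikeElem S x) (φ ψ : CartDual.D R B) :
    evS S (φ * ψ) x = evS S φ x * evS S ψ x := by
  let F : (S ⊗[R] B) ⊗[S] (S ⊗[R] B) →ₗ[S] S :=
    LinearMap.mul' S S ∘ₗ TensorProduct.map (evS S φ) (evS S ψ)
  have key : ∀ z : S ⊗[R] B, F (comul (R := S) z) = evS S (φ * ψ) z := by
    intro z
    induction z using TensorProduct.induction_on with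
    | zero => simp
    | add x y hx hy => simp [hx, hy]
    | tmul s b =>
      rw [TensorProduct.comul_tmul, CommSemiring.comul_apply, evS_tmul, CartDual.coe_apply]
      let r := ℛ R b
      rw [r.convMul_apply, ← r.eq, TensorProduct.tmul_sum, map_sum, map_sum, Finset.sum_smul]
      refine Finset.sum_congr rfl fun i _ => ?_
      simp [F, evS_tmul, CartDual.coe_apply, Algebra.smul_def]
      ring
  rw [← key, hx.comul_eq_tmul_self]
  simp [F]

theorem evS_one_apply {x : S ⊗[R] B} (hx : IsGroupLikeElem S x) : evS S (1 : CartDual.D R B) x = 1 := by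
  have key : ∀ z : S ⊗[R] B, evS S (1 : CartDual.D R B) z = counit (R := S) z := by
    intro z
    induction z using TensorProduct.induction_on with
    | zero => simp
    | add x y hx hy => simp [hx, hy]
    | tmul s b => simp [evS_tmul, CartDual.coe_apply, LinearMap.convOne_def]
  rw [key, hx.counit_eq_one]

theorem evS_add (φ ψ : CartDual.D R B) : evS S (φ + ψ) = evS S φ + evS S ψ := by
  refine TensorProduct.AlgebraTensorModule.ext fun s b => ?_
  simp [evS_tmul, CartDual.coe_apply, add_smul]

theorem evS_smul (r : R) (φ : CartDual.D R B) (z : S ⊗[R] B) : evS S (r • φ) z = r • evS S φ z := by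
  induction z using TensorProduct.induction_on with
  | zero => simp
  | tmul s b => simp [evS_tmul, CartDual.coe_apply, smul_smul]
  | add x y hx hy => simp [hx, hy]

variable [Coalgebra.IsCocomm R B]

/-- A group-like element gives a point of the dual algebra. -/
noncomputable def toPoint (x : S ⊗[R] B) (hx : IsGroupLikeElem S x) : CartDual.D R B →ₐ[R] S :=
  AlgHom.ofLinearMap
    { toFun := fun φ => evS S φ x
      map_add' := fun φ ψ => by simp [evS_add]
      map_smul' := fun r φ => evS_smul r φ x }
    (evS_one_apply hx) (fun φ ψ => evS_mul_apply hx φ ψ)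

theorem toPoint_apply (x : S ⊗[R] B) (hx : IsGroupLikeElem S x) (φ : CartDual.D R B) :
    toPoint x hx φ = evS S φ x := rfl

variable (R B) in
/-- A dual basis of a finite projective bialgebra. -/
theorem exists_dualBasis [Module.Finite R B] [Module.Projective R B] :
    ∃ (n : ℕ) (b : Fin n → B) (φ : Fin n → CartDual.D R B), ∀ x, ∑ j, φ j x • b j = x := by
  obtain ⟨n, f, g, -, -, hfg⟩ := Module.Finite.exists_comp_eq_id_of_projective R B
  refine ⟨n, fun j => f (Pi.single j 1), fun j => WithConv.toConv (LinearMap.proj j ∘ₗ g), fun x => ?_⟩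
  simp only [CartDual.coe_apply, WithConv.ofConv_toConv, LinearMap.comp_apply, LinearMap.proj_apply]
  conv_rhs => rw [show x = f (g x) from (LinearMap.congr_fun hfg x).symm, pi_eq_sum_univ' (g x), map_sum]
  exact Finset.sum_congr rfl fun j _ => (map_smul f _ _).symm

section DualBasis

variable {n : ℕ} {b : Fin n → B} {φ : Fin n → CartDual.D R B} (hb : ∀ x, ∑ j, φ j x • b j = x)

include hb

omit [Coalgebra.IsCocomm R B] in
theorem sum_evS (z : S ⊗[R] B) : ∑ j, evS S (φ j) z ⊗ₜ[R] b j = z := by
  induction z using TensorProduct.induction_on with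
  | zero => simp
  | tmul s x =>
    conv_rhs => rw [← hb x, TensorProduct.tmul_sum]
    exact Finset.sum_congr rfl fun j _ => by rw [evS_tmul, TensorProduct.smul_tmul]
  | add x y hx hy => simp [TensorProduct.add_tmul, Finset.sum_add_distrib, hx, hy]

omit [Coalgebra.IsCocomm R B] in
theorem sum_dual (ψ : CartDual.D R B) : ∑ j, ψ (b j) • φ j = ψ := by
  refine WithConv.ext (LinearMap.ext fun x => ?_)
  conv_rhs => rw [← hb x]
  simp [CartDual.coe_apply, WithConv.ofConv_sum, mul_comm]

/-- The points of the dual that come from an algebra map into a smaller ring give elements of that ring. -/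
theorem point_sub (T : Type u) [CommRing T] [Algebra R T] (g : T →ₐ[R] S) (x : S ⊗[R] B)
    (hx : IsGroupLikeElem S x) (τ : CartDual.D R B →ₐ[R] T) (hτ : g.comp τ = toPoint x hx) :
    push B g (∑ j, τ (φ j) ⊗ₜ[R] b j) = x := by
  rw [map_sum]
  conv_rhs => rw [← sum_evS hb x]
  refine Finset.sum_congr rfl fun j _ => ?_
  rw [push_tmul]
  exact congrArg (· ⊗ₜ[R] b j) (AlgHom.congr_fun hτ (φ j))

end DualBasis

section Split

variable {G : Type u} [CommGroup G] [Finite G] (e : S ⊗[R] B ≃ₐc[S] MonoidAlgebra S G)

/-- The characters of a trivialised group, as functions on the dual. -/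
noncomputable def dualToFun : S ⊗[R] CartDual.D R B →ₐ[S] (G → S) :=
  Algebra.TensorProduct.lift (Algebra.ofId S (G → S))
    (AlgHom.pi fun g => toPoint (e.symm (MonoidAlgebra.single g 1))
      ((MonoidAlgebra.isGroupLikeElem_single_one (R := S) (A := S) g).map
        (e.symm : MonoidAlgebra S G →ₐc[S] S ⊗[R] B)))
    fun _ _ => Commute.all _ _

theorem dualToFun_tmul (s : S) (ψ : CartDual.D R B) (g : G) :
    dualToFun e (s ⊗ₜ[R] ψ) g = s * evS S ψ (e.symm (MonoidAlgebra.single g 1)) := by
  simp [dualToFun, toPoint_apply]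

/-- The dual of a trivialised group is the algebra of functions. -/
theorem dualToFun_bijective [Module.Finite R B] [Module.Projective R B] :
    Function.Bijective (dualToFun e) := by
  classical
  have := Fintype.ofFinite G
  obtain ⟨n, b, φ, hb⟩ := exists_dualBasis R B
  let H : (G → S) → (S ⊗[R] B →ₗ[S] S) := fun h => ∑ g, h g • ((coef g).comp e.toAlgEquiv.toLinearMap)
  let Ψ : (G → S) → S ⊗[R] CartDual.D R B := fun h => ∑ j, (H h ((1 : S) ⊗ₜ[R] b j)) ⊗ₜ[R] φ j
  have hH : ∀ h g, H h (e.symm (MonoidAlgebra.single g 1)) = h g := fun h g => by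
    simp only [H, LinearMap.sum_apply, LinearMap.smul_apply, LinearMap.comp_apply, smul_eq_mul]
    rw [Finset.sum_eq_single g (fun g' _ hg' => ?_) (fun hg => absurd (Finset.mem_univ g) hg)]
    · show h g * coef g (e (e.symm _)) = _
      rw [e.apply_symm_apply, coef_single, if_pos rfl, mul_one]
    · show h g' * coef g' (e (e.symm _)) = 0
      rw [e.apply_symm_apply, coef_single, if_neg (Ne.symm hg'), mul_zero]
  have hext : ∀ L₁ L₂ : S ⊗[R] B →ₗ[S] S,
      (∀ g, L₁ (e.symm (MonoidAlgebra.single g 1)) = L₂ (e.symm (MonoidAlgebra.single g 1))) → L₁ = L₂ := by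
    intro L₁ L₂ h
    suffices L₁.comp e.toAlgEquiv.symm.toLinearMap = L₂.comp e.toAlgEquiv.symm.toLinearMap from
      LinearMap.ext fun z => by
        have := LinearMap.congr_fun this (e z)
        simp only [LinearMap.comp_apply] at this
        rwa [show e.toAlgEquiv.symm.toLinearMap (e z) = z from e.toAlgEquiv.symm_apply_apply z] at this
    refine LinearMap.ext fun y => ?_
    induction y using MonoidAlgebra.induction_linear with
    | zero => simp
    | add p q hp hq => simp only [map_add, hp, hq]
    | single g r =>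
      rw [show (MonoidAlgebra.single g r : MonoidAlgebra S G) = r • MonoidAlgebra.single g 1 by simp, map_smul,
        map_smul]
      exact congrArg (r • ·) (h g)
  refine Function.bijective_iff_has_inverse.mpr ⟨Ψ, fun w => ?_, fun h => funext fun g => ?_⟩
  · have hlin : ∀ v w, Ψ (v + w) = Ψ v + Ψ w := fun v w => by
      simp [Ψ, H, add_mul, Finset.sum_add_distrib, TensorProduct.add_tmul]
    induction w using TensorProduct.induction_on with
    | zero => simp [Ψ, H]
    | add p q hp hq => rw [map_add, hlin, hp, hq]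
    | tmul s ψ =>
      have h1 : H (dualToFun e (s ⊗ₜ[R] ψ)) = s • evS S ψ := hext _ _ fun g => by
        rw [hH, dualToFun_tmul, LinearMap.smul_apply, smul_eq_mul]
      simp only [Ψ, h1, LinearMap.smul_apply, evS_tmul, smul_eq_mul, Algebra.smul_def, mul_one]
      conv_rhs => rw [← sum_dual hb ψ, TensorProduct.tmul_sum]
      refine Finset.sum_congr rfl fun j _ => ?_
      rw [← TensorProduct.smul_tmul, Algebra.smul_def, mul_comm]
  · simp only [Ψ, map_sum, Finset.sum_apply, dualToFun_tmul]
    rw [← hH h g]
    conv_rhs => rw [← sum_evS hb (e.symm (MonoidAlgebra.single g 1)), map_sum]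
    refine Finset.sum_congr rfl fun j _ => ?_
    set c := evS S (φ j) (e.symm (MonoidAlgebra.single g 1))
    rw [show c ⊗ₜ[R] b j = c • ((1 : S) ⊗ₜ[R] b j) by rw [TensorProduct.smul_tmul', smul_eq_mul, mul_one],
      map_smul, smul_eq_mul, mul_comm]

end Split

end Groth.Agent.IsoTriv
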