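import Groth.Agent.IsoTriv.LocalDiag
import Groth.Agent.IsoTriv.QuasiIso
import Groth.Agent.IsoTriv.QuasiBC
import Mathlib.RingTheory.Localization.Integral

/-! Multiplicative type is detected on strict henselisations. -/

universe u

open TensorProduct

namespace Groth.Agent.IsoTriv

open SGA3bLib HenselLib Polynomial

section Hull

variable {R : Type u} [CommRing R] (p : Ideal R) [p.IsPrime]

/-- The separable closure of the residue field at a prime. -/
abbrev SepK : Type u := SeparableClosure (Ideal.ResidueField p)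

theorem hullPt_surjective : Function.Surjective (hullPt R (SepK p)) := by
  intro z
  have hfrac : ∀ a : p.ResidueField, ∃ t, hullPt R (SepK p) t = algebraMap p.ResidueField (SepK p) a := fun a => by
    obtain ⟨⟨x, s⟩, rfl⟩ := IsLocalization.mk'_surjective (nonZeroDivisors (R ⧸ p)) a
    obtain ⟨x, rfl⟩ := Ideal.Quotient.mk_surjective x
    obtain ⟨s', hs'⟩ := Ideal.Quotient.mk_surjective (s : R ⧸ p)
    have hs : algebraMap R (SepK p) s' ≠ 0 := by
      rw [IsScalarTower.algebraMap_apply R p.ResidueField (SepK p), _root_.map_ne_zero, ne_eq, Ideal.algebraMap_residueField_eq_zero,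
        ← Ideal.Quotient.eq_zero_iff_mem, hs']
      exact nonZeroDivisors.coe_ne_zero s
    obtain ⟨u, hu⟩ := isUnit_of_isUnit_hullPt (h := algebraMap R (Hull R (SepK p)) s')
      (by rw [AlgHom.commutes]; exact Ne.isUnit hs)
    refine ⟨algebraMap R _ x * ↑u⁻¹, ?_⟩
    have h1 : hullPt R (SepK p) ↑u⁻¹ * algebraMap R (SepK p) s' = 1 := by
      rw [← AlgHom.commutes (hullPt R (SepK p)), ← map_mul, ← hu, Units.inv_mul, map_one]
    apply mul_right_cancel₀ hs
    rw [map_mul, AlgHom.commutes, mul_assoc, h1, mul_one]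
    simp only [IsScalarTower.algebraMap_apply R p.ResidueField (SepK p), IsScalarTower.algebraMap_apply R (R ⧸ p) p.ResidueField,
      ← map_mul, Ideal.Quotient.algebraMap_eq, hs', IsLocalization.mk'_spec]
  have hint : IsIntegral p.ResidueField z := Algebra.IsIntegral.isIntegral z
  set m := minpoly p.ResidueField z
  set c := algebraMap (R ⧸ p) p.ResidueField (IsLocalization.commonDenom (nonZeroDivisors (R ⧸ p)) m.support m.coeff)
  have hc : c ≠ 0 := IsFractionRing.to_map_ne_zero_of_mem_nonZeroDivisors (IsLocalization.commonDenom _ m.support m.coeff).2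
  set z' := algebraMap p.ResidueField (SepK p) c * z
  set q := m.scaleRoots c
  have hqm : q.Monic := (monic_scaleRoots_iff c).mpr (minpoly.monic hint)
  have hq0 : aeval z' q = 0 := scaleRoots_aeval_eq_zero (minpoly.aeval _ _)
  have hint' : IsIntegral p.ResidueField z' := Algebra.IsIntegral.isIntegral z'
  have hq : minpoly p.ResidueField z' = q := by
    refine (eq_of_monic_of_dvd_of_natDegree_le (minpoly.monic hint') hqm (minpoly.dvd _ _ hq0) ?_).symm
    rw [natDegree_scaleRoots]
    have h2 : aeval z ((minpoly p.ResidueField z').scaleRoots c⁻¹) = 0 := by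
      have h3 := scaleRoots_aeval_eq_zero (r := c⁻¹) (minpoly.aeval p.ResidueField z')
      rwa [show algebraMap p.ResidueField (SepK p) c⁻¹ * z' = z by
        rw [show z' = algebraMap p.ResidueField (SepK p) c * z from rfl, ← mul_assoc, ← map_mul, inv_mul_cancel₀ hc, map_one,
          one_mul]] at h3
    calc m.natDegree ≤ ((minpoly p.ResidueField z').scaleRoots c⁻¹).natDegree :=
          natDegree_le_of_dvd (minpoly.dvd _ _ h2) ((monic_scaleRoots_iff _).mpr (minpoly.monic hint')).ne_zero
      _ = _ := natDegree_scaleRoots _ _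
  have hlift : q ∈ Polynomial.lifts (algebraMap R p.ResidueField) := by
    have h1 := IsLocalization.scaleRoots_commonDenom_mem_lifts (nonZeroDivisors (R ⧸ p)) m
      ⟨1, by rw [map_one, (minpoly.monic hint).leadingCoeff]⟩
    rw [Polynomial.lifts_iff_coeff_lifts] at h1 ⊢
    intro n
    obtain ⟨a, ha⟩ := h1 n
    obtain ⟨a, rfl⟩ := Ideal.Quotient.mk_surjective a
    exact ⟨a, by rw [← ha, IsScalarTower.algebraMap_apply R (R ⧸ p) p.ResidueField]; rfl⟩
  obtain ⟨f, hfm, -, hf⟩ := Polynomial.lifts_and_natDegree_eq_and_monic hlift hqm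
  let E : StandardEtalePair R :=
    { f := f, monic_f := hf, g := Polynomial.derivative f, cond := ⟨1, 0, 1, by ring⟩ }
  have hE : E.HasMap z' := by
    refine ⟨?_, ?_⟩
    · rw [← aeval_map_algebraMap p.ResidueField z', hfm]; exact hq0
    · rw [← aeval_map_algebraMap p.ResidueField z', ← derivative_map, hfm, ← hq]
      exact Ne.isUnit ((Algebra.IsSeparable.isSeparable p.ResidueField z').aeval_derivative_ne_zero
        (minpoly.aeval _ _))
  obtain ⟨φ, hφ⟩ := exists_map_of_etale (E.lift z' hE)
  have hz' : hullPt R (SepK p) (φ E.X) = z' := by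
    rw [show hullPt R (SepK p) (φ E.X) = _ from congr($hφ E.X), E.lift_X]
  obtain ⟨t, ht⟩ := hfrac c⁻¹
  refine ⟨t * φ E.X, ?_⟩
  rw [map_mul, ht, hz', show z' = algebraMap p.ResidueField (SepK p) c * z from rfl, ← mul_assoc, ← map_mul,
    inv_mul_cancel₀ hc, map_one, one_mul]

theorem isSepClosed_residueField_hull [HenselianLocalRing (Hull R (SepK p))] :
    IsSepClosed (IsLocalRing.ResidueField (Hull R (SepK p))) := by
  let e : IsLocalRing.ResidueField (Hull R (SepK p)) ≃+* SepK p :=
    (Ideal.quotEquivOfEq (maximalIdeal_hull (R := R) (K := (SepK p)))).trans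
      (RingHom.quotientKerEquivOfSurjective (hullPt_surjective p))
  refine IsSepClosed.of_exists_root _ fun q hq hqi hqs => ?_
  have hsep : (q.map e.toRingHom).Separable := hqs.map
  have hdeg : (q.map e.toRingHom).degree ≠ 0 := by
    rw [Polynomial.degree_map]
    intro h0
    exact hqi.not_isUnit ((hq.degree_le_zero_iff_eq_one.mp h0.le) ▸ isUnit_one)
  obtain ⟨x, hx⟩ := IsSepClosed.exists_root _ hdeg hsep
  refine ⟨e.symm x, e.injective ?_⟩
  rw [map_zero]
  rw [Polynomial.IsRoot, Polynomial.eval_map, ← e.apply_symm_apply x] at hx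
  rw [← hx]
  exact (Polynomial.eval₂_at_apply e.toRingHom (e.symm x)).symm

end Hull

variable {R : Type u} [CommRing R] {A : Type u} [CommRing A] [HopfAlgebra R A]

/-- A finitely presented group which is diagonalisable over all strictly henselian algebras is of multiplicative
type. -/
theorem isMultType_of_strict (hfp : Algebra.FinitePresentation R A)
    (h : ∀ (H : Type u) [CommRing H] [HenselianLocalRing H] [IsSepClosed (IsLocalRing.ResidueField H)] [Algebra R H],
      ∃ (N : Type u) (_ : CommGroup N), Group.FG N ∧ Nonempty (H ⊗[R] A ≃ₐc[H] MonoidAlgebra H N)) :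
    SGA3b.IsMultType R A := by
  refine isMultType_of_isQuasiIsotrivial (isQuasiIsotrivial_of_nhd fun p _ => ?_)
  let K := SeparableClosure p.ResidueField
  let T := Hull R K
  have : HenselianLocalRing T := henselianLocalRing_hull
  have : IsSepClosed (IsLocalRing.ResidueField T) := isSepClosed_residueField_hull p
  obtain ⟨N, _, hfg, ⟨e⟩⟩ := h T
  have := hfp
  obtain ⟨S, hS⟩ := exists_iso_stage hfp (fun F => by
    classical
    obtain ⟨P, x, hx⟩ := exists_rep_finset F (id : T → T)
    exact ⟨⟨P.Ring, ι P⟩, fun t ht => ⟨x t, hx t ht⟩⟩) hfg e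
  refine ⟨S.P, inferInstance, inferInstance, inferInstance,
    ⟨RingHom.ker ((hullPt R K).comp S.f), RingHom.ker_isPrime _, ?_⟩, N, inferInstance, hS⟩
  ext r
  rw [Ideal.mem_comap, RingHom.mem_ker, AlgHom.commutes,
    IsScalarTower.algebraMap_apply R p.ResidueField K, map_eq_zero, Ideal.algebraMap_residueField_eq_zero]

end Groth.Agent.IsoTriv
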