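import Groth.Agent.SGA3cLib.NormalMultCentral
import Groth.Agent.SGA3cLib.TrivLocus
import Groth.Agent.AbVarLib.KernelQuot
import Groth.Agent.IsoTriv.SchemeBridge

/-!
# Extensions of groups of multiplicative type with connected or commutative fibres are commutative

The commutator with a variable point of `H` descends to a homomorphism `H'' → H'` over `H`; the locus where
it is trivial is open and closed, and contains the unit of every fibre.
-/

set_option linter.style.haveILetI false
set_option autoImplicit false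

universe u

open CategoryTheory CategoryTheory.Limits MonoidalCategory CartesianMonoidalCategory MonObj GrpObj AlgebraicGeometry

noncomputable section

namespace Groth.Agent.IsoTriv.ExtensionComm

open SGA3cLib

variable {S : Scheme.{u}} {H' H H'' : Over S} [GrpObj H'] [GrpObj H] [GrpObj H'']
  (i : H' ⟶ H) [IsMonHom i] (p : H ⟶ H'') [IsMonHom p]

/-- Kernels are stable under base change. -/
theorem isKernel_bc (hker : AlgGrp.IsKernel i p) {T : Scheme.{u}} (f : T ⟶ S) :
    AlgGrp.IsKernel ((Over.pullback f).map i : Red.bc f H' ⟶ Red.bc f H)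
      ((Over.pullback f).map p : Red.bc f H ⟶ Red.bc f H'') := by
  let F := Over.pullback f
  let u : F.obj (𝟙_ (Over S)) ≅ 𝟙_ (Over T) := (Functor.Monoidal.εIso F).symm
  have hη : F.map η[H''] = u.hom ≫ η[F.obj H''] := by
    show _ = Functor.OplaxMonoidal.η F ≫ Functor.LaxMonoidal.ε F ≫ F.map η[H'']
    rw [← Category.assoc, Functor.Monoidal.η_ε, Category.id_comp]
  exact (hker.map F).of_iso (Iso.refl _) (Iso.refl _) u (Iso.refl _) ((Category.comp_id _).trans (Category.id_comp _).symm)
    (toUnit_unique _ _) ((Category.comp_id _).trans (Category.id_comp _).symm) ((Category.comp_id _).trans hη)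

theorem mono_of_isKernel (hker : AlgGrp.IsKernel i p) : Mono i :=
  ⟨fun _ _ h => hker.hom_ext h (toUnit_unique _ _)⟩

theorem exists_lift_kernel (hker : AlgGrp.IsKernel i p) {X : Over S} (x : X ⟶ H) (hx : x ≫ p = 1) :
    ∃ a : X ⟶ H', a ≫ i = x :=
  ⟨hker.lift x (toUnit X) (hx.trans Hom.one_def), hker.lift_fst _ _ _⟩

theorem comp_isKernel (hker : AlgGrp.IsKernel i p) : i ≫ p = 1 := hker.w.trans Hom.one_def.symm

theorem isNormalHom (hker : AlgGrp.IsKernel i p) : AlgGrp.IsNormalHom i := fun T g n => by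
  obtain ⟨a, ha⟩ := exists_lift_kernel i p hker (g * (n ≫ i) * g⁻¹) (by
    rw [MonObj.mul_comp, MonObj.mul_comp, GrpObj.inv_comp, Category.assoc, comp_isKernel i p hker,
      MonObj.comp_one, _root_.mul_one, mul_inv_cancel])
  exact ⟨a, ha.symm⟩

theorem connectedSpace_fibre {s : S} (hs : _root_.IsConnected (H.hom.base ⁻¹' {s})) :
    ConnectedSpace ↥(pullback H.hom (S.fromSpecResidueField s)) :=
  haveI : ConnectedSpace ↥(H.hom.base ⁻¹' {s}) := isConnected_iff_connectedSpace.mp hs
  (H.hom.fiberHomeo s).connectedSpace_iff.mpr this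

/-- The kernel is central. -/
theorem central (hker : AlgGrp.IsKernel i p) (hH' : SGA3x.IsMultTypeFT H') [LocallyOfFiniteType H.hom]
    (hfib : ∀ s : S, _root_.IsConnected (H.hom.base ⁻¹' {s}) ∨
      ∀ (X : Over (Spec (S.residueField s))) (a b : X ⟶ Red.bc (S.fromSpecResidueField s) H), a * b = b * a)
    (X : Over S) (g : X ⟶ H) (h : X ⟶ H') : g * (h ≫ i) = (h ≫ i) * g := by
  refine CentralFib.central_of_residueField i hH' (fun s X g h => ?_) X g h
  rcases hfib s with hs | hs
  · let σ := S.fromSpecResidueField s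
    haveI := connectedSpace_fibre hs
    haveI : LocallyOfFiniteType (Red.bc σ H).hom := MorphismProperty.pullback_snd (P := @LocallyOfFiniteType) _ _ ‹_›
    have hi : AlgGrp.IsKernel ((Over.pullback σ).map i : Red.bc σ H' ⟶ Red.bc σ H) ((Over.pullback σ).map p) :=
      isKernel_bc i p hker σ
    haveI := mono_of_isKernel _ _ hi
    refine NormalMultCentral.central _ _ (fun x => ?_) _ (CentralDescent.isMultTypeFT_bc σ H' hH')
      (isNormalHom _ _ hi) X g h
    let e : Spec (S.residueField s) ⟶ pullback H.hom σ :=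
      pullback.lift (σ ≫ η[H].left) (𝟙 _) (by
        rw [Category.assoc, show η[H].left ≫ H.hom = 𝟙 _ from Over.w η[H]]; simp)
    haveI : GeometricallyConnected (pullback.snd H.hom σ) := by
      have := geometricallyConnected_of_rational_point (S.residueField s) (pullback.snd H.hom σ)
        (𝟙 _) e (pullback.lift_snd _ _ _) (fun x _ => ⟨x, rfl⟩)
      simpa using this
    show ConnectedSpace ↥(pullback (pullback.snd H.hom σ) ((Spec (S.residueField s)).fromSpecResidueField x))
    infer_instance
  · exact hs X g _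

section Comm

variable [Surjective p.left] [Flat p.left] [QuasiCompact p.left]

theorem bc_props {T : Scheme.{u}} (f : T ⟶ S) :
    Surjective ((Over.pullback f).map p).left ∧ Flat ((Over.pullback f).map p).left ∧
      QuasiCompact ((Over.pullback f).map p).left := by
  let P := ((Over.pullback f).map p : Red.bc f H ⟶ Red.bc f H'')
  have hw : p.left ≫ H''.hom = H.hom := Over.w p
  have hPf : P.left ≫ pullback.fst H''.hom f = pullback.fst H.hom f ≫ p.left := pullback.lift_fst _ _ _
  have hPs : P.left ≫ pullback.snd H''.hom f = pullback.snd H.hom f := pullback.lift_snd _ _ _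
  have sq : IsPullback (pullback.fst H.hom f) P.left p.left (pullback.fst H''.hom f) := by
    refine IsPullback.of_bot (h₃₁ := f) (v₂₁ := pullback.snd H''.hom f) (v₂₂ := H''.hom) ?_ hPf.symm
      (IsPullback.of_hasPullback H''.hom f)
    rw [hPs, hw]
    exact IsPullback.of_hasPullback H.hom f
  exact ⟨MorphismProperty.of_isPullback (P := @Surjective) sq ‹_›,
    MorphismProperty.of_isPullback (P := @Flat) sq ‹_›, MorphismProperty.of_isPullback (P := @QuasiCompact) sq ‹_›⟩

/-- An extension of commutative groups of multiplicative type with connected or commutative fibres is commutative. -/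
theorem comm (hker : AlgGrp.IsKernel i p) (hH' : SGA3x.IsMultTypeFT H') (hH'' : SGA3x.IsMultTypeFT H'')
    [LocallyOfFiniteType H.hom] (hK : ∀ (X : Over S) (a b : X ⟶ H''), a * b = b * a)
    (hfib : ∀ s : S, _root_.IsConnected (H.hom.base ⁻¹' {s}) ∨
      ∀ (X : Over (Spec (S.residueField s))) (a b : X ⟶ Red.bc (S.fromSpecResidueField s) H), a * b = b * a)
    (X : Over S) (a b : X ⟶ H) : a * b = b * a := by
  have hcen := central i p hker hH' hfib
  haveI : Mono i := mono_of_isKernel i p hker
  let T := H.left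
  let f : T ⟶ S := H.hom
  let F := Over.pullback f
  let taut : ∀ X' : Over T, (Over.map f).obj X' ⟶ H := fun X' => Over.homMk X'.hom rfl
  let B : Over T := Red.bc f H
  let pr : (Over.map f).obj B ⟶ H := (Over.mapPullbackAdj f).counit.app H
  let c : B ⟶ Red.bc f H := BCPoints.pt f H _ (taut B * pr * (taut B)⁻¹ * pr⁻¹)
  have hc : ∀ (X' : Over T) (e : (Over.map f).obj X' ⟶ H),
      BCPoints.pt f H X' e ≫ c = BCPoints.pt f H X' (taut X' * e * (taut X')⁻¹ * e⁻¹) := by
    intro X' e
    rw [← BCPoints.pt_map_comp]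
    congr 1
    have e1 : (Over.map f).map (BCPoints.pt f H X' e) ≫ taut B = taut X' :=
      Over.OverMorphism.ext (Over.w (BCPoints.pt f H X' e))
    have e2 : (Over.map f).map (BCPoints.pt f H X' e) ≫ pr = e :=
      ((Over.mapPullbackAdj f).homEquiv_counit _ _ _).symm.trans
        (((Over.mapPullbackAdj f).homEquiv X' H).symm_apply_apply e)
    simp only [MonObj.comp_mul, GrpObj.comp_inv, e1, e2]
  have hone : ∀ (G : Over S) [GrpObj G] (X' : Over T), BCPoints.pt f G X' 1 = 1 := fun G _ X' =>
    map_one (MonoidHom.mk' (BCPoints.pt f G X') (BCPoints.pt_mul f))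
  obtain ⟨c', hc'⟩ : ∃ c' : Red.bc f H ⟶ Red.bc f H', c' ≫ F.map i = c := exists_lift_kernel _ _ (isKernel_bc i p hker f) c (by
    show BCPoints.pt f H B _ ≫ F.map p = 1
    rw [← BCPoints.pt_comp]
    simp only [MonObj.mul_comp, GrpObj.inv_comp]
    rw [hK _ (taut B ≫ p), mul_inv_cancel_right, mul_inv_cancel, hone])
  haveI hmi : Mono (F.map i) := mono_of_isKernel _ _ (isKernel_bc i p hker f)
  have hcomm : ∀ (X' : Over T) (e : (Over.map f).obj X' ⟶ H),
      ∃ k : (Over.map f).obj X' ⟶ H', k ≫ i = taut X' * e * (taut X')⁻¹ * e⁻¹ := fun X' e =>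
    exists_lift_kernel i p hker _ (by
      simp only [MonObj.mul_comp, GrpObj.inv_comp]
      rw [hK _ (taut X' ≫ p), mul_inv_cancel_right, mul_inv_cancel])
  haveI : IsMonHom c' := BCPoints.isMonHom_of_mul _ fun X' x y => by
    obtain ⟨e, rfl⟩ := (BCPoints.pt f H X').surjective x
    obtain ⟨e', rfl⟩ := (BCPoints.pt f H X').surjective y
    rw [← cancel_mono (F.map i)]
    conv_rhs => rw [MonObj.mul_comp]
    simp only [Category.assoc, hc', ← BCPoints.pt_mul, hc]
    refine (congrArg (BCPoints.pt f H X') ?_).trans (BCPoints.pt_mul f _ _)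
    obtain ⟨k, hk⟩ := hcomm X' e'
    have h1 : e * (taut X' * e' * (taut X')⁻¹ * e'⁻¹) = (taut X' * e' * (taut X')⁻¹ * e'⁻¹) * e := by
      rw [← hk]; exact hcen _ e k
    calc taut X' * (e * e') * (taut X')⁻¹ * (e * e')⁻¹
        = taut X' * e * (taut X')⁻¹ * (taut X' * e' * (taut X')⁻¹ * e'⁻¹) * e⁻¹ := by group
      _ = taut X' * e * (taut X')⁻¹ * e⁻¹ * (e * (taut X' * e' * (taut X')⁻¹ * e'⁻¹)) * e⁻¹ := by group
      _ = _ := by rw [h1]; group
  have hci : F.map i ≫ c' = 1 := by
    rw [← cancel_mono (F.map i), Category.assoc, hc', MonObj.one_comp]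
    obtain ⟨n, hn⟩ := (BCPoints.pt f H' (Red.bc f H')).surjective (𝟙 _)
    have h : F.map i = BCPoints.pt f H (Red.bc f H') (n ≫ i) := by
      rw [BCPoints.pt_comp, hn]; exact (Category.id_comp _).symm
    rw [h, hc, hcen _ (taut _) n, mul_inv_cancel_right, mul_inv_cancel, hone]
  obtain ⟨_, _, _⟩ := bc_props p f
  obtain ⟨ρ, ⟨hρm, hρ⟩, -⟩ := AbVarLib.existsUnique_lift_of_kernel
    (F.map p : Red.bc f H ⟶ Red.bc f H'') (F.map i) (isKernel_bc i p hker f) c' hci
  haveI := hρm
  haveI : IsAffineHom H'.hom := SchemeBridge.isAffineHom_of_multTypeFT H' hH'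
  haveI : LocallyOfFinitePresentation H'.hom := TrivLocus.locallyOfFinitePresentation_of_multTypeFT H' hH'
  haveI : IsAffineHom (Red.bc f H').hom := MorphismProperty.pullback_snd (P := @IsAffineHom) _ _ ‹_›
  haveI : LocallyOfFiniteType (Red.bc f H').hom := MorphismProperty.pullback_snd (P := @LocallyOfFiniteType) _ _ inferInstance
  haveI : IsSeparated (Red.bc f H').hom := inferInstance
  obtain ⟨U, hUc, hU, hUt⟩ := TrivLocus.exists_clopen ρ (Or.inr ‹_›) (CentralDescent.isMultTypeFT_bc f H'' hH'')
  -- triviality of ρ may be tested on the commutator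
  have key : ∀ {Z : Scheme.{u}} (g : Z ⟶ T), (∀ (X' : Over T) (_ : X' ⟶ Over.mk g) (e : (Over.map f).obj X' ⟶ H),
      taut X' * e = e * taut X') → TrivLocus.Triv ρ g := by
    intro Z g hg
    have h1 : TrivLocus.Triv c' g := fun X' q x => by
      obtain ⟨e, rfl⟩ := (BCPoints.pt f H X').surjective x
      rw [← cancel_mono (F.map i), Category.assoc, hc', hc, hg X' q e, mul_inv_cancel_right, mul_inv_cancel, hone,
        MonObj.one_comp]
    rw [TrivLocus.triv_iff_map] at h1 ⊢
    obtain ⟨_, _, _⟩ := bc_props (F.map p : Red.bc f H ⟶ Red.bc f H'') g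
    haveI : Epi ((Over.pullback g).map (F.map p : Red.bc f H ⟶ Red.bc f H'')) := Over.epi_of_epi_left _
    rw [← cancel_epi ((Over.pullback g).map (F.map p : Red.bc f H ⟶ Red.bc f H'')), ← Functor.map_comp, hρ, h1,
      MonObj.comp_one]
  have hunit : ∀ s : S, η[H].left.base s ∈ U := fun s => by
    rw [hU]
    let ω : Spec (S.residueField s) ⟶ T := S.fromSpecResidueField s ≫ η[H].left
    have h1 : TrivLocus.Triv ρ ω := key ω fun X' q e => by
      have ht : taut X' = 1 := by
        refine Over.OverMorphism.ext ?_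
        rw [Hom.one_def]
        show X'.hom = (X'.hom ≫ f) ≫ η[H].left
        rw [← Over.w q]
        show q.left ≫ ω = ((q.left ≫ ω) ≫ f) ≫ η[H].left
        rw [Category.assoc q.left, show ω ≫ f = S.fromSpecResidueField s by
          rw [Category.assoc, show η[H].left ≫ f = 𝟙 _ from Over.w η[H]]; exact Category.comp_id _, Category.assoc]
      rw [ht, _root_.one_mul, _root_.mul_one]
    have h2 := (TrivLocus.triv_field ρ ω (default : PrimeSpectrum (S.residueField s))).mp h1
    refine Eq.mp (congrArg (fun x => TrivLocus.Triv ρ (T.fromSpecResidueField x)) ?_) h2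
    exact congrArg η[H].left.base (Scheme.fromSpecResidueField_apply _ _)
  have htop : ∀ t : T, t ∈ U := fun t => by
    rcases hfib (f.base t) with hs | hs
    · haveI := isConnected_iff_connectedSpace.mp hs
      let j : H.hom.base ⁻¹' {f.base t} → T := Subtype.val
      have hcl : IsClopen (j ⁻¹' (U : Set T)) := IsClopen.preimage ⟨hUc, U.2⟩ continuous_subtype_val
      have hne : (j ⁻¹' (U : Set T)).Nonempty := ⟨⟨η[H].left.base (f.base t), by
        show (η[H].left ≫ H.hom).base (f.base t) = f.base t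
        rw [show η[H].left ≫ H.hom = 𝟙 _ from Over.w η[H]]; rfl⟩, hunit _⟩
      exact (Set.eq_univ_iff_forall.mp (hcl.eq_univ hne)) ⟨t, rfl⟩
    · rw [hU]
      refine key _ fun X' q e => ?_
      let s := f.base t
      have h := CentralFib.commute_of_bc (𝟙 H) (S.fromSpecResidueField s) (fun X g h => by
        rw [CategoryTheory.Functor.map_id, Category.comp_id]; exact hs X g h)
        (Spec.map (f.residueFieldMap t)) (Scheme.Hom.SpecMap_residueFieldMap_fromSpecResidueField f t)
        ((Over.map f).obj X') ((Over.map f).map q ≫ Over.homMk (𝟙 _) (Category.id_comp _)) (taut X') e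
      simpa using h
  have hρ1 : ρ = 1 := by
    let k : T ⟶ (U : Scheme.{u}) := IsOpenImmersion.lift U.ι (𝟙 T) (by rintro x -; rw [Scheme.Opens.range_ι]; exact htop x)
    have h : TrivLocus.Triv ρ (𝟙 T) := hUt.of_comp ρ k (IsOpenImmersion.lift_fac _ _ _)
    have := h (Red.bc f H'') (Over.homMk (Red.bc f H'').hom (Category.comp_id _)) (𝟙 _)
    rwa [Category.id_comp] at this
  have hc1 : c = 1 := by rw [← hc', ← hρ, hρ1, MonObj.comp_one, MonObj.one_comp]
  let X' : Over T := Over.mk a.left
  let ι₀ : X ⟶ (Over.map f).obj X' := Over.homMk (𝟙 _) ((Category.id_comp _).trans (Over.w a))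
  let j : (Over.map f).obj X' ⟶ X := Over.homMk (𝟙 _) ((Category.id_comp _).trans (Over.w a).symm)
  have h2 := hc X' (j ≫ b)
  rw [hc1, MonObj.comp_one, ← hone H] at h2
  have h3 := congrArg (fun z => ι₀ ≫ z) ((BCPoints.pt f H X').injective h2)
  simp only [MonObj.comp_mul, GrpObj.comp_inv, MonObj.comp_one, ← Category.assoc,
    show ι₀ ≫ j = 𝟙 X from Over.OverMorphism.ext (Category.id_comp _), Category.id_comp,
    show ι₀ ≫ taut X' = a from Over.OverMorphism.ext (Category.id_comp _)] at h3
  exact mul_inv_eq_iff_eq_mul.mp (mul_inv_eq_one.mp h3.symm)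

end Comm

end Groth.Agent.IsoTriv.ExtensionComm
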