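import Groth.Agent.IsoTriv.SmoothCocycle
import Mathlib.RingTheory.Flat.Basic

/-!
# Averaging a point over a square-zero thickening

If the translate of a point `x : C → A` by the universal point of `Spec B` is congruent to `x` modulo a square-zero
ideal, its average is a ring map.
-/

set_option linter.style.haveILetI false

universe u

open TensorProduct Coalgebra WithConv

namespace Groth.Agent.IsoTriv.FixedAverage

variable {R : Type u} [CommRing R] {B : Type u} [CommRing B] [HopfAlgebra R B] (P : B →ₗ[R] R)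
  {A : Type u} [CommRing A] [Algebra R A] (I : Ideal A)

/-- The elements congruent to a constant. -/
noncomputable def near : Subalgebra R (A ⊗[R] B) where
  carrier := {z | ∃ a : A, z - a ⊗ₜ[R] (1 : B) ∈ I.map (algebraMap A (A ⊗[R] B))}
  mul_mem' := by
    rintro y z ⟨a, ha⟩ ⟨b, hb⟩
    refine ⟨a * b, ?_⟩
    have e : y * z - (a * b) ⊗ₜ[R] (1 : B) = y * (z - b ⊗ₜ 1) + (b ⊗ₜ 1) * (y - a ⊗ₜ 1) := by
      rw [show ((a * b) ⊗ₜ[R] (1 : B)) = (a ⊗ₜ 1) * (b ⊗ₜ 1) by simp]
      ring
    rw [e]
    exact add_mem (Ideal.mul_mem_left _ _ hb) (Ideal.mul_mem_left _ _ ha)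
  add_mem' := by
    rintro y z ⟨a, ha⟩ ⟨b, hb⟩
    refine ⟨a + b, ?_⟩
    rw [TensorProduct.add_tmul, show y + z - (a ⊗ₜ[R] (1 : B) + b ⊗ₜ 1) = (y - a ⊗ₜ 1) + (z - b ⊗ₜ 1) by ring]
    exact add_mem ha hb
  algebraMap_mem' r := ⟨algebraMap R A r, by simp [Algebra.TensorProduct.algebraMap_apply]⟩

theorem intLast_mem (z : A ⊗[R] B) (hz : z ∈ I.map (algebraMap A (A ⊗[R] B))) : intLast P A z ∈ I := by
  induction hz using Submodule.span_induction with
  | mem x hx =>
    obtain ⟨a, ha, rfl⟩ := hx
    simpa [Algebra.TensorProduct.algebraMap_apply, intLast_tmul, Algebra.smul_def] using Ideal.mul_mem_left _ _ ha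
  | zero => simp
  | add x y _ _ hx hy => rw [map_add]; exact add_mem hx hy
  | smul r x hx ih =>
    rw [smul_eq_mul]
    induction r using TensorProduct.induction_on with
    | zero => simp
    | add r r' h h' => rw [add_mul, map_add]; exact add_mem h h'
    | tmul a b =>
      rw [show (a ⊗ₜ[R] b) = (a ⊗ₜ 1) * ((1 : A) ⊗ₜ b) by simp, _root_.mul_assoc, intLast_left]
      refine Ideal.mul_mem_left _ _ ?_
      clear ih
      induction hx using Submodule.span_induction generalizing b with
      | mem x hx =>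
        obtain ⟨a', ha, rfl⟩ := hx
        simpa [Algebra.TensorProduct.algebraMap_apply, intLast_tmul, Algebra.smul_def] using Ideal.mul_mem_left _ _ ha
      | zero => simp
      | add x y _ _ hx hy => rw [mul_add, map_add]; exact add_mem (hx b) (hy b)
      | smul r x _ hx =>
        rw [smul_eq_mul, ← _root_.mul_assoc]
        generalize (1 : A) ⊗ₜ[R] b * r = t
        induction t using TensorProduct.induction_on with
        | zero => simp
        | add t t' h h' => rw [add_mul, map_add]; exact add_mem h h'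
        | tmul a' b' =>
          rw [show (a' ⊗ₜ[R] b') = (a' ⊗ₜ 1) * ((1 : A) ⊗ₜ b') by simp, _root_.mul_assoc, intLast_left]
          exact Ideal.mul_mem_left _ _ (hx b')

theorem intLast_one (hP1 : P 1 = 1) (a : A) : intLast P A (a ⊗ₜ[R] (1 : B)) = a := by
  rw [intLast_tmul, hP1, one_smul]

/-- The average, a ring map on the elements congruent to a constant. -/
noncomputable def avg (hP1 : P 1 = 1) (hI : I * I = ⊥) : near (R := R) (B := B) I →ₐ[R] A where
  toFun z := intLast P A z.1
  map_one' := by
    show intLast P A (1 : A ⊗[R] B) = 1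
    rw [Algebra.TensorProduct.one_def, intLast_one P hP1]
  map_mul' := by
    rintro ⟨y, a, ha⟩ ⟨z, b, hb⟩
    show intLast P A (y * z) = intLast P A y * intLast P A z
    set u := y - a ⊗ₜ[R] (1 : B) with hu
    set v := z - b ⊗ₜ[R] (1 : B) with hv
    have huv : u * v = 0 := by
      have h := Ideal.mul_mem_mul ha hb
      rwa [← Ideal.map_mul, hI, Ideal.map_bot, Ideal.mem_bot] at h
    have hyz : y * z = (a ⊗ₜ[R] (1 : B)) * (b ⊗ₜ 1) + (a ⊗ₜ 1) * v + (b ⊗ₜ 1) * u := by
      rw [← add_zero ((a ⊗ₜ[R] (1 : B)) * (b ⊗ₜ 1) + _ + _), ← huv, hu, hv]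
      ring
    have h0 : intLast P A u * intLast P A v = 0 := by
      have h := Ideal.mul_mem_mul (intLast_mem P I _ ha) (intLast_mem P I _ hb)
      rwa [hI, Ideal.mem_bot] at h
    rw [show y = a ⊗ₜ 1 + u by rw [hu]; ring, show z = b ⊗ₜ 1 + v by rw [hv]; ring] at hyz ⊢
    rw [hyz]
    simp only [map_add, Algebra.TensorProduct.tmul_mul_tmul, _root_.one_mul, intLast_left, intLast_one P hP1]
    linear_combination -h0
  map_zero' := by show intLast P A 0 = 0; simp
  map_add' y z := by show intLast P A (y.1 + z.1) = _; rw [map_add]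
  commutes' r := by
    show intLast P A (algebraMap R (A ⊗[R] B) r) = _
    rw [Algebra.TensorProduct.algebraMap_apply, intLast_one P hP1]

theorem avg_apply (hP1 : P 1 = 1) (hI : I * I = ⊥) (z : near (R := R) (B := B) I) : avg P I hP1 hI z = intLast P A z.1 := rfl

/-- The combined point: the product of the two universal points. -/
noncomputable def comb : A ⊗[R] B →ₐ[R] (A ⊗[R] B) ⊗[R] B :=
  Algebra.TensorProduct.lift
    ((Algebra.TensorProduct.includeLeft : A ⊗[R] B →ₐ[R] (A ⊗[R] B) ⊗[R] B).comp Algebra.TensorProduct.includeLeft)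
    (toConv (Algebra.TensorProduct.includeRight : B →ₐ[R] (A ⊗[R] B) ⊗[R] B) *
      toConv ((Algebra.TensorProduct.includeLeft : A ⊗[R] B →ₐ[R] (A ⊗[R] B) ⊗[R] B).comp
        Algebra.TensorProduct.includeRight)).ofConv
    fun _ _ => Commute.all _ _

/-- The average is fixed. -/
theorem avg_comb (hP1 : P 1 = 1) (hP : ∀ b, intLast P B (comul (R := R) b) = algebraMap R B (P b)) (hI : I * I = ⊥)
    {z : near (R := R) (B := B) I} {w : near (R := R) (B := B) I ⊗[R] B}
    (hw : Algebra.TensorProduct.map (near (R := R) (B := B) I).val (AlgHom.id R B) w = comb z.1) :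
    Algebra.TensorProduct.map (avg P I hP1 hI) (AlgHom.id R B) w = avg P I hP1 hI z ⊗ₜ[R] (1 : B) := by
  let M : (A ⊗[R] B) ⊗[R] B →ₗ[R] A ⊗[R] B := (intLast P A).rTensor B
  have h1 : ∀ y : near (R := R) (B := B) I ⊗[R] B, Algebra.TensorProduct.map (avg P I hP1 hI) (AlgHom.id R B) y =
      M (Algebra.TensorProduct.map (near (R := R) (B := B) I).val (AlgHom.id R B) y) := fun y => by
    induction y using TensorProduct.induction_on with
    | zero => simp
    | tmul a b => rfl
    | add a b ha hb => rw [map_add, map_add, map_add, ha, hb]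
  rw [h1, hw, avg_apply]
  induction z.1 using TensorProduct.induction_on with
  | zero => simp
  | add a b ha hb => rw [map_add, map_add, ha, hb, map_add, TensorProduct.add_tmul]
  | tmul a b =>
    rw [comb, Algebra.TensorProduct.lift_tmul, AlgHom.convMul_apply, intLast_tmul]
    have h2 : ∀ t : B ⊗[R] B,
        M (((Algebra.TensorProduct.includeLeft : A ⊗[R] B →ₐ[R] (A ⊗[R] B) ⊗[R] B).comp
            Algebra.TensorProduct.includeLeft) a *
          Algebra.TensorProduct.lift
            (toConv (Algebra.TensorProduct.includeRight : B →ₐ[R] (A ⊗[R] B) ⊗[R] B)).ofConv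
            (toConv ((Algebra.TensorProduct.includeLeft : A ⊗[R] B →ₐ[R] (A ⊗[R] B) ⊗[R] B).comp
              Algebra.TensorProduct.includeRight)).ofConv (fun _ _ => Commute.all _ _) t) = (a ⊗ₜ[R] (1 : B)) * ((1 : A) ⊗ₜ[R] intLast P B t) := fun t => by
      induction t using TensorProduct.induction_on with
      | zero => simp
      | add y y' hy hy' => simp only [map_add, mul_add, TensorProduct.tmul_add, hy, hy']
      | tmul b₁ b₂ =>
        simp [M, intLast_tmul, TensorProduct.smul_tmul']
    refine (h2 _).trans ?_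
    rw [hP, Algebra.algebraMap_eq_smul_one, TensorProduct.tmul_smul, mul_smul_comm, ← TensorProduct.smul_tmul']
    simp

end Groth.Agent.IsoTriv.FixedAverage
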