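import Groth.Agent.IsoTriv.SmoothLift
import Groth.Agent.IsoTriv.MultBasic
import Groth.Agent.IsoTriv.Nilpotent

/-! Smooth groups over nilpotent thickenings: lifting and conjugacy of homomorphisms. -/

universe u

open TensorProduct Coalgebra WithConv

namespace Groth.Agent.IsoTriv

open SGA3bLib

attribute [local instance 2000] pointsGroup

variable {R : Type u} [CommRing R] {B : Type u} [CommRing B] [HopfAlgebra R B] {C : Type u} [CommRing C]
  [HopfAlgebra R C]

/-- Groups of multiplicative type carry an invariant integral. -/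
theorem exists_integral_of_cover (h : HasCover R B) [Coalgebra.IsCocomm R B] :
    ∃ P : B →ₗ[R] R, P 1 = 1 ∧ ∀ b, intLast P B (comul (R := R) b) = algebraMap R B (P b) := by
  obtain ⟨ι, _, T, _, _, hflat, hsurj, hdiag⟩ := h
  have := faithfullyFlat_pi T hflat hsurj
  have hf : ∀ i, ∃ f : B →ₗ[R] T i, IsIntegralMap f := fun i => by
    obtain ⟨M, _, ⟨e⟩⟩ := hdiag i
    exact ⟨_, isIntegralMap_of_diag e⟩
  choose f hf using hf
  have hcompat : ∀ i j b, f i b ⊗ₜ[R] (1 : T j) = (1 : T i) ⊗ₜ[R] f j b := fun i j =>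
    LinearMap.congr_fun (IsIntegralMap.unique ((hf i).comp (Algebra.TensorProduct.includeLeft : T i →ₐ[R] T i ⊗[R] T j))
      ((hf j).comp (Algebra.TensorProduct.includeRight : T j →ₐ[R] T i ⊗[R] T j)))
  let U := ∀ i, T i
  have hex : ∀ b, ∃ p : R, ∀ i, f i b = algebraMap R (T i) p := fun b => by
    obtain ⟨p, hp⟩ := exists_eq_one_tmul U (M := R) ((fun i => f i b : U) ⊗ₜ[R] (1 : R)) (ext_proj₂ T fun i j => by
      simp only [LinearMap.rTensor_tmul, AlgHom.toLinearMap_apply, Algebra.TensorProduct.includeLeft_apply,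
        Algebra.TensorProduct.includeRight_apply, Algebra.TensorProduct.map_tmul, map_one]
      exact congrArg (fun z => z ⊗ₜ[R] (1 : R)) (hcompat i j b))
    refine ⟨p, fun i => ?_⟩
    have := congrFun (congrArg (TensorProduct.rid R U) hp) i
    simpa [Algebra.smul_def, U, Pi.algebraMap_apply] using this
  choose p hp using hex
  have hinj := FaithfulSMul.algebraMap_injective R U
  let P : B →ₗ[R] R :=
    { toFun := p
      map_add' := fun x y => hinj (funext fun i => by
        show algebraMap R (T i) _ = algebraMap R (T i) _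
        rw [map_add, ← hp, ← hp, ← hp, map_add])
      map_smul' := fun r x => hinj (funext fun i => by
        show algebraMap R (T i) _ = algebraMap R (T i) _
        rw [RingHom.id_apply, smul_eq_mul, map_mul, ← hp, ← hp, map_smul, Algebra.smul_def]) }
  refine ⟨P, hinj (funext fun i => ?_), fun b => eq_of_one_tmul (R := R) U (ext_proj T fun i => ?_)⟩
  · show algebraMap R (T i) (p 1) = algebraMap R (T i) 1
    exact (hp 1 i).symm.trans ((hf i).1.trans (map_one _).symm)
  · simp only [LinearMap.rTensor_tmul, AlgHom.toLinearMap_apply, map_one]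
    have key : ∀ z : B ⊗[R] B, (1 : T i) ⊗ₜ[R] intLast P B z = intMap (f i) z := fun z => by
      induction z using TensorProduct.induction_on with
      | zero => simp
      | tmul x y =>
        rw [intLast_tmul, TensorProduct.tmul_smul, TensorProduct.smul_tmul']
        show (p y • (1 : T i)) ⊗ₜ[R] x = f i y ⊗ₜ[R] x
        rw [hp, Algebra.algebraMap_eq_smul_one]
      | add x y hx hy => simp only [map_add, TensorProduct.tmul_add, hx, hy]
    rw [key, (hf i).2, hp]
    show algebraMap R (T i) (p b) ⊗ₜ[R] (1 : B) = (1 : T i) ⊗ₜ[R] algebraMap R B (p b)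
    rw [Algebra.algebraMap_eq_smul_one, Algebra.algebraMap_eq_smul_one, TensorProduct.smul_tmul]

theorem sub_mem_of_succ {J : Ideal R} {b : ℕ → C → B}
    (h : ∀ n c, b (n + 1) c - b n c ∈ (J ^ (n + 1)).map (algebraMap R B)) (n : ℕ) (c : C) :
    b n c - b 0 c ∈ J.map (algebraMap R B) := by
  induction n with
  | zero => simp
  | succ n ih =>
    rw [← sub_add_sub_cancel (b (n + 1) c) (b n c)]
    exact add_mem (Ideal.map_mono (Ideal.pow_le_self (by omega)) (h n c)) ih

/-- Homomorphisms into smooth groups lift along nilpotent ideals. -/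
theorem exists_smooth_lift_nil [Algebra.FormallySmooth R C] (I : Ideal R) (hI : IsNilpotent I) (P : B →ₗ[R] R)
    (hP1 : P 1 = 1) (hP : ∀ b, intLast P B (comul (R := R) b) = algebraMap R B (P b))
    (φ₀ : (R ⧸ I) ⊗[R] C →ₐc[R ⧸ I] (R ⧸ I) ⊗[R] B) :
    ∃ φ : C →ₐc[R] B, ∀ c : C, φ₀ ((1 : R ⧸ I) ⊗ₜ[R] c) = (1 : R ⧸ I) ⊗ₜ[R] φ c := by
  obtain ⟨n, hn⟩ := hI
  obtain ⟨E, b, hb, hcompat, hb0⟩ := exists_smooth_levels I P hP1 hP φ₀
  have hn' : I ^ (n + 1) ≤ RingHom.ker (algebraMap R R) := by
    rw [pow_succ, hn]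
    simp
  obtain ⟨e, he⟩ := exists_push_bialg (T' := R) (Ideal.Quotient.liftₐ (I ^ (n + 1)) (Algebra.ofId R R) hn') (E n)
  obtain ⟨φ, hφ⟩ := exists_hom_of_cover (ι := PUnit.{u + 1}) (fun _ => R) (fun _ => inferInstance)
    (fun p => ⟨PUnit.unit, p, rfl⟩) (fun _ => e) fun _ _ c => by
      rw [he, hb, push_tmul, map_one]
      simp [Algebra.TensorProduct.one_def]
  refine ⟨φ, fun c => ?_⟩
  have h := hφ PUnit.unit c
  rw [he, hb, push_tmul, map_one] at h
  have h' : b n c = φ c := by simpa using congrArg (TensorProduct.lid R B) h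
  rw [hb0, one_tmul_eq_iff, ← h', ← neg_sub]
  exact neg_mem (sub_mem_of_succ hcompat n c)

/-- Restriction of points along a change of rings. -/
noncomputable def restrictPts {T : Type u} [CommRing T] [Algebra R T] {X : Type u} [CommRing X] [Algebra T X]
    [Algebra R X] [IsScalarTower R T X] :
    WithConv (T ⊗[R] C →ₐ[T] X) →* WithConv (C →ₐ[R] X) where
  toFun k := toConv ((k.ofConv.restrictScalars R).comp Algebra.TensorProduct.includeRight)
  map_one' := WithConv.ofConv_injective (AlgHom.ext fun c => by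
    show algebraMap T X (counit (R := T) ((1 : T) ⊗ₜ[R] c)) = algebraMap R X (counit (R := R) c)
    rw [TensorProduct.counit_tmul, CommSemiring.counit_apply, IsScalarTower.algebraMap_apply R T X]
    congr 1
    rw [Algebra.smul_def, mul_one])
  map_mul' k k' := WithConv.ofConv_injective (AlgHom.ext fun c => by
    show (k * k').ofConv ((1 : T) ⊗ₜ[R] c) = _
    rw [AlgHom.convMul_apply, comul_one_tmul]
    refine Eq.trans ?_ (AlgHom.convMul_apply _ _ _).symm
    generalize comul (R := R) c = z
    induction z using TensorProduct.induction_on with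
    | zero => simp
    | tmul x y => simp [TensorProduct.AlgebraTensorModule.distribBaseChange_tmul]
    | add x y hx hy => simp only [TensorProduct.tmul_add, map_add, hx, hy])

/-- A point multiplicative on the two factors comes from a homomorphism. -/
theorem exists_bialgHom_of_mul (F : WithConv (C →ₐ[R] B))
    (hF : pointsMap Algebra.TensorProduct.includeLeft F * pointsMap Algebra.TensorProduct.includeRight F =
      pointsMap (Bialgebra.comulAlgHom R B) F) :
    ∃ φ : C →ₐc[R] B, ∀ c, φ c = F.ofConv c := by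
  have hcounit : pointsMap (Bialgebra.counitAlgHom R B) F = 1 := by
    let εε : B ⊗[R] B →ₐ[R] R := Algebra.TensorProduct.lift (Bialgebra.counitAlgHom R B)
      (Bialgebra.counitAlgHom R B) fun _ _ => Commute.all _ _
    have h1 := congrArg (pointsMap εε) hF
    rw [map_mul, pointsMap_comp, pointsMap_comp, pointsMap_comp,
      show εε.comp Algebra.TensorProduct.includeLeft = Bialgebra.counitAlgHom R B from AlgHom.ext fun b => by simp [εε],
      show εε.comp Algebra.TensorProduct.includeRight = Bialgebra.counitAlgHom R B from AlgHom.ext fun b => by simp [εε],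
      show εε.comp (Bialgebra.comulAlgHom R B) = Bialgebra.counitAlgHom R B from AlgHom.ext fun b => by
        show εε (comul (R := R) b) = counit (R := R) b
        have hz : ∀ z : B ⊗[R] B, εε z = LinearMap.mul' R R (TensorProduct.map counit counit z) := fun z => by
          induction z using TensorProduct.induction_on with
          | zero => simp
          | tmul x y => simp [εε]
          | add x y hx hy => rw [map_add, map_add, map_add, hx, hy]
        rw [hz]
        let r := ℛ R b
        rw [← r.eq, map_sum, map_sum]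
        conv_rhs => rw [← sum_counit_smul r, map_sum]
        simp [smul_eq_mul]] at h1
    exact mul_eq_left.mp h1
  refine ⟨BialgHom.ofAlgHom F.ofConv (congrArg WithConv.ofConv hcounit) (AlgHom.ext fun c => ?_), fun _ => rfl⟩
  show Algebra.TensorProduct.map F.ofConv F.ofConv (comul (R := R) c) = Bialgebra.comulAlgHom R B (F.ofConv c)
  have h := AlgHom.congr_fun (congrArg WithConv.ofConv hF) c
  refine Eq.trans ?_ h
  rw [AlgHom.convMul_apply]
  generalize comul (R := R) c = z
  induction z using TensorProduct.induction_on with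
  | zero => simp
  | tmul x y => simp [pointsMap]
  | add x y hx hy => simp only [map_add, hx, hy]

theorem pointsMap_of_bialgHom (φ : C →ₐc[R] B) :
    pointsMap Algebra.TensorProduct.includeLeft (toConv (φ : C →ₐ[R] B)) *
      pointsMap Algebra.TensorProduct.includeRight (toConv (φ : C →ₐ[R] B)) =
        pointsMap (Bialgebra.comulAlgHom R B) (toConv (φ : C →ₐ[R] B)) := by
  refine WithConv.ofConv_injective (AlgHom.ext fun c => ?_)
  refine (AlgHom.convMul_apply _ _ _).trans (Eq.trans ?_ (CoalgHomClass.map_comp_comul_apply φ c))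
  generalize comul (R := R) c = z
  induction z using TensorProduct.induction_on with
  | zero => simp
  | tmul x y => simp [pointsMap]
  | add x y hx hy => simp only [map_add, hx, hy]

/-- A homomorphism conjugated by a constant point is a homomorphism. -/
theorem exists_conj (g : WithConv (C →ₐ[R] R)) (φ : C →ₐc[R] B) :
    ∃ ψ : C →ₐc[R] B, toConv (ψ : C →ₐ[R] B) =
      pointsMap (Algebra.ofId R B) g * toConv (φ : C →ₐ[R] B) * (pointsMap (Algebra.ofId R B) g)⁻¹ := by
  set F := pointsMap (Algebra.ofId R B) g * toConv (φ : C →ₐ[R] B) * (pointsMap (Algebra.ofId R B) g)⁻¹ with hFdef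
  obtain ⟨ψ, hψ⟩ := exists_bialgHom_of_mul F (by
    simp only [hFdef, map_mul, map_inv, pointsMap_comp]
    rw [Subsingleton.elim ((Algebra.TensorProduct.includeLeft : B →ₐ[R] B ⊗[R] B).comp (Algebra.ofId R B))
        ((Bialgebra.comulAlgHom R B).comp (Algebra.ofId R B)),
      Subsingleton.elim ((Algebra.TensorProduct.includeRight : B →ₐ[R] B ⊗[R] B).comp (Algebra.ofId R B))
        ((Bialgebra.comulAlgHom R B).comp (Algebra.ofId R B)), ← pointsMap_of_bialgHom φ]
    group)
  exact ⟨ψ, WithConv.ofConv_injective (AlgHom.ext hψ)⟩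

/-- Homomorphisms congruent modulo a square-zero ideal are conjugate. -/
theorem exists_conj_of_sq (P : B →ₗ[R] R) (hP1 : P 1 = 1)
    (hP : ∀ b, intLast P B (comul (R := R) b) = algebraMap R B (P b)) (J : Ideal R) (hJ : J * J = ⊥)
    (φ ψ : C →ₐc[R] B) (h : ∀ c, φ c - ψ c ∈ J.map (algebraMap R B)) :
    ∃ u : WithConv (C →ₐ[R] R), InKer J u ∧
      pointsMap (Algebra.ofId R B) u * toConv (ψ : C →ₐ[R] B) * (pointsMap (Algebra.ofId R B) u)⁻¹ =
        toConv (φ : C →ₐ[R] B) := by
  let iL : B →ₐ[R] B ⊗[R] B := Algebra.TensorProduct.includeLeft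
  let iR : B →ₐ[R] B ⊗[R] B := Algebra.TensorProduct.includeRight
  let δ : B →ₐ[R] B ⊗[R] B := Bialgebra.comulAlgHom R B
  set Φ := toConv (φ : C →ₐ[R] B)
  set Ψ := toConv (ψ : C →ₐ[R] B)
  let w := Φ * Ψ⁻¹
  have hw : InKer J w := by
    rw [inKer_iff]
    set q := pointsMap (C := C) (Ideal.Quotient.mkₐ R (J.map (algebraMap R B)))
    suffices e : q Φ = q Ψ by rw [show q w = q Φ * q Ψ⁻¹ from map_mul q _ _, e, ← map_mul, mul_inv_cancel, map_one]
    exact WithConv.ofConv_injective (AlgHom.ext fun c => Ideal.Quotient.eq.mpr (h c))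
  obtain ⟨u, hu, huk⟩ := exists_int_point P hP1 J hJ (pointsMap (Algebra.TensorProduct.includeRight : B →ₐ[R] R ⊗[R] B) w)
    (hw.map J _)
  set ub := pointsMap (Algebra.ofId R B) u with hub
  have hu' : ∀ c, u.ofConv c = P (w.ofConv c) := fun c => by
    refine (LinearMap.congr_fun (congrArg WithConv.ofConv hu) c).trans ?_
    show intLast P R ((1 : R) ⊗ₜ[R] w.ofConv c) = _
    rw [intLast_tmul, smul_eq_mul, mul_one]
  have hδ : intLin P (convLin (pointsMap δ w)) = convLin ub := by
    refine WithConv.ofConv_injective (LinearMap.ext fun c => ?_)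
    show intLast P B (comul (R := R) (w.ofConv c)) = algebraMap R B (u.ofConv c)
    rw [hP, hu']
  have hR : intLin P (convLin (pointsMap iR w)) = convLin ub := by
    refine WithConv.ofConv_injective (LinearMap.ext fun c => ?_)
    show intLast P B ((1 : B) ⊗ₜ[R] w.ofConv c) = algebraMap R B (u.ofConv c)
    rw [intLast_tmul, hu', Algebra.algebraMap_eq_smul_one]
  have hL : intLin P (convLin (pointsMap iL w)) = convLin w := by
    refine WithConv.ofConv_injective (LinearMap.ext fun c => ?_)
    show intLast P B (w.ofConv c ⊗ₜ[R] (1 : B)) = w.ofConv c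
    rw [intLast_tmul, hP1, one_smul]
  let g := pointsMap iL Φ
  have hdec : pointsMap δ w = g * pointsMap iR w * g⁻¹ * pointsMap iL w := by
    have e1 : pointsMap δ Φ = pointsMap iL Φ * pointsMap iR Φ := (pointsMap_of_bialgHom φ).symm
    have e2 : pointsMap δ Ψ = pointsMap iL Ψ * pointsMap iR Ψ := (pointsMap_of_bialgHom ψ).symm
    simp only [w, g, map_mul, map_inv, e1, e2]
    group
  have hconj : InKer J (g * pointsMap iR w * g⁻¹) := (hw.map J iR).conj J g
  have hubk : InKer J ub := huk.map J _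
  have hcx : InKer J (Φ * ub * Φ⁻¹) := hubk.conj J Φ
  have key : ub = Φ * ub * Φ⁻¹ * w := by
    refine WithConv.ofConv_injective (AlgHom.toLinearMap_injective (congrArg WithConv.ofConv
      (?_ : convLin ub = convLin (Φ * ub * Φ⁻¹ * w))))
    rw [← hδ, hdec, InKer.lin J hJ hconj (hw.map J iL), InKer.lin J hJ hcx hw, map_sub, map_add, intLin_one P hP1, hL]
    simp only [map_mul convLin]
    congr 2
    rw [show g⁻¹ = pointsMap iL Φ⁻¹ from (map_inv (pointsMap iL) Φ).symm]
    refine (intLin_mul_right P Φ⁻¹ _).trans ?_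
    rw [intLin_mul_left P Φ, hR]
  refine ⟨u, huk, ?_⟩
  show ub * Ψ * ub⁻¹ = Φ
  have hΨ : Ψ = w⁻¹ * Φ := by simp only [w]; group
  have hwe : w = (Φ * ub * Φ⁻¹)⁻¹ * ub := eq_inv_mul_of_mul_eq key.symm
  rw [hΨ, hwe]
  group

/-- Homomorphisms congruent modulo a nilpotent ideal are conjugate. -/
theorem exists_conj_of_nil [Algebra.FormallySmooth R C] (P : B →ₗ[R] R) (hP1 : P 1 = 1)
    (hP : ∀ b, intLast P B (comul (R := R) b) = algebraMap R B (P b)) (I : Ideal R) (hI : IsNilpotent I)
    (φ ψ : C →ₐc[R] B) (h : ∀ c, φ c - ψ c ∈ I.map (algebraMap R B)) :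
    ∃ g : WithConv (C →ₐ[R] R), InKer I g ∧
      pointsMap (Algebra.ofId R B) g * toConv (ψ : C →ₐ[R] B) * (pointsMap (Algebra.ofId R B) g)⁻¹ =
        toConv (φ : C →ₐ[R] B) := by
  obtain ⟨N, hN⟩ := hI
  suffices key : ∀ d k : ℕ, 1 ≤ k → N ≤ k + d → ∀ ψ : C →ₐc[R] B, (∀ c, φ c - ψ c ∈ (I ^ k).map (algebraMap R B)) →
      ∃ g : WithConv (C →ₐ[R] R), InKer I g ∧
        pointsMap (Algebra.ofId R B) g * toConv (ψ : C →ₐ[R] B) * (pointsMap (Algebra.ofId R B) g)⁻¹ =
          toConv (φ : C →ₐ[R] B) from key N 1 le_rfl (by omega) ψ (by simpa using h)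
  intro d
  induction d with
  | zero =>
    intro k hk hNk ψ hψ
    refine ⟨1, (inKer_iff I 1).mpr (map_one _), ?_⟩
    have e : toConv (ψ : C →ₐ[R] B) = toConv (φ : C →ₐ[R] B) := WithConv.ofConv_injective (AlgHom.ext fun c => by
      have hle : I ^ k ≤ ⊥ := by
        refine (Ideal.pow_le_pow_right (show N ≤ k by omega)).trans ?_
        rw [hN]; exact le_rfl
      have h2 := Ideal.map_mono hle (hψ c)
      rw [Ideal.map_bot, Ideal.mem_bot, sub_eq_zero] at h2
      exact h2.symm)
    rw [map_one, one_mul, inv_one, mul_one, e]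
  | succ d ih =>
    intro k hk hNk ψ hψ
    let T := R ⧸ I ^ (2 * k)
    let J : Ideal T := (I ^ k).map (Ideal.Quotient.mk (I ^ (2 * k)))
    have hJ : J * J = ⊥ := by
      show (I ^ k).map _ * (I ^ k).map _ = _
      rw [← Ideal.map_mul, ← pow_add, ← two_mul, Ideal.map_quotient_self]
    obtain ⟨Q, hQ1, hQ⟩ := exists_integral_bc P hP1 hP T
    have hcongr : ∀ x, bcHom T φ x - bcHom T ψ x ∈ J.map (algebraMap T (T ⊗[R] B)) := fun x => by
      induction x using TensorProduct.induction_on with
      | zero => simp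
      | add x y hx hy => rw [map_add, map_add, add_sub_add_comm]; exact add_mem hx hy
      | tmul t c =>
        rw [show J.map (algebraMap T (T ⊗[R] B)) = (I ^ k).map (algebraMap R (T ⊗[R] B)) by
          rw [IsScalarTower.algebraMap_eq R T (T ⊗[R] B), ← Ideal.map_map]; rfl]
        rw [bcHom_tmul, bcHom_tmul, ← TensorProduct.tmul_sub,
          show t ⊗ₜ[R] (φ c - ψ c) = (t ⊗ₜ[R] (1 : B)) * ((1 : T) ⊗ₜ[R] (φ c - ψ c)) by simp]
        exact Ideal.mul_mem_left _ _ (map_mem (I ^ k) (Algebra.TensorProduct.includeRight : B →ₐ[R] T ⊗[R] B) (hψ c))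
    obtain ⟨u, huk, hu⟩ := exists_conj_of_sq Q hQ1 hQ J hJ (bcHom T φ) (bcHom T ψ) hcongr
    let q : R →ₐ[R] T := Ideal.Quotient.mkₐ R _
    have hnil : IsNilpotent (RingHom.ker q.toRingHom) := ⟨N, by
      rw [show RingHom.ker q.toRingHom = I ^ (2 * k) from Ideal.mk_ker, ← pow_mul,
        show 2 * k * N = N + (2 * k * N - N) by have : N ≤ 2 * k * N := Nat.le_mul_of_pos_left N (by omega); omega,
        pow_add, hN, zero_mul]⟩
    let u₀ : C →ₐ[R] T := (restrictPts (R := R) (X := T) u).ofConv
    obtain ⟨g₀, hg₀⟩ : ∃ g₀ : C →ₐ[R] R, q.comp g₀ = u₀ :=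
      ⟨Algebra.FormallySmooth.liftOfSurjective u₀ q Ideal.Quotient.mk_surjective hnil,
        Algebra.FormallySmooth.comp_liftOfSurjective u₀ q Ideal.Quotient.mk_surjective hnil⟩
    let g := toConv g₀
    have hgk : InKer I g := fun c => by
      have h1 := huk ((1 : T) ⊗ₜ[R] c)
      rw [Algebra.algebraMap_self, Ideal.map_id, RingHom.id_apply] at h1
      have h2 : Ideal.Quotient.mk (I ^ (2 * k)) (g₀ c - counit c) ∈ J := by
        rw [map_sub]
        convert h1 using 2
        · exact AlgHom.congr_fun hg₀ c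
        · rw [TensorProduct.counit_tmul, CommSemiring.counit_apply, Algebra.smul_def, mul_one]
          rfl
      show g₀ c - algebraMap R R (counit c) ∈ _
      rw [Algebra.algebraMap_self, Ideal.map_id, RingHom.id_apply]
      have h3 : g₀ c - counit c ∈ I ^ k ⊔ I ^ (2 * k) := by
        have h4 : g₀ c - counit c ∈ Ideal.comap (Ideal.Quotient.mk (I ^ (2 * k))) J := h2
        rw [Ideal.comap_map_of_surjective _ Ideal.Quotient.mk_surjective, ← RingHom.ker_eq_comap_bot, Ideal.mk_ker] at h4
        exact h4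
      have hle : I ^ k ⊔ I ^ (2 * k) ≤ I := sup_le (Ideal.pow_le_self (by omega)) (Ideal.pow_le_self (by omega))
      exact hle h3
    obtain ⟨ψ', hψ'⟩ := exists_conj g ψ
    have hnext : ∀ c, φ c - ψ' c ∈ (I ^ (2 * k)).map (algebraMap R B) := fun c => by
      refine (one_tmul_eq_iff _).mp ?_
      let j : B →ₐ[R] T ⊗[R] B := Algebra.TensorProduct.includeRight
      suffices e : pointsMap j (toConv (φ : C →ₐ[R] B)) = pointsMap j (toConv (ψ' : C →ₐ[R] B)) from
        AlgHom.congr_fun (congrArg WithConv.ofConv e) c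
      have hr := congrArg (restrictPts (R := R)) hu
      rw [map_mul, map_mul, map_inv] at hr
      have ev : ∀ θ : C →ₐc[R] B, restrictPts (R := R) (toConv (bcHom T θ : T ⊗[R] C →ₐ[T] T ⊗[R] B)) =
          pointsMap j (toConv (θ : C →ₐ[R] B)) := fun θ =>
        WithConv.ofConv_injective (AlgHom.ext fun c => bcHom_tmul T θ 1 c)
      have eu : restrictPts (R := R) (pointsMap (Algebra.ofId T (T ⊗[R] B)) u) =
          pointsMap j (pointsMap (Algebra.ofId R B) g) := WithConv.ofConv_injective (AlgHom.ext fun c => by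
        show algebraMap T (T ⊗[R] B) (u.ofConv ((1 : T) ⊗ₜ[R] c)) = (1 : T) ⊗ₜ[R] algebraMap R B (g₀ c)
        rw [show u.ofConv ((1 : T) ⊗ₜ[R] c) = algebraMap R T (g₀ c) from (AlgHom.congr_fun hg₀ c).symm,
          Algebra.TensorProduct.algebraMap_apply, Algebra.algebraMap_self, RingHom.id_apply,
          Algebra.algebraMap_eq_smul_one, Algebra.algebraMap_eq_smul_one, TensorProduct.smul_tmul])
      rw [ev, ev, eu] at hr
      rw [hψ', map_mul, map_mul, map_inv]
      exact hr.symm
    obtain ⟨g', hg'k, hg'⟩ := ih (2 * k) (by omega) (by omega) ψ' hnext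
    refine ⟨g' * g, ?_, ?_⟩
    · rw [inKer_iff] at hg'k hgk ⊢
      rw [map_mul, hg'k, hgk, one_mul]
    · rw [hψ'] at hg'
      rw [map_mul]
      refine Eq.trans ?_ hg'
      group

end Groth.Agent.IsoTriv
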