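import Groth.Agent.IsoTriv.FixedAverage
import Groth.Agent.IsoTriv.SmoothNil
import Groth.Agent.IsoTriv.SchemeLocal
import Groth.Agent.SGA3cLib.MultTrivialAction

/-!
# Fixed points of groups of multiplicative type on smooth schemes, over affine charts
-/

set_option linter.style.haveILetI false
set_option autoImplicit false

universe u

open CategoryTheory CategoryTheory.Limits MonoidalCategory CartesianMonoidalCategory MonObj GrpObj AlgebraicGeometry
open scoped TensorProduct

noncomputable section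

namespace Groth.Agent.IsoTriv.FixedSmooth

open CoactBr HopfLib.SpPoints SchemeSpec SGA3cLib WithConv

attribute [local instance 2000] pointsGroup

variable {S : Scheme.{u}} {G X : Over S} [GrpObj G] {R : Type u} [CommRing R] (g : Spec (CommRingCat.of R) ⟶ S)
  {B : Type u} [CommRing B] [HopfAlgebra R B] (e : Grp.mk (Red.bc g G) ≅ Grp.mk (sp R B))

/-- The point of `G` of a point of the Hopf algebra. -/
def pt (E : Type u) [CommRing E] [Algebra R E] (k : WithConv (B →ₐ[R] E)) : MultTriv.Q g E ⟶ G :=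
  (BCPoints.pt g G (Over.mk (str R E))).symm
    ((Spec.mapMulEquiv k : Over.mk (str R E) ⟶ sp R B) ≫ e.inv.hom.hom)

theorem pt_mul (E : Type u) [CommRing E] [Algebra R E] (k l : WithConv (B →ₐ[R] E)) :
    pt g e E (k * l) = pt g e E k * pt g e E l := by
  haveI : IsMonHom e.inv.hom.hom := e.inv.hom.isMonHom_hom
  apply (BCPoints.pt g G (Over.mk (str R E))).injective
  rw [BCPoints.pt_mul]
  simp only [pt, Equiv.apply_symm_apply, map_mul]
  exact MonObj.mul_comp _ _ _

theorem q_pt {E E' : Type u} [CommRing E] [Algebra R E] [CommRing E'] [Algebra R E'] (w : E →ₐ[R] E')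
    (k : WithConv (B →ₐ[R] E)) : MultTriv.q g w ≫ pt g e E k = pt g e E' (toConv (w.comp k.ofConv)) := by
  let r : Over.mk (str R E') ⟶ Over.mk (str R E) := Over.homMk (Spec.map (CommRingCat.ofHom w.toRingHom)) (by
    show Spec.map _ ≫ Spec.map _ = Spec.map _
    rw [← Spec.map_comp, ← CommRingCat.ofHom_comp]
    congr
    exact w.comp_algebraMap)
  apply (BCPoints.pt g G (Over.mk (str R E'))).injective
  rw [show MultTriv.q g w = (Over.map g).map r from Over.OverMorphism.ext rfl, BCPoints.pt_map_comp]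
  simp only [pt, Equiv.apply_symm_apply, ← Category.assoc]
  congr 1
  exact Over.OverMorphism.ext (Spec.map_comp _ _).symm

theorem pt_surjective (E : Type u) [CommRing E] [Algebra R E] : Function.Surjective (pt g e E) := fun a => by
  haveI : IsIso e.inv.hom.hom := ((Grp.forget _).mapIso e).isIso_inv
  obtain ⟨k, hk⟩ := (Spec.mapMulEquiv (R := R) (S := B) (T := E)).surjective
    (BCPoints.pt g G (Over.mk (str R E)) a ≫ inv (show sp R B ⟶ Red.bc g G from e.inv.hom.hom))
  refine ⟨k, (BCPoints.pt g G (Over.mk (str R E))).injective ?_⟩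
  simp only [pt, Equiv.apply_symm_apply, hk]
  exact (Category.assoc _ _ _).trans ((congrArg (BCPoints.pt g G (Over.mk (str R E)) a ≫ ·) (IsIso.inv_hom_id _)).trans (Category.comp_id _))

variable (a : AlgGrp.Action G X) {C : Type u} [CommRing C] [Algebra R C] (j : Spec (CommRingCat.of C) ⟶ X.left)
  (hj : j ≫ X.hom = str R C ≫ g)

/-- The point of `X` of a point of the chart. -/
def ch {E : Type u} [CommRing E] [Algebra R E] (x : C →ₐ[R] E) : MultTriv.Q g E ⟶ X :=
  Over.homMk (Spec.map (CommRingCat.ofHom x.toRingHom) ≫ j) (by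
    show (Spec.map _ ≫ j) ≫ X.hom = str R E ≫ g
    rw [Category.assoc, hj, ← Category.assoc]
    congr 1
    show Spec.map _ ≫ Spec.map _ = Spec.map _
    rw [← Spec.map_comp, ← CommRingCat.ofHom_comp]
    congr
    exact x.comp_algebraMap)

theorem q_ch {E E' : Type u} [CommRing E] [Algebra R E] [CommRing E'] [Algebra R E'] (w : E →ₐ[R] E')
    (x : C →ₐ[R] E) : MultTriv.q g w ≫ ch g j hj x = ch g j hj (w.comp x) := by
  refine Over.OverMorphism.ext ?_
  show Spec.map _ ≫ Spec.map _ ≫ j = Spec.map _ ≫ j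
  rw [← Spec.map_comp_assoc]
  rfl

variable [IsOpenImmersion j] [IsOpenImmersion g]

theorem ch_injective {E : Type u} [CommRing E] [Algebra R E] {x y : C →ₐ[R] E}
    (h : ch g j hj x = ch g j hj y) : x = y := by
  have h1 : Spec.map (CommRingCat.ofHom x.toRingHom) ≫ j = Spec.map (CommRingCat.ofHom y.toRingHom) ≫ j :=
    congrArg CommaMorphism.left h
  exact AlgHom.coe_ringHom_injective (congrArg CommRingCat.Hom.hom (Spec.map_injective ((cancel_mono j).mp h1)))

/-- A point congruent to a point of the chart modulo a nil ideal is in the chart. -/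
theorem exists_ch {E : Type u} [CommRing E] [Algebra R E] (y : MultTriv.Q g E ⟶ X) (N : Ideal E)
    (hN : ∀ x ∈ N, IsNilpotent x) (x₀ : C →ₐ[R] E ⧸ N)
    (h : MultTriv.q g (Ideal.Quotient.mkₐ R N) ≫ y = ch g j hj x₀) : ∃ φ : C →ₐ[R] E, ch g j hj φ = y := by
  have hr : Set.range y.left.base ⊆ Set.range j.base := by
    rintro _ ⟨p, rfl⟩
    obtain ⟨q, rfl⟩ : ∃ q, (Spec.map (CommRingCat.ofHom (Ideal.Quotient.mk N))).base q = p := by
      refine ⟨⟨Ideal.map (Ideal.Quotient.mk N) (p : PrimeSpectrum E).asIdeal, ?_⟩, ?_⟩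
      · refine Ideal.map_isPrime_of_surjective Ideal.Quotient.mk_surjective ?_
        rw [Ideal.mk_ker]
        exact fun x hx => (p : PrimeSpectrum E).2.mem_of_pow_mem (hN x hx).choose
          (by rw [(hN x hx).choose_spec]; exact zero_mem _)
      · refine PrimeSpectrum.ext ?_
        show Ideal.comap (Ideal.Quotient.mk N) _ = _
        rw [Ideal.comap_map_of_surjective _ Ideal.Quotient.mk_surjective, ← RingHom.ker_eq_comap_bot, Ideal.mk_ker,
          sup_eq_left]
        exact fun x hx => (p : PrimeSpectrum E).2.mem_of_pow_mem (hN x hx).choose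
          (by rw [(hN x hx).choose_spec]; exact zero_mem _)
    exact ⟨(Spec.map (CommRingCat.ofHom x₀.toRingHom)).base q,
      (congrArg (fun z => z.base q) (congrArg CommaMorphism.left h)).symm⟩
  let l : Spec (CommRingCat.of E) ⟶ Spec (CommRingCat.of C) := IsOpenImmersion.lift j y.left hr
  have hl : l ≫ j = y.left := IsOpenImmersion.lift_fac _ _ _
  have hlR : l ≫ str R C = str R E := by
    rw [← cancel_mono g, Category.assoc, ← hj, reassoc_of% hl]
    exact Over.w y
  refine ⟨⟨(Spec.preimage l).hom, fun r => ?_⟩, ?_⟩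
  · have h2 : CommRingCat.ofHom (algebraMap R C) ≫ Spec.preimage l = CommRingCat.ofHom (algebraMap R E) := by
      apply Spec.map_injective
      rw [Spec.map_comp, Spec.map_preimage]
      exact hlR
    exact congr($h2 r)
  · refine Over.OverMorphism.ext ?_
    show Spec.map _ ≫ j = y.left
    rw [← hl]
    congr 1
    exact Spec.map_preimage l

variable (c : Ideal C) (P : B →ₗ[R] R) (hP1 : P 1 = 1)
  (hP : ∀ b, intLast P B (CoalgebraStruct.comul (R := R) b) = algebraMap R B (P b))

include e in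
/-- The translate by the universal point of a point of the chart which is fixed modulo a square-zero ideal. -/
theorem exists_translate {T : Type u} [CommRing T] [Algebra R T] (J : Ideal T) (hJ : J * J = ⊥) (x : C →ₐ[R] T)
    (hfix : ∀ (E : Type u) [CommRing E] [Algebra R E] (w : T →ₐ[R] E), (∀ z ∈ J, w z = 0) →
      ∀ k : WithConv (B →ₐ[R] E), lift (pt g e E k) (ch g j hj (w.comp x)) ≫ a.act = ch g j hj (w.comp x)) :
    ∃ ψ : C →ₐ[R] T ⊗[R] B,
      ch g j hj ψ = lift (pt g e _ (toConv Algebra.TensorProduct.includeRight))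
        (ch g j hj ((Algebra.TensorProduct.includeLeft : T →ₐ[R] T ⊗[R] B).comp x)) ≫ a.act ∧
      ∀ z, ψ z - x z ⊗ₜ[R] (1 : B) ∈ J.map (algebraMap T (T ⊗[R] B)) := by
  let incL : T →ₐ[R] T ⊗[R] B := Algebra.TensorProduct.includeLeft
  let y : MultTriv.Q g (T ⊗[R] B) ⟶ X :=
    lift (pt g e _ (toConv Algebra.TensorProduct.includeRight)) (ch g j hj (incL.comp x)) ≫ a.act
  let N : Ideal (T ⊗[R] B) := J.map (algebraMap T (T ⊗[R] B))
  have hN2 : N * N = ⊥ := by rw [← Ideal.map_mul, hJ, Ideal.map_bot]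
  have hnil : ∀ z ∈ N, IsNilpotent z := fun z hz => ⟨2, by
    have := Ideal.mul_mem_mul hz hz
    rwa [hN2, Ideal.mem_bot, ← pow_two] at this⟩
  have hyN : MultTriv.q g (Ideal.Quotient.mkₐ R N) ≫ y = ch g j hj ((Ideal.Quotient.mkₐ R N).comp (incL.comp x)) := by
    rw [← Category.assoc, comp_lift, q_pt, q_ch]
    exact hfix _ ((Ideal.Quotient.mkₐ R N).comp incL)
      (fun z hz => Ideal.Quotient.eq_zero_iff_mem.mpr (Ideal.mem_map_of_mem _ hz)) _
  obtain ⟨ψ, hψ⟩ := exists_ch g j hj y N hnil _ hyN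
  refine ⟨ψ, hψ, fun z => ?_⟩
  have h : (Ideal.Quotient.mkₐ R N).comp ψ = (Ideal.Quotient.mkₐ R N).comp (incL.comp x) :=
    ch_injective g j hj (by rw [← q_ch, hψ, hyN])
  exact Ideal.Quotient.eq.mp (DFunLike.congr_fun h z)

include e hP1 hP in
set_option maxHeartbeats 600000 in
/-- The fixed locus in a formally smooth chart is formally smooth. -/
theorem formallySmooth [Algebra.FormallySmooth R C]
    (hc : ∀ (E : Type u) [CommRing E] [Algebra R E] (x : C →ₐ[R] E), c ≤ RingHom.ker x ↔
      ∀ (T' : Over S) (t : T' ⟶ MultTriv.Q g E) (h : T' ⟶ G),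
        lift h (t ≫ ch g j hj x) ≫ a.act = t ≫ ch g j hj x) :
    Algebra.FormallySmooth R (C ⧸ c) := by
  refine Algebra.FormallySmooth.of_comp_surjective fun A _ _ I hI f => ?_
  obtain ⟨x, hx⟩ := Algebra.FormallySmooth.comp_surjective R C I hI (f.comp (Ideal.Quotient.mkₐ R c))
  have hI2 : I * I = ⊥ := by rw [← pow_two]; exact hI
  let incL : A →ₐ[R] A ⊗[R] B := Algebra.TensorProduct.includeLeft
  let incR : WithConv (B →ₐ[R] A ⊗[R] B) := toConv Algebra.TensorProduct.includeRight
  let N : Ideal (A ⊗[R] B) := I.map (algebraMap A (A ⊗[R] B))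
  have hN2 : N * N = ⊥ := by rw [← Ideal.map_mul, hI2, Ideal.map_bot]
  -- points which come from `A ⧸ I` are fixed
  have hfix : ∀ {E : Type u} [CommRing E] [Algebra R E] (x' : C →ₐ[R] E), c ≤ RingHom.ker x' →
      ∀ k : WithConv (B →ₐ[R] E), lift (pt g e E k) (ch g j hj x') ≫ a.act = ch g j hj x' := fun {E} _ _ x' hx' k => by
    have := (hc E x').mp hx' _ (𝟙 _) (pt g e E k)
    simpa using this
  have hx0 : ∀ {E : Type u} [CommRing E] [Algebra R E] (w : A →ₐ[R] E), (∀ z ∈ I, w z = 0) →
      c ≤ RingHom.ker (w.comp x) := fun {E} _ _ w hw z hz => by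
    refine hw _ ?_
    rw [← Ideal.Quotient.eq_zero_iff_mem]
    show Ideal.Quotient.mkₐ R I (x z) = 0
    rw [← AlgHom.comp_apply, show (Ideal.Quotient.mkₐ R I).comp x = f.comp (Ideal.Quotient.mkₐ R c) from hx]
    show f (Ideal.Quotient.mk c z) = 0
    rw [Ideal.Quotient.eq_zero_iff_mem.mpr hz, map_zero]
  -- the universal translate
  obtain ⟨φ, hφ, hφN⟩ := exists_translate g e a j hj I hI2 x fun E _ _ w hw k => hfix _ (hx0 w hw) k
  let Nr := FixedAverage.near (R := R) (B := B) I
  let φ' : C →ₐ[R] Nr := φ.codRestrict _ fun z => ⟨x z, hφN z⟩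
  let av : Nr →ₐ[R] A := FixedAverage.avg P I hP1 hI2
  let x' : C →ₐ[R] A := av.comp φ'
  have hx' : ∀ z, x' z - x z ∈ I := fun z => by
    have h : x' z = FixedAverage.avg P I hP1 hI2 (φ' z) := rfl
    rw [h, FixedAverage.avg_apply, ← FixedAverage.intLast_one P hP1 (B := B) (x z), ← map_sub]
    exact FixedAverage.intLast_mem P I _ (hφN z)
  -- the translate of the translate
  let J : Ideal Nr := N.comap Nr.val
  have hJ2 : J * J = ⊥ := by
    refine le_bot_iff.mp (Ideal.mul_le.mpr fun r hr s hs => ?_)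
    rw [Ideal.mem_bot]
    refine Subtype.ext ?_
    have := Ideal.mul_mem_mul (Ideal.mem_comap.mp hr) (Ideal.mem_comap.mp hs)
    rwa [hN2, Ideal.mem_bot] at this
  let incL2 : Nr →ₐ[R] Nr ⊗[R] B := Algebra.TensorProduct.includeLeft
  let cst : A →ₐ[R] Nr := incL.codRestrict _ fun z => ⟨z, by simp [incL]⟩
  obtain ⟨ψ, hψ, -⟩ := exists_translate g e a j hj J hJ2 φ' fun E _ _ w hw k => by
    have he : w.comp φ' = (w.comp cst).comp x := by
      refine AlgHom.ext fun z => sub_eq_zero.mp ?_
      show w (φ' z) - w (cst (x z)) = 0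
      rw [← map_sub]
      exact hw _ (Ideal.mem_comap.mpr (hφN z))
    rw [he]
    exact hfix _ (hx0 _ fun z hz => hw _ (Ideal.mem_comap.mpr (Ideal.mem_map_of_mem _ hz))) k
  let vb : Nr ⊗[R] B →ₐ[R] (A ⊗[R] B) ⊗[R] B := Algebra.TensorProduct.map Nr.val (AlgHom.id R B)
  let inL : A ⊗[R] B →ₐ[R] (A ⊗[R] B) ⊗[R] B := Algebra.TensorProduct.includeLeft
  let outer : WithConv (B →ₐ[R] (A ⊗[R] B) ⊗[R] B) := toConv Algebra.TensorProduct.includeRight
  let inner : WithConv (B →ₐ[R] (A ⊗[R] B) ⊗[R] B) := toConv (inL.comp incR.ofConv)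
  have hcomb : vb.comp ψ = FixedAverage.comb.comp φ := by
    refine ch_injective g j hj ?_
    rw [← q_ch g j hj (E := Nr ⊗[R] B) (E' := (A ⊗[R] B) ⊗[R] B) vb ψ,
      ← q_ch g j hj (E := A ⊗[R] B) (E' := (A ⊗[R] B) ⊗[R] B) FixedAverage.comb φ, hψ, hφ]
    simp only [← Category.assoc, comp_lift, q_pt, q_ch]
    have e1 : toConv (vb.comp (toConv (Algebra.TensorProduct.includeRight : B →ₐ[R] Nr ⊗[R] B)).ofConv) = outer :=
      WithConv.ofConv_injective (AlgHom.ext fun b => by simp [vb, outer])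
    have e2 : vb.comp (incL2.comp φ') = inL.comp φ := AlgHom.ext fun z => by simp [vb, incL2, inL, φ']
    have e3 : toConv ((FixedAverage.comb (A := A)).comp incR.ofConv) = outer * inner :=
      WithConv.ofConv_injective (AlgHom.ext fun b => by simp [FixedAverage.comb, incR, outer, inner, inL])
    have e4 : (FixedAverage.comb (A := A)).comp (incL.comp x) = (inL.comp incL).comp x :=
      AlgHom.ext fun z => by simp [FixedAverage.comb, incL, inL]
    rw [e1, e2, e3, e4, pt_mul, MultTriv.exists_affine_coaction a]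
    congr 2
    rw [← q_ch g j hj inL, hφ]
    simp only [← Category.assoc, comp_lift, q_pt, q_ch]
    rfl
  have huniv : lift (pt g e _ incR) (ch g j hj (incL.comp x')) ≫ a.act = ch g j hj (incL.comp x') := by
    let aid : Nr ⊗[R] B →ₐ[R] A ⊗[R] B := Algebra.TensorProduct.map av (AlgHom.id R B)
    have e1 : toConv (aid.comp (toConv (Algebra.TensorProduct.includeRight : B →ₐ[R] Nr ⊗[R] B)).ofConv) = incR :=
      WithConv.ofConv_injective (AlgHom.ext fun b => by simp [aid, incR])
    have e2 : aid.comp (incL2.comp φ') = incL.comp x' := AlgHom.ext fun z => by simp [aid, incL2, incL, x', av]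
    have h : MultTriv.q g (A := Nr ⊗[R] B) (A' := A ⊗[R] B) aid ≫ (lift (pt g e (Nr ⊗[R] B) (toConv Algebra.TensorProduct.includeRight)) (ch g j hj (E := Nr ⊗[R] B) (incL2.comp φ')) ≫ a.act) = ch g j hj (incL.comp x') := by
      rw [← hψ, q_ch]
      congr 1
      refine AlgHom.ext fun z => ?_
      exact FixedAverage.avg_comb P I hP1 hP hI2 (z := φ' z) (w := ψ z) (DFunLike.congr_fun hcomb z)
    conv_rhs => rw [← h]
    simp only [← Category.assoc, comp_lift, q_pt, q_ch, incL2, e1, e2]
  have hker : c ≤ RingHom.ker x' := by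
    rw [hc A x']
    intro T' t h
    let T₀ : Over (Spec (CommRingCat.of R)) := Over.mk (t.left ≫ str R A)
    let i₀ : T' ⟶ (Over.map g).obj T₀ := Over.homMk (𝟙 _) (by
      show 𝟙 _ ≫ (t.left ≫ str R A) ≫ g = T'.hom
      rw [Category.id_comp, Category.assoc]
      exact Over.w t)
    let i₁ : (Over.map g).obj T₀ ⟶ T' := Over.homMk (𝟙 _) (by
      show 𝟙 _ ≫ T'.hom = (t.left ≫ str R A) ≫ g
      rw [Category.id_comp, Category.assoc]
      exact (Over.w t).symm)
    have hii : i₀ ≫ i₁ = 𝟙 T' := Over.OverMorphism.ext (Category.id_comp _)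
    haveI : IsIso e.inv.hom.hom := ((Grp.forget _).mapIso e).isIso_inv
    let hB : T₀ ⟶ sp R B := BCPoints.pt g G T₀ (i₁ ≫ h) ≫ inv e.inv.hom.hom
    have sq : IsPullback (Spec.map (CommRingCat.ofHom incL.toRingHom)) (Spec.map (CommRingCat.ofHom incR.ofConv.toRingHom))
        (str R A) (str R B) :=
      isPullback_SpecMap_of_isPushout _ _ _ _ (CommRingCat.isPushout_tensorProduct R A B)
    let l : T'.left ⟶ Spec (CommRingCat.of (A ⊗[R] B)) := sq.lift t.left hB.left (Over.w hB).symm
    have hl1 : l ≫ Spec.map (CommRingCat.ofHom incL.toRingHom) = t.left := sq.lift_fst _ _ _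
    let r : T₀ ⟶ Over.mk (str R (A ⊗[R] B)) := Over.homMk l (by
      show l ≫ Spec.map _ = t.left ≫ str R A
      rw [← hl1, Category.assoc, ← Spec.map_comp, ← CommRingCat.ofHom_comp]
      congr)
    let E : T' ⟶ MultTriv.Q g (A ⊗[R] B) := i₀ ≫ (Over.map g).map r
    have hE1 : E ≫ MultTriv.q g incL = t := Over.OverMorphism.ext ((congrArg (· ≫ _) (Category.id_comp _)).trans hl1)
    have hE2 : E ≫ pt g e _ incR = h := by
      have h2 : (Over.map g).map r ≫ pt g e _ incR = i₁ ≫ h := by
        apply (BCPoints.pt g G T₀).injective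
        rw [BCPoints.pt_map_comp]
        simp only [pt, Equiv.apply_symm_apply, ← Category.assoc]
        rw [show r ≫ (Spec.mapMulEquiv incR : _ ⟶ sp R B) = hB from Over.OverMorphism.ext (sq.lift_snd _ _ _)]
        exact (Category.assoc _ _ _).trans
          ((congrArg (BCPoints.pt g G T₀ (i₁ ≫ h) ≫ ·) (IsIso.inv_hom_id _)).trans (Category.comp_id _))
      rw [Category.assoc, h2, reassoc_of% hii]
    have hE3 : E ≫ ch g j hj (incL.comp x') = t ≫ ch g j hj x' := by rw [← q_ch, reassoc_of% hE1]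
    rw [← hE2, ← hE3, ← comp_lift_assoc, huniv]
  refine ⟨Ideal.Quotient.liftₐ c x' fun z hz => hker hz, Ideal.Quotient.algHom_ext _ (AlgHom.ext fun z => ?_)⟩
  show Ideal.Quotient.mk I (x' z) = f (Ideal.Quotient.mk c z)
  rw [Ideal.Quotient.eq.mpr (hx' z)]
  exact DFunLike.congr_fun hx z

end Groth.Agent.IsoTriv.FixedSmooth
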