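import Groth.Agent.IsoTriv.GroupAlgLift
import Mathlib.RingTheory.Flat.EquationalCriterion
import Mathlib.LinearAlgebra.TensorProduct.Quotient
import Mathlib.LinearAlgebra.TensorProduct.Basis
import Mathlib.RingTheory.Ideal.Quotient.Operations

/-! Flat deformations of diagonalisable groups are diagonalisable. -/

universe u

open TensorProduct Coalgebra

namespace Groth.Agent.IsoTriv

open SGA3bLib

section SquareZero

variable {T : Type u} [CommRing T] {J : Ideal T} {A : Type u} [CommRing A] [HopfAlgebra T A]
  {N : Type u} [CommGroup N] (e₀ : (T ⧸ J) ⊗[T] A ≃ₐc[T ⧸ J] MonoidAlgebra (T ⧸ J) N)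

/-- Reduction to the group algebra of the special fibre. -/
noncomputable def red (a : A) : MonoidAlgebra (T ⧸ J) N := e₀ ((1 : T ⧸ J) ⊗ₜ[T] a)

theorem red_add (a b : A) : red e₀ (a + b) = red e₀ a + red e₀ b := by
  rw [red, TensorProduct.tmul_add, map_add]; rfl

theorem red_zero : red e₀ (0 : A) = 0 := by
  rw [red, TensorProduct.tmul_zero, map_zero]

theorem red_smul (t : T) (a : A) : red e₀ (t • a) = Ideal.Quotient.mk J t • red e₀ a := by
  rw [red, TensorProduct.tmul_smul, ← algebraMap_smul (T ⧸ J) t]
  exact map_smul e₀.toAlgEquiv.toLinearEquiv _ _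

theorem red_surjective : Function.Surjective (red e₀) := by
  intro z
  obtain ⟨w, rfl⟩ := e₀.surjective z
  induction w using TensorProduct.induction_on with
  | zero => exact ⟨0, by rw [red_zero, map_zero]⟩
  | tmul q a =>
    obtain ⟨t, rfl⟩ := Ideal.Quotient.mk_surjective q
    refine ⟨t • a, ?_⟩
    rw [red, ← TensorProduct.smul_tmul, Algebra.smul_def, mul_one]
    rfl
  | add x y hx hy =>
    obtain ⟨a, ha⟩ := hx
    obtain ⟨b, hb⟩ := hy
    exact ⟨a + b, by rw [red_add, ha, hb]; exact (map_add e₀ x y).symm⟩

theorem mem_smul_top_of_red_eq_zero {a : A} (h : red e₀ a = 0) : a ∈ J • (⊤ : Submodule T A) := by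
  have h1 : (1 : T ⧸ J) ⊗ₜ[T] a = 0 := e₀.injective (h.trans (map_zero e₀).symm)
  have h2 := congrArg (TensorProduct.quotTensorEquivQuotSMul A J) h1
  rw [map_zero, show (1 : T ⧸ J) = Ideal.Quotient.mk J (1 : T) from rfl] at h2
  rw [← Submodule.Quotient.mk_eq_zero, ← h2]
  simp

variable (hJ : J * J = ⊥) [Module.Flat T A] {v : N → A} (hv : ∀ n, red e₀ (v n) = MonoidAlgebra.single n 1)

include hJ hv in
theorem linearIndependent_lift : LinearIndependent T v := by
  classical
  rw [linearIndependent_iff']
  intro s g hg i hi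
  have hred : ∀ j ∈ s, g j ∈ J := fun j hj => by
    have h1 := congrArg (fun a => coef j (red e₀ a)) hg
    have hsum : ∀ (t : Finset N) (f : N → A), red e₀ (∑ k ∈ t, f k) = ∑ k ∈ t, red e₀ (f k) := fun t f =>
      map_sum (AddMonoidHom.mk' (red e₀) (red_add e₀)) f t
    simp only [hsum, red_smul, hv, map_sum, map_smul, red_zero, map_zero, coef_single, smul_eq_mul, mul_ite, mul_one,
      mul_zero, Finset.sum_ite_eq', if_pos hj] at h1
    exact Ideal.Quotient.eq_zero_iff_mem.mp h1
  obtain ⟨k, a, z, hz, ha⟩ := Module.Flat.isTrivialRelation_of_sum_smul_eq_zero (f := fun j : s => g j)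
    (x := fun j : s => v j) (by rw [← hg]; exact Finset.sum_coe_sort s (fun j => g j • v j))
  choose c hc using fun l => Ideal.Quotient.mk_surjective (coef i (red e₀ (z l)))
  have hdelta : ∀ j : s, (∑ l, a j l * c l) - (if (j : N) = i then 1 else 0) ∈ J := fun j => by
    rw [← Ideal.Quotient.eq_zero_iff_mem, map_sub, sub_eq_zero, map_sum]
    have h1 := congrArg (fun w => coef i (red e₀ w)) (hz j)
    have hsum : ∀ f : Fin k → A, red e₀ (∑ l, f l) = ∑ l, red e₀ (f l) := fun f =>
      map_sum (AddMonoidHom.mk' (red e₀) (red_add e₀)) f _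
    simp only [hsum, red_smul, hv, map_sum, map_smul, coef_single, smul_eq_mul] at h1
    simp only [map_mul, hc]
    rw [← h1]
    split_ifs <;> simp
  have hzero : ∀ j : s, g j * (∑ l, a j l * c l) = g j * (if (j : N) = i then 1 else 0) := fun j => by
    have : g j * ((∑ l, a j l * c l) - (if (j : N) = i then 1 else 0)) ∈ J * J :=
      Ideal.mul_mem_mul (hred j j.2) (hdelta j)
    rw [hJ, Ideal.mem_bot, mul_sub, sub_eq_zero] at this
    exact this
  have htot : ∑ j : s, g j * (∑ l, a j l * c l) = 0 := by
    rw [show (∑ j : s, g j * ∑ l, a j l * c l) = ∑ l, (∑ j : s, g j * a j l) * c l by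
      simp only [Finset.mul_sum, Finset.sum_mul, mul_assoc]
      exact Finset.sum_comm]
    exact Finset.sum_eq_zero fun l _ => by rw [ha l, zero_mul]
  rw [Finset.sum_congr rfl fun j _ => hzero j, Finset.sum_coe_sort s (fun j => g j * if j = i then 1 else 0)] at htot
  simpa [hi] using htot

omit [Module.Flat T A] in
include hJ hv in
theorem span_lift : ⊤ ≤ Submodule.span T (Set.range v) := by
  classical
  have hstep : ∀ a : A, a ∈ Submodule.span T (Set.range v) ⊔ J • (⊤ : Submodule T A) := by
    intro a
    choose t ht using fun n => Ideal.Quotient.mk_surjective (coef n (red e₀ a))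
    let b := ∑ n ∈ (red e₀ a).coeff.support, t n • v n
    have hb : red e₀ (a - b) = 0 := by
      have h1 : red e₀ b = red e₀ a := by
        rw [show red e₀ b = ∑ n ∈ (red e₀ a).coeff.support, red e₀ (t n • v n) from
          map_sum (AddMonoidHom.mk' (red e₀) (red_add e₀)) _ _]
        refine ext_coef fun m => ?_
        simp only [map_sum, red_smul, hv, ht, map_smul, coef_single, smul_eq_mul, mul_ite, mul_one, mul_zero,
          Finset.sum_ite_eq']
        split_ifs with hm
        · rfl
        · exact (Finsupp.notMem_support_iff.mp hm).symm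
      have := red_add e₀ (a - b) b
      rw [sub_add_cancel, h1] at this
      simpa using this.symm
    have : a = b + (a - b) := by abel
    rw [this]
    exact Submodule.add_mem_sup (Submodule.sum_mem _ fun n _ =>
      Submodule.smul_mem _ _ (Submodule.subset_span ⟨n, rfl⟩)) (mem_smul_top_of_red_eq_zero e₀ hb)
  intro a _
  obtain ⟨x, hx, y, hy, rfl⟩ := Submodule.mem_sup.mp (hstep a)
  refine add_mem hx ?_
  refine Submodule.smul_induction_on hy (fun r hr w _ => ?_) (fun p q hp hq => add_mem hp hq)
  obtain ⟨x', hx', y', hy', rfl⟩ := Submodule.mem_sup.mp (hstep w)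
  rw [smul_add]
  refine add_mem (Submodule.smul_mem _ _ hx') ?_
  have hz : r • y' ∈ (J * J) • (⊤ : Submodule T A) := by
    rw [Submodule.mul_smul]
    exact Submodule.smul_mem_smul hr hy'
  rw [hJ, Submodule.bot_smul, Submodule.mem_bot] at hz
  rw [hz]
  exact zero_mem _

/-- Lifts of the characters form a basis. -/
noncomputable def liftBasis : Module.Basis N T A :=
  Module.Basis.mk (linearIndependent_lift e₀ hJ hv) (span_lift e₀ hJ hv)

theorem liftBasis_apply (n : N) : liftBasis e₀ hJ hv n = v n := Module.Basis.mk_apply _ _ n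

omit [Module.Flat T A] in
include hv in
theorem coef_repr (B : Module.Basis N T A) (hB : ∀ n, B n = v n) (a : A) (n : N) :
    Ideal.Quotient.mk J (B.repr a n) = coef n (red e₀ a) := by
  classical
  let L : A →+ MonoidAlgebra (T ⧸ J) N := AddMonoidHom.mk' (red e₀) (red_add e₀)
  conv_rhs => rw [← B.linearCombination_repr a, Finsupp.linearCombination_apply, Finsupp.sum,
    show red e₀ _ = L _ from rfl, map_sum]
  simp only [L, AddMonoidHom.mk'_apply, red_smul, hB, hv, map_sum, map_smul, coef_single, smul_eq_mul, mul_ite,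
    mul_one, mul_zero, Finset.sum_ite_eq']
  split_ifs with hn
  · rfl
  · rw [Finsupp.notMem_support_iff.mp hn, map_zero]

/-- The special fibre of a tensor. -/
noncomputable def red₂ (z : A ⊗[T] A) : MonoidAlgebra (T ⧸ J) N ⊗[T ⧸ J] MonoidAlgebra (T ⧸ J) N :=
  TensorProduct.map e₀.toAlgEquiv.toLinearMap e₀.toAlgEquiv.toLinearMap
    (TensorProduct.AlgebraTensorModule.distribBaseChange T (T ⧸ J) A A ((1 : T ⧸ J) ⊗ₜ[T] z))

omit [Module.Flat T A] in
theorem red₂_tmul (a b : A) : red₂ e₀ (a ⊗ₜ[T] b) = red e₀ a ⊗ₜ[T ⧸ J] red e₀ b := rfl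

omit [Module.Flat T A] in
include hv in
theorem repr_tensor_mem (B : Module.Basis N T A) (hB : ∀ n, B n = v n) {z : A ⊗[T] A} (hz : red₂ e₀ z = 0)
    (i : N × N) : (B.tensorProduct B).repr z i ∈ J := by
  classical
  rw [← Ideal.Quotient.eq_zero_iff_mem]
  have key : ∀ w : A ⊗[T] A, Ideal.Quotient.mk J ((B.tensorProduct B).repr w i) =
      LinearMap.mul' (T ⧸ J) (T ⧸ J) (TensorProduct.map (coef i.1) (coef i.2) (red₂ e₀ w)) := by
    intro w
    induction w using TensorProduct.induction_on with
    | zero => simp [red₂]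
    | tmul a b =>
      rw [red₂_tmul, Module.Basis.tensorProduct_repr_tmul_apply, TensorProduct.map_tmul, LinearMap.mul'_apply,
        ← coef_repr e₀ hv B hB a, ← coef_repr e₀ hv B hB b, smul_eq_mul, map_mul, mul_comm]
    | add p q hp hq =>
      rw [map_add, Finsupp.add_apply, map_add, hp, hq,
        show red₂ e₀ (p + q) = red₂ e₀ p + red₂ e₀ q by simp only [red₂, TensorProduct.tmul_add, map_add],
        map_add, map_add]
  rw [key, hz, map_zero, map_zero]

omit [Module.Flat T A] in
include hv in
theorem red₂_comul (n : N) : red₂ e₀ (comul (R := T) (v n)) =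
    MonoidAlgebra.single n (1 : T ⧸ J) ⊗ₜ[T ⧸ J] MonoidAlgebra.single n (1 : T ⧸ J) := by
  have h1 : comul (R := T ⧸ J) ((1 : T ⧸ J) ⊗ₜ[T] v n) =
      TensorProduct.AlgebraTensorModule.distribBaseChange T (T ⧸ J) A A ((1 : T ⧸ J) ⊗ₜ[T] comul (R := T) (v n)) := by
    rw [TensorProduct.comul_tmul, CommSemiring.comul_apply]
    generalize comul (R := T) (v n) = z
    induction z using TensorProduct.induction_on with
    | zero => simp
    | tmul x y => simp [TensorProduct.AlgebraTensorModule.distribBaseChange_tmul]
    | add x y hx hy => simp only [tmul_add, map_add, hx, hy]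
  rw [red₂, ← h1]
  have h2 := CoalgHomClass.map_comp_comul_apply (e₀ : (T ⧸ J) ⊗[T] A →ₐc[T ⧸ J] MonoidAlgebra (T ⧸ J) N)
    ((1 : T ⧸ J) ⊗ₜ[T] v n)
  refine h2.trans ?_
  show comul (R := T ⧸ J) (red e₀ (v n)) = _
  rw [hv, (MonoidAlgebra.isGroupLikeElem_single_one (R := T ⧸ J) (A := T ⧸ J) n).comul_eq_tmul_self]

end SquareZero

section Cocycle

variable {T : Type u} [CommRing T] {J : Ideal T} (hJ : J * J = ⊥)

include hJ in
/-- Functionals congruent on a basis agree on elements with coordinates in a square-zero ideal. -/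
theorem eq_of_congr {W : Type u} [AddCommGroup W] [Module T W] {κ : Type u} (B : Module.Basis κ T W)
    (L₁ L₂ : W →ₗ[T] T) {z : W} (hz : ∀ i, B.repr z i ∈ J) (h : ∀ i, L₁ (B i) - L₂ (B i) ∈ J) : L₁ z = L₂ z := by
  rw [← sub_eq_zero, ← LinearMap.sub_apply]
  conv_lhs => rw [← B.linearCombination_repr z, Finsupp.linearCombination_apply, Finsupp.sum]
  rw [map_sum]
  refine Finset.sum_eq_zero fun i _ => ?_
  rw [map_smul, smul_eq_mul]
  have : B.repr z i * (L₁ - L₂) (B i) ∈ J * J := Ideal.mul_mem_mul (hz i) (h i)
  rwa [hJ, Ideal.mem_bot] at this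

variable {A : Type u} [CommRing A] [HopfAlgebra T A] {N : Type u} (B : Module.Basis N T A)
  (hδ : ∀ n i, (B.tensorProduct B).repr (comul (R := T) (B n) - B n ⊗ₜ[T] B n) i ∈ J)

include hδ in
theorem coord_comul_sub [DecidableEq N] (n p q : N) :
    (B.tensorProduct B).repr (comul (R := T) (B n)) (p, q) - (if p = n ∧ q = n then 1 else 0) ∈ J := by
  have h := hδ n (p, q)
  rw [map_sub, Finsupp.sub_apply, Module.Basis.tensorProduct_repr_tmul_apply, B.repr_self, Finsupp.single_apply,
    Finsupp.single_apply, smul_eq_mul] at h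
  convert h using 2
  by_cases hp : p = n <;> by_cases hq : q = n <;> simp [hp, hq, Ne.symm, eq_comm]

include hJ hδ in
theorem coord_comul_add [DecidableEq N] {y : A} (hy : ∀ i, B.repr y i ∈ J) (p q : N) :
    (B.tensorProduct B).repr (comul (R := T) y) (p, q) = if p = q then B.repr y p else 0 := by
  have key := eq_of_congr hJ B ((B.tensorProduct B).coord (p, q) ∘ₗ comul (R := T) (A := A))
    (if p = q then B.coord p else 0) hy fun n => ?_
  · simp only [LinearMap.comp_apply, Module.Basis.coord_apply] at key
    rw [key]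
    split_ifs <;> simp
  · have h := coord_comul_sub B hδ n p q
    have he : (if p = q then B.coord p else 0) (B n) = if p = n ∧ q = n then (1 : T) else 0 := by
      by_cases hpq : p = q
      · subst hpq
        rw [if_pos rfl, Module.Basis.coord_apply, B.repr_self, Finsupp.single_apply]
        rcases eq_or_ne n p with hn | hn
        · simp [hn]
        · simp [hn, hn.symm]
      · rw [if_neg hpq, LinearMap.zero_apply, if_neg fun hh => hpq (hh.1.trans hh.2.symm)]
    rw [LinearMap.comp_apply, Module.Basis.coord_apply, he]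
    exact h

include hJ hδ in
/-- The defect of comultiplication on a lifted character is a coboundary. -/
theorem exists_cochain [DecidableEq N] (m : N) :
    ∃ y : A, (∀ i, B.repr y i ∈ J) ∧ comul (R := T) (B m + y) = (B m + y) ⊗ₜ[T] (B m + y) := by
  classical
  set B₂ := B.tensorProduct B
  set B₃ := B₂.tensorProduct B
  set δ := comul (R := T) (B m) - B m ⊗ₜ[T] B m with hδdef
  let c : N → N → T := fun p q => B₂.repr δ (p, q)
  have hc : ∀ p q, c p q ∈ J := fun p q => hδ m (p, q)
  let F₁ : A ⊗[T] A →ₗ[T] (A ⊗[T] A) ⊗[T] A := (comul (R := T) (A := A)).rTensor A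
  let F₂ : A ⊗[T] A →ₗ[T] (A ⊗[T] A) ⊗[T] A :=
    (TensorProduct.assoc T A A A).symm.toLinearMap ∘ₗ (comul (R := T) (A := A)).lTensor A
  have hF : F₁ (comul (R := T) (B m)) = F₂ (comul (R := T) (B m)) :=
    (Coalgebra.coassoc_symm_apply (B m)).symm
  have htens : ∀ (z : A ⊗[T] A) (a : A) (p q r : N),
      B₃.repr (z ⊗ₜ[T] a) ((p, q), r) = B.repr a r * B₂.repr z (p, q) := fun z a p q r => by
    rw [Module.Basis.tensorProduct_repr_tmul_apply, smul_eq_mul]
  have hassoc : ∀ (a : A) (z : A ⊗[T] A) (p q r : N),
      B₃.repr ((TensorProduct.assoc T A A A).symm (a ⊗ₜ[T] z)) ((p, q), r) = B.repr a p * B₂.repr z (q, r) := by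
    intro a z p q r
    induction z using TensorProduct.induction_on with
    | zero => simp
    | tmul x w =>
      rw [TensorProduct.assoc_symm_tmul, htens, Module.Basis.tensorProduct_repr_tmul_apply,
        Module.Basis.tensorProduct_repr_tmul_apply, smul_eq_mul, smul_eq_mul]
      ring
    | add x w hx hw => rw [TensorProduct.tmul_add, map_add, map_add, Finsupp.add_apply, hx, hw, map_add,
        Finsupp.add_apply, mul_add]
  have hrel : ∀ p q r : N, (if r = m then c p q else 0) + (if p = q then c p r else 0) =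
      (if p = m then c q r else 0) + (if q = r then c p q else 0) := by
    intro p q r
    have h := congrArg (fun z => B₃.repr z ((p, q), r)) hF
    have hsplit : comul (R := T) (B m) = B m ⊗ₜ[T] B m + δ := by rw [hδdef]; abel
    simp only [hsplit, map_add, Finsupp.add_apply] at h
    rw [show F₁ (B m ⊗ₜ[T] B m) = comul (R := T) (B m) ⊗ₜ[T] B m from rfl,
      show F₂ (B m ⊗ₜ[T] B m) = (TensorProduct.assoc T A A A).symm (B m ⊗ₜ[T] comul (R := T) (B m)) from rfl,
      htens, hassoc] at h
    have h₁ := eq_of_congr hJ B₂ (B₃.coord ((p, q), r) ∘ₗ F₁) (if p = q then B₂.coord (p, r) else 0)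
      (z := δ) (hδ m) fun i => ?_
    have h₂ := eq_of_congr hJ B₂ (B₃.coord ((p, q), r) ∘ₗ F₂) (if q = r then B₂.coord (p, q) else 0)
      (z := δ) (hδ m) fun i => ?_
    · simp only [LinearMap.comp_apply, Module.Basis.coord_apply] at h₁ h₂
      rw [h₁, h₂, hsplit, map_add, Finsupp.add_apply, Finsupp.add_apply, mul_add, mul_add,
        Module.Basis.tensorProduct_repr_tmul_apply, Module.Basis.tensorProduct_repr_tmul_apply, B.repr_self] at h
      have e₁ : (if p = q then B₂.coord (p, r) else 0) δ = if p = q then c p r else 0 := by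
        split_ifs <;> simp [c]
      have e₂ : (if q = r then B₂.coord (p, q) else 0) δ = if q = r then c p q else 0 := by
        split_ifs <;> simp [c]
      rw [e₁, e₂] at h
      simp only [Finsupp.single_apply, smul_eq_mul, ite_mul, one_mul, zero_mul, mul_ite, mul_one, mul_zero] at h
      simp only [eq_comm (a := m)] at h
      by_cases hp : p = m <;> by_cases hq : q = m <;> by_cases hr : r = m <;>
        simp only [hp, hq, hr, if_true, if_false, add_zero, zero_add, c] at h ⊢ <;> linear_combination h
    · obtain ⟨a, b⟩ := i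
      simp only [B₂, Module.Basis.tensorProduct_apply, LinearMap.comp_apply, Module.Basis.coord_apply]
      rw [show F₂ (B a ⊗ₜ[T] B b) = (TensorProduct.assoc T A A A).symm (B a ⊗ₜ[T] comul (R := T) (B b)) from rfl, hassoc,
        B.repr_self, Finsupp.single_apply]
      have hd := coord_comul_sub B hδ b q r
      by_cases hqr : q = r
      · rw [if_pos hqr, Module.Basis.coord_apply, Module.Basis.tensorProduct_repr_tmul_apply, B.repr_self, B.repr_self,
          Finsupp.single_apply, Finsupp.single_apply, smul_eq_mul]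
        by_cases hap : a = p
        · simp only [if_pos hap, one_mul, mul_one]
          convert hd using 2
          simp [hqr, eq_comm]
        · simp [hap]
      · rw [if_neg hqr, LinearMap.zero_apply, sub_zero]
        rw [if_neg (fun hh => hqr (hh.1.trans hh.2.symm)), sub_zero] at hd
        exact Ideal.mul_mem_left _ _ hd
    · obtain ⟨a, b⟩ := i
      simp only [B₂, Module.Basis.tensorProduct_apply, LinearMap.comp_apply, Module.Basis.coord_apply]
      rw [show F₁ (B a ⊗ₜ[T] B b) = comul (R := T) (B a) ⊗ₜ[T] B b from rfl, htens, B.repr_self, Finsupp.single_apply]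
      have hd := coord_comul_sub B hδ a p q
      by_cases hpq : p = q
      · rw [if_pos hpq, Module.Basis.coord_apply, Module.Basis.tensorProduct_repr_tmul_apply, B.repr_self, B.repr_self,
          Finsupp.single_apply, Finsupp.single_apply, smul_eq_mul]
        by_cases hbr : b = r
        · simp only [if_pos hbr, one_mul, mul_one]
          convert hd using 2
          simp [hpq, eq_comm]
        · simp [hbr]
      · rw [if_neg hpq, LinearMap.zero_apply, sub_zero]
        rw [if_neg (fun hh => hpq (hh.1.trans hh.2.symm)), sub_zero] at hd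
        exact Ideal.mul_mem_left _ _ hd
  have hc0 : ∀ p q, c p q = (if p = q then (if p = m then c m m else c p p) else 0) -
      (if q = m ∧ p ≠ m then c p p else 0) - (if p = m ∧ q ≠ m then c q q else 0) := by
    intro p q
    by_cases hpq : p = q
    · subst hpq; by_cases hp : p = m <;> simp [hp]
    · by_cases hp : p = m
      · have hq : q ≠ m := fun hq => hpq (hp.trans hq.symm)
        have h := hrel p q q
        rw [if_neg hq, if_neg hpq, if_pos hp, if_pos rfl] at h
        rw [if_neg hpq, if_neg (fun hh => hq hh.1), if_pos ⟨hp, hq⟩]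
        linear_combination -h
      · have h := hrel p p q
        rw [if_pos rfl, if_neg hp, if_neg hpq, zero_add] at h
        rw [if_neg hpq, if_neg (fun hh : p = m ∧ q ≠ m => hp hh.1)]
        by_cases hq : q = m
        · rw [if_pos hq] at h
          rw [if_pos ⟨hq, hp⟩]
          linear_combination h
        · rw [if_neg hq, zero_add] at h
          rw [if_neg (fun hh => hq hh.1), h]
          ring
  let S : Finset N := (B₂.repr δ).support.image Prod.fst
  let f : N → T := fun p => if p = m then c m m else -c p p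
  let y : A := ∑ p ∈ S, f p • B p
  have hyrepr : ∀ p, B.repr y p = f p := by
    intro p
    rw [map_sum, Finset.sum_apply']
    simp only [map_smul, B.repr_self, Finsupp.smul_apply, Finsupp.single_apply, smul_eq_mul, mul_ite, mul_one, mul_zero,
      Finset.sum_ite_eq']
    split_ifs with hp
    · rfl
    · have h0 : c p p = 0 := by
        by_contra hne
        exact hp (Finset.mem_image.mpr ⟨(p, p), Finsupp.mem_support_iff.mpr hne, rfl⟩)
      simp only [f]
      split_ifs with hpm
      · subst hpm; exact h0.symm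
      · rw [h0, neg_zero]
  have hyJ : ∀ p, B.repr y p ∈ J := fun p => by
    rw [hyrepr]
    simp only [f]
    split_ifs
    · exact hc m m
    · exact neg_mem (hc p p)
  refine ⟨y, hyJ, B₂.repr.injective (Finsupp.ext fun ⟨p, q⟩ => ?_)⟩
  have hyy : ∀ a b, B.repr y a * B.repr y b = 0 := fun a b => by
    have : B.repr y a * B.repr y b ∈ J * J := Ideal.mul_mem_mul (hyJ a) (hyJ b)
    rwa [hJ, Ideal.mem_bot] at this
  have h1 := coord_comul_add hJ B hδ hyJ p q
  have h2 : B₂.repr (comul (R := T) (B m)) (p, q) = (if p = m ∧ q = m then 1 else 0) + c p q := by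
    simp only [c, hδdef, map_sub, Finsupp.sub_apply, Module.Basis.tensorProduct_repr_tmul_apply, B.repr_self,
      Finsupp.single_apply, B₂]
    by_cases hp : p = m <;> by_cases hq : q = m <;> simp [hp, hq, Ne.symm, eq_comm]
  rw [map_add, map_add, Finsupp.add_apply, h1, h2, hc0 p q, Module.Basis.tensorProduct_repr_tmul_apply, map_add,
    Finsupp.add_apply, Finsupp.add_apply, B.repr_self, Finsupp.single_apply, Finsupp.single_apply, smul_eq_mul,
    hyrepr, hyrepr]
  have hff := hyy q p
  rw [hyrepr, hyrepr] at hff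
  simp only [f] at hff ⊢
  rcases eq_or_ne p q with rfl | hpq
  · rcases eq_or_ne p m with hp | hp
    · subst hp; simp at hff ⊢; linear_combination -hff
    · simp [hp, hp.symm] at hff ⊢; linear_combination -hff
  · rcases eq_or_ne p m with hp | hp
    · subst hp; simp [hpq, hpq.symm] at hff ⊢; linear_combination -hff
    · rcases eq_or_ne q m with hq | hq
      · subst hq; simp [hp, hp.symm] at hff ⊢; linear_combination -hff
      · simp [hp, hp.symm, hq, hq.symm, hpq] at hff ⊢; linear_combination -hff

end Cocycle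

end Groth.Agent.IsoTriv
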