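import Groth.Agent.EGA43.FlatDescent.Main
import Groth.Agent.EGA43.FlatDescent.Model
import Groth.Agent.FlatMor12.Combine.Descend
import Mathlib.RingTheory.Flat.Localization

/-! Flatness along a closed fibre descends to a finitely generated stage. -/

universe u

set_option backward.isDefEq.respectTransparency false

open TensorProduct

namespace Groth.Agent.IsoTriv

open EGA43.FlatDescent FlatMor12.Combine

attribute [local instance] bcModule

/-- Flatness at a prime, read in an isomorphic algebra. -/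
theorem flatAt_iff {T A P C : Type u} [CommRing T] [CommRing A] [CommRing P] [Algebra T A] [Algebra T P]
    [CommRing C] [Algebra A C] (φ : A ⊗[T] P ≃ₐ[A] C) (q : Ideal C) [q.IsPrime]
    [(q.comap φ.toAlgHom.toRingHom).IsPrime] :
    FlatAt T P P A (q.comap φ.toAlgHom.toRingHom) ↔ Module.Flat A (Localization.AtPrime q) := by
  let L := LocalizedModule q.primeCompl C
  let i : L ≃ₗ[A] Localization.AtPrime q :=
    (IsLocalizedModule.iso q.primeCompl (Algebra.linearMap C (Localization.AtPrime q))).restrictScalars A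
  unfold FlatAt
  letI : Module (A ⊗[T] P) (A ⊗[T] P) := bcModule T P P A
  refine Iff.trans (flat_localized_iff φ.toAlgHom.toRingHom φ.surjective φ.toLinearEquiv ?_ q)
    ⟨fun _ => Module.Flat.of_linearEquiv i.symm, fun _ => Module.Flat.of_linearEquiv i⟩
  intro s x
  exact map_smul_of_tmul (M := P) φ.toAlgHom.toRingHom (φ : A ⊗[T] P →+ C)
    (fun a p c m => by
      rw [bc_smul_tmul]
      show φ ((a * c) ⊗ₜ[T] (p • m)) = φ (a ⊗ₜ p) * φ (c ⊗ₜ m)
      rw [← map_mul, Algebra.TensorProduct.tmul_mul_tmul, smul_eq_mul]) s x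

variable {T R : Type u} [CommRing T] [CommRing R] [Algebra T R] [IsLocalRing R]
  {C₀ : Type u} [CommRing C₀] [Algebra T C₀]

/-- The contraction of the maximal ideal to a stage. -/
abbrev stageIdeal (U : Subalgebra T R) : Ideal U := (IsLocalRing.maximalIdeal R).comap (algebraMap U R)

theorem map_trans_mem {U V : Subalgebra T R} (h : U ≤ V) {x : U ⊗[T] C₀}
    (hx : x ∈ (stageIdeal U).map (algebraMap U (U ⊗[T] C₀))) :
    trans C₀ h x ∈ (stageIdeal V).map (algebraMap V (V ⊗[T] C₀)) := by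
  refine (?_ : (stageIdeal U).map (algebraMap U (U ⊗[T] C₀)) ≤
    Ideal.comap (trans C₀ h) ((stageIdeal V).map (algebraMap V (V ⊗[T] C₀)))) hx
  refine Ideal.map_le_iff_le_comap.mpr fun a ha => ?_
  show trans C₀ h (algebraMap U (U ⊗[T] C₀) a) ∈ (stageIdeal V).map (algebraMap V (V ⊗[T] C₀))
  exact Ideal.mem_map_of_mem (algebraMap V (V ⊗[T] C₀)) (show Subalgebra.inclusion h a ∈ stageIdeal V from ha)

/-- Elements over the closed point come from a stage. -/
theorem exists_stage_mem {y : R ⊗[T] C₀} (hy : y ∈ (IsLocalRing.maximalIdeal R).map (algebraMap R (R ⊗[T] C₀))) :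
    ∃ U : Subalgebra T R, U.FG ∧ ∃ y₀ ∈ (stageIdeal U).map (algebraMap U (U ⊗[T] C₀)), toLim C₀ U y₀ = y := by
  classical
  induction hy using Submodule.span_induction with
  | mem x hx =>
    obtain ⟨a, ha, rfl⟩ := hx
    refine ⟨Algebra.adjoin T {a}, ⟨{a}, by simp⟩, ?_⟩
    exact ⟨_, Ideal.mem_map_of_mem _ (show (⟨a, Algebra.self_mem_adjoin_singleton T a⟩ : Algebra.adjoin T {a}) ∈
      stageIdeal _ from ha), rfl⟩
  | zero => exact ⟨⊥, Subalgebra.fg_bot, 0, zero_mem _, map_zero _⟩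
  | add x z _ _ hx hz =>
    obtain ⟨U, hU, x₀, hx₀, rfl⟩ := hx
    obtain ⟨V, hV, z₀, hz₀, rfl⟩ := hz
    exact ⟨U ⊔ V, hU.sup hV, _, add_mem (map_trans_mem (le_sup_left : U ≤ U ⊔ V) hx₀)
      (map_trans_mem (le_sup_right : V ≤ U ⊔ V) hz₀), by rw [map_add, toLim_trans, toLim_trans]⟩
  | smul c x _ hx =>
    obtain ⟨U, hU, x₀, hx₀, rfl⟩ := hx
    obtain ⟨V, hV, c₀, rfl⟩ := exists_lift C₀ c
    exact ⟨U ⊔ V, hU.sup hV, trans C₀ (le_sup_right : V ≤ U ⊔ V) c₀ * trans C₀ (le_sup_left : U ≤ U ⊔ V) x₀,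
      Ideal.mul_mem_left _ _ (map_trans_mem (le_sup_left : U ≤ U ⊔ V) hx₀),
      by rw [map_mul, toLim_trans, toLim_trans, smul_eq_mul]⟩

/-- Flatness along the closed fibre descends to a finitely generated stage. -/
theorem exists_flat_stage [IsNoetherianRing T] [Algebra.FiniteType T C₀] {C : Type u} [CommRing C] [Algebra R C]
    (φ : R ⊗[T] C₀ ≃ₐ[R] C)
    (hfl : ∀ (q : Ideal C) [q.IsPrime], Ideal.map (algebraMap R C) (IsLocalRing.maximalIdeal R) ≤ q →
      Module.Flat R (Localization.AtPrime q)) :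
    ∃ U : Subalgebra T R, U.FG ∧ ∀ (q : Ideal (U ⊗[T] C₀)) [q.IsPrime],
      (stageIdeal U).map (algebraMap U (U ⊗[T] C₀)) ≤ q → Module.Flat U (Localization.AtPrime q) := by
  classical
  set m := IsLocalRing.maximalIdeal R
  let J := m.map (algebraMap R (R ⊗[T] C₀))
  let Z := {q : PrimeSpectrum (R ⊗[T] C₀) // J ≤ q.asIdeal}
  have H : ∀ q : Z, ∃ B : Subalgebra T R, B.FG ∧ ∃ c : B ⊗[T] C₀,
      toLim C₀ B c ∉ q.1.asIdeal ∧
      ∀ (q' : Ideal (B ⊗[T] C₀)) [q'.IsPrime], c ∉ q' → FlatAt T C₀ C₀ B q' := fun q => by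
    have hq : FlatAt T C₀ C₀ R q.1.asIdeal := by
      let qC := q.1.asIdeal.comap φ.symm.toAlgHom.toRingHom
      have hqC : qC.IsPrime := Ideal.IsPrime.comap _
      have heq : qC.comap φ.toAlgHom.toRingHom = q.1.asIdeal := Ideal.ext fun x => by simp [qC]
      have hp : (qC.comap φ.toAlgHom.toRingHom).IsPrime := Ideal.IsPrime.comap _
      have hle : Ideal.map (algebraMap R C) m ≤ qC := Ideal.map_le_iff_le_comap.mpr fun a ha => by
        show φ.symm (algebraMap R C a) ∈ q.1.asIdeal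
        rw [AlgEquiv.commutes]
        exact q.2 (Ideal.mem_map_of_mem _ ha)
      have h := (flatAt_iff φ qC).mpr (hfl qC hle)
      have tr : ∀ (I J : Ideal (R ⊗[T] C₀)) [I.IsPrime] [J.IsPrime], I = J →
          FlatAt T C₀ C₀ R I → FlatAt T C₀ C₀ R J := by
        intro I J _ _ hIJ hI
        subst hIJ
        exact hI
      exact tr _ _ heq h
    obtain ⟨B, hB, hBq⟩ := exists_stage_flatAt q.1.asIdeal hq
    have := EGA43.FlatDescent.isNoetherianRing_of_fg hB
    obtain ⟨_, ⟨c, rfl⟩, hcq, hc⟩ :=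
      PrimeSpectrum.isTopologicalBasis_basic_opens.exists_subset_of_mem_open
        (show PrimeSpectrum.comap (Algebra.TensorProduct.map B.val (AlgHom.id T C₀)).toRingHom q.1 ∈
          {q | FlatAt T C₀ C₀ B q.asIdeal} from hBq)
        isOpen_flatAt_of_isNoetherianRing
    exact ⟨B, hB, c, hcq, fun q' _ h => hc (a := ⟨q', ‹_›⟩) h⟩
  choose Bq hBq cq hcq hflat using H
  let img : Z → R ⊗[T] C₀ := fun q => toLim C₀ (Bq q) (cq q)
  have htop : (1 : R ⊗[T] C₀) ∈ Ideal.span (Set.range img) ⊔ J := by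
    by_contra h
    obtain ⟨M, hM, hle⟩ := Ideal.exists_le_maximal (Ideal.span (Set.range img) ⊔ J) fun ht => h (by rw [ht]; trivial)
    have hJM : J ≤ M := le_sup_right.trans hle
    let qM : Z := ⟨⟨M, hM.isPrime⟩, hJM⟩
    exact hcq qM (hle (Submodule.mem_sup_left (Ideal.subset_span ⟨qM, rfl⟩)))
  obtain ⟨x, hx, y, hy, hxy⟩ := Submodule.mem_sup.mp htop
  obtain ⟨n, r, g, hsum⟩ := Submodule.mem_span_set'.mp hx
  choose qi hqi using fun i => (g i).2
  obtain ⟨Uy, hUy, y₀, hy₀, hy₀y⟩ := exists_stage_mem hy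
  choose Vr hVr r' hr' using fun i => exists_lift C₀ (r i)
  let U₁ : Subalgebra T R := Finset.univ.sup (fun i => Bq (qi i) ⊔ Vr i) ⊔ Uy
  have hU₁ : U₁.FG := Subalgebra.FG.sup
    (Finset.sup_induction Subalgebra.fg_bot (fun _ ha _ hb => ha.sup hb) fun i _ => (hBq _).sup (hVr i)) hUy
  have hBle : ∀ i, Bq (qi i) ≤ U₁ := fun i =>
    (le_sup_left.trans (Finset.le_sup (f := fun i => Bq (qi i) ⊔ Vr i) (Finset.mem_univ i))).trans le_sup_left
  have hVle : ∀ i, Vr i ≤ U₁ := fun i =>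
    (le_sup_right.trans (Finset.le_sup (f := fun i => Bq (qi i) ⊔ Vr i) (Finset.mem_univ i))).trans le_sup_left
  have hUle : Uy ≤ U₁ := le_sup_right
  obtain ⟨U, hle, hU, heq⟩ := exists_eq C₀ hU₁
    (∑ i, trans C₀ (hVle i) (r' i) * trans C₀ (hBle i) (cq (qi i)) + trans C₀ hUle y₀) 1 (by
      rw [map_add, map_sum, map_one, ← hxy, ← hsum, toLim_trans, hy₀y]
      congr 1
      refine Finset.sum_congr rfl fun i _ => ?_
      rw [map_mul, toLim_trans, toLim_trans, hr', smul_eq_mul]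
      exact congrArg (r i * ·) (hqi i))
  refine ⟨U, hU, fun q _ hq => ?_⟩
  rw [map_add, map_sum, map_one] at heq
  obtain ⟨i, hi⟩ : ∃ i, trans C₀ hle (trans C₀ (hBle i) (cq (qi i))) ∉ q := by
    by_contra! hall
    refine ‹q.IsPrime›.ne_top ((Ideal.eq_top_iff_one q).mpr ?_)
    rw [← heq]
    refine add_mem (sum_mem fun i _ => ?_) (hq (map_trans_mem hle (map_trans_mem hUle hy₀)))
    rw [map_mul]
    exact Ideal.mul_mem_left _ _ (hall i)
  rw [trans_trans] at hi
  have : (q.comap (Algebra.TensorProduct.map (Subalgebra.inclusion ((hBle i).trans hle))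
      (AlgHom.id T C₀))).IsPrime := Ideal.IsPrime.comap _
  have hU' : FlatAt T C₀ C₀ U q := FlatAt.of_hom (Subalgebra.inclusion ((hBle i).trans hle)) (hflat (qi i) _ hi)
  have hp : (q.comap (AlgEquiv.refl : U ⊗[T] C₀ ≃ₐ[U] U ⊗[T] C₀).toAlgHom.toRingHom).IsPrime := Ideal.IsPrime.comap _
  exact (flatAt_iff (AlgEquiv.refl : U ⊗[T] C₀ ≃ₐ[U] U ⊗[T] C₀) q).mp hU'

end Groth.Agent.IsoTriv
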