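import Groth.Agent.CAlgH3.GeomBridge
import Groth.Agent.SGA3cLib.GeomConn
import Groth.Agent.IsoTriv.Criterion

/-! Connected fibres of Hopf algebras are preserved by base change. -/

universe u

open TensorProduct CategoryTheory Limits AlgebraicGeometry

namespace Groth.Agent.IsoTriv

open SGA3bLib

/-- A connected affine group over a field stays connected after extending the field. -/
theorem connectedSpace_bc_field {k : Type u} [Field k] {H : Type u} [CommRing H] [HopfAlgebra k H]
    [ConnectedSpace (PrimeSpectrum H)] (K : Type u) [Field K] [Algebra k K] :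
    ConnectedSpace (PrimeSpectrum (K ⊗[k] H)) := by
  refine (CAlgH3.GeomBridge.connected_iff k H).mp ?_ K
  let x : Spec (CommRingCat.of k) ⟶ Spec (CommRingCat.of H) :=
    Spec.map (CommRingCat.ofHom (Bialgebra.counitAlgHom k H).toRingHom)
  have hx : x ≫ CAlgH3.GeomBridge.str k H = 𝟙 _ := by
    rw [← Spec.map_comp, ← Spec.map_id]
    congr 1
    ext r
    exact (Bialgebra.counitAlgHom k H).commutes r
  have : ConnectedSpace ↥(Spec (CommRingCat.of H)) := ‹ConnectedSpace (PrimeSpectrum H)›
  have := SGA3cLib.geometricallyConnected_of_rational_point k (CAlgH3.GeomBridge.str k H)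
    (𝟙 (Spec (CommRingCat.of H))) x hx (by simp)
  simpa using this

/-- Connectedness of fibres is stable under base change. -/
theorem connectedSpace_fibre_bc {R : Type u} [CommRing R] {C : Type u} [CommRing C] [HopfAlgebra R C]
    (hconn : ∀ (p : Ideal R) [p.IsPrime], ConnectedSpace (PrimeSpectrum (p.ResidueField ⊗[R] C)))
    (S : Type u) [CommRing S] [Algebra R S] (q : Ideal S) [q.IsPrime] :
    ConnectedSpace (PrimeSpectrum (q.ResidueField ⊗[S] (S ⊗[R] C))) := by
  let p := q.comap (algebraMap R S)
  have := hconn p
  let f : p.ResidueField →ₐ[R] q.ResidueField := Ideal.ResidueField.mapₐ p q (Algebra.ofId R S) rfl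
  let : Algebra p.ResidueField q.ResidueField := f.toRingHom.toAlgebra
  have : IsScalarTower R p.ResidueField q.ResidueField := .of_algebraMap_eq fun r => (f.commutes r).symm
  let e := (cancelBC (R := R) S q.ResidueField C).trans (cancelBC (R := R) p.ResidueField q.ResidueField C).symm
  have := connectedSpace_bc_field (k := p.ResidueField) (H := p.ResidueField ⊗[R] C) q.ResidueField
  exact (PrimeSpectrum.homeomorphOfRingEquiv e.toAlgEquiv.toRingEquiv).symm.surjective.connectedSpace
    (PrimeSpectrum.homeomorphOfRingEquiv e.toAlgEquiv.toRingEquiv).symm.continuous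

end Groth.Agent.IsoTriv
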