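import Groth.Agent.IsoTriv.CompleteClopen
import Groth.Agent.IsoTriv.HenselianHom
import Groth.Agent.IsoTriv.FieldSplit
import Groth.Agent.SmoothLib.Monogenic
import Groth.Agent.HopfQuot.UnitComponent
import Mathlib.RingTheory.AdjoinRoot
import Mathlib.RingTheory.Filtration
import Mathlib.RingTheory.LocalRing.ResidueField.Basic

/-! The clopen isotrivial subgroup of a group over a henselian Noetherian local ring. -/

universe u

open TensorProduct

namespace Groth.Agent.IsoTriv

open SGA3bLib

/-- An idempotent ideal is detected after a faithfully flat extension. -/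
theorem isIdempotentElem_of_map {A : Type u} [CommRing A] {C : Type u} [CommRing C] [Algebra A C] (A' : Type u)
    [CommRing A'] [Algebra A A'] [Module.FaithfullyFlat A A'] (J : Ideal C)
    (h : IsIdempotentElem (J.map (Algebra.TensorProduct.includeRight : C →ₐ[A] A' ⊗[A] C))) :
    IsIdempotentElem J := by
  set ι := (Algebra.TensorProduct.includeRight : C →ₐ[A] A' ⊗[A] C)
  refine le_antisymm Ideal.mul_le_left fun x hx => ?_
  have hmem : ι x ∈ (J * J).map ι := by
    rw [Ideal.map_mul, h]
    exact Ideal.mem_map_of_mem _ hx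
  let π : A' ⊗[A] C →ₐ[A] A' ⊗[A] (C ⧸ J * J) :=
    Algebra.TensorProduct.map (AlgHom.id A A') (Ideal.Quotient.mkₐ A (J * J))
  have hle : (J * J).map ι ≤ RingHom.ker π := Ideal.map_le_iff_le_comap.mpr fun y hy => by
    show π ((1 : A') ⊗ₜ[A] y) = 0
    simp [π, Ideal.Quotient.eq_zero_iff_mem.mpr hy]
  refine Ideal.Quotient.eq_zero_iff_mem.mp (eq_of_one_tmul (R := A) A' (M := C ⧸ J * J) (b := 0) ?_)
  rw [TensorProduct.tmul_zero]
  exact hle hmem

/-- A finite separable extension of the residue field lifts to a monogenic finite etale local algebra. -/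
theorem exists_monogenic_lift (R : Type u) [CommRing R] [IsLocalRing R] (k' : Type u) [Field k']
    [Algebra (IsLocalRing.ResidueField R) k'] [Module.Finite (IsLocalRing.ResidueField R) k']
    [Algebra.IsSeparable (IsLocalRing.ResidueField R) k'] [Algebra R k'] [IsScalarTower R (IsLocalRing.ResidueField R) k'] :
    ∃ f : Polynomial R, f.Monic ∧ f.Separable ∧ 0 < f.natDegree ∧ IsLocalRing (AdjoinRoot f) ∧
      ∃ π : AdjoinRoot f →ₐ[R] k', Function.Surjective π ∧
        RingHom.ker π = (IsLocalRing.maximalIdeal R).map (algebraMap R (AdjoinRoot f)) := by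
  set κ := IsLocalRing.ResidueField R
  obtain ⟨α, hα⟩ := Field.exists_primitive_element κ k'
  have hint : IsIntegral κ α := IsIntegral.of_finite κ α
  set g := minpoly κ α with hg
  have hgm : g.Monic := minpoly.monic hint
  obtain ⟨f, hf, hfd, hfm⟩ := Polynomial.lifts_and_natDegree_eq_and_monic
    ((Polynomial.mem_lifts _).mpr (Polynomial.map_surjective _ IsLocalRing.residue_surjective g)) hgm
  have hsep : f.Separable := SmoothLib.separable_of_residue f hfm (by rw [hf]; exact Algebra.IsSeparable.isSeparable κ α)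
  have hd : 0 < f.natDegree := hfd ▸ minpoly.natDegree_pos hint
  have hroot : Polynomial.aeval α f = 0 := by
    rw [← Polynomial.aeval_map_algebraMap κ α f, show f.map (algebraMap R κ) = g from hf, hg, minpoly.aeval]
  let π : AdjoinRoot f →ₐ[R] k' := AdjoinRoot.liftAlgHom f (Algebra.ofId R k') α hroot
  have hπmk : ∀ h : Polynomial R, π (AdjoinRoot.mk f h) = Polynomial.aeval α (h.map (algebraMap R κ)) := fun h => by
    rw [Polynomial.aeval_map_algebraMap κ α h]
    exact AdjoinRoot.liftAlgHom_mk ..
  have hker : RingHom.ker π = (IsLocalRing.maximalIdeal R).map (algebraMap R (AdjoinRoot f)) := by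
    refine le_antisymm (fun b hb => ?_) (Ideal.map_le_iff_le_comap.mpr fun r hr => ?_)
    · obtain ⟨h, rfl⟩ := AdjoinRoot.mk_surjective b
      rw [RingHom.mem_ker, hπmk] at hb
      obtain ⟨w, hw⟩ := minpoly.dvd κ α hb
      obtain ⟨w', rfl⟩ := Polynomial.map_surjective (algebraMap R κ) IsLocalRing.residue_surjective w
      have h0 : (h - f * w').map (algebraMap R κ) = 0 := by
        rw [Polynomial.map_sub, Polynomial.map_mul, show f.map (algebraMap R κ) = g from hf, hw, sub_self]
      have hm : h - f * w' ∈ (IsLocalRing.maximalIdeal R).map (Polynomial.C : R →+* Polynomial R) := by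
        rw [Ideal.mem_map_C_iff]
        intro n
        rw [← IsLocalRing.residue_eq_zero_iff]
        exact (Polynomial.coeff_map (algebraMap R κ) n).symm.trans (by rw [h0, Polynomial.coeff_zero])
      have h1 := Ideal.mem_map_of_mem (AdjoinRoot.mk f) hm
      rw [Ideal.map_map, map_sub, map_mul, AdjoinRoot.mk_self, zero_mul, sub_zero] at h1
      exact h1
    · show π (algebraMap R _ r) = 0
      rw [π.commutes, IsScalarTower.algebraMap_apply R κ k',
        show algebraMap R κ r = 0 from (IsLocalRing.residue_eq_zero_iff r).mpr hr, map_zero]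
  have hsurj : Function.Surjective π := fun y => by
    have hy : y ∈ Algebra.adjoin κ ({α} : Set k') := by
      rw [← IntermediateField.adjoin_simple_toSubalgebra_of_isAlgebraic hint.isAlgebraic, hα]; trivial
    rw [Algebra.adjoin_singleton_eq_range_aeval] at hy
    obtain ⟨h, rfl⟩ := hy
    obtain ⟨h', rfl⟩ := Polynomial.map_surjective (algebraMap R κ) IsLocalRing.residue_surjective h
    exact ⟨AdjoinRoot.mk f h', hπmk h'⟩
  have hmax : (RingHom.ker π).IsMaximal := RingHom.ker_isMaximal_of_surjective _ hsurj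
  have : Module.Finite R (AdjoinRoot f) := hfm.finite_adjoinRoot
  refine ⟨f, hfm, hsep, hd, IsLocalRing.of_unique_max_ideal ⟨RingHom.ker π, hmax, fun M hM => ?_⟩, π, hsurj, hker⟩
  refine (hmax.eq_of_le hM.ne_top ?_).symm
  rw [hker]
  refine Ideal.map_le_iff_le_comap.mpr (le_of_eq ?_)
  have : (M.comap (algebraMap R (AdjoinRoot f))).IsMaximal := Ideal.isMaximal_comap_of_isIntegral_of_isMaximal M
  exact (IsLocalRing.eq_maximalIdeal this).symm

variable {R : Type u} [CommRing R] [IsNoetherianRing R] [HenselianLocalRing R]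
  {C : Type u} [CommRing C] [HopfAlgebra R C]

/-- Over a henselian Noetherian local ring, a group flat along a closed fibre of multiplicative type contains a clopen
subgroup of multiplicative type which splits over a monogenic finite etale local algebra. -/
theorem exists_clopen_henselian (hft : Algebra.FiniteType R C)
    (hfl : ∀ n : ℕ, Module.Flat (R ⧸ IsLocalRing.maximalIdeal R ^ n)
      ((R ⧸ IsLocalRing.maximalIdeal R ^ n) ⊗[R] C))
    (hs : SGA3b.IsMultTypeConst (IsLocalRing.ResidueField R) (IsLocalRing.ResidueField R ⊗[R] C)) :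
    ∃ (e : C) (f : Polynomial R) (N : Type u) (_ : CommGroup N), IsIdempotentElem e ∧
      e ∈ (IsLocalRing.maximalIdeal R).map (algebraMap R C) ∧ (Ideal.span {e}).IsHopfIdeal R ∧
      f.Monic ∧ f.Separable ∧ 0 < f.natDegree ∧ IsLocalRing (AdjoinRoot f) ∧ Group.FG N ∧
      ∃ Φ : AdjoinRoot f ⊗[R] C →ₐc[AdjoinRoot f] MonoidAlgebra (AdjoinRoot f) N, Function.Surjective Φ ∧
        RingHom.ker (Φ : AdjoinRoot f ⊗[R] C →ₐ[AdjoinRoot f] MonoidAlgebra (AdjoinRoot f) N) =
          Ideal.span {(1 : AdjoinRoot f) ⊗ₜ[R] e} := by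
  classical
  set m := IsLocalRing.maximalIdeal R with hm
  set κ := IsLocalRing.ResidueField R
  have : Algebra.FiniteType R C := hft
  obtain ⟨k', _, _, hfin, hsep, N, _, hN, ⟨ε⟩⟩ := exists_splitting (k := κ) (A := κ ⊗[R] C) inferInstance hs
  let : Algebra R k' := ((algebraMap κ k').comp (algebraMap R κ)).toAlgebra
  have : IsScalarTower R κ k' := .of_algebraMap_eq fun _ => rfl
  obtain ⟨f, hfm, hfs, hfd, hloc, π, hπ, hker⟩ := exists_monogenic_lift R k'
  set B := AdjoinRoot f
  have : Module.Finite R B := hfm.finite_adjoinRoot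
  have : Module.Free R B := hfm.free_adjoinRoot
  have : Nontrivial B := hloc.toNontrivial
  have : Module.FaithfullyFlat R B := inferInstance
  have : Algebra.Etale R B := SmoothLib.etale_adjoinRoot_of_separable f hfm hfs
  have : HenselianLocalRing B := HopfQuot.UnitComp.henselianLocalRing_of_finite (R := R) B
  have : IsNoetherianRing B := IsNoetherianRing.of_finite R B
  have hmB : m.map (algebraMap R B) = IsLocalRing.maximalIdeal B := by
    rw [← hker]
    exact IsLocalRing.eq_maximalIdeal (RingHom.ker_isMaximal_of_surjective _ hπ)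
  let σ : k' →ₐ[R] B ⧸ IsLocalRing.maximalIdeal B :=
    ((Ideal.quotientKerAlgEquivOfSurjective hπ).symm.trans
      (Ideal.quotientEquivAlgOfEq R (hker.trans hmB))).toAlgHom
  let ε' : k' ⊗[R] C ≃ₐc[k'] MonoidAlgebra k' N := (cancelBC (R := R) κ k' C).symm.trans ε
  obtain ⟨e₁⟩ := nonempty_triv_square (T := B) (S := B ⧸ IsLocalRing.maximalIdeal B) σ ε'
  obtain ⟨Φ, hΦ, eB, heB, heBm, hKB⟩ := exists_hom_henselian (R := B) (C := B ⊗[R] C) inferInstance
    (fun n => by rw [← hmB]; exact flat_levels_bc m B hfl n) e₁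
  have hformal : formalIdeal (IsLocalRing.maximalIdeal B) (B ⊗[R] C) = Ideal.span {eB} := by
    refine le_antisymm (fun x hx => ?_) ((Ideal.span_singleton_le_iff_mem _).mpr ?_)
    · rw [← hKB]
      refine ext_coef fun a => ?_
      rw [map_zero]
      refine Ideal.mem_bot.mp ?_
      rw [← Ideal.iInf_pow_eq_bot_of_isLocalRing (IsLocalRing.maximalIdeal B) (Ideal.IsPrime.ne_top'),
        Submodule.mem_iInf]
      intro n
      have h1 : x ∈ (IsLocalRing.maximalIdeal B ^ n) • (⊤ : Submodule B (B ⊗[R] C)) := by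
        rw [Ideal.smul_top_eq_map]; exact (mem_formalIdeal (A := B) _).mp hx n
      have h2 := Submodule.mem_map_of_mem (f := (coef a).comp
        (Φ : B ⊗[R] C →ₐ[B] MonoidAlgebra B N).toLinearMap) h1
      rw [Submodule.map_smul''] at h2
      have h3 := Submodule.smul_mono (le_refl (IsLocalRing.maximalIdeal B ^ n)) le_top h2
      rwa [smul_eq_mul, Ideal.mul_top] at h3
    · refine (mem_formalIdeal (A := B) _).mpr fun n => ?_
      rw [← heB.pow_succ_eq n, Ideal.map_pow, pow_succ]
      exact Ideal.mul_mem_right _ _ (Ideal.pow_mem_pow heBm n)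
  have hmap := map_formalIdeal m (C := C) B
  rw [hmB, hformal] at hmap
  have hidem : IsIdempotentElem (formalIdeal m C) := isIdempotentElem_of_map B _ (by
    rw [hmap]
    show Ideal.span {eB} * Ideal.span {eB} = Ideal.span {eB}
    rw [Ideal.span_singleton_mul_span_singleton, heB])
  have : IsNoetherianRing C := Algebra.FiniteType.isNoetherianRing R C
  obtain ⟨e, he, hspan⟩ := (Ideal.isIdempotentElem_iff_of_fg _ (IsNoetherian.noetherian _)).mp hidem
  have hker' : RingHom.ker (Φ : B ⊗[R] C →ₐ[B] MonoidAlgebra B N) =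
      (Ideal.span {e}).map (Algebra.TensorProduct.includeRight : C →ₐ[R] B ⊗[R] C) := by
    rw [hKB, ← hmap, hspan]
  have : IsHausdorff m R := ⟨fun x hx => by
    rw [← Submodule.mem_bot R, ← Ideal.iInf_pow_eq_bot_of_isLocalRing m Ideal.IsPrime.ne_top', Submodule.mem_iInf]
    intro n
    simpa [SModEq.sub_mem] using hx n⟩
  obtain ⟨hop, -, -⟩ := exists_isHopfIdeal m e (by rw [hspan]) B Φ hΦ hker'
  refine ⟨e, f, N, inferInstance, he, ?_, hop, hfm, hfs, hfd, hloc, hN, Φ, hΦ, ?_⟩
  · have h1 : e ∈ formalIdeal m C := hspan ▸ Ideal.mem_span_singleton_self e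
    simpa using (mem_formalIdeal m).mp h1 1
  · rw [hker', Ideal.map_span, Set.image_singleton]
    rfl

end Groth.Agent.IsoTriv
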