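import Groth.Agent.IsoTriv.DescendQuot
import Groth.Agent.IsoTriv.CompleteClopen
import Groth.Agent.IsoTriv.TorsionClopen
import Groth.Agent.IsoTriv.Henselian
import Groth.Agent.IsoTriv.FieldSplit
import Groth.Agent.HenselLib.TensorHull
import Groth.Agent.Matlis6.CompletionNoetherian
import Groth.Agent.CommAlg6.CompletionEquidim
import Mathlib.RingTheory.AdicCompletion.LocalRing

/-! The maximal diagonalisable subgroup over a henselian Noetherian local ring. -/

universe u

open TensorProduct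

namespace Groth.Agent.IsoTriv

open SGA3bLib

/-- Idempotents in `IC` die in finite algebras. -/
theorem map_idem_eq_zero {A C : Type u} [CommRing A] [CommRing C] [Algebra A C] (I : Ideal A)
    (hI : I ≤ (⊥ : Ideal A).jacobson) {F : Type u} [CommRing F] [Algebra A F] [Module.Finite A F]
    (φ : C →ₐ[A] F) {e : C} (he : IsIdempotentElem e) (heI : e ∈ I.map (algebraMap A C)) : φ e = 0 := by
  set b := φ e
  let M : Submodule A F := LinearMap.range (LinearMap.mulLeft A b)
  have hfg : M.FG := by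
    rw [show M = Submodule.map (LinearMap.mulLeft A b) ⊤ from LinearMap.range_eq_map _]
    exact Module.Finite.fg_top.map _
  have hbI : b ∈ I • (⊤ : Submodule A F) := by
    rw [Ideal.smul_top_eq_map, ← φ.comp_algebraMap, ← Ideal.map_map]
    exact Ideal.mem_map_of_mem _ heI
  have hle : M ≤ I • M := by
    rintro _ ⟨z, rfl⟩
    have h1 := Submodule.mem_map_of_mem (f := LinearMap.mulLeft A (b * z)) hbI
    rw [Submodule.map_smul''] at h1
    have hm : Submodule.map (LinearMap.mulLeft A (b * z)) ⊤ ≤ M := by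
      rintro _ ⟨w, -, rfl⟩
      exact ⟨z * w, by simp [mul_assoc]⟩
    have h2 := Submodule.smul_mono (le_refl I) hm h1
    convert h2 using 1
    show b * z = b * z * b
    rw [mul_comm (b * z) b, ← mul_assoc, show b * b = b from (he.map φ).eq]
  have hbot := Submodule.eq_bot_of_le_smul_of_le_jacobson_bot I M hfg hle hI
  have : b ∈ M := ⟨1, by simp⟩
  rw [hbot] at this
  exact this

/-- Finitely many elements of a finitely generated group are separated by some torsion quotient. -/
theorem exists_sep {N : Type u} [CommGroup N] (hfg : Group.FG N) (s : Finset N) :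
    ∃ n : ℕ, 0 < n ∧ ∀ a ∈ s, ∀ b ∈ s,
      (QuotientGroup.mk a : N ⧸ (powMonoidHom n : N →* N).range) = QuotientGroup.mk b → a = b := by
  classical
  have h : ∀ p : N × N, ∃ k : ℕ, 0 < k ∧
      ((QuotientGroup.mk p.1 : N ⧸ (powMonoidHom k : N →* N).range) = QuotientGroup.mk p.2 → p.1 = p.2) := by
    intro p
    by_contra! hne
    refine (hne 1 one_pos).2 (inv_mul_eq_one.mp (eq_one_of_forall_pow hfg fun k hk => ?_))
    exact QuotientGroup.eq.mp (hne k hk).1
  choose k hk hsep using h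
  refine ⟨∏ p ∈ s ×ˢ s, k p, Finset.prod_pos fun p _ => hk p, fun a ha b hb hab => hsep (a, b) ?_⟩
  obtain ⟨c, hc⟩ := Finset.dvd_prod_of_mem k (Finset.mk_mem_product ha hb)
  rw [QuotientGroup.eq] at hab ⊢
  obtain ⟨x, hx⟩ := hab
  exact ⟨x ^ c, by rw [← hx]; simp [hc, ← pow_mul, mul_comm]⟩

/-- A homomorphism to a group algebra with coefficients in the base is defined over the base. -/
theorem exists_hom_of_coef {R : Type u} [CommRing R] {C : Type u} [CommRing C] [HopfAlgebra R C]
    {T : Type u} [CommRing T] [Algebra R T] [Module.FaithfullyFlat R T] {N : Type u} [CommGroup N]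
    (ψ : T ⊗[R] C →ₐc[T] MonoidAlgebra T N)
    (h : ∀ (c : C) (m : N), coef m (ψ ((1 : T) ⊗ₜ[R] c)) ∈ Set.range (algebraMap R T)) :
    ∃ Φ : C →ₐc[R] MonoidAlgebra R N, ∀ x, ψ x = monoidBC T N (bcHom T Φ x) := by
  classical
  let φ : T ⊗[R] C →ₐc[T] T ⊗[R] MonoidAlgebra R N :=
    ((monoidBC (T := R) T N).symm : MonoidAlgebra T N →ₐc[T] T ⊗[R] MonoidAlgebra R N).comp ψ
  have hb : ∀ c, ∃ b : MonoidAlgebra R N, φ ((1 : T) ⊗ₜ[R] c) = (1 : T) ⊗ₜ[R] b := fun c => by
    choose r hr using h c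
    refine ⟨∑ m ∈ (ψ ((1 : T) ⊗ₜ[R] c)).coeff.support, MonoidAlgebra.single m (r m), ?_⟩
    apply (monoidBC (T := R) T N).toAlgEquiv.injective
    show monoidBC (T := R) T N ((monoidBC (T := R) T N).symm (ψ _)) = monoidBC (T := R) T N _
    rw [BialgEquiv.apply_symm_apply, monoidBC_one_tmul, map_sum]
    conv_lhs => rw [← MonoidAlgebra.sum_single (ψ ((1 : T) ⊗ₜ[R] c))]
    refine Finset.sum_congr rfl fun m _ => ?_
    simp only [MonoidAlgebra.mapRingHom_single, hr]
    rfl
  obtain ⟨Φ, hΦ⟩ := exists_hom_of_cover (R := R) (B := MonoidAlgebra R N) (C := C) (fun _ : PUnit.{u+1} => T)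
    (fun _ => inferInstance) (fun p => ⟨PUnit.unit, PrimeSpectrum.comap_surjective_of_faithfullyFlat (B := T) p⟩)
    (fun _ => φ) (fun _ _ c => by
      obtain ⟨b, hb⟩ := hb c
      rw [hb, LinearMap.rTensor_tmul, LinearMap.rTensor_tmul, AlgHom.toLinearMap_apply, AlgHom.toLinearMap_apply,
        map_one, map_one])
  refine ⟨Φ, fun x => ?_⟩
  have : (φ : T ⊗[R] C →ₐ[T] T ⊗[R] MonoidAlgebra R N) = (bcHom T Φ : T ⊗[R] C →ₐ[T] T ⊗[R] MonoidAlgebra R N) :=
    Algebra.TensorProduct.ext (Subsingleton.elim _ _) (AlgHom.ext fun c => by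
      show φ ((1 : T) ⊗ₜ[R] c) = bcHom T Φ ((1 : T) ⊗ₜ[R] c)
      rw [hΦ PUnit.unit c, bcHom_tmul])
  rw [show bcHom T Φ x = φ x from (AlgHom.congr_fun this x).symm]
  exact ((monoidBC (T := R) T N).apply_symm_apply (ψ x)).symm.trans rfl

variable {R : Type u} [CommRing R]

theorem henselianRing_maximal [HenselianLocalRing R] : HenselianRing R (IsLocalRing.maximalIdeal R) :=
  ⟨(IsLocalRing.jacobson_eq_maximalIdeal ⊥ bot_ne_top).ge, fun f hf a₀ h₁ h₂ =>
    HenselianLocalRing.is_henselian f hf a₀ h₁ (by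
      rw [← IsLocalRing.notMem_maximalIdeal]
      intro h
      rw [Ideal.Quotient.eq_zero_iff_mem.mpr h] at h₂
      exact not_isUnit_zero h₂)⟩

variable {C : Type u} [CommRing C] [HopfAlgebra R C] {N : Type u} [CommGroup N]

/-- The torsion quotients of a split formal subgroup are defined over a henselian base. -/
theorem exists_torsion_model [IsNoetherianRing R] [HenselianLocalRing R] (hft : Algebra.FiniteType R C)
    (hfgN : Group.FG N)
    (e₀ : (R ⧸ IsLocalRing.maximalIdeal R) ⊗[R] C ≃ₐc[R ⧸ IsLocalRing.maximalIdeal R]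
      MonoidAlgebra (R ⧸ IsLocalRing.maximalIdeal R) N)
    {T : Type u} [CommRing T] [IsLocalRing T] [Algebra R T] [Module.FaithfullyFlat R T]
    (hm : (IsLocalRing.maximalIdeal R).map (algebraMap R T) ≤ (⊥ : Ideal T).jacobson)
    (ψ : T ⊗[R] C →ₐc[T] MonoidAlgebra T N) (hψ : Function.Surjective ψ) {e : T ⊗[R] C} (he : IsIdempotentElem e)
    (hker : RingHom.ker (ψ : T ⊗[R] C →ₐ[T] MonoidAlgebra T N) = Ideal.span {e})
    (hem : e ∈ ((IsLocalRing.maximalIdeal R).map (algebraMap R T)).map (algebraMap T (T ⊗[R] C)))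
    (n : ℕ) (hn : 0 < n) (c : C) (q : N ⧸ (powMonoidHom n : N →* N).range) :
    coef q (MonoidAlgebra.mapDomainBialgHom T (QuotientGroup.mk' (powMonoidHom n : N →* N).range)
      (ψ ((1 : T) ⊗ₜ[R] c))) ∈ Set.range (algebraMap R T) := by
  classical
  set m := IsLocalRing.maximalIdeal R
  set k := R ⧸ m
  let Q := N ⧸ (powMonoidHom n : N →* N).range
  have : Finite Q := finite_quot hfgN hn
  have := henselianRing_maximal (R := R)
  have : Algebra.FiniteType R C := hft
  let qT := MonoidAlgebra.mapDomainBialgHom T (QuotientGroup.mk' (powMonoidHom n : N →* N).range)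
  let π' : T ⊗[R] C →ₐc[T] MonoidAlgebra T Q := qT.comp ψ
  have hπ : Function.Surjective π' := (mapDomain_surjective _).comp hψ
  set J := SGA3b.torsionIdeal R C n with hJ
  have hkerπ : RingHom.ker (π' : T ⊗[R] C →ₐ[T] MonoidAlgebra T Q) =
      Ideal.span {e} ⊔ J.map (Algebra.TensorProduct.includeRight : C →ₐ[R] T ⊗[R] C) := by
    rw [← hker, ← torsionIdeal_baseChange T n]
    have h1 : RingHom.ker (π' : T ⊗[R] C →ₐ[T] MonoidAlgebra T Q) =
        (SGA3b.torsionIdeal T (MonoidAlgebra T N) n).comap (ψ : T ⊗[R] C →ₐ[T] MonoidAlgebra T N) := by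
      rw [torsionIdeal_monoidAlgebra]
      rfl
    rw [h1, ← map_torsionIdeal ψ hψ, Ideal.comap_map_of_surjective (ψ : T ⊗[R] C →ₐ[T] MonoidAlgebra T N) hψ, sup_comm]
    rfl
  let B := C ⧸ J
  have hfinB : Module.Finite R (B ⧸ m.map (algebraMap R B)) := by
    have : Algebra.FiniteType k (MonoidAlgebra k N) := (inferInstance : Algebra.FiniteType k (k ⊗[R] C)).equiv e₀.toAlgEquiv
    let qk := MonoidAlgebra.mapDomainBialgHom k (QuotientGroup.mk' (powMonoidHom n : N →* N).range)
    let θ : C →ₐ[R] B ⧸ m.map (algebraMap R B) := (Ideal.Quotient.mkₐ R _).comp (Ideal.Quotient.mkₐ R J)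
    let θk : k ⊗[R] C →ₐ[R] B ⧸ m.map (algebraMap R B) :=
      Algebra.TensorProduct.lift (Ideal.Quotient.liftₐ m (Algebra.ofId R _) fun a ha => by
        show algebraMap R (B ⧸ m.map (algebraMap R B)) a = 0
        rw [IsScalarTower.algebraMap_apply R B, Ideal.Quotient.algebraMap_eq, Ideal.Quotient.eq_zero_iff_mem]
        exact Ideal.mem_map_of_mem _ ha) θ fun _ _ => Commute.all _ _
    have hθk : Function.Surjective θk := fun y => by
      obtain ⟨b, rfl⟩ := Ideal.Quotient.mk_surjective y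
      obtain ⟨x, rfl⟩ := Ideal.Quotient.mk_surjective b
      exact ⟨1 ⊗ₜ x, by simp [θk, θ]; rfl⟩
    let pk : k ⊗[R] C →ₐc[k] MonoidAlgebra k Q := qk.comp (e₀ : k ⊗[R] C →ₐc[k] MonoidAlgebra k N)
    have hpk : Function.Surjective pk := (mapDomain_surjective _).comp e₀.surjective
    have hle : RingHom.ker ((pk : k ⊗[R] C →ₐ[k] MonoidAlgebra k Q).restrictScalars R) ≤ RingHom.ker θk := by
      have h : RingHom.ker (pk : k ⊗[R] C →ₐ[k] MonoidAlgebra k Q) =
          J.map (Algebra.TensorProduct.includeRight : C →ₐ[R] k ⊗[R] C) := by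
        rw [← torsionIdeal_baseChange k n, torsionIdeal_eq_comap e₀, torsionIdeal_monoidAlgebra]
        rfl
      intro x hx
      have hx' : x ∈ RingHom.ker (pk : k ⊗[R] C →ₐ[k] MonoidAlgebra k Q) := hx
      rw [h] at hx'
      refine (Ideal.map_le_iff_le_comap.mpr fun y hy => ?_ :
        J.map (Algebra.TensorProduct.includeRight : C →ₐ[R] k ⊗[R] C) ≤ RingHom.ker θk) hx'
      show θk ((1 : k) ⊗ₜ[R] y) = 0
      rw [show θk ((1 : k) ⊗ₜ[R] y) = θ y by simp [θk]]
      exact (congrArg (Ideal.Quotient.mk _) (Ideal.Quotient.eq_zero_iff_mem.mpr hy)).trans (map_zero _)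
    have : Module.Finite R k := Module.Finite.of_surjective (Algebra.linearMap R k) Ideal.Quotient.mk_surjective
    have : Module.Finite k (MonoidAlgebra k Q) := Module.Finite.equiv (MonoidAlgebra.coeffLinearEquiv k).symm
    have : Module.Finite R (MonoidAlgebra k Q) := Module.Finite.trans k _
    let χ := AlgHom.liftOfSurjective ((pk : k ⊗[R] C →ₐ[k] MonoidAlgebra k Q).restrictScalars R) hpk θk hle
    exact Module.Finite.of_surjective χ.toLinearMap fun y => by
      obtain ⟨x, rfl⟩ := hθk y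
      exact ⟨pk x, AlgHom.liftOfSurjective_apply _ hpk θk hle x⟩
  obtain ⟨en, hen, hen1, hfinF⟩ := HenselLib.exists_idem_finite m hfinB
  obtain ⟨f, hf⟩ := Ideal.Quotient.mk_surjective en
  let K : Ideal C := J ⊔ Ideal.span {1 - f}
  have : Module.Finite R (C ⧸ K) := by
    let g : B ⧸ Ideal.span {1 - en} →ₐ[R] C ⧸ K :=
      Ideal.Quotient.liftₐ _ (Ideal.Quotient.factorₐ R (show J ≤ K from le_sup_left)) fun b hb => by
        obtain ⟨y, rfl⟩ := Ideal.mem_span_singleton'.mp hb
        rw [map_mul]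
        refine mul_eq_zero_of_right _ ?_
        rw [← hf, ← map_one (Ideal.Quotient.mk J), ← map_sub]
        exact Ideal.Quotient.eq_zero_iff_mem.mpr (Submodule.mem_sup_right (Ideal.mem_span_singleton_self _))
    exact Module.Finite.of_surjective g.toLinearMap fun y => by
      obtain ⟨x, rfl⟩ := Ideal.Quotient.mk_surjective y
      exact ⟨Ideal.Quotient.mk _ (Ideal.Quotient.mk J x), rfl⟩
  let ι : C →ₐ[R] T ⊗[R] C := Algebra.TensorProduct.includeRight
  have : Module.Finite T (MonoidAlgebra T Q) := Module.Finite.equiv (MonoidAlgebra.coeffLinearEquiv T).symm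
  have h1f : π' (ι (1 - f)) = 0 := by
    let φ : B →ₐ[R] MonoidAlgebra T Q := Ideal.Quotient.liftₐ J
      (((π' : T ⊗[R] C →ₐ[T] MonoidAlgebra T Q).restrictScalars R).comp ι) fun y hy => by
        have : ι y ∈ RingHom.ker (π' : T ⊗[R] C →ₐ[T] MonoidAlgebra T Q) :=
          hkerπ.ge (Submodule.mem_sup_right (Ideal.mem_map_of_mem _ hy))
        exact this
    have hidem : IsIdempotentElem (φ (1 - en)) := hen.one_sub.map φ
    have hmem : φ (1 - en) ∈ (m.map (algebraMap R T)).map (algebraMap T (MonoidAlgebra T Q)) := by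
      rw [Ideal.map_map, ← IsScalarTower.algebraMap_eq, ← φ.comp_algebraMap, ← Ideal.map_map]
      exact Ideal.mem_map_of_mem _ (by rw [← neg_sub]; exact neg_mem hen1)
    have h0 := map_idem_eq_zero (C := MonoidAlgebra T Q) _ hm (AlgHom.id T _) hidem hmem
    have h2 : φ (1 - en) = π' (ι (1 - f)) := by
      rw [← hf, ← map_one (Ideal.Quotient.mk J), ← map_sub]
      rfl
    exact h2 ▸ h0
  have hkerK : RingHom.ker (π' : T ⊗[R] C →ₐ[T] MonoidAlgebra T Q) = K.map ι := by
    have hle : K.map ι ≤ RingHom.ker (π' : T ⊗[R] C →ₐ[T] MonoidAlgebra T Q) := by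
      rw [Ideal.map_sup, sup_le_iff]
      refine ⟨hkerπ.ge.trans' le_sup_right, Ideal.map_le_iff_le_comap.mpr ?_⟩
      rw [Ideal.span_singleton_le_iff_mem]
      exact h1f
    refine le_antisymm ?_ hle
    rw [hkerπ, sup_le_iff]
    refine ⟨(Ideal.span_singleton_le_iff_mem _).mpr ?_, Ideal.map_mono le_sup_left⟩
    have : Module.Finite T (T ⊗[R] (C ⧸ K)) := inferInstance
    let qK : T ⊗[R] C →ₐ[T] T ⊗[R] (C ⧸ K) := Algebra.TensorProduct.map (AlgHom.id T T) (Ideal.Quotient.mkₐ R K)
    have hkq : RingHom.ker qK = K.map ι := by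
      have h : RingHom.ker (Ideal.Quotient.mkₐ R K) = K := Ideal.ext fun x => Ideal.Quotient.eq_zero_iff_mem
      rw [← congrArg (Ideal.map ι) h, ← Algebra.TensorProduct.lTensor_ker (A := T) _ Ideal.Quotient.mk_surjective]
      rfl
    have h0 : qK e = 0 := map_idem_eq_zero _ hm qK he hem
    exact hkq.le h0
  obtain ⟨hop, E, hE⟩ := exists_isHopfIdeal_descend T K π' hπ hkerK
  have := hop
  have hmt : SGA3b.IsMultType R (C ⧸ K) := by
    refine ⟨{1}, Ideal.span_singleton_one, fun f hf => ?_⟩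
    exact isMultTypeConst_bc (A := C ⧸ K) ⟨T, inferInstance, inferInstance, inferInstance, Q, inferInstance, ⟨E⟩⟩ _
  have hdiagk : SGA3b.IsDiag (IsLocalRing.ResidueField R) (IsLocalRing.ResidueField R ⊗[R] (C ⧸ K)) := by
    let : Field k := Ideal.Quotient.field m
    show SGA3b.IsDiag k (k ⊗[R] (C ⧸ K))
    refine isDiag_of_span_groupLike ?_
    have h0 : SGA3b.IsDiag k (k ⊗[R] C) := ⟨N, inferInstance, ⟨e₀⟩⟩
    exact span_groupLike_map (bcHom k (Bialgebra.Quotient.mkBialgHom (R := R) K))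
      (bcHom_surjective k _ Ideal.Quotient.mk_surjective) (span_groupLike_of_diag h0)
  obtain ⟨Q', _, -, ⟨a⟩⟩ := exists_iso_henselian (A := C ⧸ K) inferInstance hmt hdiagk
  have hconn : ∀ t : T, IsIdempotentElem t → t = 0 ∨ t = 1 := fun t ht => by
    rcases IsLocalRing.isUnit_or_isUnit_one_sub_self t with h | h
    · exact Or.inr ((IsIdempotentElem.iff_eq_one_of_isUnit h).mp ht)
    · exact Or.inl (by simpa using (IsIdempotentElem.iff_eq_one_of_isUnit h).mp ht.one_sub)
  have hkey : ∀ y : C ⧸ K, ∀ p : Q, coef p (E ((1 : T) ⊗ₜ[R] y)) ∈ Set.range (algebraMap R T) := by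
    intro y
    obtain ⟨w, rfl⟩ : ∃ w, a.symm w = y := ⟨a y, a.symm_apply_apply y⟩
    induction w using MonoidAlgebra.induction_linear with
    | zero => exact fun p => ⟨0, by simp⟩
    | add u v hu hv =>
      intro p
      obtain ⟨r, hr⟩ := hu p
      obtain ⟨s, hs⟩ := hv p
      exact ⟨r + s, by rw [map_add, map_add, TensorProduct.tmul_add, map_add, map_add, hr, hs]⟩
    | single j r =>
      intro p
      have hg : IsGroupLikeElem T (E ((1 : T) ⊗ₜ[R] a.symm (MonoidAlgebra.single j 1))) :=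
        (isGroupLike_tmul ((MonoidAlgebra.isGroupLikeElem_single_one (R := R) (A := R) j).map
          (a.symm : MonoidAlgebra R Q' →ₐc[R] C ⧸ K))).map (E : T ⊗[R] (C ⧸ K) →ₐc[T] MonoidAlgebra T Q)
      obtain ⟨p', hp'⟩ := exists_eq_single hconn hg
      refine ⟨if p' = p then r else 0, ?_⟩
      rw [show (MonoidAlgebra.single j r : MonoidAlgebra R Q') = r • MonoidAlgebra.single j 1 by simp, map_smul,
        TensorProduct.tmul_smul, ← algebraMap_smul T r, map_smul, map_smul, hp', coef_single, smul_eq_mul]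
      split_ifs <;> simp
  have := hkey (Ideal.Quotient.mk K c) q
  rw [hE] at this
  exact this

end Groth.Agent.IsoTriv
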