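import Groth.Agent.IsoTriv.PiTriv
import Groth.Agent.SGA3bLib.Stages

/-! Descent of homomorphisms of bialgebras along flat coverings. -/

universe u

open TensorProduct Coalgebra

namespace Groth.Agent.IsoTriv

open SGA3bLib

variable {R : Type u} [CommRing R] {B : Type u} [CommRing B] [HopfAlgebra R B]
  {C : Type u} [CommRing C] [HopfAlgebra R C]

/-- The map of twofold tensors induced by a map of scalars. -/
theorem comul_one_tmul (T : Type u) [CommRing T] [Algebra R T] (b : B) :
    comul (R := T) ((1 : T) ⊗ₜ[R] b) =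
      TensorProduct.AlgebraTensorModule.distribBaseChange R T B B ((1 : T) ⊗ₜ[R] comul b) := by
  rw [TensorProduct.comul_tmul, CommSemiring.comul_apply]
  generalize comul (R := R) b = z
  induction z using TensorProduct.induction_on with
  | zero => simp
  | tmul x y => simp [TensorProduct.AlgebraTensorModule.distribBaseChange_tmul]
  | add x y hx hy => simp only [TensorProduct.tmul_add, map_add, hx, hy]

variable {ι : Type u} [Finite ι] (T : ι → Type u) [∀ i, CommRing (T i)] [∀ i, Algebra R (T i)]

open Algebra.TensorProduct in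
theorem ext_proj₂ {M : Type u} [AddCommGroup M] [Module R M] {x y : ((∀ i, T i) ⊗[R] (∀ i, T i)) ⊗[R] M}
    (h : ∀ i j, (Algebra.TensorProduct.map (Pi.evalAlgHom R T i) (Pi.evalAlgHom R T j)).toLinearMap.rTensor M x =
      (Algebra.TensorProduct.map (Pi.evalAlgHom R T i) (Pi.evalAlgHom R T j)).toLinearMap.rTensor M y) : x = y := by
  apply (TensorProduct.assoc R (∀ i, T i) (∀ i, T i) M).injective
  refine ext_proj T fun i => ?_
  apply (TensorProduct.leftComm R (T i) (∀ i, T i) M).injective
  refine ext_proj T fun j => ?_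
  have key : ∀ z : ((∀ i, T i) ⊗[R] (∀ i, T i)) ⊗[R] M,
      (Pi.evalAlgHom R T j).toLinearMap.rTensor (T i ⊗[R] M) (TensorProduct.leftComm R (T i) (∀ i, T i) M
        ((Pi.evalAlgHom R T i).toLinearMap.rTensor _ (TensorProduct.assoc R (∀ i, T i) (∀ i, T i) M z))) =
      TensorProduct.leftComm R (T i) (T j) M (TensorProduct.assoc R (T i) (T j) M
        ((Algebra.TensorProduct.map (Pi.evalAlgHom R T i) (Pi.evalAlgHom R T j)).toLinearMap.rTensor M z)) := by
    intro z
    induction z using TensorProduct.induction_on with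
    | zero => simp
    | tmul w m =>
      induction w using TensorProduct.induction_on with
      | zero => simp
      | tmul a b => simp
      | add a b ha hb => simp only [TensorProduct.add_tmul, map_add, ha, hb]
    | add a b ha hb => simp only [map_add, ha, hb]
  rw [key, key, h i j]

open Algebra.TensorProduct in
/-- Homomorphisms of bialgebras descend along finite jointly surjective families of flat algebras. -/
theorem exists_hom_of_cover (hflat : ∀ i, Module.Flat R (T i))
    (hsurj : ∀ p : PrimeSpectrum R, ∃ i, ∃ q : PrimeSpectrum (T i), q.comap (algebraMap R (T i)) = p)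
    (φ : ∀ i, T i ⊗[R] C →ₐc[T i] T i ⊗[R] B)
    (hcompat : ∀ i j c, (includeLeft : T i →ₐ[R] T i ⊗[R] T j).toLinearMap.rTensor B (φ i ((1 : T i) ⊗ₜ[R] c)) =
      (includeRight : T j →ₐ[R] T i ⊗[R] T j).toLinearMap.rTensor B (φ j ((1 : T j) ⊗ₜ[R] c))) :
    ∃ ψ : C →ₐc[R] B, ∀ i c, φ i ((1 : T i) ⊗ₜ[R] c) = (1 : T i) ⊗ₜ[R] ψ c := by
  classical
  have hff := faithfullyFlat_pi T hflat hsurj
  let P := ∀ i, T i
  choose x hx using fun c : C => exists_of_proj T (M := B) fun i => φ i ((1 : T i) ⊗ₜ[R] c)
  have heq : ∀ c, ∃ b : B, x c = (1 : P) ⊗ₜ[R] b := fun c => exists_eq_one_tmul P (x c) (ext_proj₂ T fun i j => by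
    have e1 : ∀ z : P ⊗[R] B, (Algebra.TensorProduct.map (Pi.evalAlgHom R T i) (Pi.evalAlgHom R T j)).toLinearMap.rTensor B
        ((includeLeft : P →ₐ[R] P ⊗[R] P).toLinearMap.rTensor B z) =
        (includeLeft : T i →ₐ[R] T i ⊗[R] T j).toLinearMap.rTensor B ((Pi.evalAlgHom R T i).toLinearMap.rTensor B z) := fun z => by
      rw [← LinearMap.rTensor_comp_apply, ← LinearMap.rTensor_comp_apply]
      congr 2
    have e2 : ∀ z : P ⊗[R] B, (Algebra.TensorProduct.map (Pi.evalAlgHom R T i) (Pi.evalAlgHom R T j)).toLinearMap.rTensor B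
        ((includeRight : P →ₐ[R] P ⊗[R] P).toLinearMap.rTensor B z) =
        (includeRight : T j →ₐ[R] T i ⊗[R] T j).toLinearMap.rTensor B ((Pi.evalAlgHom R T j).toLinearMap.rTensor B z) := fun z => by
      rw [← LinearMap.rTensor_comp_apply, ← LinearMap.rTensor_comp_apply]
      congr 2
    rw [e1, e2, hx, hx]
    exact hcompat i j c)
  choose b hb using heq
  have hpb : ∀ i c, φ i ((1 : T i) ⊗ₜ[R] c) = (1 : T i) ⊗ₜ[R] b c := fun i c => by
    rw [← hx c i, hb, LinearMap.rTensor_tmul, AlgHom.toLinearMap_apply, map_one]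
  have hinj : ∀ {y z : B}, (∀ i, (1 : T i) ⊗ₜ[R] y = (1 : T i) ⊗ₜ[R] z) → y = z := fun {y z} h =>
    eq_of_one_tmul (R := R) P (ext_proj T fun i => by
      rw [LinearMap.rTensor_tmul, LinearMap.rTensor_tmul, AlgHom.toLinearMap_apply, map_one]; exact h i)
  let ψ : C →ₐ[R] B :=
    { toFun := b
      map_one' := hinj fun i => by rw [← hpb, ← Algebra.TensorProduct.one_def]; exact map_one (φ i)
      map_mul' := fun y z => hinj fun i => by
        rw [← hpb, ← mul_one (1 : T i), ← Algebra.TensorProduct.tmul_mul_tmul, map_mul, hpb, hpb,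
          Algebra.TensorProduct.tmul_mul_tmul]
      map_zero' := hinj fun i => by rw [← hpb, TensorProduct.tmul_zero, TensorProduct.tmul_zero, map_zero]
      map_add' := fun y z => hinj fun i => by
        rw [← hpb, TensorProduct.tmul_add, map_add, hpb, hpb, TensorProduct.tmul_add]
      commutes' := fun r => hinj fun i => by
        rw [← hpb]
        have key : ∀ (M : Type u) [CommRing M] [Algebra R M], (1 : T i) ⊗ₜ[R] algebraMap R M r =
            algebraMap (T i) (T i ⊗[R] M) (algebraMap R (T i) r) := fun M _ _ => by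
          rw [Algebra.TensorProduct.algebraMap_apply, Algebra.algebraMap_eq_smul_one, Algebra.algebraMap_self,
            RingHom.id_apply, Algebra.algebraMap_eq_smul_one, TensorProduct.smul_tmul]
        rw [key C, AlgHomClass.commutes (φ i), ← key B] }
  have hψ : ∀ c, ψ c = b c := fun _ => rfl
  refine ⟨BialgHom.ofAlgHom ψ (AlgHom.ext fun c => ?_) (AlgHom.ext fun c => ?_), hpb⟩
  · refine FaithfulSMul.algebraMap_injective R P (funext fun i => ?_)
    show algebraMap R (T i) (counit (R := R) (b c)) = algebraMap R (T i) (counit (R := R) c)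
    have h := CoalgHomClass.counit_comp_apply (φ i) ((1 : T i) ⊗ₜ[R] c)
    rw [hpb, TensorProduct.counit_tmul, TensorProduct.counit_tmul] at h
    simpa [Algebra.smul_def] using h
  · show Algebra.TensorProduct.map ψ ψ (comul (R := R) c) = comul (R := R) (b c)
    refine eq_of_one_tmul (R := R) P (ext_proj T fun i => ?_)
    simp only [LinearMap.rTensor_tmul, AlgHom.toLinearMap_apply, map_one]
    apply (TensorProduct.AlgebraTensorModule.distribBaseChange R (T i) B B).injective
    rw [← comul_one_tmul, ← hpb, ← CoalgHomClass.map_comp_comul_apply (φ i), comul_one_tmul]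
    generalize comul (R := R) c = z
    induction z using TensorProduct.induction_on with
    | zero => simp
    | tmul y w => simp [TensorProduct.AlgebraTensorModule.distribBaseChange_tmul, hψ, hpb]
    | add y w hy hw => simp only [map_add, TensorProduct.tmul_add, hy, hw]

end Groth.Agent.IsoTriv
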