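import Groth.Agent.IsoTriv.HomDescent
import Groth.Agent.IsoTriv.GroupAlgLift
import Groth.Agent.IsoTriv.Nilpotent
import Groth.Agent.IsoTriv.FlatLiftApply
import Groth.Agent.IsoTriv.MultBasic

/-! Lifting homomorphisms into group algebras along nilpotent thickenings. -/

universe u

open TensorProduct Coalgebra

namespace Groth.Agent.IsoTriv

open SGA3bLib

/-- A homomorphism of group algebras lifts along a nil surjection. -/
theorem exists_lift_monoidHom {T T₀ : Type u} [CommRing T] [CommRing T₀] (π : T →+* T₀) (hπ : Function.Surjective π)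
    (hker : ∀ x ∈ RingHom.ker π, IsNilpotent x) {N M : Type u} [CommGroup N] [CommGroup M]
    (g₀ : MonoidAlgebra T₀ N →ₐc[T₀] MonoidAlgebra T₀ M) :
    ∃ g : MonoidAlgebra T N →ₐc[T] MonoidAlgebra T M,
      ∀ x, MonoidAlgebra.mapRingHom M π (g x) = g₀ (MonoidAlgebra.mapRingHom N π x) := by
  classical
  choose y hy hy' using fun m => exists_groupLike_lift π hπ hker
    ((MonoidAlgebra.isGroupLikeElem_single_one (R := T₀) (A := T₀) m).map g₀ :
      IsGroupLikeElem T₀ (g₀ (MonoidAlgebra.single (m : N) 1)))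
  let χ : N →* MonoidAlgebra T M :=
    { toFun := y
      map_one' := eq_of_map_eq π hker (hy 1) .one (by rw [hy', map_one]; exact map_one g₀)
      map_mul' := fun a b => eq_of_map_eq π hker (hy _) ((hy a).mul (hy b)) (by
        rw [map_mul, hy', hy', hy', ← map_mul g₀, MonoidAlgebra.single_mul_single, mul_one]) }
  let F : MonoidAlgebra T N →ₐ[T] MonoidAlgebra T M := MonoidAlgebra.lift T _ N χ
  have hF : ∀ m, F (MonoidAlgebra.single m 1) = y m := fun m => by simp [F, χ]
  refine ⟨BialgHom.ofAlgHom F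
    (MonoidAlgebra.algHom_ext (single_one_left := Subsingleton.elim _ _) fun m => by
      simp [hF, (hy m).counit_eq_one])
    (MonoidAlgebra.algHom_ext (single_one_left := Subsingleton.elim _ _) fun m => by
      simp [hF, (hy m).comul_eq_tmul_self]), fun x => ?_⟩
  show MonoidAlgebra.mapRingHom M π (F x) = _
  induction x using MonoidAlgebra.induction_linear with
  | zero => rw [map_zero, map_zero, map_zero, map_zero]
  | add a b ha hb => rw [map_add, map_add, map_add, map_add, ha, hb]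
  | single m r =>
    rw [show (MonoidAlgebra.single m r : MonoidAlgebra T N) = r • MonoidAlgebra.single m 1 by simp, map_smul, hF]
    have hsm : ∀ {Q : Type u} [CommGroup Q] (z : MonoidAlgebra T Q),
        MonoidAlgebra.mapRingHom Q π (r • z) = π r • MonoidAlgebra.mapRingHom Q π z :=
      fun {Q} _ z => by
        rw [Algebra.smul_def, map_mul, Algebra.smul_def, MonoidAlgebra.coe_algebraMap, MonoidAlgebra.coe_algebraMap]
        simp
    rw [hsm, hsm, map_smul, hy', MonoidAlgebra.mapRingHom_single, map_one]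

variable {T : Type u} [CommRing T] {C : Type u} [CommRing C] [HopfAlgebra T C] {M : Type u} [CommGroup M]

/-- Rigidity of homomorphisms into a group algebra. -/
theorem eq_of_hom_nilpotent [Coalgebra.IsCocomm T C] (J : Ideal T) (hJ : IsNilpotent J)
    (φ ψ : C →ₐc[T] MonoidAlgebra T M)
    (h : ∀ c, MonoidAlgebra.mapRingHom M (Ideal.Quotient.mk J) (φ c) =
      MonoidAlgebra.mapRingHom M (Ideal.Quotient.mk J) (ψ c)) : φ = ψ :=
  eq_of_diag_nilpotent ⟨M, inferInstance, ⟨BialgEquiv.refl T _⟩⟩ hJ (Or.inl inferInstance) fun c => by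
    refine mem_map_ideal_iff.mpr fun m => ?_
    have hm := congrArg (coef m) (h c)
    rw [coef_mapRingHom, coef_mapRingHom, ← sub_eq_zero, ← map_sub, Ideal.Quotient.eq_zero_iff_mem] at hm
    rw [map_sub]
    exact hm

/-- Homomorphisms into a group algebra lift uniquely along nilpotent ideals. -/
theorem exists_hom_lift (hcov : HasCover T C) [Coalgebra.IsCocomm T C] (J : Ideal T) (hJ : IsNilpotent J)
    (φ₀ : (T ⧸ J) ⊗[T] C →ₐc[T ⧸ J] MonoidAlgebra (T ⧸ J) M) :
    ∃ φ : C →ₐc[T] MonoidAlgebra T M,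
      ∀ c, MonoidAlgebra.mapRingHom M (Ideal.Quotient.mk J) (φ c) = φ₀ ((1 : T ⧸ J) ⊗ₜ[T] c) := by
  classical
  obtain ⟨ι, _, S, _, _, hflat, hsurj, hdiag⟩ := hcov
  have step : ∀ i, ∃ g : S i ⊗[T] C →ₐc[S i] MonoidAlgebra (S i) M, ∀ c,
      MonoidAlgebra.mapRingHom M (Ideal.Quotient.mk (J.map (algebraMap T (S i)))) (g ((1 : S i) ⊗ₜ[T] c)) =
      MonoidAlgebra.mapRingHom M (Ideal.quotientMap _ (algebraMap T (S i)) Ideal.le_comap_map)
        (φ₀ ((1 : T ⧸ J) ⊗ₜ[T] c)) := by
    intro i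
    obtain ⟨N, _, ⟨e⟩⟩ := hdiag i
    let Si := S i ⧸ J.map (algebraMap T (S i))
    let : Algebra (T ⧸ J) Si := (Ideal.quotientMap _ (algebraMap T (S i)) Ideal.le_comap_map).toAlgebra
    have : IsScalarTower T (T ⧸ J) Si := .of_algebraMap_eq fun r => rfl
    let e₀ : Si ⊗[T] C ≃ₐc[Si] MonoidAlgebra Si N := bcTriv e
    let φ₁ : Si ⊗[T] C →ₐc[Si] MonoidAlgebra Si M :=
      ((monoidBC (T := T ⧸ J) Si M : _ →ₐc[Si] MonoidAlgebra Si M).comp (bcHom Si φ₀)).comp
        ((cancelBC (R := T) (T ⧸ J) Si C).symm : Si ⊗[T] C →ₐc[Si] Si ⊗[T ⧸ J] ((T ⧸ J) ⊗[T] C))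
    have hker : ∀ x ∈ RingHom.ker (algebraMap (S i) Si), IsNilpotent x := fun x hx => by
      obtain ⟨k, hk⟩ := hJ
      have hx' : x ∈ J.map (algebraMap T (S i)) := Ideal.Quotient.eq_zero_iff_mem.mp hx
      refine ⟨k, ?_⟩
      have h1 := Ideal.pow_mem_pow hx' k
      rw [← Ideal.map_pow, hk] at h1
      simpa using h1
    obtain ⟨g, hg⟩ := exists_lift_monoidHom (algebraMap (S i) Si) Ideal.Quotient.mk_surjective hker
      (φ₁.comp (e₀.symm : MonoidAlgebra Si N →ₐc[Si] Si ⊗[T] C))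
    refine ⟨g.comp (e : S i ⊗[T] C →ₐc[S i] MonoidAlgebra (S i) N), fun c => ?_⟩
    refine (hg (e ((1 : S i) ⊗ₜ[T] c))).trans ?_
    rw [← bcTriv_push e]
    show φ₁ (e₀.symm (e₀ _)) = _
    rw [BialgEquiv.symm_apply_apply, push_tmul, map_one]
    have hc : (cancelBC (R := T) (T ⧸ J) Si C).symm ((1 : Si) ⊗ₜ[T] c) = (1 : Si) ⊗ₜ[T ⧸ J] ((1 : T ⧸ J) ⊗ₜ[T] c) := by
      apply (cancelBC (R := T) (T ⧸ J) Si C).toAlgEquiv.injective
      show cancelBC (R := T) (T ⧸ J) Si C ((cancelBC (R := T) (T ⧸ J) Si C).symm _) = _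
      rw [BialgEquiv.apply_symm_apply]
      exact (show cancelBC (R := T) (T ⧸ J) Si C ((1 : Si) ⊗ₜ[T ⧸ J] ((1 : T ⧸ J) ⊗ₜ[T] c)) = (1 : Si) ⊗ₜ[T] c from
        (Algebra.TensorProduct.cancelBaseChange_tmul ..).trans (by simp)).symm
    show monoidBC (T := T ⧸ J) Si M (bcHom Si φ₀ ((cancelBC (R := T) (T ⧸ J) Si C).symm ((1 : Si) ⊗ₜ[T] c))) = _
    rw [hc, bcHom_tmul, monoidBC_one_tmul]
    rfl
  choose g hg using step
  let φ : ∀ i, S i ⊗[T] C →ₐc[S i] S i ⊗[T] MonoidAlgebra T M := fun i =>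
    ((monoidBC (T := T) (S i) M).symm : MonoidAlgebra (S i) M →ₐc[S i] S i ⊗[T] MonoidAlgebra T M).comp (g i)
  obtain ⟨ψ, hψ⟩ := exists_hom_of_cover S hflat hsurj φ fun i j c => by
    let U := S i ⊗[T] S j
    let fL : S i →ₐ[T] U := Algebra.TensorProduct.includeLeft
    let fR : S j →ₐ[T] U := Algebra.TensorProduct.includeRight
    let mk : ∀ k (f : S k →ₐ[T] U), ∃ G : U ⊗[T] C →ₐc[U] MonoidAlgebra U M, ∀ c,
        G ((1 : U) ⊗ₜ[T] c) = MonoidAlgebra.mapRingHom M f.toRingHom (g k ((1 : S k) ⊗ₜ[T] c)) := by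
      intro k f
      let : Algebra (S k) U := f.toRingHom.toAlgebra
      have : IsScalarTower T (S k) U := .of_algebraMap_eq fun r => (f.commutes r).symm
      refine ⟨((monoidBC (T := S k) U M : _ →ₐc[U] MonoidAlgebra U M).comp (bcHom U (g k))).comp
        ((cancelBC (R := T) (S k) U C).symm : U ⊗[T] C →ₐc[U] U ⊗[S k] (S k ⊗[T] C)), fun c => ?_⟩
      have hc : (cancelBC (R := T) (S k) U C).symm ((1 : U) ⊗ₜ[T] c) = (1 : U) ⊗ₜ[S k] ((1 : S k) ⊗ₜ[T] c) := by
        apply (cancelBC (R := T) (S k) U C).toAlgEquiv.injective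
        show cancelBC (R := T) (S k) U C ((cancelBC (R := T) (S k) U C).symm _) = _
        rw [BialgEquiv.apply_symm_apply]
        exact (show cancelBC (R := T) (S k) U C ((1 : U) ⊗ₜ[S k] ((1 : S k) ⊗ₜ[T] c)) = (1 : U) ⊗ₜ[T] c from
          (Algebra.TensorProduct.cancelBaseChange_tmul ..).trans (by simp)).symm
      show monoidBC (T := S k) U M (bcHom U (g k) ((cancelBC (R := T) (S k) U C).symm ((1 : U) ⊗ₜ[T] c))) = _
      rw [hc, bcHom_tmul, monoidBC_one_tmul]
      rfl
    obtain ⟨GL', hGL⟩ := mk i fL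
    obtain ⟨GR, hGR⟩ := mk j fR
    let K := J.map (algebraMap T U)
    have hK : IsNilpotent K := by
      obtain ⟨k, hk⟩ := hJ
      exact ⟨k, by rw [← Ideal.map_pow, hk]; exact Ideal.map_bot⟩
    have hred : ∀ (k : ι) (f : S k →ₐ[T] U) (G : U ⊗[T] C →ₐc[U] MonoidAlgebra U M),
        (∀ c, G ((1 : U) ⊗ₜ[T] c) = MonoidAlgebra.mapRingHom M f.toRingHom (g k ((1 : S k) ⊗ₜ[T] c))) → ∀ c,
        MonoidAlgebra.mapRingHom M (Ideal.Quotient.mk K) (G ((1 : U) ⊗ₜ[T] c)) =
          MonoidAlgebra.mapRingHom M (Ideal.quotientMap K (algebraMap T U) Ideal.le_comap_map)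
            (φ₀ ((1 : T ⧸ J) ⊗ₜ[T] c)) := by
      intro k f G hG c
      have hle : J.map (algebraMap T (S k)) ≤ RingHom.ker ((Ideal.Quotient.mk K).comp f.toRingHom) :=
        Ideal.map_le_iff_le_comap.mpr fun r hr => by
          rw [Ideal.mem_comap, RingHom.mem_ker]
          show Ideal.Quotient.mk K (f (algebraMap T (S k) r)) = 0
          rw [f.commutes, Ideal.Quotient.eq_zero_iff_mem]
          exact Ideal.mem_map_of_mem _ hr
      let f₀ := Ideal.Quotient.lift _ ((Ideal.Quotient.mk K).comp f.toRingHom) hle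
      have h1 := congrArg (MonoidAlgebra.mapRingHom M f₀) (hg k c)
      rw [hG c]
      refine ext_coef fun m => ?_
      have h2 := congrArg (coef m) h1
      simp only [coef_mapRingHom] at h2 ⊢
      refine h2.trans ?_
      obtain ⟨r, hr⟩ := Ideal.Quotient.mk_surjective (coef m (φ₀ ((1 : T ⧸ J) ⊗ₜ[T] c)))
      rw [← hr]
      exact congrArg (Ideal.Quotient.mk K) (f.commutes r)
    have hGeq : GL' = GR := eq_of_hom_nilpotent K hK GL' GR fun z => by
      induction z using TensorProduct.induction_on with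
      | zero => simp
      | tmul u c =>
        rw [show (u ⊗ₜ[T] c : U ⊗[T] C) = algebraMap U (U ⊗[T] C) u * ((1 : U) ⊗ₜ[T] c) by
            rw [Algebra.TensorProduct.algebraMap_apply, Algebra.TensorProduct.tmul_mul_tmul, Algebra.algebraMap_self,
              RingHom.id_apply, mul_one, one_mul],
          map_mul, map_mul, map_mul, map_mul, AlgHomClass.commutes GL', AlgHomClass.commutes GR,
          hred i fL GL' hGL c, hred j fR GR hGR c]
      | add a b ha hb => rw [map_add, map_add, map_add, map_add, ha, hb]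
    have h3 := DFunLike.congr_fun hGeq ((1 : U) ⊗ₜ[T] c)
    rw [hGL, hGR] at h3
    apply (monoidBC (T := T) U M).toAlgEquiv.injective
    have hkey : ∀ k (f : S k →ₐ[T] U) (v : S k ⊗[T] MonoidAlgebra T M),
        monoidBC (T := T) U M (f.toLinearMap.rTensor _ v) =
          MonoidAlgebra.mapRingHom M f.toRingHom (monoidBC (T := T) (S k) M v) := fun k f v => by
      induction v using TensorProduct.induction_on with
      | zero => simp
      | tmul s w =>
        show MonoidAlgebra.scalarTensorEquiv T U (f s ⊗ₜ[T] w) =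
          MonoidAlgebra.mapRingHom M f.toRingHom (MonoidAlgebra.scalarTensorEquiv T (S k) (s ⊗ₜ[T] w))
        rw [MonoidAlgebra.scalarTensorEquiv_tmul, MonoidAlgebra.scalarTensorEquiv_tmul]
        refine ext_coef fun m => ?_
        simp [coef_apply, Algebra.smul_def]
      | add a b ha hb => simp only [map_add, ha, hb]
    show monoidBC (T := T) U M (fL.toLinearMap.rTensor _ (φ i _)) = monoidBC (T := T) U M (fR.toLinearMap.rTensor _ (φ j _))
    rw [hkey, hkey]
    show MonoidAlgebra.mapRingHom M _ (monoidBC (S i) M ((monoidBC (T := T) (S i) M).symm (g i _))) =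
      MonoidAlgebra.mapRingHom M _ (monoidBC (S j) M ((monoidBC (T := T) (S j) M).symm (g j _)))
    rw [BialgEquiv.apply_symm_apply, BialgEquiv.apply_symm_apply]
    exact h3
  refine ⟨ψ, fun c => ext_coef fun m => ?_⟩
  have hff := faithfullyFlat_pi S hflat hsurj
  rw [coef_mapRingHom]
  obtain ⟨r, hr⟩ := Ideal.Quotient.mk_surjective (coef m (φ₀ ((1 : T ⧸ J) ⊗ₜ[T] c)))
  rw [← hr, Ideal.Quotient.eq]
  have hmem : ∀ i, algebraMap T (S i) (coef m (ψ c) - r) ∈ J.map (algebraMap T (S i)) := by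
    intro i
    have h1 : g i ((1 : S i) ⊗ₜ[T] c) = MonoidAlgebra.mapRingHom M (algebraMap T (S i)) (ψ c) := by
      rw [← monoidBC_one_tmul, ← hψ i c]
      exact ((monoidBC (T := T) (S i) M).apply_symm_apply _).symm
    have h2 := congrArg (coef m) (hg i c)
    rw [h1, coef_mapRingHom, coef_mapRingHom, coef_mapRingHom, ← hr] at h2
    rw [← Ideal.Quotient.eq_zero_iff_mem, map_sub, map_sub, sub_eq_zero]
    exact h2
  have hmemP : algebraMap T (∀ i, S i) (coef m (ψ c) - r) ∈ J.map (algebraMap T (∀ i, S i)) := by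
    have := Fintype.ofFinite ι
    rw [show algebraMap T (∀ i, S i) (coef m (ψ c) - r) =
      ∑ i, Pi.single i (algebraMap T (S i) (coef m (ψ c) - r)) from (Finset.univ_sum_single _).symm]
    refine sum_mem fun i _ => ?_
    have : ∀ y ∈ J.map (algebraMap T (S i)), (Pi.single i y : ∀ i, S i) ∈ J.map (algebraMap T (∀ i, S i)) := by
      intro y hy
      induction hy using Submodule.span_induction with
      | mem z hz =>
        obtain ⟨a, ha, rfl⟩ := hz
        rw [show (Pi.single i (algebraMap T (S i) a) : ∀ i, S i) = algebraMap T (∀ i, S i) a * Pi.single i 1 by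
          rw [← Algebra.smul_def, ← Pi.single_smul, Algebra.smul_def, mul_one]]
        exact Ideal.mul_mem_right _ _ (Ideal.mem_map_of_mem _ ha)
      | zero => simp
      | add a b _ _ ha hb => rw [Pi.single_add]; exact add_mem ha hb
      | smul a b _ hb =>
        rw [show (Pi.single i (a • b) : ∀ i, S i) = Pi.single i a * Pi.single i b from Pi.single_mul i a b]
        exact Ideal.mul_mem_left _ _ hb
    exact this _ (hmem i)
  have h4 : coef m (ψ c) - r ∈ (J.map (algebraMap T (∀ i, S i))).comap (algebraMap T (∀ i, S i)) := hmemP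
  rwa [Ideal.comap_map_eq_self_of_faithfullyFlat] at h4

end Groth.Agent.IsoTriv
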