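import Groth.Agent.IsoTriv.HopfPair
import Groth.Agent.IsoTriv.PiTriv
import Mathlib.RingTheory.Flat.Equalizer
import Mathlib.RingTheory.HopfAlgebra.TensorProduct

/-! Descent of Hopf algebras along faithfully flat algebras. -/

universe u

open TensorProduct

namespace Groth.Agent.IsoTriv

/-- An algebra with structure maps which become a Hopf algebra after a covering is a Hopf algebra. -/
theorem exists_hopf_of_maps {R : Type u} [CommRing R] {ι : Type u} [Finite ι] (T : ι → Type u)
    [∀ i, CommRing (T i)] [∀ i, Algebra R (T i)] [Module.FaithfullyFlat R (∀ i, T i)] (M : ι → Type u)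
    [∀ i, CommRing (M i)] [∀ i, HopfAlgebra (T i) (M i)] [∀ i, Algebra R (M i)]
    [∀ i, IsScalarTower R (T i) (M i)] {A : Type u} [CommRing A] [Algebra R A] (π : ∀ i, A →ₐ[R] M i)
    (hπ : ∀ i, Function.Bijective (extHom (R := T i) (π i)))
    (Δ : A →ₐ[R] A ⊗[R] A) (ε : A →ₐ[R] R) (S : A →ₐ[R] A)
    (hΔ : ∀ i x, pairHom (R := T i) (π i) (π i) (Δ x) = Bialgebra.comulAlgHom (T i) (M i) (π i x))
    (hε : ∀ i x, Bialgebra.counitAlgHom (T i) (M i) (π i x) = algebraMap R (T i) (ε x))
    (hS : ∀ i x, HopfAlgebra.antipodeAlgHom (T i) (M i) (π i x) = π i (S x)) :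
    ∃ (A' : Type u) (_ : CommRing A') (_ : HopfAlgebra R A') (j : A' → A), ∀ i, ∃ E : T i ⊗[R] A' ≃ₐc[T i] M i,
      ∀ a, E ((1 : T i) ⊗ₜ[R] a) = π i (j a) := by
  classical
  have hinj : ∀ {X : Type u} [AddCommGroup X] [Module R X] {x : X}, (∀ i, (1 : T i) ⊗ₜ[R] x = 0) → x = 0 :=
    fun {X} _ _ {x} h => eq_of_one_tmul (R := R) (∀ i, T i) (ext_proj T fun i => by
      rw [LinearMap.rTensor_tmul, LinearMap.rTensor_tmul, AlgHom.toLinearMap_apply, map_one, h i,
        TensorProduct.tmul_zero])
  have hA : ∀ x, Algebra.TensorProduct.assoc R R R A A A (Algebra.TensorProduct.map Δ (AlgHom.id R A) (Δ x)) =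
      Algebra.TensorProduct.map (AlgHom.id R A) Δ (Δ x) := fun x => sub_eq_zero.mp (hinj fun i => by
    refine one_tmul_eq_zero_of_bijective (pairHom (R := T i) (π i) (pairHom (R := T i) (π i) (π i)))
      (extHom_pairHom_bijective _ _ (hπ i) (extHom_pairHom_bijective _ _ (hπ i) (hπ i))) ?_
    rw [map_sub, ← transport_coassoc_left (π i) Δ (Bialgebra.comulAlgHom (T i) (M i)) (hΔ i),
      ← transport_coassoc_right (π i) Δ (Bialgebra.comulAlgHom (T i) (M i)) (hΔ i), sub_eq_zero]
    exact Coalgebra.coassoc_apply (R := T i) (π i x))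
  have hl : ∀ x, Algebra.TensorProduct.lid R A (Algebra.TensorProduct.map ε (AlgHom.id R A) (Δ x)) = x :=
    fun x => sub_eq_zero.mp (hinj fun i => by
      refine one_tmul_eq_zero_of_bijective (π i) (hπ i) ?_
      rw [map_sub, ← transport_counit_left (π i) Δ (Bialgebra.comulAlgHom (T i) (M i)) ε
        (Bialgebra.counitAlgHom (T i) (M i)) (hΔ i) (hε i), sub_eq_zero]
      rw [show Algebra.TensorProduct.map (Bialgebra.counitAlgHom (T i) (M i)) (AlgHom.id (T i) (M i))
        (Bialgebra.comulAlgHom (T i) (M i) (π i x)) = (1 : T i) ⊗ₜ π i x from Coalgebra.rTensor_counit_comul (π i x)]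
      simp)
  have hr : ∀ x, Algebra.TensorProduct.rid R R A (Algebra.TensorProduct.map (AlgHom.id R A) ε (Δ x)) = x :=
    fun x => sub_eq_zero.mp (hinj fun i => by
      refine one_tmul_eq_zero_of_bijective (π i) (hπ i) ?_
      rw [map_sub, ← transport_counit_right (π i) Δ (Bialgebra.comulAlgHom (T i) (M i)) ε
        (Bialgebra.counitAlgHom (T i) (M i)) (hΔ i) (hε i), sub_eq_zero]
      rw [show Algebra.TensorProduct.map (AlgHom.id (T i) (M i)) (Bialgebra.counitAlgHom (T i) (M i))
        (Bialgebra.comulAlgHom (T i) (M i) (π i x)) = π i x ⊗ₜ (1 : T i) from Coalgebra.lTensor_counit_comul (π i x)]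
      simp)
  have hSl : ∀ x, Algebra.TensorProduct.lift S (AlgHom.id R A) (fun _ _ => Commute.all _ _) (Δ x) =
      algebraMap R A (ε x) := fun x => sub_eq_zero.mp (hinj fun i => by
    refine one_tmul_eq_zero_of_bijective (π i) (hπ i) ?_
    rw [map_sub, ← transport_mul (π i) Δ (Bialgebra.comulAlgHom (T i) (M i)) S (AlgHom.id R A)
      (HopfAlgebra.antipodeAlgHom (T i) (M i)) (AlgHom.id (T i) (M i)) (hΔ i) (hS i) (fun _ => rfl), sub_eq_zero,
      AlgHom.commutes, IsScalarTower.algebraMap_apply R (T i) (M i), ← hε i]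
    refine Eq.trans ?_ (HopfAlgebra.mul_antipode_rTensor_comul_apply (R := T i) (π i x))
    show _ = LinearMap.mul' (T i) (M i) ((HopfAlgebraStruct.antipode (T i)).rTensor (M i) (Coalgebra.comul (π i x)))
    rw [Bialgebra.comulAlgHom_apply]
    generalize Coalgebra.comul (R := T i) (π i x) = z
    induction z using TensorProduct.induction_on with
    | zero => simp
    | add a b ha hb => simp only [map_add, ha, hb]
    | tmul a b => simp)
  have hSr : ∀ x, Algebra.TensorProduct.lift (AlgHom.id R A) S (fun _ _ => Commute.all _ _) (Δ x) =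
      algebraMap R A (ε x) := fun x => sub_eq_zero.mp (hinj fun i => by
    refine one_tmul_eq_zero_of_bijective (π i) (hπ i) ?_
    rw [map_sub, ← transport_mul (π i) Δ (Bialgebra.comulAlgHom (T i) (M i)) (AlgHom.id R A) S
      (AlgHom.id (T i) (M i)) (HopfAlgebra.antipodeAlgHom (T i) (M i)) (hΔ i) (fun _ => rfl) (hS i), sub_eq_zero,
      AlgHom.commutes, IsScalarTower.algebraMap_apply R (T i) (M i), ← hε i]
    refine Eq.trans ?_ (HopfAlgebra.mul_antipode_lTensor_comul_apply (R := T i) (π i x))
    show _ = LinearMap.mul' (T i) (M i) ((HopfAlgebraStruct.antipode (T i)).lTensor (M i) (Coalgebra.comul (π i x)))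
    rw [Bialgebra.comulAlgHom_apply]
    generalize Coalgebra.comul (R := T i) (π i x) = z
    induction z using TensorProduct.induction_on with
    | zero => simp
    | add a b ha hb => simp only [map_add, ha, hb]
    | tmul a b => simp)
  let : Bialgebra R A := Bialgebra.ofAlgHom Δ ε (AlgHom.ext hA)
    (AlgHom.ext fun x => (Algebra.TensorProduct.lid R A).injective
      ((hl x).trans ((Algebra.TensorProduct.lid R A).apply_symm_apply x).symm))
    (AlgHom.ext fun x => (Algebra.TensorProduct.rid R R A).injective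
      ((hr x).trans ((Algebra.TensorProduct.rid R R A).apply_symm_apply x).symm))
  let : HopfAlgebra R A := HopfAlgebra.ofAlgHom S (AlgHom.ext hSl) (AlgHom.ext hSr)
  refine ⟨A, inferInstance, inferInstance, id, fun i => ?_⟩
  let e₀ : T i ⊗[R] A ≃ₐ[T i] M i := AlgEquiv.ofBijective (extHom (R := T i) (π i)) (hπ i)
  have he : ∀ a, e₀ ((1 : T i) ⊗ₜ[R] a) = π i a := fun a => by simp [e₀]
  refine ⟨BialgEquiv.ofAlgEquiv e₀ (Algebra.TensorProduct.ext (Subsingleton.elim _ _) (AlgHom.ext fun a => ?_))
    (Algebra.TensorProduct.ext (Subsingleton.elim _ _) (AlgHom.ext fun a => ?_)), he⟩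
  · show Bialgebra.counitAlgHom (T i) (M i) (e₀ ((1 : T i) ⊗ₜ[R] a)) = Coalgebra.counit ((1 : T i) ⊗ₜ[R] a)
    rw [he, hε i, TensorProduct.counit_tmul]
    show _ = ε a • (1 : T i)
    rw [Algebra.algebraMap_eq_smul_one]
  · show Algebra.TensorProduct.map e₀.toAlgHom e₀.toAlgHom (Coalgebra.comul ((1 : T i) ⊗ₜ[R] a)) =
      Bialgebra.comulAlgHom (T i) (M i) (e₀ ((1 : T i) ⊗ₜ[R] a))
    rw [he, ← hΔ i, TensorProduct.comul_tmul, CommSemiring.comul_apply]
    show Algebra.TensorProduct.map e₀.toAlgHom e₀.toAlgHom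
      (TensorProduct.AlgebraTensorModule.tensorTensorTensorComm R (T i) R (T i) (T i) (T i) A A
        (((1 : T i) ⊗ₜ[T i] (1 : T i)) ⊗ₜ[R] Δ a)) = _
    generalize Δ a = z
    induction z using TensorProduct.induction_on with
    | zero => simp
    | add a b ha hb => simp only [map_add, TensorProduct.tmul_add, ha, hb]
    | tmul a b => simp [he]

variable {R T : Type u} [CommRing R] [CommRing T] [Algebra R T]

/-- A fixed element comes from the base. -/
theorem exists_of_fixed [Module.FaithfullyFlat R T] {X X' : Type u} [CommRing X] [Algebra R X] [CommRing X']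
    [Algebra T X'] [Algebra R X'] [IsScalarTower R T X'] (f : X →ₐ[R] X')
    (hf : Function.Bijective (extHom (R := T) f)) (δ : X' →ₐ[T] T ⊗[R] X') (hδ : ∀ x, δ (f x) = 1 ⊗ₜ[R] f x)
    {z : X'} (hz : δ z = 1 ⊗ₜ[R] z) : ∃ x : X, f x = z := by
  obtain ⟨w, rfl⟩ := hf.2 z
  let L : (T ⊗[R] T) ⊗[R] X →ₗ[R] T ⊗[R] X' :=
    ((extHom (R := T) f).toLinearMap.restrictScalars R).lTensor T ∘ₗ (TensorProduct.assoc R T T X).toLinearMap
  have hL : Function.Injective L :=
    (((LinearEquiv.ofBijective ((extHom (R := T) f).toLinearMap.restrictScalars R) hf).lTensor T).injective.comp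
      (TensorProduct.assoc R T T X).injective)
  have h1 : ∀ w, L ((Algebra.TensorProduct.includeLeft : T →ₐ[R] T ⊗[R] T).toLinearMap.rTensor X w) =
      δ (extHom (R := T) f w) := fun w => by
    induction w using TensorProduct.induction_on with
    | zero => simp
    | add a b ha hb => simp only [map_add, ha, hb]
    | tmul t x => simp [L, hδ, TensorProduct.smul_tmul']
  have h2 : ∀ w, L ((Algebra.TensorProduct.includeRight : T →ₐ[R] T ⊗[R] T).toLinearMap.rTensor X w) =
      1 ⊗ₜ[R] extHom (R := T) f w := fun w => by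
    induction w using TensorProduct.induction_on with
    | zero => simp
    | add a b ha hb => simp only [map_add, TensorProduct.tmul_add, ha, hb]
    | tmul t x => simp [L]
  obtain ⟨x, rfl⟩ := exists_eq_one_tmul T w (hL (by rw [h1, h2]; exact hz))
  exact ⟨x, by simp⟩

/-- Factor a map through an injective one. -/
theorem exists_algHom_of_range {X X' Y : Type u} [CommRing X] [Algebra R X] [CommRing X'] [Algebra R X']
    [CommRing Y] [Algebra R Y] (f : X →ₐ[R] X') (hf : Function.Injective f) (g : Y →ₐ[R] X')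
    (h : ∀ y, ∃ x, f x = g y) : ∃ k : Y →ₐ[R] X, ∀ y, f (k y) = g y :=
  ⟨(AlgEquiv.ofInjective f hf).symm.toAlgHom.comp (g.codRestrict f.range h), fun y => by
    have := (AlgEquiv.ofInjective f hf).apply_symm_apply (g.codRestrict f.range h y)
    exact congrArg Subtype.val this⟩

theorem injective_of_extHom [Module.FaithfullyFlat R T] {X X' : Type u} [CommRing X] [Algebra R X] [CommRing X']
    [Algebra T X'] [Algebra R X'] [IsScalarTower R T X'] {f : X →ₐ[R] X'}
    (hf : Function.Bijective (extHom (R := T) f)) : Function.Injective f := fun a b h =>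
  eq_of_one_tmul (R := R) T (hf.1 (by rw [extHom_tmul, extHom_tmul, h]))

/-- Effective descent of Hopf algebras. -/
theorem exists_hopf_descent [Module.FaithfullyFlat R T] {M : Type u} [CommRing M] [HopfAlgebra T M] [Algebra R M]
    [IsScalarTower R T M] (δ : M →ₐ[T] T ⊗[R] M)
    (hmul : ∀ m, Algebra.TensorProduct.lift (IsScalarTower.toAlgHom R T M) (AlgHom.id R M)
      (fun _ _ => Commute.all _ _) (δ m) = m)
    (hco : ∀ m, Algebra.TensorProduct.map (AlgHom.id R T) (δ.restrictScalars R) (δ m) =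
      Algebra.TensorProduct.map (AlgHom.id R T) (Algebra.TensorProduct.includeRight : M →ₐ[R] T ⊗[R] M) (δ m))
    (hΔ : ∀ m, Algebra.TensorProduct.lift
        ((Algebra.TensorProduct.map (AlgHom.id T T)
          ((Algebra.TensorProduct.includeLeft : M →ₐ[T] M ⊗[T] M).restrictScalars R)).comp δ)
        ((Algebra.TensorProduct.map (AlgHom.id T T)
          ((Algebra.TensorProduct.includeRight : M →ₐ[T] M ⊗[T] M).restrictScalars R)).comp δ)
        (fun _ _ => Commute.all _ _) (Bialgebra.comulAlgHom T M m) =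
      Algebra.TensorProduct.map (AlgHom.id T T) ((Bialgebra.comulAlgHom T M).restrictScalars R) (δ m))
    (hε : ∀ m, Algebra.TensorProduct.map (AlgHom.id T T) ((Bialgebra.counitAlgHom T M).restrictScalars R) (δ m) =
      Bialgebra.counitAlgHom T M m ⊗ₜ[R] (1 : T))
    (hS : ∀ m, Algebra.TensorProduct.map (AlgHom.id T T) ((HopfAlgebra.antipodeAlgHom T M).restrictScalars R) (δ m) =
      δ (HopfAlgebra.antipodeAlgHom T M m)) :
    ∃ (A : Type u) (_ : CommRing A) (_ : HopfAlgebra R A) (E : T ⊗[R] A ≃ₐc[T] M),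
      ∀ a, δ (E ((1 : T) ⊗ₜ[R] a)) = 1 ⊗ₜ[R] E ((1 : T) ⊗ₜ[R] a) := by
  let inr : M →ₐ[R] T ⊗[R] M := Algebra.TensorProduct.includeRight
  let A := AlgHom.equalizer (δ.restrictScalars R) inr
  let π : A →ₐ[R] M := A.val
  have hfix : ∀ a : A, δ (π a) = 1 ⊗ₜ[R] π a := fun a => a.2
  let f : M →ₗ[R] T ⊗[R] M := (δ.restrictScalars R).toLinearMap - inr.toLinearMap
  have hex : Function.Exact π.toLinearMap f := fun m => by
    constructor
    · intro h
      exact ⟨⟨m, sub_eq_zero.mp h⟩, rfl⟩
    · rintro ⟨a, rfl⟩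
      exact sub_eq_zero.mpr (hfix a)
  have hδπ : ∀ w, δ (extHom (R := T) π w) = π.toLinearMap.lTensor T w := fun w => by
    induction w using TensorProduct.induction_on with
    | zero => simp
    | add a b ha hb => simp only [map_add, ha, hb]
    | tmul t a => simp [hfix, TensorProduct.smul_tmul']
  have hμ : ∀ w, Algebra.TensorProduct.lift (IsScalarTower.toAlgHom R T M) (AlgHom.id R M)
      (fun _ _ => Commute.all _ _) (π.toLinearMap.lTensor T w) = extHom (R := T) π w := fun w => by
    induction w using TensorProduct.induction_on with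
    | zero => simp
    | add a b ha hb => simp only [map_add, ha, hb]
    | tmul t a => simp [Algebra.smul_def]
  have hπ : Function.Bijective (extHom (R := T) π) := by
    refine ⟨fun v w h => Module.Flat.lTensor_preserves_injective_linearMap (M := T) π.toLinearMap
      Subtype.val_injective (by rw [← hδπ, ← hδπ, h]), fun m => ?_⟩
    have hk : f.lTensor T (δ m) = 0 := by
      rw [LinearMap.lTensor_sub, LinearMap.sub_apply]
      exact sub_eq_zero.mpr (hco m)
    obtain ⟨w, hw⟩ := ((Module.Flat.lTensor_exact T hex) (δ m)).mp hk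
    exact ⟨w, by rw [← hμ, hw]; exact hmul m⟩
  let δ₂ := Algebra.TensorProduct.lift
        ((Algebra.TensorProduct.map (AlgHom.id T T)
          ((Algebra.TensorProduct.includeLeft : M →ₐ[T] M ⊗[T] M).restrictScalars R)).comp δ)
        ((Algebra.TensorProduct.map (AlgHom.id T T)
          ((Algebra.TensorProduct.includeRight : M →ₐ[T] M ⊗[T] M).restrictScalars R)).comp δ)
        (fun _ _ => Commute.all _ _)
  have hπ₂ := extHom_pairHom_bijective (R := T) π π hπ hπ
  have hδ₂ : ∀ z, δ₂ (pairHom (R := T) π π z) = 1 ⊗ₜ[R] pairHom (R := T) π π z := fun z => by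
    induction z using TensorProduct.induction_on with
    | zero => simp
    | add a b ha hb => simp only [map_add, TensorProduct.tmul_add, ha, hb]
    | tmul a b => simp [δ₂, hfix]
  obtain ⟨Δ, hΔ'⟩ := exists_algHom_of_range (pairHom (R := T) π π) (injective_of_extHom hπ₂)
    (((Bialgebra.comulAlgHom T M).restrictScalars R).comp π) fun a => exists_of_fixed _ hπ₂ δ₂ hδ₂ (by
      refine (hΔ (π a)).trans ?_
      rw [hfix]
      rfl)
  let inl : T →ₐ[T] T ⊗[R] T := Algebra.TensorProduct.includeLeft
  have hπ₀ : Function.Bijective (extHom (R := T) (Algebra.ofId R T)) := by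
    refine ⟨fun v w h => ?_, fun t => ⟨t ⊗ₜ 1, by simp⟩⟩
    have key : ∀ v, extHom (R := T) (Algebra.ofId R T) v = Algebra.TensorProduct.rid R T T v := fun v => by
      induction v using TensorProduct.induction_on with
      | zero => simp
      | add a b ha hb => simp only [map_add, ha, hb]
      | tmul t r => simp [Algebra.ofId_apply, Algebra.smul_def, mul_comm]
    rw [key, key] at h
    exact (Algebra.TensorProduct.rid R T T).injective h
  obtain ⟨ε, hε'⟩ := exists_algHom_of_range (Algebra.ofId R T) (FaithfulSMul.algebraMap_injective R T)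
    (((Bialgebra.counitAlgHom T M).restrictScalars R).comp π) fun a => exists_of_fixed _ hπ₀ inl (fun r => by
      show Algebra.ofId R T r ⊗ₜ[R] (1 : T) = _
      rw [Algebra.ofId_apply, Algebra.algebraMap_eq_smul_one, TensorProduct.smul_tmul]) (by
      refine (hε (π a)).symm.trans ?_
      rw [hfix]
      rfl)
  obtain ⟨S, hS'⟩ := exists_algHom_of_range π Subtype.val_injective
    (((HopfAlgebra.antipodeAlgHom T M).restrictScalars R).comp π) fun a => ⟨⟨_, by
      refine (hS (π a)).symm.trans ?_
      rw [hfix]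
      rfl⟩, rfl⟩
  have : Module.FaithfullyFlat R (PUnit.{u+1} → T) :=
    faithfullyFlat_pi (fun _ : PUnit.{u+1} => T) (fun _ => inferInstance)
      (fun p => ⟨PUnit.unit, PrimeSpectrum.comap_surjective_of_faithfullyFlat (B := T) p⟩)
  obtain ⟨A', hc, hA, j, hE⟩ := exists_hopf_of_maps (fun _ : PUnit.{u+1} => T) (fun _ => M) (fun _ => π) (fun _ => hπ) Δ ε S
    (fun _ => hΔ') (fun _ x => (hε' x).symm) (fun _ x => (hS' x).symm)
  obtain ⟨E, hE⟩ := hE PUnit.unit
  exact ⟨A', hc, hA, E, fun a => by rw [hE]; exact hfix (j a)⟩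

end Groth.Agent.IsoTriv
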