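import Groth.Agent.FlatMor12.Combine.Descend
import Mathlib.RingTheory.HopfAlgebra.Basic
import Mathlib.RingTheory.TensorProduct.Maps

/-! Maps of tensor products over a change of the base ring. -/

universe u

open TensorProduct

namespace Groth.Agent.IsoTriv

variable {T R : Type u} [CommRing T] [CommRing R] [Algebra T R]
variable {X Y X' Y' : Type u} [CommRing X] [CommRing Y] [Algebra T X] [Algebra T Y] [CommRing X'] [CommRing Y']
  [Algebra R X'] [Algebra R Y'] [Algebra T X'] [Algebra T Y'] [IsScalarTower T R X'] [IsScalarTower T R Y']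

/-- The extension of scalars of a semilinear algebra map. -/
noncomputable def extHom (f : X →ₐ[T] X') : R ⊗[T] X →ₐ[R] X' :=
  Algebra.TensorProduct.lift (Algebra.ofId R X') f fun _ _ => Commute.all _ _

@[simp] theorem extHom_tmul (f : X →ₐ[T] X') (r : R) (x : X) : extHom f (r ⊗ₜ x) = r • f x := by
  simp [extHom, Algebra.smul_def, Algebra.ofId_apply]

/-- The semilinear map of tensor products. -/
noncomputable def pairHom (f : X →ₐ[T] X') (g : Y →ₐ[T] Y') : X ⊗[T] Y →ₐ[T] X' ⊗[R] Y' :=
  Algebra.TensorProduct.lift
    (((Algebra.TensorProduct.includeLeft : X' →ₐ[R] X' ⊗[R] Y').restrictScalars T).comp f)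
    (((Algebra.TensorProduct.includeRight : Y' →ₐ[R] X' ⊗[R] Y').restrictScalars T).comp g)
    fun _ _ => Commute.all _ _

@[simp] theorem pairHom_tmul (f : X →ₐ[T] X') (g : Y →ₐ[T] Y') (x : X) (y : Y) :
    pairHom (R := R) f g (x ⊗ₜ y) = f x ⊗ₜ g y := by
  simp [pairHom]

theorem extHom_pairHom_bijective (f : X →ₐ[T] X') (g : Y →ₐ[T] Y') (hf : Function.Bijective (extHom (R := R) f))
    (hg : Function.Bijective (extHom (R := R) g)) :
    Function.Bijective (extHom (R := R) (pairHom (R := R) f g)) := by
  let E := (TensorProduct.AlgebraTensorModule.distribBaseChange T R X Y).trans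
    (TensorProduct.congr (LinearEquiv.ofBijective (extHom (R := R) f).toLinearMap hf)
      (LinearEquiv.ofBijective (extHom (R := R) g).toLinearMap hg))
  have h : ∀ z, extHom (R := R) (pairHom (R := R) f g) z = E z := fun z => by
    induction z using TensorProduct.induction_on with
    | zero => simp
    | add a b ha hb => rw [map_add, map_add, ha, hb]
    | tmul r w =>
      induction w using TensorProduct.induction_on with
      | zero => simp
      | add a b ha hb => rw [TensorProduct.tmul_add, map_add, map_add, ha, hb]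
      | tmul x y =>
        rw [extHom_tmul, pairHom_tmul]
        simp [E, TensorProduct.AlgebraTensorModule.distribBaseChange_tmul, TensorProduct.smul_tmul']
  rw [funext h]
  exact E.bijective

theorem one_tmul_eq_zero_of_bijective (f : X →ₐ[T] X') (hf : Function.Bijective (extHom (R := R) f)) {x : X}
    (hx : f x = 0) : (1 : R) ⊗ₜ[T] x = 0 :=
  hf.1 (by rw [extHom_tmul, one_smul, hx, map_zero])

theorem eq_zero_of_one_tmul (f : X →ₐ[T] X') {x : X} (hx : (1 : R) ⊗ₜ[T] x = 0) : f x = 0 := by
  have := congrArg (extHom (R := R) f) hx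
  rwa [extHom_tmul, one_smul, map_zero] at this

/-- Finitely many elements which die over `R` die over a finitely generated subalgebra. -/
theorem exists_stage_zero {α : Type*} [Finite α] (x : α → X) (h : ∀ a, (1 : R) ⊗ₜ[T] x a = 0) :
    ∃ T' : Subalgebra T R, T'.FG ∧ ∀ a, (1 : T') ⊗ₜ[T] x a = 0 := by
  obtain ⟨T', hle, hT', he⟩ := FlatMor12.Combine.exists_eq_finite (A := R) (C := X) (T := ⊥) Subalgebra.fg_bot
    (fun a => (1 : (⊥ : Subalgebra T R)) ⊗ₜ[T] x a) (fun _ => 0) fun a => by
      rw [map_zero]
      exact h a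
  refine ⟨T', hT', fun a => ?_⟩
  have := he a
  rw [map_zero] at this
  exact this

section Transport

variable {C C' : Type u} [CommRing C] [Algebra T C] [CommRing C'] [Algebra R C'] [Algebra T C'] [IsScalarTower T R C']
variable (π : C →ₐ[T] C') (Δ : C →ₐ[T] C ⊗[T] C) (Δ' : C' →ₐ[R] C' ⊗[R] C')

theorem transport_coassoc_left (hΔ : ∀ x, pairHom (R := R) π π (Δ x) = Δ' (π x)) (x : C) :
    Algebra.TensorProduct.assoc R R R C' C' C' (Algebra.TensorProduct.map Δ' (AlgHom.id R C') (Δ' (π x))) =
      pairHom (R := R) π (pairHom (R := R) π π)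
        (Algebra.TensorProduct.assoc T T T C C C (Algebra.TensorProduct.map Δ (AlgHom.id T C) (Δ x))) := by
  rw [← hΔ x]
  generalize Δ x = z
  induction z using TensorProduct.induction_on with
  | zero => simp
  | add a b ha hb => simp only [map_add, ha, hb]
  | tmul a b =>
    simp only [pairHom_tmul, Algebra.TensorProduct.map_tmul, AlgHom.id_apply, ← hΔ a]
    generalize Δ a = w
    induction w using TensorProduct.induction_on with
    | zero => simp
    | add c d hc hd => simp only [map_add, TensorProduct.add_tmul, hc, hd]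
    | tmul c d => simp

theorem transport_coassoc_right (hΔ : ∀ x, pairHom (R := R) π π (Δ x) = Δ' (π x)) (x : C) :
    Algebra.TensorProduct.map (AlgHom.id R C') Δ' (Δ' (π x)) =
      pairHom (R := R) π (pairHom (R := R) π π) (Algebra.TensorProduct.map (AlgHom.id T C) Δ (Δ x)) := by
  rw [← hΔ x]
  generalize Δ x = z
  induction z using TensorProduct.induction_on with
  | zero => simp
  | add a b ha hb => simp only [map_add, ha, hb]
  | tmul a b => simp [← hΔ b]

variable (ε : C →ₐ[T] T) (ε' : C' →ₐ[R] R)

theorem transport_counit_left (hΔ : ∀ x, pairHom (R := R) π π (Δ x) = Δ' (π x))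
    (hε : ∀ x, ε' (π x) = algebraMap T R (ε x)) (x : C) :
    Algebra.TensorProduct.lid R C' (Algebra.TensorProduct.map ε' (AlgHom.id R C') (Δ' (π x))) =
      π (Algebra.TensorProduct.lid T C (Algebra.TensorProduct.map ε (AlgHom.id T C) (Δ x))) := by
  rw [← hΔ x]
  generalize Δ x = z
  induction z using TensorProduct.induction_on with
  | zero => simp
  | add a b ha hb => simp only [map_add, ha, hb]
  | tmul a b => simp [hε, Algebra.smul_def, ← IsScalarTower.algebraMap_apply T R C']

theorem transport_counit_right (hΔ : ∀ x, pairHom (R := R) π π (Δ x) = Δ' (π x))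
    (hε : ∀ x, ε' (π x) = algebraMap T R (ε x)) (x : C) :
    Algebra.TensorProduct.rid R R C' (Algebra.TensorProduct.map (AlgHom.id R C') ε' (Δ' (π x))) =
      π (Algebra.TensorProduct.rid T T C (Algebra.TensorProduct.map (AlgHom.id T C) ε (Δ x))) := by
  rw [← hΔ x]
  generalize Δ x = z
  induction z using TensorProduct.induction_on with
  | zero => simp
  | add a b ha hb => simp only [map_add, ha, hb]
  | tmul a b => simp [hε, Algebra.smul_def, ← IsScalarTower.algebraMap_apply T R C']

variable (f g : C →ₐ[T] C) (f' g' : C' →ₐ[R] C')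

theorem transport_mul (hΔ : ∀ x, pairHom (R := R) π π (Δ x) = Δ' (π x)) (hf : ∀ x, f' (π x) = π (f x))
    (hg : ∀ x, g' (π x) = π (g x)) (x : C) :
    Algebra.TensorProduct.lift f' g' (fun _ _ => Commute.all _ _) (Δ' (π x)) =
      π (Algebra.TensorProduct.lift f g (fun _ _ => Commute.all _ _) (Δ x)) := by
  rw [← hΔ x]
  generalize Δ x = z
  induction z using TensorProduct.induction_on with
  | zero => simp
  | add a b ha hb => simp only [map_add, ha, hb]
  | tmul a b => simp [hf, hg]

end Transport

end Groth.Agent.IsoTriv
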