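import Groth.Agent.IsoTriv.HopfPair
import Mathlib.RingTheory.HopfAlgebra.Convolution

/-! Descending the structure maps of a Hopf algebra to a finitely generated stage. -/

universe u

open TensorProduct

namespace Groth.Agent.IsoTriv

variable (R : Type u) [CommRing R] (C : Type u) [CommRing C] [HopfAlgebra R C]

/-- A model of a finitely presented algebra together with its structure maps, over a finite type stage. -/
theorem exists_maps_stage (T : Type u) [CommRing T] [Algebra T R] [Algebra T C] [IsScalarTower T R C]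
    (B : Type u) [CommRing B] [Algebra T B] [Algebra.FinitePresentation T B] (π : B →ₐ[T] C)
    (hπ : Function.Bijective (extHom (R := R) π)) :
    ∃ (T' : Subalgebra T R), T'.FG ∧ ∃ (Δ : T' ⊗[T] B →ₐ[T'] (T' ⊗[T] B) ⊗[T'] (T' ⊗[T] B))
      (ε : T' ⊗[T] B →ₐ[T'] T') (S : T' ⊗[T] B →ₐ[T'] T' ⊗[T] B) (π' : T' ⊗[T] B →ₐ[T'] C),
      Function.Bijective (extHom (R := R) π') ∧
      (∀ x, pairHom (R := R) π' π' (Δ x) = Coalgebra.comul (R := R) (π' x)) ∧
      (∀ x, Coalgebra.counit (R := R) (π' x) = algebraMap T' R (ε x)) ∧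
      (∀ x, HopfAlgebra.antipodeAlgHom R C (π' x) = π' (S x)) := by
  let eπ : R ⊗[T] B ≃ₐ[R] C := AlgEquiv.ofBijective (extHom (R := R) π) hπ
  let e₂ : R ⊗[T] (B ⊗[T] B) ≃ₐ[R] C ⊗[R] C :=
    AlgEquiv.ofBijective (extHom (R := R) (pairHom (R := R) π π)) (extHom_pairHom_bijective π π hπ hπ)
  obtain ⟨T₁, hT₁, φΔ, hφΔ⟩ := FlatMor12.Combine.exists_hom_stage (A := R) (C := B ⊗[T] B) (D := B)
    (((e₂.symm.toAlgHom.comp (Bialgebra.comulAlgHom R C)).restrictScalars T).comp π)
  obtain ⟨T₂, hT₂, φS, hφS⟩ := FlatMor12.Combine.exists_hom_stage (A := R) (C := B) (D := B)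
    (((eπ.symm.toAlgHom.comp (HopfAlgebra.antipodeAlgHom R C)).restrictScalars T).comp π)
  let εB : B →ₐ[T] R := ((Bialgebra.counitAlgHom R C).restrictScalars T).comp π
  have hT₃ : εB.range.FG := by
    rw [← Algebra.map_top]
    exact (Algebra.FiniteType.out (R := T) (A := B)).map εB
  let T' := T₁ ⊔ T₂ ⊔ εB.range
  refine ⟨T', (hT₁.sup hT₂).sup hT₃, ?_⟩
  let π' : T' ⊗[T] B →ₐ[T'] C := extHom (R := T') π
  let j : B →ₐ[T] T' ⊗[T] B := Algebra.TensorProduct.includeRight
  let Δ : T' ⊗[T] B →ₐ[T'] (T' ⊗[T] B) ⊗[T'] (T' ⊗[T] B) :=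
    extHom (R := T') (((extHom (R := T') (pairHom (R := T') j j)).restrictScalars T).comp
      ((FlatMor12.Combine.trans (B ⊗[T] B) (le_sup_left.trans le_sup_left : T₁ ≤ T')).comp φΔ))
  let S : T' ⊗[T] B →ₐ[T'] T' ⊗[T] B :=
    extHom (R := T') ((FlatMor12.Combine.trans B (le_sup_right.trans le_sup_left : T₂ ≤ T')).comp φS)
  let ε : T' ⊗[T] B →ₐ[T'] T' :=
    extHom (R := T') ((Subalgebra.inclusion (le_sup_right : εB.range ≤ T')).comp εB.rangeRestrict)
  have hπ' : ∀ b, π' ((1 : T') ⊗ₜ[T] b) = π b := fun b => by simp [π']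
  refine ⟨Δ, ε, S, π', ?_, ?_, ?_, ?_⟩
  · have h : ∀ z, extHom (R := R) π' z = extHom (R := R) π (Algebra.TensorProduct.cancelBaseChange T T' R R B z) := by
      intro z
      induction z using TensorProduct.induction_on with
      | zero => simp
      | add a b ha hb => simp only [map_add, ha, hb]
      | tmul r w =>
        induction w using TensorProduct.induction_on with
        | zero => simp
        | add a b ha hb => simp only [TensorProduct.tmul_add, map_add, ha, hb]
        | tmul t b =>
          rw [Algebra.TensorProduct.cancelBaseChange_tmul, extHom_tmul, extHom_tmul, extHom_tmul, smul_assoc]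
          rw [smul_comm]
    rw [funext h]
    exact hπ.comp (Algebra.TensorProduct.cancelBaseChange T T' R R B).bijective
  · have key : ∀ w : T' ⊗[T] (B ⊗[T] B), pairHom (R := R) π' π' (extHom (R := T') (pairHom (R := T') j j) w) =
        extHom (R := R) (pairHom (R := R) π π) (FlatMor12.Combine.toLim (B ⊗[T] B) T' w) := by
      intro w
      induction w using TensorProduct.induction_on with
      | zero => simp
      | add a b ha hb => simp only [map_add, ha, hb]
      | tmul t z =>
        rw [extHom_tmul, map_smul, show FlatMor12.Combine.toLim (B ⊗[T] B) T' (t ⊗ₜ z) = (t : R) ⊗ₜ z from rfl,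
          extHom_tmul]
        induction z using TensorProduct.induction_on with
        | zero => simp
        | add a b ha hb => simp only [map_add, smul_add, ha, hb]
        | tmul a b => simp [j, hπ', Subalgebra.smul_def]
    intro x
    induction x using TensorProduct.induction_on with
    | zero => simp
    | add a b ha hb => simp only [map_add, ha, hb]
    | tmul t b =>
      rw [show (t ⊗ₜ[T] b : T' ⊗[T] B) = t • ((1 : T') ⊗ₜ b) by simp [TensorProduct.smul_tmul'], map_smul, map_smul,
        map_smul, LinearMap.map_smul_of_tower]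
      congr 1
      show pairHom (R := R) π' π' (Δ ((1 : T') ⊗ₜ b)) = _
      simp only [Δ, extHom_tmul, one_smul, AlgHom.comp_apply, AlgHom.restrictScalars_apply]
      rw [key, FlatMor12.Combine.toLim_trans, hφΔ, hπ']
      exact e₂.apply_symm_apply _
  · intro x
    induction x using TensorProduct.induction_on with
    | zero => simp
    | add a b ha hb => simp only [map_add, ha, hb]
    | tmul t b =>
      rw [show π' (t ⊗ₜ[T] b) = (t : R) • π b by simp [π', Subalgebra.smul_def], map_smul]
      simp [ε, εB]
  · intro x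
    induction x using TensorProduct.induction_on with
    | zero => simp
    | add a b ha hb => simp only [map_add, ha, hb]
    | tmul t b =>
      rw [show (t ⊗ₜ[T] b : T' ⊗[T] B) = t • ((1 : T') ⊗ₜ b) by simp [TensorProduct.smul_tmul'], map_smul π', map_smul S,
        map_smul π', Subalgebra.smul_def, map_smul (HopfAlgebra.antipodeAlgHom R C), ← Subalgebra.smul_def]
      congr 1
      rw [hπ']
      have key : ∀ w : T' ⊗[T] B, π' w = extHom (R := R) π (FlatMor12.Combine.toLim B T' w) := fun w => by
        induction w using TensorProduct.induction_on with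
        | zero => simp
        | add a b ha hb => simp only [map_add, ha, hb]
        | tmul t z => simp [π', show FlatMor12.Combine.toLim B T' (t ⊗ₜ z) = (t : R) ⊗ₜ z from rfl, Subalgebra.smul_def]
      simp only [S, extHom_tmul, one_smul, AlgHom.comp_apply]
      rw [key, FlatMor12.Combine.toLim_trans, hφS]
      exact (eπ.apply_symm_apply _).symm

end Groth.Agent.IsoTriv
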