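import Groth.Agent.IsoTriv.SmoothLift
import Groth.Agent.IsoTriv.GroupAlgLift
import Groth.Agent.HenselLib.Idem

/-! Homomorphisms of split groups along maps lifting idempotents uniquely. -/

universe u

open TensorProduct Coalgebra

namespace Groth.Agent.IsoTriv

open SGA3bLib

/-- Idempotents correspond bijectively along the map. -/
structure IdemBij {T T₀ : Type u} [CommRing T] [CommRing T₀] (π : T →+* T₀) : Prop where
  inj : ∀ e e' : T, IsIdempotentElem e → IsIdempotentElem e' → π e = π e' → e = e'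
  lift : ∀ e₀ : T₀, IsIdempotentElem e₀ → ∃ e : T, IsIdempotentElem e ∧ π e = e₀

theorem IdemBij.of_finite {A : Type u} [CommRing A] (I : Ideal A) [HenselianRing A I] (U : Type u) [CommRing U]
    [Algebra A U] [Algebra.IsIntegral A U] : IdemBij (Ideal.Quotient.mk (I.map (algebraMap A U))) where
  inj e e' he he' h := HenselLib.injOn_idempotents HenselianRing.jac U he he' h
  lift e₀ he₀ := by
    obtain ⟨b, rfl⟩ := Ideal.Quotient.mk_surjective e₀
    obtain ⟨e, he, h⟩ := HenselLib.exists_idempotent I b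
      ((Ideal.Quotient.mk_eq_mk_iff_sub_mem _ _).mp ((map_mul _ b b).trans he₀))
    exact ⟨e, he, (Ideal.Quotient.mk_eq_mk_iff_sub_mem _ _).mpr h⟩

variable {T T₀ : Type u} [CommRing T] [CommRing T₀] {π : T →+* T₀} (hπ : IdemBij π)
include hπ

theorem IdemBij.eq_of_map_eq {M : Type u} [CommGroup M] {x y : MonoidAlgebra T M}
    (hx : IsGroupLikeElem T x) (hy : IsGroupLikeElem T y)
    (h : MonoidAlgebra.mapRingHom M π x = MonoidAlgebra.mapRingHom M π y) : x = y :=
  ext_coef fun m => hπ.inj _ _ (isIdempotentElem_coef hx m) (isIdempotentElem_coef hy m)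
    (by rw [← coef_mapRingHom, ← coef_mapRingHom, h])

theorem IdemBij.exists_complete {I : Type u} [Fintype I] {e₀ : I → T₀} (h : CompleteOrthogonalIdempotents e₀) :
    ∃ e : I → T, CompleteOrthogonalIdempotents e ∧ ∀ i, π (e i) = e₀ i := by
  choose e he he' using fun i => hπ.lift (e₀ i) (h.idem i)
  have ho : OrthogonalIdempotents e := ⟨he, fun i j hij => hπ.inj _ _ ((he i).mul (he j)) IsIdempotentElem.zero
    (by rw [map_mul, he', he', h.ortho hij, map_zero])⟩
  exact ⟨e, ⟨ho, hπ.inj _ _ ho.isIdempotentElem_sum IsIdempotentElem.one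
    (by rw [map_sum, map_one]; simp only [he', h.complete])⟩, he'⟩

theorem IdemBij.exists_groupLike_lift {M : Type u} [CommGroup M] {x₀ : MonoidAlgebra T₀ M}
    (hx₀ : IsGroupLikeElem T₀ x₀) :
    ∃ x : MonoidAlgebra T M, IsGroupLikeElem T x ∧ MonoidAlgebra.mapRingHom M π x = x₀ := by
  classical
  let s := x₀.coeff.support
  have hsum : x₀ = ∑ i : s, MonoidAlgebra.single (i : M) (coef (i : M) x₀) := by
    rw [Finset.sum_coe_sort s fun i => MonoidAlgebra.single i (coef i x₀)]
    refine ext_coef fun m => ?_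
    rw [map_sum]
    simp only [coef_single]
    rw [Finset.sum_ite_eq']
    split_ifs with hm
    · rfl
    · exact Finsupp.notMem_support_iff.mp hm
  have hc : CompleteOrthogonalIdempotents fun i : s => coef (i : M) x₀ := by
    refine ⟨⟨fun i => isIdempotentElem_coef hx₀ _, fun i j hij => groupLike_orth hx₀ fun h => hij (Subtype.ext h)⟩, ?_⟩
    have := hx₀.counit_eq_one
    rw [hsum, map_sum] at this
    simpa using this
  obtain ⟨e, he, he'⟩ := hπ.exists_complete hc
  refine ⟨∑ i : s, MonoidAlgebra.single (i : M) (e i), ⟨?_, ?_⟩, ?_⟩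
  · rw [map_sum]
    simpa using he.complete
  · have hs : ∀ i : s, (MonoidAlgebra.single (i : M) (e i) : MonoidAlgebra T M) =
        e i • MonoidAlgebra.single (i : M) 1 := fun i => by simp
    rw [map_sum, TensorProduct.sum_tmul]
    refine Finset.sum_congr rfl fun i _ => ?_
    rw [TensorProduct.tmul_sum, Finset.sum_eq_single i]
    · rw [hs, map_smul, (MonoidAlgebra.isGroupLikeElem_single_one (R := T) (A := T) (i : M)).comul_eq_tmul_self,
        TensorProduct.smul_tmul', TensorProduct.tmul_smul, TensorProduct.smul_tmul', smul_smul, (he.idem i).eq]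
    · intro j _ hj
      rw [hs i, hs j, TensorProduct.tmul_smul, TensorProduct.smul_tmul', smul_smul, he.ortho hj, zero_smul,
        TensorProduct.zero_tmul]
    · simp
  · conv_rhs => rw [hsum]
    rw [map_sum]
    simp only [MonoidAlgebra.mapRingHom_single, he']

/-- Homomorphisms of group algebras lift. -/
theorem IdemBij.exists_hom_lift {N M : Type u} [CommGroup N] [CommGroup M]
    (g₀ : MonoidAlgebra T₀ N →ₐc[T₀] MonoidAlgebra T₀ M) :
    ∃ g : MonoidAlgebra T N →ₐc[T] MonoidAlgebra T M, ∀ n,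
      MonoidAlgebra.mapRingHom M π (g (MonoidAlgebra.single n 1)) = g₀ (MonoidAlgebra.single n 1) := by
  choose y hy hy' using fun n => hπ.exists_groupLike_lift
    ((MonoidAlgebra.isGroupLikeElem_single_one (R := T₀) (A := T₀) n).map g₀ :
      IsGroupLikeElem T₀ (g₀ (MonoidAlgebra.single (n : N) 1)))
  let χ : N →* MonoidAlgebra T M :=
    { toFun := y
      map_one' := hπ.eq_of_map_eq (hy 1) .one (by rw [hy', map_one]; exact map_one g₀)
      map_mul' := fun a b => hπ.eq_of_map_eq (hy _) ((hy a).mul (hy b)) (by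
        rw [map_mul, hy', hy', hy', ← map_mul g₀, MonoidAlgebra.single_mul_single, mul_one]) }
  let F : MonoidAlgebra T N →ₐ[T] MonoidAlgebra T M := MonoidAlgebra.lift T _ N χ
  have hF : ∀ m, F (MonoidAlgebra.single m 1) = y m := fun m => by simp [F, χ]
  refine ⟨BialgHom.ofAlgHom F
    (MonoidAlgebra.algHom_ext (single_one_left := Subsingleton.elim _ _) fun m => by
      simp [hF, (hy m).counit_eq_one])
    (MonoidAlgebra.algHom_ext (single_one_left := Subsingleton.elim _ _) fun m => by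
      simp [hF, (hy m).comul_eq_tmul_self]), fun n => ?_⟩
  show MonoidAlgebra.mapRingHom M π (F _) = _
  rw [hF, hy']

end Groth.Agent.IsoTriv

namespace Groth.Agent.IsoTriv

open SGA3bLib

section Split

variable {A : Type u} [CommRing A] {B : Type u} [CommRing B] [HopfAlgebra A B] {C : Type u} [CommRing C]
  [HopfAlgebra A C] {U U₀ : Type u} [CommRing U] [CommRing U₀] [Algebra A U] [Algebra A U₀] [Algebra U U₀]
  [IsScalarTower A U U₀] {N M : Type u} [CommGroup N] [CommGroup M]

/-- Between split groups homomorphisms are determined by their reduction. -/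
theorem IdemBij.eq_of_split (hπ : IdemBij (algebraMap U U₀)) (eC : U ⊗[A] C ≃ₐc[U] MonoidAlgebra U N)
    (eB : U ⊗[A] B ≃ₐc[U] MonoidAlgebra U M) (θ₁ θ₂ : U ⊗[A] C →ₐc[U] U ⊗[A] B)
    (h : ∀ c : C, push B (IsScalarTower.toAlgHom A U U₀) (θ₁ ((1 : U) ⊗ₜ[A] c)) =
      push B (IsScalarTower.toAlgHom A U U₀) (θ₂ ((1 : U) ⊗ₜ[A] c))) : θ₁ = θ₂ := by
  have hall : ∀ x, push B (IsScalarTower.toAlgHom A U U₀) (θ₁ x) = push B (IsScalarTower.toAlgHom A U U₀) (θ₂ x) :=
    fun x => by
      induction x using TensorProduct.induction_on with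
      | zero => simp only [map_zero]
      | add x y hx hy => simp only [map_add, hx, hy]
      | tmul t c =>
        rw [show (t ⊗ₜ[A] c : U ⊗[A] C) = algebraMap U (U ⊗[A] C) t * ((1 : U) ⊗ₜ[A] c) by
            rw [Algebra.TensorProduct.algebraMap_apply, Algebra.TensorProduct.tmul_mul_tmul, Algebra.algebraMap_self,
              RingHom.id_apply, mul_one, one_mul],
          map_mul θ₁, map_mul θ₂, AlgHomClass.commutes θ₁, AlgHomClass.commutes θ₂, map_mul, map_mul, h]
  have hs : ∀ n, θ₁ (eC.symm (MonoidAlgebra.single n 1)) = θ₂ (eC.symm (MonoidAlgebra.single n 1)) := fun n => by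
    apply eB.toAlgEquiv.injective
    have hg : IsGroupLikeElem U (eC.symm (MonoidAlgebra.single n 1)) :=
      (MonoidAlgebra.isGroupLikeElem_single_one (R := U) (A := U) n).map
        (eC.symm : MonoidAlgebra U N →ₐc[U] U ⊗[A] C)
    refine hπ.eq_of_map_eq ((hg.map θ₁).map (eB : U ⊗[A] B →ₐc[U] MonoidAlgebra U M))
      ((hg.map θ₂).map (eB : U ⊗[A] B →ₐc[U] MonoidAlgebra U M)) ?_
    exact (bcTriv_push eB _).symm.trans ((congrArg _ (hall _)).trans (bcTriv_push eB _))
  have hk : (θ₁ : U ⊗[A] C →ₐ[U] U ⊗[A] B).comp (eC.symm : MonoidAlgebra U N →ₐ[U] U ⊗[A] C) =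
      (θ₂ : U ⊗[A] C →ₐ[U] U ⊗[A] B).comp (eC.symm : MonoidAlgebra U N →ₐ[U] U ⊗[A] C) :=
    MonoidAlgebra.algHom_ext (single_one_left := Subsingleton.elim _ _) hs
  refine DFunLike.ext _ _ fun x => ?_
  have h1 := AlgHom.congr_fun hk (eC x)
  simp only [AlgHom.comp_apply] at h1
  have h2 : θ₁ (eC.symm (eC x)) = θ₂ (eC.symm (eC x)) := h1
  rwa [eC.symm_apply_apply] at h2

/-- Between split groups homomorphisms of the reductions lift. -/
theorem IdemBij.exists_split_lift (hπ : IdemBij (algebraMap U U₀)) (eC : U ⊗[A] C ≃ₐc[U] MonoidAlgebra U N)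
    (eB : U ⊗[A] B ≃ₐc[U] MonoidAlgebra U M) (θ₀ : U₀ ⊗[A] C →ₐc[U₀] U₀ ⊗[A] B) :
    ∃ θ : U ⊗[A] C →ₐc[U] U ⊗[A] B, ∀ c : C,
      push B (IsScalarTower.toAlgHom A U U₀) (θ ((1 : U) ⊗ₜ[A] c)) = θ₀ ((1 : U₀) ⊗ₜ[A] c) := by
  let aC : U₀ ⊗[A] C ≃ₐc[U₀] MonoidAlgebra U₀ N := bcTriv eC
  let aB : U₀ ⊗[A] B ≃ₐc[U₀] MonoidAlgebra U₀ M := bcTriv eB
  let g₀ : MonoidAlgebra U₀ N →ₐc[U₀] MonoidAlgebra U₀ M :=
    (aB : U₀ ⊗[A] B →ₐc[U₀] MonoidAlgebra U₀ M).comp
      (θ₀.comp (aC.symm : MonoidAlgebra U₀ N →ₐc[U₀] U₀ ⊗[A] C))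
  obtain ⟨g, hg⟩ := hπ.exists_hom_lift g₀
  have hsm : ∀ {Q : Type u} [CommGroup Q] (r : U) (z : MonoidAlgebra U Q),
      MonoidAlgebra.mapRingHom Q (algebraMap U U₀) (r • z) =
        algebraMap U U₀ r • MonoidAlgebra.mapRingHom Q (algebraMap U U₀) z := fun {Q} _ r z => by
    rw [Algebra.smul_def, map_mul, Algebra.smul_def, MonoidAlgebra.coe_algebraMap, MonoidAlgebra.coe_algebraMap]
    simp
  have hgall : ∀ z, MonoidAlgebra.mapRingHom M (algebraMap U U₀) (g z) =
      g₀ (MonoidAlgebra.mapRingHom N (algebraMap U U₀) z) := fun z => by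
    induction z using MonoidAlgebra.induction_linear with
    | zero => simp only [map_zero]
    | add a b ha hb => simp only [map_add, ha, hb]
    | single n r =>
      rw [show (MonoidAlgebra.single n r : MonoidAlgebra U N) = r • MonoidAlgebra.single n 1 by simp, map_smul,
        hsm, hsm, map_smul, hg, MonoidAlgebra.mapRingHom_single, map_one]
  refine ⟨(eB.symm : MonoidAlgebra U M →ₐc[U] U ⊗[A] B).comp (g.comp (eC : U ⊗[A] C →ₐc[U] MonoidAlgebra U N)),
    fun c => ?_⟩
  apply aB.toAlgEquiv.injective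
  refine (bcTriv_push eB _).trans ?_
  refine (congrArg (MonoidAlgebra.mapRingHom M (algebraMap U U₀)) (eB.apply_symm_apply _)).trans ?_
  refine (hgall _).trans ?_
  refine (congrArg g₀ (bcTriv_push (T' := U₀) eC _).symm).trans ?_
  rw [push_tmul, map_one]
  exact congrArg (fun z => aB (θ₀ z)) (aC.symm_apply_apply _)

end Split

end Groth.Agent.IsoTriv
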