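import Groth.Agent.IsoTriv.KernelHom
import Groth.Agent.SGA3bLib.MonoDiag
import Mathlib.RingTheory.Ideal.IdempotentFG

/-! Kernels of homomorphisms from groups of multiplicative type to arbitrary groups of finite type. -/

universe u

open TensorProduct Coalgebra

namespace Groth.Agent.IsoTriv

open SGA3bLib

variable {R : Type u} [CommRing R] {M : Type u} [CommGroup M]

/-- The coefficient ideal of a character is idempotent and finitely generated. -/
theorem exists_idem_coef {C : Type u} [CommRing C] [HopfAlgebra R C] (hft : Algebra.FiniteType R C)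
    (ψ : C →ₐc[R] MonoidAlgebra R M) (m : M) :
    ∃ e : R, IsIdempotentElem e ∧ (∃ c, coef m (ψ c) = e) ∧ ∀ c, e ∣ coef m (ψ c) := by
  classical
  let l : C →ₗ[R] R := coef m ∘ₗ (ψ : C →ₐ[R] MonoidAlgebra R M).toLinearMap
  let I : Ideal R := LinearMap.range l
  obtain ⟨X, hX⟩ := hft.out
  have hidem : IsIdempotentElem I := by
    refine le_antisymm Ideal.mul_le_left ?_
    rintro _ ⟨c, rfl⟩
    have h1 : l c = LinearMap.mul' R R (TensorProduct.map (coef m) (coef m) (comul (R := R) (ψ c))) := by
      rw [coef_coef_comul, if_pos rfl]; rfl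
    rw [h1, show comul (R := R) (ψ c) = TensorProduct.map (ψ : C →ₗ[R] MonoidAlgebra R M) ψ (comul c) from
      (CoalgHomClass.map_comp_comul_apply ψ c).symm]
    generalize comul (R := R) c = t
    induction t using TensorProduct.induction_on with
    | zero => simp
    | tmul a b =>
      rw [TensorProduct.map_tmul, TensorProduct.map_tmul, LinearMap.mul'_apply]
      exact Ideal.mul_mem_mul ⟨a, rfl⟩ ⟨b, rfl⟩
    | add a b ha hb => rw [map_add, map_add, map_add]; exact add_mem ha hb
  let co : Finset R := X.biUnion fun x => (ψ x).coeff.support.image fun n => (ψ x).coeff n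
  let R₀ := Algebra.adjoin ℤ (co : Set R)
  have : IsNoetherianRing R₀ := 
    have : Algebra.FiniteType ℤ R₀ := Algebra.FiniteType.adjoin_of_finite co.finite_toSet
    Algebra.FiniteType.isNoetherianRing ℤ R₀
  let P := Submonoid.closure (X : Set C)
  have hP : ∀ y ∈ P, ψ y ∈ (MonoidAlgebra.mapRingHom M (R₀.val : R₀ →+* R)).range := by
    intro y hy
    induction hy using Submonoid.closure_induction with
    | mem x hx =>
      rw [← MonoidAlgebra.sum_coeff_single (ψ x)]
      refine Subring.sum_mem _ fun n hn => ⟨MonoidAlgebra.single n ⟨(ψ x).coeff n, Algebra.subset_adjoin ?_⟩, ?_⟩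
      · exact Finset.mem_biUnion.mpr ⟨x, hx, Finset.mem_image_of_mem _ hn⟩
      · rw [MonoidAlgebra.mapRingHom_single]; rfl
    | one => rw [map_one]; exact one_mem _
    | mul a b _ _ ha hb => rw [map_mul]; exact mul_mem ha hb
  let B : Set R₀ := {r | ∃ y ∈ P, (r : R) = l y}
  have hI : I = (Ideal.span B).map (R₀.val : R₀ →+* R) := by
    refine le_antisymm ?_ ?_
    · rintro _ ⟨c, rfl⟩
      have hc : c ∈ Submodule.span R (P : Set C) := by
        rw [← Algebra.adjoin_eq_span, hX]; exact Submodule.mem_top
      induction hc using Submodule.span_induction with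
      | mem y hy =>
        obtain ⟨z, hz⟩ := hP y hy
        have hzy : (R₀.val : R₀ →+* R) (coef m z) = l y := by
          show _ = coef m (ψ y)
          rw [← hz, coef_mapRingHom]
        exact hzy ▸ Ideal.mem_map_of_mem _ (Ideal.subset_span ⟨y, hy, hzy⟩)
      | zero => rw [map_zero]; exact zero_mem _
      | add a b _ _ ha hb => rw [map_add]; exact add_mem ha hb
      | smul r a _ ha => rw [map_smul]; exact Ideal.mul_mem_left _ r ha
    · rw [Ideal.map_span, Ideal.span_le]
      rintro _ ⟨r, ⟨y, -, hr⟩, rfl⟩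
      exact ⟨y, hr.symm⟩
  have hfg : I.FG := hI ▸ Ideal.FG.map (IsNoetherian.noetherian (Ideal.span B)) _
  obtain ⟨e, he, hIe⟩ := (I.isIdempotentElem_iff_of_fg hfg).mp hidem
  refine ⟨e, he, ?_, fun c => Ideal.mem_span_singleton.mp ?_⟩
  · have : e ∈ I := by rw [hIe]; exact Ideal.mem_span_singleton_self e
    exact this
  · rw [← Ideal.submodule_span_eq, ← hIe]
    exact ⟨c, rfl⟩

/-- A map into a group algebra each of whose relevant characters is hit or absent has diagonalisable kernel. -/
theorem map_ker_counit {C : Type u} [CommRing C] [HopfAlgebra R C] (ψ : C →ₐc[R] MonoidAlgebra R M)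
    (X : Set C) (hX : Algebra.adjoin R X = ⊤) (s : Set M) (hs : ∀ m ∈ s, ∃ c, coef m (ψ c) = 1)
    (hsupp : ∀ x ∈ X, ∀ m, m ∉ s → coef m (ψ x) = 0) :
    (RingHom.ker (Bialgebra.counitAlgHom R C)).map (ψ : C →ₐ[R] MonoidAlgebra R M) =
      RingHom.ker (MonoidAlgebra.mapDomainBialgHom R (QuotientGroup.mk' (Subgroup.closure s)) :
        MonoidAlgebra R M →ₐ[R] MonoidAlgebra R (M ⧸ Subgroup.closure s)) := by
  classical
  set Λ := Subgroup.closure s
  set p : MonoidAlgebra R M →ₐ[R] MonoidAlgebra R (M ⧸ Λ) :=
    (MonoidAlgebra.mapDomainBialgHom R (QuotientGroup.mk' Λ) : MonoidAlgebra R M →ₐ[R] MonoidAlgebra R (M ⧸ Λ))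
  set I := (RingHom.ker (Bialgebra.counitAlgHom R C)).map (ψ : C →ₐ[R] MonoidAlgebra R M)
  refine le_antisymm ?_ ?_
  · have hE : ∀ c, p (ψ c) = algebraMap R _ (Bialgebra.counitAlgHom R (MonoidAlgebra R M) (ψ c)) := by
      let E : Subalgebra R (MonoidAlgebra R M) :=
        AlgHom.equalizer p ((Algebra.ofId R _).comp (Bialgebra.counitAlgHom R (MonoidAlgebra R M)))
      have hle : (⊤ : Subalgebra R C) ≤ E.comap (ψ : C →ₐ[R] MonoidAlgebra R M) := by
        rw [← hX, Algebra.adjoin_le_iff]
        intro x hx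
        show ψ x ∈ E
        rw [← MonoidAlgebra.sum_coeff_single (ψ x)]
        refine Subalgebra.sum_mem _ fun n hn => ?_
        have hns : n ∈ s := by
          by_contra h
          exact Finsupp.mem_support_iff.mp hn (hsupp x hx n h)
        show p (MonoidAlgebra.single n _) = algebraMap R _ (counit (R := R) (MonoidAlgebra.single n ((ψ x).coeff n)))
        have h1 : (QuotientGroup.mk' Λ) n = 1 := (QuotientGroup.eq_one_iff _).mpr (Subgroup.subset_closure hns)
        simp [p, h1, MonoidAlgebra.coe_algebraMap]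
      exact fun c => hle trivial
    rw [Ideal.map_le_iff_le_comap]
    intro c hc
    show p (ψ c) = 0
    rw [hE, show Bialgebra.counitAlgHom R (MonoidAlgebra R M) (ψ c) = Bialgebra.counitAlgHom R C c from
      CoalgHomClass.counit_comp_apply ψ c, show Bialgebra.counitAlgHom R C c = 0 from hc, map_zero]
  · rw [show RingHom.ker p = _ from ker_mapDomain Λ, Ideal.span_le]
    rintro _ ⟨m, hm, rfl⟩
    induction hm using Subgroup.closure_induction with
    | mem n hn =>
      obtain ⟨c, hc⟩ := hs n hn
      obtain ⟨c', hc'⟩ := single_coeff_mem_range ψ c n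
      have h1 : ψ c' = MonoidAlgebra.single n 1 := by
        refine hc'.trans ?_
        rw [show (ψ c).coeff n = 1 from hc]
      have h2 : Bialgebra.counitAlgHom R C c' = 1 := by
        rw [show Bialgebra.counitAlgHom R C c' = Bialgebra.counitAlgHom R (MonoidAlgebra R M) (ψ c') from
          (CoalgHomClass.counit_comp_apply ψ c').symm, h1]
        simp
      have := Ideal.mem_map_of_mem (ψ : C →ₐ[R] MonoidAlgebra R M)
        (show c' - 1 ∈ RingHom.ker (Bialgebra.counitAlgHom R C) by
          rw [RingHom.mem_ker, map_sub, h2, map_one, sub_self])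
      rw [show (ψ : C →ₐ[R] MonoidAlgebra R M) (c' - 1) = ψ c' - ψ 1 from map_sub _ _ _, h1, map_one] at this
      exact this
    | one => simp [MonoidAlgebra.one_def]
    | mul a b _ _ ha hb =>
      rw [SetLike.mem_coe, ← mul_one (1 : R), ← MonoidAlgebra.single_mul_single,
        show MonoidAlgebra.single a (1 : R) * MonoidAlgebra.single b 1 - 1 =
          (MonoidAlgebra.single a (1 : R) - 1) * MonoidAlgebra.single b 1 + (MonoidAlgebra.single b 1 - 1) by ring]
      exact add_mem (Ideal.mul_mem_right _ _ ha) hb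
    | inv a _ ha =>
      rw [SetLike.mem_coe, show MonoidAlgebra.single a⁻¹ (1 : R) - 1 =
        -(MonoidAlgebra.single a⁻¹ 1 * (MonoidAlgebra.single a 1 - 1)) by
          rw [mul_sub, MonoidAlgebra.single_mul_single, inv_mul_cancel, mul_one, ← MonoidAlgebra.one_def, mul_one,
            neg_sub]]
      exact neg_mem (Ideal.mul_mem_left _ _ ha)

variable {A : Type u} [CommRing A] [HopfAlgebra R A] {C : Type u} [CommRing C] [HopfAlgebra R C]

/-- The kernel of a homomorphism into a group of finite type. -/
theorem hasCover_kernel_arbitrary (hA : HasCover R A) (hC : Algebra.FiniteType R C) (φ : C →ₐc[R] A)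
    (J : Ideal A) [J.IsHopfIdeal R] (hJ : J = Ideal.map φ (RingHom.ker (Bialgebra.counitAlgHom R C))) :
    HasCover R (A ⧸ J) := by
  classical
  obtain ⟨ι, _, T, _, _, hflat, hsurj, hdiag⟩ := hA
  obtain ⟨X, hX⟩ := id hC
  have hz : ∀ i, ∃ (κ : Type u) (_ : Finite κ) (e : κ → T i),
      (∀ q : PrimeSpectrum (T i), ∃ k, e k ∉ q.asIdeal) ∧
      ∀ k, SGA3b.IsDiag (Localization.Away (e k)) (Localization.Away (e k) ⊗[R] (A ⧸ J)) := by
    intro i
    obtain ⟨N, _, ⟨eA⟩⟩ := hdiag i
    let ψ : T i ⊗[R] C →ₐc[T i] MonoidAlgebra (T i) N :=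
      (eA : T i ⊗[R] A →ₐc[T i] MonoidAlgebra (T i) N).comp (bcHom (T i) φ)
    let S : Finset N := X.biUnion fun x => (ψ ((1 : T i) ⊗ₜ[R] x)).coeff.support
    choose e he hec hed using fun m : N => exists_idem_coef (inferInstance : Algebra.FiniteType (T i) (T i ⊗[R] C)) ψ m
    let d : Finset N → T i := fun s => ∏ m ∈ S, if m ∈ s then e m else 1 - e m
    refine ⟨{s : Finset N // s ∈ S.powerset}, inferInstance, fun s => d s.1, fun q => ?_, fun s => ?_⟩
    · refine ⟨⟨S.filter fun m => e m ∉ q.asIdeal, Finset.mem_powerset.mpr (Finset.filter_subset _ _)⟩, fun hmem => ?_⟩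
      obtain ⟨m, hm, hq⟩ := (q.2.prod_mem_iff).mp hmem
      simp only [Finset.mem_filter, hm, true_and] at hq
      split_ifs at hq with h
      · refine q.2.ne_top ((Ideal.eq_top_iff_one _).mpr ?_)
        simpa using add_mem hq h
      · exact h hq
    · set V := Localization.Away (d s.1)
      let eA' : V ⊗[R] A ≃ₐc[V] MonoidAlgebra V N := bcTriv eA
      let π := IsScalarTower.toAlgHom R (T i) V
      have hall : ∀ x, push A π (bcHom (T i) φ x) = bcHom V φ (push C π x) := fun x => by
        induction x using TensorProduct.induction_on with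
        | zero => simp only [map_zero]
        | add x y hx hy => simp only [map_add, hx, hy]
        | tmul t c => rw [bcHom_tmul, push_tmul, push_tmul, bcHom_tmul]
      have hval : ∀ c, eA' (bcHom V φ (push C π c)) = MonoidAlgebra.mapRingHom N (algebraMap (T i) V) (ψ c) :=
        fun c => by rw [← hall]; exact bcTriv_push eA _
      clear_value eA'
      let ψ' : V ⊗[R] C →ₐc[V] MonoidAlgebra V N :=
        (eA' : V ⊗[R] A →ₐc[V] MonoidAlgebra V N).comp (bcHom V φ)
      have hu : IsUnit (algebraMap (T i) V (d s.1)) := IsLocalization.Away.algebraMap_isUnit _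
      have hdvd : ∀ m ∈ S, IsUnit (algebraMap (T i) V (if m ∈ s.1 then e m else 1 - e m)) := fun m hm =>
        isUnit_of_dvd_unit (map_dvd _ (Finset.dvd_prod_of_mem (fun m => if m ∈ s.1 then e m else 1 - e m) hm)) hu
      let Y : Set (V ⊗[R] C) := (fun c => (1 : V) ⊗ₜ[R] c) '' X
      have hY : Algebra.adjoin V Y = ⊤ := by
        refine top_le_iff.mp ?_
        rintro x -
        induction x using TensorProduct.induction_on with
        | zero => exact zero_mem _
        | add a b ha hb => exact add_mem ha hb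
        | tmul v c =>
          rw [show v ⊗ₜ[R] c = v • ((1 : V) ⊗ₜ[R] c) by rw [TensorProduct.smul_tmul', smul_eq_mul, mul_one]]
          refine Subalgebra.smul_mem _ ?_ v
          have hc : c ∈ Algebra.adjoin R (X : Set C) := hX ▸ trivial
          induction hc using Algebra.adjoin_induction with
          | mem x hx => exact Algebra.subset_adjoin ⟨x, hx, rfl⟩
          | algebraMap r =>
            rw [show (1 : V) ⊗ₜ[R] algebraMap R C r = algebraMap V _ (algebraMap R V r) by
              rw [Algebra.TensorProduct.algebraMap_apply, Algebra.algebraMap_self, RingHom.id_apply,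
                Algebra.algebraMap_eq_smul_one, Algebra.algebraMap_eq_smul_one, TensorProduct.smul_tmul]]
            exact Subalgebra.algebraMap_mem _ _
          | add a b _ _ ha hb => rw [TensorProduct.tmul_add]; exact add_mem ha hb
          | mul a b _ _ ha hb => simpa using mul_mem ha hb
      have hpush : ∀ x : C, (1 : V) ⊗ₜ[R] x = push C π ((1 : T i) ⊗ₜ[R] x) := fun x => by
        rw [push_tmul, map_one]
      have hker := map_ker_counit ψ' Y hY (s.1 : Set N) (fun m hm => ?_) ?_
      rotate_left
      · obtain ⟨c, hc⟩ := hec m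
        refine ⟨push C π c, ?_⟩
        show coef m (eA' (bcHom V φ (push C π c))) = 1
        rw [hval, coef_mapRingHom, hc]
        have := hdvd m (Finset.mem_powerset.mp s.2 hm)
        rw [if_pos (Finset.mem_coe.mp hm)] at this
        exact (IsIdempotentElem.iff_eq_one_of_isUnit this).mp ((he m).map _)
      · rintro _ ⟨x, hx, rfl⟩ m hm
        show coef m (eA' (bcHom V φ ((1 : V) ⊗ₜ[R] x))) = 0
        rw [hpush, hval, coef_mapRingHom]
        by_cases hmS : m ∈ S
        · have := hdvd m hmS
          rw [if_neg (fun h => hm (Finset.mem_coe.mpr h))] at this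
          have h1 : algebraMap (T i) V (e m) = 0 := this.mul_left_eq_zero.mp (by
            rw [← map_mul, show e m * (1 - e m) = 0 by rw [mul_sub, mul_one, (he m).eq, sub_self], map_zero])
          exact zero_dvd_iff.mp (h1 ▸ map_dvd _ (hed m _))
        · have h0 : coef m (ψ ((1 : T i) ⊗ₜ[R] x)) = 0 :=
            Finsupp.notMem_support_iff.mp fun h => hmS (Finset.mem_biUnion.mpr ⟨x, hx, h⟩)
          rw [h0, map_zero]
      let Λ := Subgroup.closure (s.1 : Set N)
      let p := MonoidAlgebra.mapDomainBialgHom V (QuotientGroup.mk' Λ)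
      let q : A →ₐc[R] A ⧸ J := Bialgebra.Quotient.mkBialgHom (R := R) J
      refine ⟨N ⧸ Λ, inferInstance, nonempty_equiv_of_ker_eq (bcHom V q)
        (p.comp (eA' : V ⊗[R] A →ₐc[V] MonoidAlgebra V N)) (bcHom_surjective V q Ideal.Quotient.mk_surjective)
        ((mapDomain_surjective _).comp (show Function.Surjective (eA' : V ⊗[R] A →ₐc[V] MonoidAlgebra V N) from eA'.surjective)) ?_⟩
      rw [ker_bcHom V q Ideal.Quotient.mk_surjective,
        show RingHom.ker (q : A →ₐ[R] A ⧸ J) = J from Ideal.ext fun x => Ideal.Quotient.eq_zero_iff_mem]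
      set iA : A →ₐ[R] V ⊗[R] A := Algebra.TensorProduct.includeRight
      set iC : C →ₐ[R] V ⊗[R] C := Algebra.TensorProduct.includeRight
      have h1 : (J.map iA).map (eA' : V ⊗[R] A →ₐ[V] MonoidAlgebra V N) =
          (RingHom.ker (Bialgebra.counitAlgHom V (V ⊗[R] C))).map (ψ' : V ⊗[R] C →ₐ[V] MonoidAlgebra V N) := by
        rw [ker_counit_bc, hJ]
        show Ideal.map (eA' : V ⊗[R] A →ₐ[V] MonoidAlgebra V N).toRingHom (Ideal.map iA.toRingHom
          (Ideal.map (φ : C →ₐ[R] A).toRingHom _)) =
            Ideal.map (ψ' : V ⊗[R] C →ₐ[V] MonoidAlgebra V N).toRingHom (Ideal.map iC.toRingHom _)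
        rw [Ideal.map_map, Ideal.map_map, Ideal.map_map]
        congr 1
      have h3 := congrArg (Ideal.comap (eA' : V ⊗[R] A →ₐ[V] MonoidAlgebra V N)) (h1.trans hker)
      rw [Ideal.comap_map_of_bijective (eA' : V ⊗[R] A →ₐ[V] MonoidAlgebra V N) eA'.bijective] at h3
      exact h3
  choose κ hκ e he hd using hz
  refine ⟨(i : ι) × κ i, inferInstance, fun w => Localization.Away (e w.1 w.2), inferInstance, inferInstance,
    fun w => ?_, fun p => ?_, fun w => hd w.1 w.2⟩
  · have := hflat w.1
    exact Module.Flat.trans R (T w.1) _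
  · obtain ⟨i, q, hq⟩ := hsurj p
    obtain ⟨k, hk⟩ := he i q
    obtain ⟨q', hq'⟩ : q ∈ Set.range (PrimeSpectrum.comap (algebraMap (T i) (Localization.Away (e i k)))) := by
      rw [PrimeSpectrum.localization_away_comap_range (Localization.Away (e i k)) (e i k)]
      exact hk
    refine ⟨⟨i, k⟩, q', ?_⟩
    show q'.comap (algebraMap R (Localization.Away (e i k))) = p
    rw [IsScalarTower.algebraMap_eq R (T i) (Localization.Away (e i k)), PrimeSpectrum.comap_comp_apply, hq', hq]

end Groth.Agent.IsoTriv
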