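import Groth.Agent.IsoTriv.TypeLocus
import Groth.Agent.IsoTriv.MultBasic

/-! Kernels of homomorphisms between groups of multiplicative type. -/

universe u

open TensorProduct Coalgebra

namespace Groth.Agent.IsoTriv

open SGA3bLib

/-- An element of a group algebra with a unit coefficient among orthogonal idempotents is a character. -/
theorem eq_single_of_isUnit_coef {T : Type u} [CommRing T] {M : Type u} [CommGroup M] {x : MonoidAlgebra T M}
    (hx : IsGroupLikeElem T x) {m : M} (hu : IsUnit (coef m x)) : x = MonoidAlgebra.single m 1 := by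
  classical
  refine ext_coef fun m' => ?_
  rw [coef_single]
  split_ifs with h
  · subst h
    exact (IsIdempotentElem.iff_eq_one_of_isUnit hu).mp (isIdempotentElem_coef hx _)
  · exact hu.mul_right_eq_zero.mp (groupLike_orth hx h)

variable {T : Type u} [CommRing T] {M N : Type u} [CommGroup M] [CommGroup N]

/-- A homomorphism of group algebras given by a homomorphism of groups. -/
theorem exists_hom_of_single [Nontrivial T] (ψ : MonoidAlgebra T N →ₐc[T] MonoidAlgebra T M) (G : Set N)
    (hG : Subgroup.closure G = ⊤) (h : ∀ g ∈ G, ∃ m, ψ (MonoidAlgebra.single g 1) = MonoidAlgebra.single m 1) :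
    ∃ f : N →* M, ∀ n, ψ (MonoidAlgebra.single n 1) = MonoidAlgebra.single (f n) 1 := by
  have hall : ∀ n, ∃ m, ψ (MonoidAlgebra.single n 1) = MonoidAlgebra.single m 1 := by
    intro n
    have hn : n ∈ Subgroup.closure G := hG ▸ trivial
    induction hn using Subgroup.closure_induction with
    | mem g hg => exact h g hg
    | one => exact ⟨1, by rw [← MonoidAlgebra.one_def, map_one, MonoidAlgebra.one_def]⟩
    | mul a b _ _ ha hb =>
      obtain ⟨ma, ha⟩ := ha
      obtain ⟨mb, hb⟩ := hb
      refine ⟨ma * mb, ?_⟩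
      rw [← mul_one (1 : T), ← MonoidAlgebra.single_mul_single, map_mul, ha, hb, MonoidAlgebra.single_mul_single]
    | inv a _ ha =>
      obtain ⟨ma, ha⟩ := ha
      refine ⟨ma⁻¹, ?_⟩
      have h1 : ψ (MonoidAlgebra.single a 1) * ψ (MonoidAlgebra.single a⁻¹ 1) = 1 := by
        rw [← map_mul, MonoidAlgebra.single_mul_single, mul_inv_cancel, mul_one, ← MonoidAlgebra.one_def, map_one]
      rw [ha] at h1
      calc ψ (MonoidAlgebra.single a⁻¹ 1)
          = MonoidAlgebra.single ma⁻¹ 1 * (MonoidAlgebra.single ma 1 * ψ (MonoidAlgebra.single a⁻¹ 1)) := by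
            rw [← mul_assoc, MonoidAlgebra.single_mul_single, inv_mul_cancel, mul_one, ← MonoidAlgebra.one_def, one_mul]
        _ = MonoidAlgebra.single ma⁻¹ 1 := by rw [h1, mul_one]
  choose f hf using hall
  refine ⟨{ toFun := f, map_one' := ?_, map_mul' := fun a b => ?_ }, hf⟩
  · refine MonoidAlgebra.single_left_injective (one_ne_zero (α := T)) ?_
    show MonoidAlgebra.single (f 1) (1 : T) = MonoidAlgebra.single 1 1
    rw [← hf, ← MonoidAlgebra.one_def, map_one, MonoidAlgebra.one_def]
  · refine MonoidAlgebra.single_left_injective (one_ne_zero (α := T)) ?_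
    show MonoidAlgebra.single (f (a * b)) (1 : T) = MonoidAlgebra.single (f a * f b) 1
    rw [← hf, ← mul_one (1 : T), ← MonoidAlgebra.single_mul_single, ← MonoidAlgebra.single_mul_single, map_mul, hf, hf]

theorem ker_counit_eq_span : RingHom.ker (Bialgebra.counitAlgHom T (MonoidAlgebra T N)) =
    Ideal.span {x | ∃ m ∈ (⊤ : Subgroup N), x = MonoidAlgebra.single m (1 : T) - 1} := by
  rw [← ker_mapDomain ⊤]
  have : Subsingleton (N ⧸ (⊤ : Subgroup N)) := QuotientGroup.subsingleton_quotient_top
  ext x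
  have h : ∀ x : MonoidAlgebra T N,
      MonoidAlgebra.mapDomainBialgHom T (QuotientGroup.mk' (⊤ : Subgroup N)) x =
        MonoidAlgebra.single 1 (Bialgebra.counitAlgHom T (MonoidAlgebra T N) x) := by
    intro x
    induction x using MonoidAlgebra.induction_linear with
    | zero => simp
    | add a b ha hb => rw [map_add, map_add, ha, hb, MonoidAlgebra.single_add]
    | single m r => simp [Subsingleton.elim (QuotientGroup.mk m : N ⧸ (⊤ : Subgroup N)) 1]
  simp [RingHom.mem_ker, h]

variable {R : Type u} [CommRing R] {A : Type u} [CommRing A] [HopfAlgebra R A] {C : Type u} [CommRing C]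
  [HopfAlgebra R C]

theorem ker_counit_bc (V : Type u) [CommRing V] [Algebra R V] :
    RingHom.ker (Bialgebra.counitAlgHom V (V ⊗[R] C)) =
      (RingHom.ker (Bialgebra.counitAlgHom R C)).map (Algebra.TensorProduct.includeRight : C →ₐ[R] V ⊗[R] C) := by
  rw [← Algebra.TensorProduct.lTensor_ker (A := V) (Bialgebra.counitAlgHom R C)
    (fun r => ⟨algebraMap R C r, by simp⟩)]
  ext x
  rw [RingHom.mem_ker, RingHom.mem_ker, show Bialgebra.counitAlgHom V (V ⊗[R] C) x =
    Algebra.TensorProduct.rid R V V (Algebra.TensorProduct.map (AlgHom.id R V) (Bialgebra.counitAlgHom R C) x) from ?_]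
  · exact EmbeddingLike.map_eq_zero_iff
  · induction x using TensorProduct.induction_on with
    | zero => simp
    | tmul r a => simp [Algebra.smul_def, mul_comm]
    | add x y hx hy => rw [map_add, map_add, map_add, hx, hy]

/-- Where the homomorphism is given by groups, the kernel is diagonalisable. -/
theorem isDiag_kernel {V : Type u} [CommRing V] [Algebra R V] (φ : C →ₐc[R] A) (J : Ideal A) [J.IsHopfIdeal R]
    (hJ : J = Ideal.map φ (RingHom.ker (Bialgebra.counitAlgHom R C)))
    (eA : V ⊗[R] A ≃ₐc[V] MonoidAlgebra V M) (eC : V ⊗[R] C ≃ₐc[V] MonoidAlgebra V N) (f : N →* M)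
    (hf : ∀ n, eA (bcHom V φ (eC.symm (MonoidAlgebra.single n 1))) = MonoidAlgebra.single (f n) 1) :
    SGA3b.IsDiag V (V ⊗[R] (A ⧸ J)) := by
  let π : A →ₐc[R] A ⧸ J := Bialgebra.Quotient.mkBialgHom (R := R) J
  let p := MonoidAlgebra.mapDomainBialgHom V (QuotientGroup.mk' f.range)
  refine ⟨M ⧸ f.range, inferInstance, nonempty_equiv_of_ker_eq (bcHom V π) (p.comp (eA : V ⊗[R] A →ₐc[V] MonoidAlgebra V M))
    (bcHom_surjective V π Ideal.Quotient.mk_surjective)
    ((mapDomain_surjective _).comp (show Function.Surjective (eA : V ⊗[R] A →ₐc[V] MonoidAlgebra V M) from eA.surjective)) ?_⟩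
  rw [ker_bcHom V π Ideal.Quotient.mk_surjective,
    show RingHom.ker (π : A →ₐ[R] A ⧸ J) = J from Ideal.ext fun x => Ideal.Quotient.eq_zero_iff_mem]
  set iA : A →ₐ[R] V ⊗[R] A := Algebra.TensorProduct.includeRight
  set iC : C →ₐ[R] V ⊗[R] C := Algebra.TensorProduct.includeRight
  let ψ : MonoidAlgebra V N →ₐ[V] MonoidAlgebra V M := (eA : V ⊗[R] A →ₐ[V] MonoidAlgebra V M).comp
    ((bcHom V φ : V ⊗[R] C →ₐ[V] V ⊗[R] A).comp (eC.symm : MonoidAlgebra V N →ₐ[V] V ⊗[R] C))
  have h1 : (J.map iA).map (eA : V ⊗[R] A →ₐ[V] MonoidAlgebra V M) =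
      (RingHom.ker (Bialgebra.counitAlgHom V (MonoidAlgebra V N))).map ψ := by
    rw [← counit_comp_powConv_ker (eC : V ⊗[R] C →ₐc[V] MonoidAlgebra V N) eC.surjective, ker_counit_bc, hJ]
    show Ideal.map (eA : V ⊗[R] A →ₐ[V] MonoidAlgebra V M).toRingHom (Ideal.map iA.toRingHom
      (Ideal.map (φ : C →ₐ[R] A).toRingHom _)) = Ideal.map ψ.toRingHom
        (Ideal.map (eC : V ⊗[R] C →ₐ[V] MonoidAlgebra V N).toRingHom (Ideal.map iC.toRingHom _))
    rw [Ideal.map_map, Ideal.map_map, Ideal.map_map, Ideal.map_map]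
    congr 1
    refine RingHom.ext fun c => ?_
    show eA ((1 : V) ⊗ₜ[R] φ c) = eA (bcHom V φ (eC.symm (eC ((1 : V) ⊗ₜ[R] c))))
    rw [eC.symm_apply_apply, bcHom_tmul]
  have h2 : (J.map iA).map (eA : V ⊗[R] A →ₐ[V] MonoidAlgebra V M) =
      RingHom.ker (MonoidAlgebra.mapDomainBialgHom V (QuotientGroup.mk' f.range) :
        MonoidAlgebra V M →ₐ[V] MonoidAlgebra V (M ⧸ f.range)) := by
    rw [h1, ker_counit_eq_span, ker_mapDomain, Ideal.map_span]
    congr 1
    ext x
    constructor
    · rintro ⟨_, ⟨n, -, rfl⟩, rfl⟩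
      exact ⟨f n, ⟨n, rfl⟩, by rw [map_sub, map_one]; exact congrArg (· - 1) (hf n)⟩
    · rintro ⟨_, ⟨n, rfl⟩, rfl⟩
      exact ⟨_, ⟨n, trivial, rfl⟩, by rw [map_sub, map_one]; exact congrArg (· - 1) (hf n)⟩
  have h3 := congrArg (Ideal.comap (eA : V ⊗[R] A →ₐ[V] MonoidAlgebra V M)) h2
  rw [Ideal.comap_map_of_bijective (eA : V ⊗[R] A →ₐ[V] MonoidAlgebra V M) eA.bijective] at h3
  exact h3

theorem hasCover_kernel (hA : HasCover R A) (hC : HasCover R C) (hCft : Algebra.FiniteType R C) (φ : C →ₐc[R] A)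
    (J : Ideal A) [J.IsHopfIdeal R] (hJ : J = Ideal.map φ (RingHom.ker (Bialgebra.counitAlgHom R C))) :
    HasCover R (A ⧸ J) := by
  classical
  obtain ⟨ι, _, T, _, _, hflat, hsurj, hdiag⟩ := hA
  choose κ hκ S hS1 hS2 hSflat hSsurj hSdiag using fun i => hC.baseChange (T i)
  let : ∀ i j, Algebra R (S i j) := fun i j => ((algebraMap (T i) (S i j)).comp (algebraMap R (T i))).toAlgebra
  have : ∀ i j, IsScalarTower R (T i) (S i j) := fun i j => .of_algebraMap_eq fun _ => rfl
  let Z : Type u := (i : ι) × {j : κ i // Nontrivial (S i j)}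
  have hZ : ∀ p : PrimeSpectrum R, ∃ z : Z, ∃ q : PrimeSpectrum (S z.1 z.2),
      q.comap (algebraMap R (S z.1 z.2)) = p := fun p => by
    obtain ⟨i, q, hq⟩ := hsurj p
    obtain ⟨j, q', hq'⟩ := hSsurj i q
    refine ⟨⟨i, j, nontrivial_iff.mpr ⟨0, 1, fun h => q'.2.ne_top (Ideal.eq_top_iff_one _ |>.mpr (h ▸ zero_mem _))⟩⟩,
      q', ?_⟩
    show q'.comap (algebraMap R (S i j)) = p
    rw [IsScalarTower.algebraMap_eq R (T i) (S i j), PrimeSpectrum.comap_comp_apply, hq', hq]
  have hz : ∀ z : Z, ∃ (κ' : Type u) (_ : Finite κ') (e : κ' → S z.1 z.2),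
      (∀ q : PrimeSpectrum (S z.1 z.2), ∃ k, e k ∉ q.asIdeal) ∧
      ∀ k, SGA3b.IsDiag (Localization.Away (e k)) (Localization.Away (e k) ⊗[R] (A ⧸ J)) := by
    rintro ⟨i, j, hnt⟩
    obtain ⟨M, _, ⟨e₀⟩⟩ := hdiag i
    obtain ⟨N, _, ⟨eC₀⟩⟩ := hSdiag i j
    let eA : S i j ⊗[R] A ≃ₐc[S i j] MonoidAlgebra (S i j) M := bcTriv e₀
    let eC : S i j ⊗[R] C ≃ₐc[S i j] MonoidAlgebra (S i j) N := (cancelBC (R := R) (T i) (S i j) C).symm.trans eC₀
    have : Algebra.FiniteType (S i j) (MonoidAlgebra (S i j) N) :=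
      (inferInstance : Algebra.FiniteType (S i j) (S i j ⊗[R] C)).equiv eC.toAlgEquiv
    have : Group.FG N := Group.fg_iff_monoid_fg.mpr (MonoidAlgebra.finiteType_iff_fg.mp this)
    obtain ⟨G, hG⟩ := Group.fg_def.mp ‹Group.FG N›
    let y : N → MonoidAlgebra (S i j) M := fun n => eA (bcHom (S i j) φ (eC.symm (MonoidAlgebra.single n 1)))
    have hy : ∀ n, IsGroupLikeElem (S i j) (y n) := fun n =>
      (((MonoidAlgebra.isGroupLikeElem_single_one (R := S i j) (A := S i j) n).map
        (eC.symm : MonoidAlgebra (S i j) N →ₐc[S i j] S i j ⊗[R] C)).map (bcHom (S i j) φ)).map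
          (eA : S i j ⊗[R] A →ₐc[S i j] MonoidAlgebra (S i j) M)
    let Idx : Type u := ∀ g : G, {m : M // m ∈ (y g).coeff.support}
    let e : Idx → S i j := fun σ => ∏ g : G, coef (σ g : M) (y g)
    refine ⟨Idx, inferInstance, e, fun q => ?_, fun σ => ?_⟩
    · have hex : ∀ g : G, ∃ m : {m : M // m ∈ (y g).coeff.support}, coef (m : M) (y g) ∉ q.asIdeal := by
        intro g
        by_contra hcon
        push Not at hcon
        refine q.2.ne_top ((Ideal.eq_top_iff_one _).mpr ?_)
        have hall : ∀ m, coef m (y g) ∈ q.asIdeal := fun m => by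
          by_cases hm : m ∈ (y g).coeff.support
          · exact hcon ⟨m, hm⟩
          · have : coef m (y g) = 0 := Finsupp.notMem_support_iff.mp hm
            rw [this]
            exact zero_mem _
        rw [← (hy g).counit_eq_one]
        have hc : ∀ x : MonoidAlgebra (S i j) M, (∀ m, coef m x ∈ q.asIdeal) → counit (R := S i j) x ∈ q.asIdeal := by
          intro x hx
          rw [← MonoidAlgebra.sum_coeff_single x, Finsupp.sum, map_sum]
          refine Ideal.sum_mem _ fun m _ => ?_
          rw [MonoidAlgebra.counit_single]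
          simp only [CommSemiring.counit_apply]
          exact hx m
        exact hc _ hall
      choose σ hσ using hex
      refine ⟨σ, fun hmem => ?_⟩
      obtain ⟨g, -, hg⟩ := (q.2.prod_mem_iff).mp hmem
      exact hσ g hg
    · set V := Localization.Away (e σ)
      rcases subsingleton_or_nontrivial V with hs | hn
      · have : Subsingleton (V ⊗[R] (A ⧸ J)) := Module.subsingleton V _
        have : Subsingleton (MonoidAlgebra V M) := Module.subsingleton V _
        exact ⟨M, inferInstance, ⟨BialgEquiv.ofBijective (BialgHom.ofAlgHom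
          (AlgHom.ofLinearMap (0 : V ⊗[R] (A ⧸ J) →ₗ[V] MonoidAlgebra V M) (Subsingleton.elim _ _)
            fun _ _ => Subsingleton.elim _ _)
          (AlgHom.ext fun _ => Subsingleton.elim _ _)
          (AlgHom.ext fun z => by
            have : Subsingleton (MonoidAlgebra V M ⊗[V] MonoidAlgebra V M) := Module.subsingleton V _
            exact Subsingleton.elim _ _))
          ⟨fun _ _ _ => Subsingleton.elim _ _, fun y => ⟨0, Subsingleton.elim _ _⟩⟩⟩⟩
      let eA' : V ⊗[R] A ≃ₐc[V] MonoidAlgebra V M := bcTriv eA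
      let eC' : V ⊗[R] C ≃ₐc[V] MonoidAlgebra V N := bcTriv eC
      let π := IsScalarTower.toAlgHom R (S i j) V
      have hall : ∀ x, push A π (bcHom (S i j) φ x) = bcHom V φ (push C π x) := fun x => by
        induction x using TensorProduct.induction_on with
        | zero => simp only [map_zero]
        | add x y hx hy => simp only [map_add, hx, hy]
        | tmul t c => rw [bcHom_tmul, push_tmul, push_tmul, bcHom_tmul]
      have hval : ∀ n, eA' (bcHom V φ (eC'.symm (MonoidAlgebra.single n 1))) =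
          MonoidAlgebra.mapRingHom M (algebraMap (S i j) V) (y n) := fun n => by
        have h1 : eC'.symm (MonoidAlgebra.single n 1) = push C π (eC.symm (MonoidAlgebra.single n 1)) := by
          apply eC'.toAlgEquiv.injective
          refine (eC'.apply_symm_apply _).trans ((bcTriv_push eC _).trans ?_).symm
          rw [eC.apply_symm_apply, MonoidAlgebra.mapRingHom_single, map_one]
        rw [h1, ← hall]
        exact bcTriv_push eA _
      clear_value eA' eC'
      let ψ : MonoidAlgebra V N →ₐc[V] MonoidAlgebra V M := (eA' : V ⊗[R] A →ₐc[V] MonoidAlgebra V M).comp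
        ((bcHom V φ).comp (eC'.symm : MonoidAlgebra V N →ₐc[V] V ⊗[R] C))
      have hunit : IsUnit (algebraMap (S i j) V (e σ)) := IsLocalization.Away.algebraMap_isUnit _
      obtain ⟨f, hf⟩ := exists_hom_of_single ψ (G : Set N) hG fun g hg => by
        refine ⟨σ ⟨g, hg⟩, eq_single_of_isUnit_coef
          ((MonoidAlgebra.isGroupLikeElem_single_one (R := V) (A := V) g).map ψ) ?_⟩
        show IsUnit (coef _ (eA' (bcHom V φ (eC'.symm (MonoidAlgebra.single g 1)))))
        rw [hval, coef_mapRingHom]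
        refine isUnit_of_dvd_unit (map_dvd _ ?_) hunit
        exact Finset.dvd_prod_of_mem (fun g : G => coef (σ g : M) (y g)) (Finset.mem_univ (⟨g, hg⟩ : G))
      exact isDiag_kernel φ J hJ eA' eC' f hf
  choose κ' hκ' e he hd using hz
  refine ⟨(z : Z) × κ' z, inferInstance, fun w => Localization.Away (e w.1 w.2), inferInstance, inferInstance,
    fun w => ?_, fun p => ?_, fun w => hd w.1 w.2⟩
  · obtain ⟨⟨i, j, _⟩, k⟩ := w
    have := hflat i
    have := hSflat i j
    have : Module.Flat R (S i j) := Module.Flat.trans R (T i) (S i j)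
    exact Module.Flat.trans R (S i j) _
  · obtain ⟨z, q, hq⟩ := hZ p
    obtain ⟨k, hk⟩ := he z q
    have : q ∈ Set.range (PrimeSpectrum.comap (algebraMap (S z.1 z.2) (Localization.Away (e z k)))) := by
      rw [PrimeSpectrum.localization_away_comap_range (Localization.Away (e z k)) (e z k)]
      exact hk
    obtain ⟨q', hq'⟩ := this
    refine ⟨⟨z, k⟩, q', ?_⟩
    show q'.comap (algebraMap R (Localization.Away (e z k))) = p
    rw [IsScalarTower.algebraMap_eq R (S z.1 z.2) (Localization.Away (e z k)), PrimeSpectrum.comap_comp_apply, hq', hq]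

end Groth.Agent.IsoTriv
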