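import Groth.Agent.IsoTriv.Criterion
import Groth.Agent.SGA3bLib.Torsion
import Mathlib.RingTheory.Ideal.Cotangent
import Mathlib.RingTheory.Nilpotent.Basic
import Mathlib.RingTheory.Support
import Mathlib.RingTheory.Nakayama
import Mathlib.RingTheory.FinitePresentation
import Mathlib.RingTheory.HopfAlgebra.Convolution
import Mathlib.RingTheory.LocalRing.Module
import Mathlib.RingTheory.Noetherian.Nilpotent
import Mathlib.LinearAlgebra.Matrix.Charpoly.LinearMap

/-! Groups killed by an integer on every fibre are killed by an integer. -/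

universe u

open TensorProduct Coalgebra WithConv

namespace Groth.Agent.IsoTriv

open SGA3bLib

variable {R : Type u} [CommRing R] {B : Type u} [CommRing B] [HopfAlgebra R B]

theorem counit_powConv (n : ℕ) (x : B) : counit (R := R) (SGA3b.powConv R B n x) = counit x := by
  induction n generalizing x with
  | zero => simp [SGA3b.powConv]
  | succ n ih =>
    have h : (Bialgebra.counitAlgHom R B).comp (SGA3b.powConv R B (n + 1)) = Bialgebra.counitAlgHom R B := by
      have e : (Bialgebra.counitAlgHom R B).comp (SGA3b.powConv R B n) = Bialgebra.counitAlgHom R B :=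
        AlgHom.ext ih
      simp only [SGA3b.powConv] at e
      simp only [SGA3b.powConv, pow_succ]
      rw [AlgHom.comp_convMul_distrib, e, ofConv_toConv, AlgHom.comp_id]
      refine AlgHom.ext fun y => ?_
      rw [AlgHom.convMul_apply]
      let r := ℛ R y
      rw [← r.eq, map_sum]
      simp only [Algebra.TensorProduct.lift_tmul, ofConv_toConv, Bialgebra.counitAlgHom_apply]
      conv_rhs => rw [← sum_counit_smul r, map_sum]
      simp
    exact AlgHom.congr_fun h x

/-- The primitive part, as a map to the conormal module of the unit section. -/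
noncomputable def toCotangent : B →ₗ[R] (RingHom.ker (Bialgebra.counitAlgHom R B)).Cotangent where
  toFun y := Ideal.toCotangent _ ⟨y - algebraMap R B (counit y), by simp [RingHom.mem_ker]⟩
  map_add' x y := by
    rw [← map_add]
    congr 1
    exact Subtype.ext (by simp only [map_add, Submodule.coe_add]; ring)
  map_smul' r y := by
    rw [RingHom.id_apply, ← LinearMap.map_smul_of_tower]
    congr 1
    exact Subtype.ext (by simp [Algebra.smul_def, mul_sub])

theorem toCotangent_mul (a b : B) :
    toCotangent (R := R) (a * b) = counit (R := R) a • toCotangent (R := R) b + counit (R := R) b • toCotangent (R := R) a := by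
  set I := RingHom.ker (Bialgebra.counitAlgHom R B)
  show I.toCotangent _ = _
  have h : (a * b - algebraMap R B (counit (a * b))) - ((counit (R := R) a) • (b - algebraMap R B (counit b)) +
      (counit (R := R) b) • (a - algebraMap R B (counit a))) ∈ I ^ 2 := by
    have e : (a * b - algebraMap R B (counit (a * b))) - ((counit (R := R) a) • (b - algebraMap R B (counit b)) +
      (counit (R := R) b) • (a - algebraMap R B (counit a))) =
        (a - algebraMap R B (counit a)) * (b - algebraMap R B (counit b)) := by
      simp only [Algebra.smul_def, Bialgebra.counit_mul, map_mul]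
      ring
    rw [e, pow_two]
    exact Ideal.mul_mem_mul (by simp [I, RingHom.mem_ker]) (by simp [I, RingHom.mem_ker])
  show _ = counit (R := R) a • I.toCotangent _ + counit (R := R) b • I.toCotangent _
  rw [← LinearMap.map_smul_of_tower, ← LinearMap.map_smul_of_tower, ← map_add, Ideal.toCotangent_eq]
  exact h

theorem toCotangent_powConv (n : ℕ) (x : B) :
    toCotangent (R := R) (SGA3b.powConv R B n x) = n • toCotangent (R := R) x := by
  induction n generalizing x with
  | zero =>
    rw [zero_smul]
    have : SGA3b.powConv R B 0 x = algebraMap R B (counit x) := by simp [SGA3b.powConv]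
    rw [this]
    show Ideal.toCotangent _ _ = 0
    refine (Ideal.toCotangent_eq_zero _ _).mpr ?_
    simp
  | succ n ih =>
    have e : SGA3b.powConv R B (n + 1) x =
        Algebra.TensorProduct.lift (SGA3b.powConv R B n) (AlgHom.id R B) (fun _ _ => Commute.all _ _) (comul x) := by
      simp only [SGA3b.powConv, pow_succ]
      exact AlgHom.convMul_apply _ _ _
    let r := ℛ R x
    rw [e, ← r.eq, map_sum, map_sum]
    simp only [Algebra.TensorProduct.lift_tmul, AlgHom.id_apply, toCotangent_mul, counit_powConv, ih,
      Finset.sum_add_distrib]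
    rw [succ_nsmul, add_comm (∑ _i ∈ _, _)]
    congr 1
    · have h2 : ∑ i ∈ r.index, counit (R := R) (r.right i) • r.left i = x := by
        have h := congrArg (TensorProduct.rid R B) (LinearMap.congr_fun (lTensor_counit_comp_comul (R := R) (A := B)) x)
        rw [LinearMap.comp_apply, ← r.eq, map_sum, map_sum] at h
        simpa using h
      conv_rhs => rw [← h2, map_sum]
      simp only [map_smul, Finset.smul_sum, smul_comm n]
    · conv_rhs => rw [← sum_counit_smul r, map_sum]
      simp only [map_smul]

/-- Binomial coefficients of highly divisible numbers are highly divisible. -/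
theorem dvd_choose_mul_factorial (c e i : ℕ) (hi : 1 ≤ i) (hie : i ≤ e) : c ∣ (c * e.factorial).choose i := by
  obtain ⟨k, hk⟩ := Nat.dvd_factorial hi hie
  obtain ⟨i, rfl⟩ : ∃ j, i = j + 1 := ⟨i - 1, by omega⟩
  rcases Nat.eq_zero_or_pos c with rfl | hc
  · simp
  obtain ⟨m, hm⟩ : ∃ m, c * e.factorial = m + 1 :=
    ⟨c * e.factorial - 1, by have := Nat.mul_pos hc e.factorial_pos; omega⟩
  have h := Nat.add_one_mul_choose_eq m i
  rw [← hm] at h
  refine ⟨k * m.choose i, Nat.eq_of_mul_eq_mul_right (Nat.succ_pos i) ?_⟩
  rw [Nat.succ_eq_add_one, ← h, hk]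
  ring

/-- A group killed by an integer on each fibre is killed by an integer. -/
theorem exists_powConv_eq_counit (hfp : Algebra.FinitePresentation R B) (n : ℕ) (hn : 0 < n)
    (hfib : ∀ (q : Ideal R) [q.IsPrime] (x : B),
      (1 : q.ResidueField) ⊗ₜ[R] (SGA3b.powConv R B n x - algebraMap R B (counit x)) = 0) :
    ∃ N : ℕ, 0 < N ∧ ∀ x : B, SGA3b.powConv R B N x = algebraMap R B (counit x) := by
  set I := RingHom.ker (Bialgebra.counitAlgHom R B) with hI
  have hIfg : I.FG := by
    have := hfp
    exact Algebra.FinitePresentation.ker_fG_of_surjective (Bialgebra.counitAlgHom R B) fun r => ⟨algebraMap R B r, by simp⟩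
  obtain ⟨G, hG⟩ := hIfg
  have : Module.Finite R I.Cotangent := by
    classical
    refine ⟨⟨G.image (toCotangent (R := R) (B := B)), eq_top_iff.mpr fun y _ => ?_⟩⟩
    obtain ⟨⟨y, hy⟩, rfl⟩ := I.toCotangent_surjective y
    suffices hmem : toCotangent (R := R) y ∈ Submodule.map (toCotangent (R := R)) (Submodule.span R (G : Set B)) by
      have hy' : toCotangent (R := R) y = I.toCotangent ⟨y, hy⟩ := by
        show I.toCotangent _ = _
        congr 1
        exact Subtype.ext (by simp [show counit (R := R) y = 0 from hy])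
      rwa [← hy', Finset.coe_image, ← Submodule.map_span]
    suffices key : ∀ z ∈ Ideal.span (G : Set B),
        toCotangent (R := R) z ∈ Submodule.map (toCotangent (R := R)) (Submodule.span R (G : Set B)) from
      key y (hG.symm ▸ hy)
    intro z hz
    induction hz using Submodule.span_induction with
    | mem g hg => exact ⟨g, Submodule.subset_span hg, rfl⟩
    | zero => simp
    | add a b _ _ ha hb => rw [map_add]; exact add_mem ha hb
    | smul b g hg ih =>
      rw [smul_eq_mul, toCotangent_mul]
      have hg0 : counit (R := R) g = 0 := by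
        have : g ∈ I := hG ▸ hg
        exact this
      rw [hg0, zero_smul, add_zero]
      exact Submodule.smul_mem _ _ ih
  obtain ⟨c, hc, hcM⟩ : ∃ c : ℕ, 0 < c ∧ ∀ m : I.Cotangent, c • m = 0 := by
    by_contra! hcon
    let S : Submonoid R :=
      { carrier := {r | ∃ c : ℕ, 0 < c ∧ (c : R) = r}
        one_mem' := ⟨1, one_pos, Nat.cast_one⟩
        mul_mem' := by rintro _ _ ⟨a, ha, rfl⟩ ⟨b, hb, rfl⟩; exact ⟨a * b, Nat.mul_pos ha hb, Nat.cast_mul a b⟩ }
    have hdis : Disjoint (Module.annihilator R I.Cotangent : Set R) S := by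
      refine Set.disjoint_left.mpr ?_
      rintro _ hr ⟨c, hc, rfl⟩
      obtain ⟨m, hm⟩ := hcon c hc
      exact hm ((Nat.cast_smul_eq_nsmul R c m).symm.trans (Module.mem_annihilator.mp hr m))
    obtain ⟨q, hq, hle, hqS⟩ := Ideal.exists_le_prime_disjoint _ S hdis
    have := hq
    have hmem : (⟨q, hq⟩ : PrimeSpectrum R) ∈ Module.support R I.Cotangent := by
      rw [Module.support_eq_zeroLocus]
      exact hle
    have hnt := (Module.mem_support_iff_nontrivial_residueField_tensorProduct (M := I.Cotangent) ⟨q, hq⟩).mp hmem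
    have hnu : IsUnit (n : q.ResidueField) := by
      refine isUnit_iff_ne_zero.mpr fun h0 => ?_
      rw [← map_natCast (algebraMap R q.ResidueField), Ideal.algebraMap_residueField_eq_zero] at h0
      exact Set.disjoint_left.mp hqS h0 ⟨n, hn, rfl⟩
    refine not_nontrivial_iff_subsingleton.mpr ⟨fun a b => ?_⟩ hnt
    suffices hz : ∀ a : q.ResidueField ⊗[R] I.Cotangent, a = 0 by rw [hz a, hz b]
    intro a
    induction a using TensorProduct.induction_on with
    | zero => rfl
    | add a b ha hb => rw [ha, hb, add_zero]
    | tmul t m =>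
      obtain ⟨⟨y, hy⟩, rfl⟩ := I.toCotangent_surjective m
      have h1 := congrArg ((toCotangent (R := R) (B := B)).lTensor q.ResidueField) (hfib q y)
      rw [LinearMap.lTensor_tmul, map_zero, show counit (R := R) y = 0 from hy, map_zero, sub_zero,
        toCotangent_powConv, TensorProduct.tmul_smul] at h1
      have h2 : toCotangent (R := R) y = I.toCotangent ⟨y, hy⟩ := by
        show I.toCotangent _ = _
        congr 1
        exact Subtype.ext (by simp [show counit (R := R) y = 0 from hy])
      rw [h2, ← Nat.cast_smul_eq_nsmul q.ResidueField] at h1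
      have h3 : (1 : q.ResidueField) ⊗ₜ[R] I.toCotangent ⟨y, hy⟩ = 0 := (hnu.smul_eq_zero).mp h1
      calc t ⊗ₜ[R] I.toCotangent ⟨y, hy⟩ = t • ((1 : q.ResidueField) ⊗ₜ[R] I.toCotangent ⟨y, hy⟩) := by
            rw [TensorProduct.smul_tmul', smul_eq_mul, mul_one]
        _ = 0 := by rw [h3, smul_zero]
  set P := SGA3b.powConv R B n with hP
  set 𝔞 : Ideal B := I.map P with h𝔞
  have hnil : IsNilpotent 𝔞 := by
    refine (Ideal.FG.isNilpotent_iff_le_nilradical (Ideal.FG.map (I := I) ⟨G, hG⟩ P.toRingHom)).mpr ?_
    refine Ideal.map_le_iff_le_comap.mpr fun x hx => ?_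
    rw [Ideal.mem_comap, mem_nilradical, nilpotent_iff_mem_prime]
    intro Q hQ
    have h := hfib (Q.comap (algebraMap R B)) x
    rw [show counit (R := R) x = 0 from hx, map_zero, sub_zero] at h
    let f : (Q.comap (algebraMap R B)).ResidueField →+* Q.ResidueField := Ideal.ResidueField.map _ Q (algebraMap R B) rfl
    let fA : (Q.comap (algebraMap R B)).ResidueField →ₐ[R] Q.ResidueField :=
      { f with commutes' := fun r => (Ideal.ResidueField.map_algebraMap _ Q (algebraMap R B) rfl r).trans (IsScalarTower.algebraMap_apply R B Q.ResidueField r).symm }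
    have h' := congrArg (Algebra.TensorProduct.lift fA (IsScalarTower.toAlgHom R B Q.ResidueField)
      fun _ _ => Commute.all _ _) h
    rw [Algebra.TensorProduct.lift_tmul, map_one, one_mul, map_zero] at h'
    exact Ideal.algebraMap_residueField_eq_zero.mp h'
  obtain ⟨e, he⟩ := hnil
  obtain ⟨r, hr, hr0⟩ : ∃ r : ℕ, 0 < r ∧ ∀ y ∈ I, r • P y = 0 := by
    have hcI : ∀ y ∈ I, (c : B) * y ∈ I * I := fun y hy => by
      have := hcM (I.toCotangent ⟨y, hy⟩)
      rw [← map_nsmul, Ideal.toCotangent_eq_zero, pow_two] at this
      simpa [nsmul_eq_mul] using this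
    have : Module.Finite B I := Module.Finite.iff_fg.mpr ⟨G, hG⟩
    let f : Module.End B I := (c : B) • LinearMap.id
    obtain ⟨p, hpm, -, hpc, hp0⟩ :=
      LinearMap.exists_monic_and_natDegree_eq_and_coeff_mem_pow_and_aeval_eq_zero B f I (by
        rintro _ ⟨⟨y, hy⟩, rfl⟩
        rw [Submodule.mem_smul_top_iff]
        exact hcI y hy)
    let k := p.natDegree
    let a : B := ∑ i ∈ Finset.range k, p.coeff i * (c : B) ^ i
    have ha : a ∈ I := Ideal.sum_mem _ fun i hi => Ideal.mul_mem_right _ _ (Ideal.pow_le_self
      (show p.natDegree - i ≠ 0 by have := Finset.mem_range.mp hi; omega) (hpc i))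
    have hkill : ∀ y ∈ I, ((c : B) ^ k + a) * y = 0 := fun y hy => by
      have h1 := congrArg Subtype.val (LinearMap.congr_fun hp0 ⟨y, hy⟩)
      rw [Polynomial.aeval_eq_sum_range, LinearMap.sum_apply] at h1
      have hf : ∀ i, ((f ^ i) ⟨y, hy⟩ : B) = (c : B) ^ i * y := fun i => by
        simp [f, smul_pow, Module.End.one_eq_id.symm]
      simp only [LinearMap.smul_apply, Submodule.coe_add, Submodule.coe_sum, Submodule.coe_smul, one_smul, hf, LinearMap.zero_apply,
        ZeroMemClass.coe_zero, Finset.sum_range_succ, hpm.coeff_natDegree, one_mul, smul_eq_mul] at h1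
      rw [add_mul, Finset.sum_mul, add_comm]
      simp only [mul_assoc]
      exact h1
    have hPa : (P a) ^ e = 0 := by
      have := Ideal.pow_mem_pow (Ideal.mem_map_of_mem P ha) e
      rwa [he] at this
    refine ⟨c ^ (k * e), pow_pos hc _, fun y hy => ?_⟩
    have h1 : ((c : B) ^ k + P a) * P y = 0 := by
      rw [← map_zero P, ← hkill y hy, map_mul, map_add, map_pow, map_natCast]
    obtain ⟨w, hw⟩ := sub_dvd_pow_sub_pow ((c : B) ^ k) (-(P a)) e
    rw [sub_neg_eq_add, neg_pow, hPa, mul_zero, sub_zero] at hw
    rw [nsmul_eq_mul, Nat.cast_pow, pow_mul, hw, mul_right_comm, h1, zero_mul]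
  let K : WithConv (B →ₐ[R] B) := toConv P
  let L : WithConv (B →ₗ[R] B) := toConv P.toLinearMap
  let δ : WithConv (B →ₗ[R] B) := L - 1
  have hδ : ∀ x, δ.ofConv x = P (x - algebraMap R B (counit x)) := fun x => by
    rw [map_sub, AlgHom.commutes]
    rfl
  have hpow : ∀ i x, (δ ^ i).ofConv x ∈ 𝔞 ^ i := by
    intro i
    induction i with
    | zero => intro x; simp
    | succ i ih =>
      intro x
      rw [pow_succ]
      show LinearMap.mul' R B (TensorProduct.map (δ ^ i).ofConv δ.ofConv (comul (R := R) x)) ∈ _
      generalize comul (R := R) x = z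
      induction z using TensorProduct.induction_on with
      | zero => simp
      | add u v hu hv => rw [map_add, map_add]; exact add_mem hu hv
      | tmul u v =>
        rw [TensorProduct.map_tmul, LinearMap.mul'_apply, hδ]
        exact Ideal.mul_mem_mul (ih u) (Ideal.mem_map_of_mem P (by simp [hI, RingHom.mem_ker]))
  have hkillδ : r • δ = 0 := WithConv.ofConv_injective (LinearMap.ext fun x => by
    show r • δ.ofConv x = 0
    rw [hδ]
    exact hr0 _ (by simp [hI, RingHom.mem_ker]))
  refine ⟨n * (r * (e + 1).factorial), Nat.mul_pos hn (Nat.mul_pos hr (Nat.factorial_pos _)), fun x => ?_⟩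
  set N := r * (e + 1).factorial
  have hLN : L ^ N = 1 := by
    rw [show L = δ + 1 by simp [δ], (Commute.one_right δ).add_pow, Finset.sum_eq_single 0]
    · simp
    · intro i hi hi0
      rw [one_pow, mul_one, ← nsmul_eq_mul']
      rcases Nat.lt_or_ge i e with hie | hie
      · obtain ⟨m, hm⟩ := dvd_choose_mul_factorial r (e + 1) i (Nat.one_le_iff_ne_zero.mpr hi0) (by omega)
        have hk : r • δ ^ i = 0 := by
          rw [show i = (i - 1) + 1 by omega, pow_succ, ← mul_smul_comm, hkillδ, mul_zero]
        rw [hm, mul_comm, mul_smul, hk, smul_zero]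
      · have h0 : δ ^ i = 0 := WithConv.ofConv_injective (LinearMap.ext fun x => by
          have h := Ideal.pow_le_pow_right hie (hpow i x)
          rwa [he] at h)
        rw [h0, smul_zero]
    · simp
  have hN : toConv (SGA3b.powConv R B (n * N)).toLinearMap = (1 : WithConv (B →ₗ[R] B)) := by
    rw [← hLN]
    have e1 : (toConv (AlgHom.id R B) ^ n) ^ N = toConv (AlgHom.id R B) ^ (n * N) := (pow_mul _ n N).symm
    show toConv ((toConv (AlgHom.id R B) ^ (n * N)).ofConv.toLinearMap) = _
    rw [← e1]
    exact AlgHom.toLinearMap_convPow K N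
  exact LinearMap.congr_fun (congrArg WithConv.ofConv hN) x

end Groth.Agent.IsoTriv
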