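import Groth.Agent.IsoTriv.KillExponent
import Groth.Agent.IsoTriv.MultBasic
import Groth.Agent.IsoTriv.Nilpotent
import Groth.Agent.SGA3bLib.TrivialFibre
import Mathlib.RingTheory.LocalRing.Module

/-! Subgroups of groups of multiplicative type with finite special fibre are killed by an integer. -/

universe u

open TensorProduct Coalgebra

namespace Groth.Agent.IsoTriv

open SGA3bLib

/-- A quotient by a smaller ideal has larger dimension. -/
theorem finrank_le_of_ker_le {L : Type u} [Field L] {X Y W : Type u} [CommRing X] [CommRing Y] [CommRing W]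
    [Algebra L X] [Algebra L Y] [Algebra L W] [Module.Finite L Y] (q : X →ₐ[L] Y) (hq : Function.Surjective q)
    (p : X →ₐ[L] W) (hp : Function.Surjective p) (hker : RingHom.ker q ≤ RingHom.ker p) :
    Module.finrank L W ≤ Module.finrank L Y := by
  have hχ : Function.Surjective (AlgHom.liftOfSurjective q hq p hker).toLinearMap := fun y => by
    obtain ⟨z, rfl⟩ := hp y
    exact ⟨q z, AlgHom.liftOfSurjective_apply q hq p hker z⟩
  rw [← finrank_top (R := L) (M := W), ← LinearMap.range_eq_top.mpr hχ]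
  exact (AlgHom.liftOfSurjective q hq p hker).toLinearMap.finrank_range_le

/-- Finite modules over local rings: fibre dimensions are bounded by the closed fibre. -/
theorem finrank_fibre_le {R : Type u} [CommRing R] [IsLocalRing R] (S : Type u) [AddCommGroup S] [Module R S]
    [Module.Finite R S] (L : Type u) [Field L] [Algebra R L] :
    Module.finrank L (L ⊗[R] S) ≤ Module.finrank (IsLocalRing.ResidueField R) (IsLocalRing.ResidueField R ⊗[R] S) := by
  classical
  let b := Module.finBasis (IsLocalRing.ResidueField R) (IsLocalRing.ResidueField R ⊗[R] S)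
  have hmk : Function.Surjective (TensorProduct.mk R (IsLocalRing.ResidueField R) S 1) :=
    TensorProduct.mk_surjective R S _ Ideal.Quotient.mk_surjective
  choose s hs using fun i => hmk (b i)
  have hspan : Submodule.span R (Set.range s) = ⊤ := IsLocalRing.span_eq_top_of_tmul_eq_basis s b hs
  have hspanL : Submodule.span L (Set.range fun i => (1 : L) ⊗ₜ[R] s i) = (⊤ : Submodule L (L ⊗[R] S)) := by
    have := congrArg (Submodule.baseChange L) hspan
    rw [Submodule.baseChange_span, Submodule.baseChange_top, ← Set.range_comp] at this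
    exact this
  rw [← finrank_top, ← hspanL]
  exact (finrank_range_le_card _).trans_eq (Fintype.card_fin _)

/-- The exponent of a diagonalisable group with small torsion subgroups. -/
theorem powConv_eq_counit_of_card {L : Type u} [Field L] {H : Type u} [CommRing H] [HopfAlgebra L H]
    (hd : SGA3b.IsDiag L H) (hft : Algebra.FiniteType L H) (d : ℕ)
    (hcard : ∀ N : ℕ, 0 < N → ∀ (W : Type u) [CommRing W] [Algebra L W] (p : H →ₐ[L] W), Function.Surjective p →
      SGA3b.torsionIdeal L H N ≤ RingHom.ker p → Module.finrank L W ≤ d) (z : H) :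
    SGA3b.powConv L H d.factorial z = algebraMap L H (counit z) := by
  obtain ⟨Q, _, ⟨e'⟩⟩ := hd
  have hftL : Algebra.FiniteType L (MonoidAlgebra L Q) := hft.equiv e'.toAlgEquiv
  have hfg : Group.FG Q := Group.fg_iff_monoid_fg.mpr (MonoidAlgebra.finiteType_iff_fg.mp hftL)
  have hpow : ∀ g : Q, g ^ d.factorial = 1 := fun g => eq_one_of_forall_pow hfg fun N hN => by
    have : Finite (Q ⧸ (powMonoidHom N : Q →* Q).range) := finite_quot hfg hN
    have := Fintype.ofFinite (Q ⧸ (powMonoidHom N : Q →* Q).range)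
    let p : H →ₐ[L] MonoidAlgebra L (Q ⧸ (powMonoidHom N : Q →* Q).range) :=
      ((MonoidAlgebra.mapDomainBialgHom L (QuotientGroup.mk' (powMonoidHom N : Q →* Q).range)).comp
        (e' : H →ₐc[L] MonoidAlgebra L Q) : H →ₐ[L] MonoidAlgebra L (Q ⧸ (powMonoidHom N : Q →* Q).range))
    have hle := hcard N hN _ p ((mapDomain_surjective _).comp e'.surjective) (le_of_eq (by
      rw [torsionIdeal_eq_comap e', torsionIdeal_monoidAlgebra]; rfl))
    rw [(MonoidAlgebra.coeffLinearEquiv L).finrank_eq, Module.finrank_finsupp_self, ← Nat.card_eq_fintype_card] at hle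
    rw [← QuotientGroup.eq_one_iff]
    show (QuotientGroup.mk' _) (g ^ d.factorial) = 1
    rw [map_pow]
    exact orderOf_dvd_iff_pow_eq_one.mp ((orderOf_dvd_natCard _).trans (Nat.dvd_factorial Nat.card_pos hle))
  apply e'.injective
  have h := AlgHom.congr_fun (powConv_comp (e' : H →ₐc[L] MonoidAlgebra L Q) d.factorial) z
  refine (h.symm.trans ?_).trans (AlgHomClass.commutes e' _).symm
  show SGA3b.powConv L (MonoidAlgebra L Q) d.factorial (e' z) = algebraMap L _ (counit z)
  rw [← CoalgHomClass.counit_comp_apply (e' : H →ₐc[L] MonoidAlgebra L Q) z]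
  show SGA3b.powConv L (MonoidAlgebra L Q) d.factorial (e' z) = algebraMap L _ (counit (e' z))
  generalize e' z = w
  induction w using MonoidAlgebra.induction_linear with
  | zero => simp
  | add a b ha hb => simp only [map_add, ha, hb]
  | single g r =>
    rw [show (MonoidAlgebra.single g r : MonoidAlgebra L Q) = r • MonoidAlgebra.single g 1 by simp, map_smul,
      powConv_single, hpow]
    simp [MonoidAlgebra.one_def]

/-- The exponent of a diagonalisable fibre of a closed subgroup with finite special fibre. -/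
theorem fibre_exponent {R : Type u} [CommRing R] [IsLocalRing R] {A : Type u} [CommRing A] [HopfAlgebra R A]
    (hft : Algebra.FiniteType R A) (hH : SGA3b.IsMultType R A) (J : Ideal A) [J.IsHopfIdeal R]
    (hK : Algebra.FinitePresentation R (A ⧸ J))
    (hs : Module.Finite (IsLocalRing.ResidueField R) (IsLocalRing.ResidueField R ⊗[R] (A ⧸ J)))
    (L : Type u) [Field L] [Algebra R L] {M : Type u} [CommGroup M] (eA : L ⊗[R] A ≃ₐc[L] MonoidAlgebra L M)
    (z : L ⊗[R] (A ⧸ J)) :
    SGA3b.powConv L (L ⊗[R] (A ⧸ J))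
      (Module.finrank (IsLocalRing.ResidueField R) (IsLocalRing.ResidueField R ⊗[R] (A ⧸ J))).factorial z =
        algebraMap L _ (counit z) := by
  classical
  have := hs
  let κ := IsLocalRing.ResidueField R
  let π : A →ₐc[R] A ⧸ J := Bialgebra.Quotient.mkBialgHom (R := R) J
  let ρ := bcHom L π
  have hρ : Function.Surjective ρ := bcHom_surjective L π Ideal.Quotient.mk_surjective
  have hdiagB : SGA3b.IsDiag L (L ⊗[R] (A ⧸ J)) := isDiag_of_span_groupLike
    (span_groupLike_map ρ hρ (span_groupLike_of_diag ⟨M, inferInstance, ⟨eA⟩⟩))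
  exact powConv_eq_counit_of_card hdiagB inferInstance _ (fun N hN W _ _ p hp hle => by
    set T' := (SGA3b.torsionIdeal R A N).map (π : A →ₐ[R] A ⧸ J)
    have := finite_quotient_torsion hft hH hN
    let g : A ⧸ SGA3b.torsionIdeal R A N →ₐ[R] (A ⧸ J) ⧸ T' :=
      Ideal.Quotient.liftₐ _ ((Ideal.Quotient.mkₐ R T').comp (π : A →ₐ[R] A ⧸ J))
        fun a ha => Ideal.Quotient.eq_zero_iff_mem.mpr (Ideal.mem_map_of_mem _ ha)
    have : Module.Finite R ((A ⧸ J) ⧸ T') := Module.Finite.of_surjective g.toLinearMap fun y => by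
      obtain ⟨b, rfl⟩ := Ideal.Quotient.mk_surjective y
      obtain ⟨a, rfl⟩ := Ideal.Quotient.mk_surjective b
      exact ⟨Ideal.Quotient.mk _ a, rfl⟩
    let qS : κ ⊗[R] (A ⧸ J) →ₗ[κ] κ ⊗[R] ((A ⧸ J) ⧸ T') := (Ideal.Quotient.mkₐ R T').toLinearMap.baseChange κ
    have hqS : Function.Surjective qS :=
      LinearMap.lTensor_surjective κ (g := (Ideal.Quotient.mkₐ R T').toLinearMap) Ideal.Quotient.mk_surjective
    let qL : L ⊗[R] (A ⧸ J) →ₐ[L] L ⊗[R] ((A ⧸ J) ⧸ T') :=
      Algebra.TensorProduct.map (AlgHom.id L L) (Ideal.Quotient.mkₐ R T')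
    have hqL : Function.Surjective qL :=
      LinearMap.lTensor_surjective L (g := (Ideal.Quotient.mkₐ R T').toLinearMap) Ideal.Quotient.mk_surjective
    have hker : RingHom.ker qL ≤ RingHom.ker p := by
      intro z hz
      have h1 : z ∈ T'.map (Algebra.TensorProduct.includeRight : A ⧸ J →ₐ[R] L ⊗[R] (A ⧸ J)) := by
        have := Algebra.TensorProduct.lTensor_ker (R := R) (A := L) (Ideal.Quotient.mkₐ R T') Ideal.Quotient.mk_surjective
        rw [show RingHom.ker (Ideal.Quotient.mkₐ R T') = T' from Ideal.mk_ker] at this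
        exact this ▸ hz
      refine (Ideal.map_le_iff_le_comap.mpr fun y hy => ?_) h1
      refine (Ideal.map_le_iff_le_comap.mpr fun a ha => ?_) hy
      show p ((1 : L) ⊗ₜ[R] π a) = 0
      have h2 : ρ ((1 : L) ⊗ₜ[R] a) ∈ SGA3b.torsionIdeal L (L ⊗[R] (A ⧸ J)) N := by
        rw [← map_torsionIdeal ρ hρ, torsionIdeal_baseChange]
        exact Ideal.mem_map_of_mem _ (Ideal.mem_map_of_mem _ ha)
      rw [bcHom_tmul] at h2
      exact hle h2
    have hfinL : Module.Finite L (L ⊗[R] ((A ⧸ J) ⧸ T')) := Module.Finite.base_change R L _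
    have h3 := @finrank_le_of_ker_le L _ (L ⊗[R] (A ⧸ J)) (L ⊗[R] ((A ⧸ J) ⧸ T')) W _ _ _ _ _ _ hfinL qL hqL p hp hker
    refine (h3.trans (finrank_fibre_le _ L)).trans ?_
    rw [← finrank_top (R := κ) (M := κ ⊗[R] ((A ⧸ J) ⧸ T')), ← LinearMap.range_eq_top.mpr hqS]
    exact qS.finrank_range_le) z

/-- An element killed over a field extension of a residue field is killed over the residue field. -/
theorem one_tmul_eq_zero_of_field {R : Type u} [CommRing R] {B : Type u} [AddCommGroup B] [Module R B]
    (q : Ideal R) [q.IsPrime] {T : Type u} [CommRing T] [Algebra R T] (Q : Ideal T) [Q.IsPrime]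
    (hq : q = Q.comap (algebraMap R T)) {w : B} (h : (1 : Q.ResidueField) ⊗ₜ[R] w = 0) :
    (1 : q.ResidueField) ⊗ₜ[R] w = 0 := by
  let f : q.ResidueField →+* Q.ResidueField := Ideal.ResidueField.map q Q (algebraMap R T) hq
  let g : q.ResidueField →ₐ[R] Q.ResidueField :=
    { f with commutes' := fun r => (Ideal.ResidueField.map_algebraMap q Q (algebraMap R T) hq r).trans (IsScalarTower.algebraMap_apply R T Q.ResidueField r).symm }
  have hinj : Function.Injective (g.toLinearMap) := f.injective
  have hg : ∃ s : Q.ResidueField →ₗ[R] q.ResidueField, s 1 = 1 := by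
    letI : Algebra q.ResidueField Q.ResidueField := f.toAlgebra
    haveI : IsScalarTower R q.ResidueField Q.ResidueField := .of_algebraMap_eq fun r => (g.commutes r).symm
    obtain ⟨s, hs⟩ := (Algebra.linearMap q.ResidueField Q.ResidueField).exists_leftInverse_of_injective
      (LinearMap.ker_eq_bot.mpr f.injective)
    exact ⟨s.restrictScalars R, by simpa using LinearMap.congr_fun hs 1⟩
  obtain ⟨s, hs⟩ := hg
  have := congrArg (s.rTensor B) h
  rwa [LinearMap.rTensor_tmul, hs, map_zero] at this

/-- Finite closed subgroups have bounded exponent. -/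
theorem exists_pow_kill {R : Type u} [CommRing R] [IsLocalRing R] {A : Type u} [CommRing A] [HopfAlgebra R A]
    (hft : Algebra.FiniteType R A) (hH : SGA3b.IsMultType R A) (J : Ideal A) [J.IsHopfIdeal R]
    (hK : Algebra.FinitePresentation R (A ⧸ J))
    (hs : Module.Finite (IsLocalRing.ResidueField R) (IsLocalRing.ResidueField R ⊗[R] (A ⧸ J))) :
    ∃ n : ℕ, 0 < n ∧ SGA3b.torsionIdeal R A n ≤ J := by
  let π : A →ₐc[R] A ⧸ J := Bialgebra.Quotient.mkBialgHom (R := R) J
  set d := Module.finrank (IsLocalRing.ResidueField R) (IsLocalRing.ResidueField R ⊗[R] (A ⧸ J))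
  suffices hfib : ∀ (q : Ideal R) [q.IsPrime] (x : A ⧸ J),
      (1 : q.ResidueField) ⊗ₜ[R] (SGA3b.powConv R (A ⧸ J) d.factorial x - algebraMap R (A ⧸ J) (counit x)) = 0 by
    obtain ⟨N, hN, hpow⟩ := exists_powConv_eq_counit hK d.factorial d.factorial_pos hfib
    refine ⟨N, hN, Ideal.map_le_iff_le_comap.mpr fun a ha => ?_⟩
    rw [Ideal.mem_comap, ← Ideal.Quotient.eq_zero_iff_mem]
    show π (SGA3b.powConv R A N a) = 0
    have h := AlgHom.congr_fun (powConv_comp π N) a
    refine h.symm.trans ?_
    show SGA3b.powConv R (A ⧸ J) N (π a) = 0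
    rw [hpow, CoalgHomClass.counit_comp_apply, show counit (R := R) a = 0 from ha, map_zero]
  intro q hq x
  obtain ⟨ι, _, T, _, _, -, hsurj, hdiag⟩ := hasCover_of_isMultType hH
  obtain ⟨i, Q₀, hQ₀⟩ := hsurj ⟨q, hq⟩
  obtain ⟨M, _, ⟨e₀⟩⟩ := hdiag i
  refine one_tmul_eq_zero_of_field q Q₀.asIdeal (congrArg PrimeSpectrum.asIdeal hQ₀).symm ?_
  have hunit := fibre_exponent hft hH J hK hs Q₀.asIdeal.ResidueField (bcTriv e₀)
    ((1 : Q₀.asIdeal.ResidueField) ⊗ₜ[R] x)
  rw [TensorProduct.tmul_sub, sub_eq_zero]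
  refine Eq.trans ?_ (hunit.trans ?_)
  · rw [powConv_baseChange]; simp [d]
  · simp [TensorProduct.counit_tmul, Algebra.algebraMap_eq_smul_one, TensorProduct.smul_tmul',
      Algebra.TensorProduct.one_def]

end Groth.Agent.IsoTriv
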