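import Groth.Agent.IsoTriv.FieldSplit
import Groth.Agent.HenselLib.HullFlat
import Mathlib.RingTheory.Etale.Basic
import Mathlib.RingTheory.FinitePresentation
import Mathlib.RingTheory.Localization.Away.Basic
import Mathlib.RingTheory.Adjoin.Basic
import Mathlib.GroupTheory.QuotientGroup.Finite

/-! Spreading trivialisations out to etale neighbourhoods. -/

universe u

open TensorProduct Coalgebra

namespace Groth.Agent.IsoTriv

open SGA3bLib

/-- Group algebras of finitely generated commutative groups are finitely presented. -/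
theorem finitePresentation_monoidAlgebra (T : Type u) [CommRing T] {N : Type u} [CommGroup N] (hfg : Group.FG N) :
    Algebra.FinitePresentation T (MonoidAlgebra T N) := by
  have : Monoid.FG N := Group.fg_iff_monoid_fg.mp hfg
  have : Algebra.FiniteType ℤ (MonoidAlgebra ℤ N) := inferInstance
  have h1 : Algebra.FinitePresentation ℤ (MonoidAlgebra ℤ N) := Algebra.FinitePresentation.of_finiteType.mp this
  exact Algebra.FinitePresentation.equiv (MonoidAlgebra.scalarTensorEquiv ℤ T (M := N))

variable {R : Type u} [CommRing R]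

theorem finitePresentation_of_triv {A : Type u} [CommRing A] [HopfAlgebra R A] {T : Type u} [CommRing T]
    [Algebra R T] [Module.FaithfullyFlat R T] {N : Type u} [CommGroup N] (hfg : Group.FG N)
    (e : T ⊗[R] A ≃ₐc[T] MonoidAlgebra T N) : Algebra.FinitePresentation R A := by
  have := finitePresentation_monoidAlgebra T hfg
  have : Algebra.FinitePresentation T (T ⊗[R] A) := Algebra.FinitePresentation.equiv e.toAlgEquiv.symm
  exact Algebra.FinitePresentation.of_finitePresentation_tensorProduct_of_faithfullyFlat T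

/-- An etale neighbourhood in a local algebra. -/
structure Stage (R : Type u) [CommRing R] (T : Type u) [CommRing T] [Algebra R T] where
  /-- the ring -/
  P : Type u
  [commRing : CommRing P]
  [algebra : Algebra R P]
  [etale : Algebra.Etale R P]
  /-- the map to the local algebra -/
  f : P →ₐ[R] T

attribute [instance] Stage.commRing Stage.algebra Stage.etale

variable {T : Type u} [CommRing T] [IsLocalRing T] [Algebra R T] [Module.Flat R T]

/-- Finitely many elements of a base change which die in the local algebra die at a finer stage. -/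
theorem exists_shrink (S : Stage R T) {M : Type u} [AddCommGroup M] [Module R M] (F : Finset (S.P ⊗[R] M))
    (hF : ∀ z ∈ F, S.f.toLinearMap.rTensor M z = 0) :
    ∃ (S' : Stage R T) (g : S.P →ₐ[R] S'.P), S'.f.comp g = S.f ∧ ∀ z ∈ F, g.toLinearMap.rTensor M z = 0 := by
  classical
  let : Algebra S.P T := S.f.toRingHom.toAlgebra
  have : IsScalarTower R S.P T := .of_algebraMap_eq fun r => (S.f.commutes r).symm
  have : Module.Flat S.P T := HenselLib.flat_of_flat_of_etale (R := R)
  have key : ∀ z ∈ F, ∃ s : S.P, IsUnit (S.f s) ∧ s • z = 0 := by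
    intro z hz
    let Z : Ideal S.P := LinearMap.ker (LinearMap.toSpanSingleton S.P (S.P ⊗[R] M) z)
    have h0 : (1 : T) ⊗ₜ[S.P] z = 0 := by
      apply (TensorProduct.AlgebraTensorModule.cancelBaseChange R S.P T T M).injective
      rw [map_zero, ← hF z hz]
      clear hz Z
      induction z using TensorProduct.induction_on with
      | zero => simp
      | tmul p m => simp [RingHom.algebraMap_toAlgebra, Algebra.smul_def]
      | add a b ha hb => rw [TensorProduct.tmul_add, map_add, map_add, ha, hb]
    have h1 : (1 : T) ∈ Z.map (algebraMap S.P T) := by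
      rw [← ann_map_eq T z]
      simp [h0]
    by_contra hne
    push Not at hne
    have hle : Z.map (algebraMap S.P T) ≤ IsLocalRing.maximalIdeal T := Ideal.map_le_iff_le_comap.mpr fun s hs =>
      (IsLocalRing.mem_maximalIdeal _).mpr fun hu => hne s hu (by simpa [Z] using hs)
    exact (IsLocalRing.maximalIdeal.isMaximal T).ne_top ((Ideal.eq_top_iff_one _).mpr (hle h1))
  choose! s hs using key
  let t := ∏ z ∈ F, s z
  have ht : IsUnit (S.f t) := by
    rw [map_prod]
    exact IsUnit.prod_iff.mpr fun z hz => (hs z hz).1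
  have : Algebra.Etale R (Localization.Away t) := Algebra.Etale.comp R S.P _
  refine ⟨⟨Localization.Away t, IsLocalization.Away.liftAlgHom t (f := S.f) ht⟩,
    IsScalarTower.toAlgHom R S.P (Localization.Away t), AlgHom.ext fun x => by simp, fun z hz => ?_⟩
  have h2 : ∀ (a : S.P) (w : S.P ⊗[R] M),
      (IsScalarTower.toAlgHom R S.P (Localization.Away t)).toLinearMap.rTensor M (a • w) =
        algebraMap S.P (Localization.Away t) a •
          (IsScalarTower.toAlgHom R S.P (Localization.Away t)).toLinearMap.rTensor M w := by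
    intro a w
    induction w using TensorProduct.induction_on with
    | zero => simp
    | tmul p m => simp [TensorProduct.smul_tmul', Algebra.smul_def]
    | add x y hx hy => simp only [smul_add, map_add, hx, hy]
  have h3 : t • z = 0 := by
    rw [show t = (∏ w ∈ F.erase z, s w) * s z from (Finset.prod_erase_mul F s hz).symm, mul_smul, (hs z hz).2,
      smul_zero]
  have h4 := h2 t z
  rw [h3, map_zero] at h4
  exact ((IsLocalization.Away.algebraMap_isUnit (S := Localization.Away t) t).smul_eq_zero).mp h4.symm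

variable {A : Type u} [CommRing A] [HopfAlgebra R A]

theorem push_rTensor {P P' : Type u} [CommRing P] [CommRing P'] [Algebra R P] [Algebra R P'] (g : P →ₐ[R] P')
    (z : P ⊗[R] A) : g.toLinearMap.rTensor A z = push A g z := by
  induction z using TensorProduct.induction_on with
  | zero => simp
  | tmul t a => rfl
  | add p q hp hq => simp only [map_add, hp, hq]

/-- The defect of being group-like, at the level of the base. -/
noncomputable def glDefect (P : Type u) [CommRing P] [Algebra R P] (x : P ⊗[R] A) : P ⊗[R] (A ⊗[R] A) :=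
  (comul (R := R) (A := A)).lTensor P x -
    (TensorProduct.AlgebraTensorModule.distribBaseChange R P A A).symm (x ⊗ₜ[P] x)

theorem comul_eq_distrib {P : Type u} [CommRing P] [Algebra R P] (x : P ⊗[R] A) :
    comul (R := P) x = TensorProduct.AlgebraTensorModule.distribBaseChange R P A A
      ((comul (R := R) (A := A)).lTensor P x) := by
  induction x using TensorProduct.induction_on with
  | zero => simp
  | add x y hx hy => simp only [map_add, hx, hy]
  | tmul p a =>
    rw [TensorProduct.comul_tmul, CommSemiring.comul_apply, LinearMap.lTensor_tmul]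
    generalize comul (R := R) a = z
    induction z using TensorProduct.induction_on with
    | zero => simp
    | tmul x y =>
      simp only [TensorProduct.AlgebraTensorModule.tensorTensorTensorComm_tmul,
        TensorProduct.AlgebraTensorModule.distribBaseChange_tmul]
      rw [show p ⊗ₜ[R] y = p • ((1 : P) ⊗ₜ[R] y) by rw [TensorProduct.smul_tmul', smul_eq_mul, mul_one],
        ← TensorProduct.smul_tmul, TensorProduct.smul_tmul', smul_eq_mul, mul_one]
    | add x y hx hy => simp only [tmul_add, map_add, hx, hy]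

theorem glDefect_push {P P' : Type u} [CommRing P] [CommRing P'] [Algebra R P] [Algebra R P'] (g : P →ₐ[R] P')
    (x : P ⊗[R] A) : g.toLinearMap.rTensor (A ⊗[R] A) (glDefect P x) = glDefect P' (push A g x) := by
  rw [glDefect, glDefect, map_sub]
  congr 1
  · induction x using TensorProduct.induction_on with
    | zero => simp
    | tmul t a => simp
    | add p q hp hq => simp only [map_add, hp, hq]
  · have : ∀ y : P ⊗[R] A, g.toLinearMap.rTensor (A ⊗[R] A)
        ((TensorProduct.AlgebraTensorModule.distribBaseChange R P A A).symm (x ⊗ₜ[P] y)) =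
        (TensorProduct.AlgebraTensorModule.distribBaseChange R P' A A).symm (push A g x ⊗ₜ[P'] push A g y) := by
      intro y
      induction x using TensorProduct.induction_on with
      | zero => simp
      | add p q hp hq => simp only [TensorProduct.add_tmul, map_add, hp, hq]
      | tmul t a =>
        induction y using TensorProduct.induction_on with
        | zero => simp
        | add p q hp hq => simp only [TensorProduct.tmul_add, map_add, hp, hq]
        | tmul r b => simp
    exact this x

theorem glDefect_eq_zero_iff {P : Type u} [CommRing P] [Algebra R P] (x : P ⊗[R] A) :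
    glDefect P x = 0 ↔ comul (R := P) x = x ⊗ₜ[P] x := by
  rw [glDefect, sub_eq_zero, comul_eq_distrib, LinearEquiv.eq_symm_apply]

/-- Group-like elements of the local algebra come from a finer stage. -/
theorem exists_groupLike_stage (S : Stage R T) (F : Finset (S.P ⊗[R] A))
    (hF : ∀ x ∈ F, IsGroupLikeElem T (push A S.f x)) :
    ∃ (S' : Stage R T) (g : S.P →ₐ[R] S'.P), S'.f.comp g = S.f ∧
      ∀ x ∈ F, IsGroupLikeElem S'.P (push A g x) := by
  classical
  obtain ⟨S₁, g₁, h₁, hz₁⟩ := exists_shrink S (F.image (glDefect S.P)) fun z hz => by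
    obtain ⟨x, hx, rfl⟩ := Finset.mem_image.mp hz
    rw [glDefect_push, glDefect_eq_zero_iff]
    exact (hF x hx).comul_eq_tmul_self
  let ε : S₁.P ⊗[R] A → S₁.P ⊗[R] R := fun x => (counit (R := R) (A := A)).lTensor S₁.P x - 1 ⊗ₜ[R] 1
  obtain ⟨S₂, g₂, h₂, hz₂⟩ := exists_shrink S₁ (F.image fun x => ε (push A g₁ x)) fun z hz => by
    obtain ⟨x, hx, rfl⟩ := Finset.mem_image.mp hz
    have hc : ∀ y : S₁.P ⊗[R] A, (TensorProduct.AlgebraTensorModule.rid R T T)
        (S₁.f.toLinearMap.rTensor R ((counit (R := R) (A := A)).lTensor S₁.P y)) = counit (R := T) (push A S₁.f y) := by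
      intro y
      induction y using TensorProduct.induction_on with
      | zero => simp
      | tmul t a => simp [Algebra.smul_def, mul_comm]
      | add p q hp hq => simp only [map_add, hp, hq]
    apply (TensorProduct.AlgebraTensorModule.rid R T T).injective
    simp only [ε, map_sub, hc, map_zero, push_push, h₁, (hF x hx).counit_eq_one]
    simp
  refine ⟨S₂, g₂.comp g₁, by rw [← AlgHom.comp_assoc, h₂, h₁], fun x hx => ⟨?_, ?_⟩⟩
  · have h := hz₂ _ (Finset.mem_image_of_mem _ hx)
    have hc : ∀ y : S₁.P ⊗[R] A, (TensorProduct.AlgebraTensorModule.rid R S₂.P S₂.P)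
        (g₂.toLinearMap.rTensor R ((counit (R := R) (A := A)).lTensor S₁.P y)) = counit (R := S₂.P) (push A g₂ y) := by
      intro y
      induction y using TensorProduct.induction_on with
      | zero => simp
      | tmul t a => simp [Algebra.smul_def, mul_comm]
      | add p q hp hq => simp only [map_add, hp, hq]
    have := congrArg (TensorProduct.AlgebraTensorModule.rid R S₂.P S₂.P) h
    simp only [ε, map_sub, hc, map_zero, push_push] at this
    simpa [sub_eq_zero] using this
  · rw [← glDefect_eq_zero_iff, ← push_push, ← glDefect_push, ← glDefect_push,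
      hz₁ _ (Finset.mem_image_of_mem _ hx), map_zero]

/-- Two stages have a common refinement. -/
theorem exists_join (S₁ S₂ : Stage R T) :
    ∃ (S : Stage R T) (g₁ : S₁.P →ₐ[R] S.P) (g₂ : S₂.P →ₐ[R] S.P), S.f.comp g₁ = S₁.f ∧ S.f.comp g₂ = S₂.f := by
  have : Algebra.Etale R (S₁.P ⊗[R] S₂.P) := Algebra.Etale.comp R S₁.P (S₁.P ⊗[R] S₂.P)
  exact ⟨⟨S₁.P ⊗[R] S₂.P, Algebra.TensorProduct.lift S₁.f S₂.f fun _ _ => Commute.all _ _⟩,
    Algebra.TensorProduct.includeLeft, Algebra.TensorProduct.includeRight,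
    AlgHom.ext fun x => by simp, AlgHom.ext fun x => by simp⟩

/-- Finitely many tensors come from a stage. -/
theorem exists_rep_tensor (hrep : ∀ F : Finset T, ∃ S : Stage R T, ∀ t ∈ F, t ∈ Set.range S.f)
    {ι : Type*} [Finite ι] (z : ι → T ⊗[R] A) :
    ∃ (S : Stage R T) (x : ι → S.P ⊗[R] A), ∀ i, push A S.f (x i) = z i := by
  classical
  have := Fintype.ofFinite ι
  choose n t a hz using fun i => TensorProduct.exists_sum_tmul_eq (z i)
  obtain ⟨S, hS⟩ := hrep (Finset.univ.biUnion fun i => Finset.univ.image (t i))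
  choose p hp using fun i j => hS (t i j)
    (Finset.mem_biUnion.mpr ⟨i, Finset.mem_univ i, Finset.mem_image_of_mem _ (Finset.mem_univ j)⟩)
  refine ⟨S, fun i => ∑ j, p i j ⊗ₜ[R] a i j, fun i => ?_⟩
  rw [map_sum, hz i]
  exact Finset.sum_congr rfl fun j _ => by rw [push_tmul, hp]

/-- A trivialisation over the local algebra gives characters at a stage. -/
theorem exists_chars_stage (hrep : ∀ F : Finset T, ∃ S : Stage R T, ∀ t ∈ F, t ∈ Set.range S.f)
    {N : Type u} [CommGroup N] (hfg : Group.FG N) (e : T ⊗[R] A ≃ₐc[T] MonoidAlgebra T N) :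
    ∃ (S' : Stage R T) (φ : N →* GroupLike S'.P (S'.P ⊗[R] A)),
      ∀ m, push A S'.f (φ m).val = e.symm (MonoidAlgebra.single m 1) := by
  classical
  obtain ⟨gens, hgens⟩ := Group.fg_iff.mp hfg
  obtain ⟨hgens, hfin⟩ := hgens
  have : Fintype gens := hfin.fintype
  obtain ⟨S, x, hx⟩ := exists_rep_tensor hrep fun m : gens => e.symm (MonoidAlgebra.single (m : N) 1)
  have hgl : ∀ m, IsGroupLikeElem T (e.symm (MonoidAlgebra.single m 1)) := fun m =>
    (MonoidAlgebra.isGroupLikeElem_single_one (R := T) (A := T) m).map (e.symm : MonoidAlgebra T N →ₐc[T] T ⊗[R] A)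
  obtain ⟨S₁, g₁, h₁, hg₁⟩ := exists_groupLike_stage S (Finset.univ.image x) fun y hy => by
    obtain ⟨m, -, rfl⟩ := Finset.mem_image.mp hy
    rw [hx]; exact hgl m
  let u : gens → GroupLike S₁.P (S₁.P ⊗[R] A) := fun m =>
    ⟨push A g₁ (x m), hg₁ _ (Finset.mem_image_of_mem _ (Finset.mem_univ m))⟩
  -- the free abelian cover
  let π : Multiplicative (gens → ℤ) →* N :=
    { toFun := fun v => ∏ m : gens, (m : N) ^ (Multiplicative.toAdd v m)
      map_one' := by simp
      map_mul' := fun v w => by simp [zpow_add, Finset.prod_mul_distrib] }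
  let U : Multiplicative (gens → ℤ) →* GroupLike S₁.P (S₁.P ⊗[R] A) :=
    { toFun := fun v => ∏ m : gens, u m ^ (Multiplicative.toAdd v m)
      map_one' := by simp
      map_mul' := fun v w => by simp [zpow_add, Finset.prod_mul_distrib] }
  have hπ : Function.Surjective π := by
    rw [← MonoidHom.range_eq_top, eq_top_iff, ← hgens, Subgroup.closure_le]
    intro m hm
    refine ⟨Multiplicative.ofAdd (Pi.single ⟨m, hm⟩ 1), ?_⟩
    show ∏ i : gens, (i : N) ^ ((Pi.single ⟨m, hm⟩ (1 : ℤ) : gens → ℤ) i) = m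
    rw [Finset.prod_eq_single ⟨m, hm⟩ (fun b _ hb => by simp [Pi.single_eq_of_ne hb]) (by simp)]
    simp
  let eT : GroupLike T (T ⊗[R] A) →* T ⊗[R] A := GroupLike.valMonoidHom T _
  let pushGL : GroupLike S₁.P (S₁.P ⊗[R] A) →* GroupLike T (T ⊗[R] A) :=
    { toFun := fun a => ⟨push A S₁.f a.val, isGroupLike_push S₁.f a.2⟩
      map_one' := GroupLike.ext (by simp)
      map_mul' := fun a b => GroupLike.ext (by simp) }
  let can : N →* GroupLike T (T ⊗[R] A) :=
    { toFun := fun m => ⟨e.symm (MonoidAlgebra.single m 1), hgl m⟩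
      map_one' := GroupLike.ext (by show e.symm 1 = 1; exact map_one _)
      map_mul' := fun a b => GroupLike.ext (by
        show e.symm (MonoidAlgebra.single (a * b) 1) = e.symm (MonoidAlgebra.single a 1) * e.symm (MonoidAlgebra.single b 1)
        rw [← map_mul, MonoidAlgebra.single_mul_single, mul_one]) }
  have hcomp : ∀ v, pushGL (U v) = can (π v) := by
    intro v
    show pushGL (∏ m : gens, u m ^ (Multiplicative.toAdd v m)) = can (∏ m : gens, (m : N) ^ (Multiplicative.toAdd v m))
    rw [map_prod, map_prod]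
    refine Finset.prod_congr rfl fun m _ => ?_
    rw [map_zpow, map_zpow]
    congr 1
    refine GroupLike.ext ?_
    show push A S₁.f (push A g₁ (x m)) = e.symm (MonoidAlgebra.single (m : N) 1)
    rw [push_push, h₁, hx]
  have hKfg : Subgroup.FG π.ker := by
    have : Group.FG (Multiplicative (gens → ℤ)) := inferInstance
    have h := (IsNoetherian.noetherian (AddSubgroup.toIntSubmodule (Subgroup.toAddSubgroup' π.ker) :
      Submodule ℤ (gens → ℤ)))
    exact (AddSubgroup.fg_iff_mul_fg (P := π.ker.toAddSubgroup')).mp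
      ((Submodule.fg_iff_addSubgroup_fg _).mp h)
  obtain ⟨kgens, hk⟩ := hKfg
  obtain ⟨S₂, g₂, h₂, hz₂⟩ := exists_shrink S₁ (M := A) (kgens.image fun v => (U v).val - 1) fun z hz => by
    obtain ⟨v, hv, rfl⟩ := Finset.mem_image.mp hz
    have hv' : π v = 1 := hk.le (Subgroup.subset_closure hv)
    rw [map_sub, push_rTensor, push_rTensor, map_one, sub_eq_zero]
    have := congrArg GroupLike.val (hcomp v)
    rw [hv', map_one] at this
    exact this
  let U₂ : Multiplicative (gens → ℤ) →* GroupLike S₂.P (S₂.P ⊗[R] A) :=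
    { toFun := fun v => ⟨push A g₂ (U v).val, isGroupLike_push g₂ (U v).2⟩
      map_one' := GroupLike.ext (by simp)
      map_mul' := fun a b => GroupLike.ext (by simp) }
  have hker : π.ker ≤ U₂.ker := by
    rw [← hk, Subgroup.closure_le]
    intro v hv
    refine MonoidHom.mem_ker.mpr (GroupLike.ext ?_)
    have h := hz₂ _ (Finset.mem_image_of_mem (fun v => (U v).val - 1) hv)
    rw [map_sub, push_rTensor, push_rTensor, map_one, sub_eq_zero] at h
    exact h
  refine ⟨S₂, MonoidHom.liftOfSurjective π hπ ⟨U₂, hker⟩, fun m => ?_⟩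
  obtain ⟨v, rfl⟩ := hπ m
  rw [MonoidHom.liftOfRightInverse_comp_apply]
  show push A S₂.f (push A g₂ (U v).val) = _
  rw [push_push, h₂]
  exact congrArg GroupLike.val (hcomp v)

/-- A trivialisation over the local algebra is defined at a stage. -/
theorem exists_iso_stage [Algebra.FiniteType R A]
    (hfp : Algebra.FinitePresentation R A)
    (hrep : ∀ F : Finset T, ∃ S : Stage R T, ∀ t ∈ F, t ∈ Set.range S.f)
    {N : Type u} [CommGroup N] (hfg : Group.FG N) (e : T ⊗[R] A ≃ₐc[T] MonoidAlgebra T N) :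
    ∃ S : Stage R T, Nonempty (S.P ⊗[R] A ≃ₐc[S.P] MonoidAlgebra S.P N) := by
  classical
  obtain ⟨S₀, φ, hφ⟩ := exists_chars_stage hrep hfg e
  obtain ⟨X, hX⟩ := Algebra.FiniteType.out (R := R) (A := A)
  obtain ⟨Sc, hSc⟩ := hrep (X.biUnion fun a => (e ((1 : T) ⊗ₜ[R] a)).coeff.support.image
    fun m => coef m (e ((1 : T) ⊗ₜ[R] a)))
  obtain ⟨S, g₀, gc, hg₀, hgc⟩ := exists_join S₀ Sc
  let χ : N →* S.P ⊗[R] A :=
    { toFun := fun m => push A g₀ (φ m).val
      map_one' := by simp
      map_mul' := fun a b => by simp }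
  have hχ : ∀ m, IsGroupLikeElem S.P (χ m) := fun m => isGroupLike_push g₀ (φ m).2
  let F : MonoidAlgebra S.P N →ₐ[S.P] S.P ⊗[R] A := MonoidAlgebra.lift S.P (S.P ⊗[R] A) N χ
  have hF : ∀ (m : N) (r : S.P), F (MonoidAlgebra.single m r) = r • χ m := fun m r => by simp [F]
  have hFe : ∀ w, push A S.f (F w) = e.symm (MonoidAlgebra.mapRingHom N S.f.toRingHom w) := by
    intro w
    induction w using MonoidAlgebra.induction_linear with
    | zero => rw [map_zero, map_zero, map_zero, map_zero]
    | add a b ha hb => rw [map_add, map_add, map_add, map_add, ha, hb]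
    | single m r =>
      rw [hF, Algebra.smul_def, map_mul]
      have hm : push A S.f (χ m) = e.symm (MonoidAlgebra.single m 1) := by
        show push A S.f (push A g₀ (φ m).val) = _
        rw [push_push, hg₀, hφ]
      rw [hm, show push A S.f (algebraMap S.P (S.P ⊗[R] A) r) = algebraMap T (T ⊗[R] A) (S.f r) from rfl,
        ← Algebra.smul_def, MonoidAlgebra.mapRingHom_single,
        show (MonoidAlgebra.single m (S.f.toRingHom r) : MonoidAlgebra T N) = S.f r • MonoidAlgebra.single m 1 by simp]
      exact (map_smul e.symm.toAlgEquiv.toLinearEquiv (S.f r) (MonoidAlgebra.single m 1)).symm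
  let Fb : MonoidAlgebra S.P N →ₐc[S.P] S.P ⊗[R] A := BialgHom.ofAlgHom F
    (MonoidAlgebra.algHom_ext (single_one_left := Subsingleton.elim _ _) fun m => by
      simp [hF, (hχ m).counit_eq_one])
    (MonoidAlgebra.algHom_ext (single_one_left := Subsingleton.elim _ _) fun m => by
      simp [hF, (hχ m).comul_eq_tmul_self])
  -- surjectivity
  have hpre : ∀ a ∈ X, ∃ w : MonoidAlgebra S.P N,
      MonoidAlgebra.mapRingHom N S.f.toRingHom w = e ((1 : T) ⊗ₜ[R] a) := by
    intro a ha
    set c := e ((1 : T) ⊗ₜ[R] a)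
    have hmem : ∀ m ∈ c.coeff.support, ∃ p : S.P, S.f p = coef m c := fun m hm => by
      obtain ⟨q, hq⟩ := hSc (coef m c) (Finset.mem_biUnion.mpr ⟨a, ha, Finset.mem_image_of_mem _ hm⟩)
      exact ⟨gc q, by rw [← AlgHom.comp_apply, hgc, hq]⟩
    choose! p hp using hmem
    refine ⟨∑ m ∈ c.coeff.support, MonoidAlgebra.single m (p m), ext_coef fun n => ?_⟩
    rw [map_sum, map_sum]
    simp only [MonoidAlgebra.mapRingHom_single, coef_single]
    rw [Finset.sum_ite_eq']
    split_ifs with hn
    · exact hp n hn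
    · exact (Finsupp.notMem_support_iff.mp hn).symm
  choose! w hw using hpre
  obtain ⟨S₁, g₁, h₁, hz₁⟩ := exists_shrink S (M := A) (X.image fun a => F (w a) - (1 : S.P) ⊗ₜ[R] a) fun z hz => by
    obtain ⟨a, ha, rfl⟩ := Finset.mem_image.mp hz
    rw [map_sub, push_rTensor, push_rTensor, hFe, hw a ha, e.symm_apply_apply, push_tmul, map_one, sub_self]
  let : Algebra S.P S₁.P := g₁.toRingHom.toAlgebra
  have : IsScalarTower R S.P S₁.P := .of_algebraMap_eq fun r => (g₁.commutes r).symm
  have hg₁ : IsScalarTower.toAlgHom R S.P S₁.P = g₁ := AlgHom.ext fun _ => rfl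
  let c : S₁.P ⊗[S.P] (S.P ⊗[R] A) ≃ₐc[S₁.P] S₁.P ⊗[R] A := cancelBC (R := R) S.P S₁.P A
  let Φ : S₁.P ⊗[S.P] MonoidAlgebra S.P N →ₐ[S₁.P] S₁.P ⊗[R] A :=
    (c : S₁.P ⊗[S.P] (S.P ⊗[R] A) →ₐc[S₁.P] S₁.P ⊗[R] A).comp (bcHom S₁.P Fb)
  have hΦ : ∀ v, Φ ((1 : S₁.P) ⊗ₜ[S.P] v) = push A g₁ (F v) := fun v => by
    show c ((1 : S₁.P) ⊗ₜ[S.P] F v) = _
    rw [push_cancel, hg₁]
  have hsurj : Function.Surjective Φ := by
    rw [← AlgHom.range_eq_top, eq_top_iff]
    rintro z -
    induction z using TensorProduct.induction_on with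
    | zero => exact zero_mem _
    | add p q hp hq => exact add_mem hp hq
    | tmul p a =>
      rw [show p ⊗ₜ[R] a = p • ((1 : S₁.P) ⊗ₜ[R] a) by rw [TensorProduct.smul_tmul', smul_eq_mul, mul_one]]
      refine Subalgebra.smul_mem _ ?_ p
      have ha : a ∈ Algebra.adjoin R (X : Set A) := hX ▸ Algebra.mem_top
      induction ha using Algebra.adjoin_induction with
      | mem a ha =>
        refine ⟨(1 : S₁.P) ⊗ₜ[S.P] w a, ?_⟩
        have h := hz₁ _ (Finset.mem_image_of_mem (fun a => F (w a) - (1 : S.P) ⊗ₜ[R] a) ha)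
        rw [map_sub, push_rTensor, push_rTensor, push_tmul, map_one, sub_eq_zero] at h
        exact (hΦ _).trans h
      | algebraMap r =>
        rw [Algebra.algebraMap_eq_smul_one, TensorProduct.tmul_smul, ← algebraMap_smul S₁.P r,
          ← Algebra.TensorProduct.one_def]
        exact Subalgebra.smul_mem _ (one_mem _) _
      | add x y _ _ hx hy => rw [TensorProduct.tmul_add]; exact add_mem hx hy
      | mul x y _ _ hx hy =>
        rw [← mul_one (1 : S₁.P), ← Algebra.TensorProduct.tmul_mul_tmul]
        exact mul_mem hx hy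
  -- injectivity
  have := finitePresentation_monoidAlgebra S.P hfg
  let β : MonoidAlgebra S₁.P N →ₐc[S₁.P] S₁.P ⊗[S.P] MonoidAlgebra S.P N :=
    ((monoidBC (T := S.P) S₁.P N).symm : MonoidAlgebra S₁.P N →ₐc[S₁.P] S₁.P ⊗[S.P] MonoidAlgebra S.P N)
  let F₁b : MonoidAlgebra S₁.P N →ₐc[S₁.P] S₁.P ⊗[R] A :=
    ((c : S₁.P ⊗[S.P] (S.P ⊗[R] A) →ₐc[S₁.P] S₁.P ⊗[R] A).comp (bcHom S₁.P Fb)).comp β
  let F₁ : MonoidAlgebra S₁.P N →ₐ[S₁.P] S₁.P ⊗[R] A := F₁b
  have hF₁ : ∀ m, F₁ (MonoidAlgebra.single m 1) = push A g₁ (χ m) := fun m => by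
    show Φ ((monoidBC (T := S.P) S₁.P N).symm (MonoidAlgebra.single m 1)) = _
    rw [monoidBC_symm_single, hΦ, hF, one_smul]
  have := finitePresentation_monoidAlgebra S₁.P hfg
  have : Algebra.FinitePresentation S₁.P (S₁.P ⊗[R] A) := inferInstance
  have hs₁ : Function.Surjective F₁b := hsurj.comp (monoidBC (T := S.P) S₁.P N).symm.surjective
  obtain ⟨K, hK⟩ := Algebra.FinitePresentation.ker_fG_of_surjective F₁ hs₁
  have hcomm : ∀ v, push A S₁.f (F₁ v) = e.symm (MonoidAlgebra.mapRingHom N S₁.f.toRingHom v) := by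
    intro v
    induction v using MonoidAlgebra.induction_linear with
    | zero => rw [map_zero, map_zero, map_zero, map_zero]
    | add a b ha hb => rw [map_add, map_add, map_add, map_add, ha, hb]
    | single m r =>
      have hm : push A S₁.f (F₁ (MonoidAlgebra.single m 1)) = e.symm (MonoidAlgebra.single m 1) := by
        rw [hF₁, push_push, h₁]
        show push A S.f (push A g₀ (φ m).val) = _
        rw [push_push, hg₀, hφ]
      rw [show (MonoidAlgebra.single m r : MonoidAlgebra S₁.P N) = r • MonoidAlgebra.single m 1 by simp, map_smul,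
        Algebra.smul_def, map_mul, hm,
        show push A S₁.f (algebraMap S₁.P (S₁.P ⊗[R] A) r) = algebraMap T (T ⊗[R] A) (S₁.f r) from rfl,
        ← Algebra.smul_def,
        show MonoidAlgebra.mapRingHom N S₁.f.toRingHom (r • MonoidAlgebra.single m 1) =
          S₁.f r • MonoidAlgebra.single m (1 : T) by simp]
      exact (map_smul e.symm.toAlgEquiv.toLinearEquiv (S₁.f r) _).symm
  let coeffs : Finset (S₁.P ⊗[R] R) := K.biUnion fun v => v.coeff.support.image fun m => coef m v ⊗ₜ[R] (1 : R)
  obtain ⟨S₂, g₂, h₂, hz₂⟩ := exists_shrink S₁ coeffs fun z hz => by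
    obtain ⟨v, hv, hz⟩ := Finset.mem_biUnion.mp hz
    obtain ⟨m, -, rfl⟩ := Finset.mem_image.mp hz
    have hv0 : MonoidAlgebra.mapRingHom N S₁.f.toRingHom v = 0 := by
      have hinj : Function.Injective (fun w => e.symm w) := e.symm.injective
      apply hinj
      show e.symm _ = e.symm 0
      rw [map_zero e.symm, ← hcomm, show F₁ v = 0 from RingHom.mem_ker.mp (hK.le (Ideal.subset_span hv)), map_zero]
    rw [LinearMap.rTensor_tmul]
    have := congrArg (coef m) hv0
    rw [map_zero, coef_mapRingHom] at this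
    show S₁.f (coef m v) ⊗ₜ[R] (1 : R) = 0
    rw [show S₁.f (coef m v) = 0 from this, TensorProduct.zero_tmul]
  let : Algebra S₁.P S₂.P := g₂.toRingHom.toAlgebra
  have : IsScalarTower R S₁.P S₂.P := .of_algebraMap_eq fun r => (g₂.commutes r).symm
  have hbij : Function.Bijective (bcHom S₂.P F₁b) := by
    refine ⟨(injective_iff_map_eq_zero _).mpr fun x hx => ?_, bcHom_surjective _ F₁b hs₁⟩
    have hx' : x ∈ RingHom.ker (bcHom S₂.P F₁b : S₂.P ⊗[S₁.P] MonoidAlgebra S₁.P N →ₐ[S₂.P]
        S₂.P ⊗[S₁.P] (S₁.P ⊗[R] A)) := hx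
    rw [ker_bcHom S₂.P F₁b hs₁] at hx'
    refine Ideal.mem_bot.mp ((Ideal.map_le_iff_le_comap.mpr ?_) hx')
    show RingHom.ker (F₁b : MonoidAlgebra S₁.P N →ₐ[S₁.P] S₁.P ⊗[R] A) ≤ _
    rw [show RingHom.ker (F₁b : MonoidAlgebra S₁.P N →ₐ[S₁.P] S₁.P ⊗[R] A) = RingHom.ker F₁.toRingHom from rfl, ← hK,
      Ideal.span_le]
    intro v hv
    show (1 : S₂.P) ⊗ₜ[S₁.P] v ∈ (⊥ : Ideal (S₂.P ⊗[S₁.P] MonoidAlgebra S₁.P N))
    rw [Ideal.mem_bot]
    have hinj : Function.Injective (fun w => monoidBC (T := S₁.P) S₂.P N w) := (monoidBC (T := S₁.P) S₂.P N).injective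
    apply hinj
    show monoidBC (T := S₁.P) S₂.P N _ = monoidBC (T := S₁.P) S₂.P N 0
    rw [monoidBC_one_tmul, map_zero]
    refine ext_coef fun m => ?_
    rw [coef_mapRingHom, map_zero]
    by_cases hm : m ∈ v.coeff.support
    · have h := hz₂ _ (Finset.mem_biUnion.mpr ⟨v, hv, Finset.mem_image_of_mem (fun m => coef m v ⊗ₜ[R] (1 : R)) hm⟩)
      have := congrArg (TensorProduct.rid R S₂.P) h
      simpa [RingHom.algebraMap_toAlgebra] using this
    · rw [show coef m v = 0 from Finsupp.notMem_support_iff.mp hm, map_zero]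
  exact ⟨S₂, ⟨((monoidBC (T := S₁.P) S₂.P N).symm.trans ((BialgEquiv.ofBijective _ hbij).trans
    (cancelBC (R := R) S₁.P S₂.P A))).symm⟩⟩

end Groth.Agent.IsoTriv
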