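import Groth.Agent.IsoTriv.HopfDescent
import Groth.Agent.IsoTriv.IdemLiftHom
import Groth.Agent.IsoTriv.Spread
import Mathlib.RingTheory.HopfAlgebra.GroupLike

/-! Lifting twisted group algebras along idempotent-bijective quotients. -/

universe u

open TensorProduct

namespace Groth.Agent.IsoTriv

open SGA3bLib

theorem isGroupLike_mapRingHom {U V : Type u} [CommRing U] [CommRing V] {N : Type u} [CommGroup N] (φ : U →+* V)
    {x : MonoidAlgebra U N} (hx : IsGroupLikeElem U x) : IsGroupLikeElem V (MonoidAlgebra.mapRingHom N φ x) := by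
  let : Algebra U V := φ.toAlgebra
  have h := (isGroupLike_tmul (R := U) (T := V) hx).map (monoidBC (T := U) V N)
  rwa [monoidBC_one_tmul] at h

section Reduced

variable {R : Type u} [CommRing R] {T : Type u} [CommRing T] [Algebra R T] {A : Type u} [CommRing A] [HopfAlgebra R A]
  {N : Type u} [CommGroup N] (e : T ⊗[R] A ≃ₐc[T] MonoidAlgebra T N)
  {U V : Type u} [CommRing U] [Algebra R U] [CommRing V] [Algebra R V]

/-- The trivialisation pushed along a map. -/
noncomputable def trv (g : T →ₐ[R] U) : U ⊗[R] A ≃ₐc[U] MonoidAlgebra U N :=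
  letI := g.toRingHom.toAlgebra
  haveI : IsScalarTower R T U := .of_algebraMap_eq fun r => (g.commutes r).symm
  bcTriv e

theorem trv_push (g : T →ₐ[R] U) (x : T ⊗[R] A) :
    trv e g (push A g x) = MonoidAlgebra.mapRingHom N g.toRingHom (e x) := by
  letI := g.toRingHom.toAlgebra
  haveI : IsScalarTower R T U := .of_algebraMap_eq fun r => (g.commutes r).symm
  exact bcTriv_push e x

theorem trv_tmul (g : T →ₐ[R] U) (u : U) (a : A) :
    trv e g (u ⊗ₜ[R] a) = u • MonoidAlgebra.mapRingHom N g.toRingHom (e ((1 : T) ⊗ₜ[R] a)) := by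
  rw [← trv_push, push_tmul, map_one, ← map_smul, TensorProduct.smul_tmul', smul_eq_mul, mul_one]

theorem trv_natural (g : T →ₐ[R] U) (φ : U →ₐ[R] V) (z : U ⊗[R] A) :
    trv e (φ.comp g) (push A φ z) = MonoidAlgebra.mapRingHom N φ.toRingHom (trv e g z) := by
  induction z using TensorProduct.induction_on with
  | zero => simp
  | add a b ha hb => simp only [map_add, ha, hb]
  | tmul u a =>
    rw [push_tmul, trv_tmul, trv_tmul, Algebra.smul_def, Algebra.smul_def, map_mul]
    congr 1
    · show _ = MonoidAlgebra.mapRingHom N φ.toRingHom (MonoidAlgebra.single 1 u)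
      rw [MonoidAlgebra.mapRingHom_single]
      rfl
    · rw [← RingHom.comp_apply, ← MonoidAlgebra.mapRingHom_comp]
      rfl

/-- The transition elements. -/
noncomputable def gg (f g : T →ₐ[R] U) (n : N) : MonoidAlgebra U N :=
  trv e g (push A f (e.symm (MonoidAlgebra.single n 1)))

theorem gg_self (f : T →ₐ[R] U) (n : N) : gg e f f n = MonoidAlgebra.single n 1 := by
  rw [gg, trv_push, BialgEquiv.apply_symm_apply, MonoidAlgebra.mapRingHom_single, map_one]

theorem gg_trans (f g h : T →ₐ[R] U) (n : N) : trv e h ((trv e g).symm (gg e f g n)) = gg e f h n := by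
  rw [gg, BialgEquiv.symm_apply_apply]
  rfl

theorem trv_symm_single (g h : T →ₐ[R] U) (n : N) :
    trv e h ((trv e g).symm (MonoidAlgebra.single n 1)) = gg e g h n := by
  rw [← gg_self e g n, gg_trans]

theorem gg_natural (φ : U →ₐ[R] V) (f g : T →ₐ[R] U) (n : N) :
    MonoidAlgebra.mapRingHom N φ.toRingHom (gg e f g n) = gg e (φ.comp f) (φ.comp g) n := by
  rw [gg, ← trv_natural, gg, push_push]

theorem isGroupLike_gg (f g : T →ₐ[R] U) (n : N) : IsGroupLikeElem U (gg e f g n) :=
  (isGroupLike_push f ((MonoidAlgebra.isGroupLikeElem_single_one (R := T) (A := T) n).map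
    (e.symm : MonoidAlgebra T N →ₐc[T] T ⊗[R] A))).map (trv e g)

end Reduced

section Glue

variable {R : Type u} [CommRing R] {T : Type u} [CommRing T] [Algebra R T] {N : Type u} [CommGroup N]

/-- Move coefficients to the tensor product. -/
noncomputable def toTens : MonoidAlgebra (T ⊗[R] T) N →+* T ⊗[R] MonoidAlgebra T N :=
  MonoidAlgebra.liftNCRingHom
    (Algebra.TensorProduct.map (AlgHom.id R T) (IsScalarTower.toAlgHom R T (MonoidAlgebra T N))).toRingHom
    ((Algebra.TensorProduct.includeRight : MonoidAlgebra T N →ₐ[R] T ⊗[R] MonoidAlgebra T N).toMonoidHom.comp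
      (MonoidAlgebra.of T N)) fun _ _ => Commute.all _ _

theorem toTens_single (n : N) (a b : T) :
    toTens (MonoidAlgebra.single n (a ⊗ₜ[R] b)) = a ⊗ₜ[R] MonoidAlgebra.single n b := by
  rw [toTens, MonoidAlgebra.liftNCRingHom_single]
  simp [MonoidAlgebra.coe_algebraMap, Algebra.TensorProduct.tmul_mul_tmul]

theorem toTens_injective : Function.Injective (toTens (R := R) (T := T) (N := N)) := by
  let l : T →ₐ[R] MonoidAlgebra (T ⊗[R] T) N :=
    (IsScalarTower.toAlgHom R (T ⊗[R] T) _).comp Algebra.TensorProduct.includeLeft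
  let r : MonoidAlgebra T N →ₐ[R] MonoidAlgebra (T ⊗[R] T) N :=
    { MonoidAlgebra.mapRingHom N (Algebra.TensorProduct.includeRight : T →ₐ[R] T ⊗[R] T).toRingHom with
      commutes' := fun c => by
        show MonoidAlgebra.mapRingHom N _ (MonoidAlgebra.single 1 (algebraMap R T c)) = MonoidAlgebra.single 1 _
        rw [MonoidAlgebra.mapRingHom_single]
        exact congrArg _ (AlgHom.commutes _ c) }
  let k := Algebra.TensorProduct.lift l r fun _ _ => Commute.all _ _
  refine Function.LeftInverse.injective (g := k) fun x => ?_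
  induction x using MonoidAlgebra.induction_linear with
  | zero => simp
  | add a b ha hb => simp only [map_add, ha, hb]
  | single n c =>
    induction c using TensorProduct.induction_on with
    | zero => simp
    | add a b ha hb => rw [MonoidAlgebra.single_add, map_add, map_add, ha, hb]
    | tmul a b =>
      rw [toTens_single]
      simp [k, l, r, MonoidAlgebra.coe_algebraMap, Algebra.TensorProduct.tmul_mul_tmul]

end Glue

section Main

variable {R : Type u} [CommRing R] (I : Ideal R)

/-- Reduction of a map of algebras. -/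
noncomputable def redU {U V : Type u} [CommRing U] [Algebra R U] [CommRing V] [Algebra R V] (f : U →ₐ[R] V) :
    (U ⧸ I.map (algebraMap R U)) →ₐ[R ⧸ I] (V ⧸ I.map (algebraMap R V)) :=
  (Ideal.Quotient.liftₐ (I.map (algebraMap R U)) ((Ideal.Quotient.mkₐ R _).comp f) fun x hx => by
    refine (?_ : I.map (algebraMap R U) ≤ RingHom.ker ((Ideal.Quotient.mkₐ R (I.map (algebraMap R V))).comp f)) hx
    refine Ideal.map_le_iff_le_comap.mpr fun a ha => ?_
    rw [Ideal.mem_comap, RingHom.mem_ker, AlgHom.commutes,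
      IsScalarTower.algebraMap_apply R V (V ⧸ I.map (algebraMap R V)), Ideal.Quotient.algebraMap_eq,
      Ideal.Quotient.eq_zero_iff_mem]
    exact Ideal.mem_map_of_mem _ ha).extendScalarsOfSurjective Ideal.Quotient.mk_surjective

theorem redU_mk {U V : Type u} [CommRing U] [Algebra R U] [CommRing V] [Algebra R V] (f : U →ₐ[R] V) (u : U) :
    redU I f (Ideal.Quotient.mk _ u) = Ideal.Quotient.mk _ (f u) := rfl

theorem redU_comp {U V W : Type u} [CommRing U] [Algebra R U] [CommRing V] [Algebra R V] [CommRing W] [Algebra R W]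
    (f : U →ₐ[R] V) (g : V →ₐ[R] W) : (redU I g).comp (redU I f) = redU I (g.comp f) :=
  AlgHom.ext fun x => by
    obtain ⟨u, rfl⟩ := Ideal.Quotient.mk_surjective x
    rfl

/-- The reduction map. -/
noncomputable abbrev mkI (U : Type u) [CommRing U] [Algebra R U] : U →+* U ⧸ I.map (algebraMap R U) :=
  Ideal.Quotient.mk _

theorem commute_tensor {R X Y : Type u} [CommRing R] [CommRing X] [CommRing Y] [Algebra R X] [Algebra R Y]
    (a b : X ⊗[R] Y) : Commute a b := mul_comm a b

theorem mul_four {R X Y : Type u} [CommRing R] [CommRing X] [CommRing Y] [Algebra R X] [Algebra R Y]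
    (a b c d : X ⊗[R] Y) : a * b * (c * d) = a * c * (b * d) := mul_mul_mul_comm a b c d

set_option backward.isDefEq.respectTransparency false in
open Algebra.TensorProduct in
/-- Twisted group algebras lift if idempotents lift uniquely. -/
theorem exists_lift_const (T : Type u) [CommRing T] [Algebra R T] [Module.FaithfullyFlat R T]
    [Module.FaithfullyFlat (R ⧸ I) (T ⧸ I.map (algebraMap R T))]
    (h1 : IdemBij (mkI I T)) (h2 : IdemBij (mkI I (T ⊗[R] T))) (h3 : IdemBij (mkI I (T ⊗[R] (T ⊗[R] T))))
    {A₀ : Type u} [CommRing A₀] [HopfAlgebra (R ⧸ I) A₀] {N : Type u} [CommGroup N]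
    (e : (T ⧸ I.map (algebraMap R T)) ⊗[R ⧸ I] A₀ ≃ₐc[T ⧸ I.map (algebraMap R T)]
      MonoidAlgebra (T ⧸ I.map (algebraMap R T)) N) :
    ∃ (A : Type u) (_ : CommRing A) (_ : HopfAlgebra R A),
      Nonempty (T ⊗[R] A ≃ₐc[T] MonoidAlgebra T N) ∧ Nonempty ((R ⧸ I) ⊗[R] A ≃ₐc[R ⧸ I] A₀) := by
  classical
  let M := MonoidAlgebra T N
  let T₂ := T ⊗[R] T
  let T₃ := T ⊗[R] T₂
  let iL : T →ₐ[R] T₂ := includeLeft
  let iR : T →ₐ[R] T₂ := includeRight
  choose χf hχg hχr using fun n => h2.exists_groupLike_lift (isGroupLike_gg e (redU I iL) (redU I iR) n)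
  let χ : N →* MonoidAlgebra T₂ N :=
    { toFun := χf
      map_one' := h2.eq_of_map_eq (hχg 1) .one (by
        rw [hχr, map_one]; simp [gg, ← MonoidAlgebra.one_def])
      map_mul' := fun a b => h2.eq_of_map_eq (hχg _) ((hχg a).mul (hχg b)) (by
        rw [map_mul, hχr, hχr, hχr]
        simp only [gg]
        rw [← map_mul, ← map_mul, ← map_mul e.symm, MonoidAlgebra.single_mul_single, mul_one]) }
  have hχg' : ∀ n, IsGroupLikeElem T₂ (χ n) := hχg
  have hKred : ∀ {U : Type u} [CommRing U] [Algebra R U] (φ : T₂ →ₐ[R] U) (n : N),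
      MonoidAlgebra.mapRingHom N (mkI I U) (MonoidAlgebra.mapRingHom N φ.toRingHom (χ n)) =
        gg e (redU I (φ.comp iL)) (redU I (φ.comp iR)) n := by
    intro U _ _ φ n
    rw [← RingHom.comp_apply, ← MonoidAlgebra.mapRingHom_comp,
      show (mkI I U).comp φ.toRingHom = (redU I φ).toRingHom.comp (mkI I T₂) from rfl, MonoidAlgebra.mapRingHom_comp,
      RingHom.comp_apply, show MonoidAlgebra.mapRingHom N (mkI I T₂) (χ n) = _ from hχr n, gg_natural, redU_comp,
      redU_comp]
  let tt : MonoidAlgebra T₂ N →+* T ⊗[R] M := toTens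
  let δ : M →ₐ[T] T ⊗[R] M :=
    MonoidAlgebra.lift T (T ⊗[R] M) N ((tt : MonoidAlgebra T₂ N →* T ⊗[R] M).comp χ)
  have hδ : ∀ n b, δ (MonoidAlgebra.single n b) = (b ⊗ₜ[R] (1 : M)) * tt (χ n) := fun n b => by
    simp [δ, M, Algebra.smul_def]
  have hδ1 : ∀ n, δ (MonoidAlgebra.single n 1) = tt (χ n) := fun n => by
    rw [hδ, ← Algebra.TensorProduct.one_def, one_mul]
  have htt : ∀ n a b, tt (MonoidAlgebra.single n (a ⊗ₜ[R] b)) = a ⊗ₜ[R] MonoidAlgebra.single n b :=
    fun n a b => toTens_single n a b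
  -- counit condition
  have hmul : ∀ m, Algebra.TensorProduct.lift (IsScalarTower.toAlgHom R T M) (AlgHom.id R M)
      (fun _ _ => Commute.all _ _) (δ m) = m := by
    let μ : T ⊗[R] M →ₐ[T] M := lift (Algebra.ofId T M) (AlgHom.id R M) fun _ _ => Commute.all _ _
    suffices h : μ.comp δ = AlgHom.id T M from fun m => AlgHom.congr_fun h m
    refine MonoidAlgebra.algHom_ext (single_one_left := Subsingleton.elim _ _) fun n => ?_
    show μ (δ _) = _
    rw [hδ1]
    have key : ∀ x, μ (tt x) = MonoidAlgebra.mapRingHom N (lmul' R : T₂ →ₐ[R] T).toRingHom x := fun x => by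
      induction x using MonoidAlgebra.induction_linear with
      | zero => simp
      | add a b ha hb => simp only [map_add, ha, hb]
      | single k c =>
        induction c using TensorProduct.induction_on with
        | zero => simp
        | add a b ha hb => simp only [MonoidAlgebra.single_add, map_add, ha, hb]
        | tmul a b => rw [htt]; simp [μ, M, MonoidAlgebra.coe_algebraMap]
    rw [key]
    refine h1.eq_of_map_eq (isGroupLike_mapRingHom _ (hχg' n)) (MonoidAlgebra.isGroupLikeElem_single_one n) ?_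
    rw [hKred, show (lmul' R : T₂ →ₐ[R] T).comp iL = AlgHom.id R T from lmul'_comp_includeLeft,
      show (lmul' R : T₂ →ₐ[R] T).comp iR = AlgHom.id R T from lmul'_comp_includeRight, gg_self, AlgHom.id_apply]
    exact ((MonoidAlgebra.mapRingHom_single _ _ _).trans (congrArg _ (map_one _))).symm
  -- cocycle
  have hco : ∀ m, Algebra.TensorProduct.map (AlgHom.id R T) (δ.restrictScalars R) (δ m) =
      Algebra.TensorProduct.map (AlgHom.id R T) (includeRight : M →ₐ[R] T ⊗[R] M) (δ m) := by
    let i12 : T₂ →ₐ[R] T₃ := Algebra.TensorProduct.map (AlgHom.id R T) iL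
    let i13 : T₂ →ₐ[R] T₃ := Algebra.TensorProduct.map (AlgHom.id R T) iR
    let i23 : T₂ →ₐ[R] T₃ := includeRight
    let p2 : T →ₐ[R] T₃ := i23.comp iL
    let p3 : T →ₐ[R] T₃ := i23.comp iR
    let K23 : N →* MonoidAlgebra T₃ N :=
      (MonoidAlgebra.mapRingHom N i23.toRingHom : MonoidAlgebra T₂ N →* MonoidAlgebra T₃ N).comp χ
    let F : MonoidAlgebra T₃ N →ₐ[T₃] MonoidAlgebra T₃ N := MonoidAlgebra.lift T₃ _ N K23
    have hFs : ∀ k, F (MonoidAlgebra.single k 1) = K23 k := fun k => by simp [F]
    have hK : ∀ k, IsGroupLikeElem T₃ (K23 k) := fun k => isGroupLike_mapRingHom _ (hχg' k)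
    let Fb : MonoidAlgebra T₃ N →ₐc[T₃] MonoidAlgebra T₃ N := BialgHom.ofAlgHom F
      (MonoidAlgebra.algHom_ext (single_one_left := Subsingleton.elim _ _) fun k => by
        simp [hFs, (hK k).counit_eq_one])
      (MonoidAlgebra.algHom_ext (single_one_left := Subsingleton.elim _ _) fun k => by
        simp [hFs, (hK k).comul_eq_tmul_self])
    have hL : ∀ z, MonoidAlgebra.mapRingHom N (mkI I T₃) (F z) =
        trv e (redU I p3) ((trv e (redU I p2)).symm (MonoidAlgebra.mapRingHom N (mkI I T₃) z)) := fun z => by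
      induction z using MonoidAlgebra.induction_linear with
      | zero => simp
      | add a b ha hb => simp only [map_add, ha, hb]
      | single k r =>
        rw [MonoidAlgebra.mapRingHom_single,
          show (MonoidAlgebra.single k (mkI I T₃ r) : MonoidAlgebra _ N) = mkI I T₃ r • MonoidAlgebra.single k 1 by simp,
          map_smul, map_smul, trv_symm_single,
          show (MonoidAlgebra.single k r : MonoidAlgebra T₃ N) = r • MonoidAlgebra.single k 1 by simp, map_smul, hFs,
          Algebra.smul_def, map_mul, Algebra.smul_def]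
        congr 1
        · simp [MonoidAlgebra.coe_algebraMap]
        · exact hKred i23 k
    have hcoc : ∀ n, F (MonoidAlgebra.mapRingHom N i12.toRingHom (χ n)) =
        MonoidAlgebra.mapRingHom N i13.toRingHom (χ n) := fun n => by
      refine h3.eq_of_map_eq ((isGroupLike_mapRingHom _ (hχg' n)).map Fb) (isGroupLike_mapRingHom _ (hχg' n)) ?_
      rw [hL, hKred, hKred]
      have e1 : i12.comp iR = p2 := AlgHom.ext fun t => rfl
      have e2 : i13.comp iR = p3 := AlgHom.ext fun t => rfl
      have e3 : i13.comp iL = i12.comp iL := AlgHom.ext fun t => rfl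
      rw [e1, e2, e3, gg_trans]
    let j3 : MonoidAlgebra T₃ N →+* T ⊗[R] (T ⊗[R] M) := MonoidAlgebra.liftNCRingHom
      (Algebra.TensorProduct.map (AlgHom.id R T) (Algebra.TensorProduct.map (AlgHom.id R T) (IsScalarTower.toAlgHom R T M))).toRingHom
      (((includeRight : T ⊗[R] M →ₐ[R] T ⊗[R] (T ⊗[R] M)).comp includeRight).toMonoidHom.comp (MonoidAlgebra.of T N))
      fun _ _ => commute_tensor _ _
    have hj3 : ∀ k (a b c : T), j3 (MonoidAlgebra.single k (a ⊗ₜ[R] (b ⊗ₜ[R] c))) =
        a ⊗ₜ[R] (b ⊗ₜ[R] MonoidAlgebra.single k c) := fun k a b c => by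
      rw [show j3 _ = _ from MonoidAlgebra.liftNCRingHom_single _ _ _ _ _]
      simp [M, MonoidAlgebra.coe_algebraMap, tmul_mul_tmul]
    have h23 : ∀ x, j3 (MonoidAlgebra.mapRingHom N i23.toRingHom x) = (1 : T) ⊗ₜ[R] tt x := fun x => by
      induction x using MonoidAlgebra.induction_linear with
      | zero => simp
      | add a b ha hb => simp only [map_add, TensorProduct.tmul_add, ha, hb]
      | single k c =>
        induction c using TensorProduct.induction_on with
        | zero => simp
        | add a b ha hb => simp only [MonoidAlgebra.single_add, map_add, TensorProduct.tmul_add, ha, hb]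
        | tmul a b =>
          rw [MonoidAlgebra.mapRingHom_single, htt]
          exact hj3 k 1 a b
    have h12 : ∀ x, Algebra.TensorProduct.map (AlgHom.id R T) (δ.restrictScalars R) (tt x) =
        j3 (F (MonoidAlgebra.mapRingHom N i12.toRingHom x)) := fun x => by
      induction x using MonoidAlgebra.induction_linear with
      | zero => simp
      | add a b ha hb => simp only [map_add, ha, hb]
      | single k c =>
        induction c using TensorProduct.induction_on with
        | zero => simp
        | add a b ha hb => simp only [MonoidAlgebra.single_add, map_add, ha, hb]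
        | tmul a b =>
          rw [htt, Algebra.TensorProduct.map_tmul, AlgHom.id_apply, AlgHom.restrictScalars_apply, hδ, MonoidAlgebra.mapRingHom_single,
            show (MonoidAlgebra.single k (i12.toRingHom (a ⊗ₜ[R] b)) : MonoidAlgebra T₃ N) =
              MonoidAlgebra.single 1 (i12 (a ⊗ₜ[R] b)) * MonoidAlgebra.single k 1 by simp,
            map_mul, hFs, map_mul,
            show F (MonoidAlgebra.single 1 (i12 (a ⊗ₜ[R] b))) = MonoidAlgebra.single 1 (i12 (a ⊗ₜ[R] b)) from
              F.commutes _,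
            show i12 (a ⊗ₜ[R] b) = a ⊗ₜ[R] (b ⊗ₜ[R] (1 : T)) from rfl, hj3,
            show j3 (K23 k) = _ from h23 (χ k), tmul_mul_tmul, mul_one]
          rfl
    have h13 : ∀ x, Algebra.TensorProduct.map (AlgHom.id R T) (includeRight : M →ₐ[R] T ⊗[R] M) (tt x) =
        j3 (MonoidAlgebra.mapRingHom N i13.toRingHom x) := fun x => by
      induction x using MonoidAlgebra.induction_linear with
      | zero => simp
      | add a b ha hb => simp only [map_add, ha, hb]
      | single k c =>
        induction c using TensorProduct.induction_on with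
        | zero => simp
        | add a b ha hb => simp only [MonoidAlgebra.single_add, map_add, ha, hb]
        | tmul a b =>
          rw [htt, MonoidAlgebra.mapRingHom_single]
          exact (hj3 k a 1 b).symm
    suffices h : (Algebra.TensorProduct.map (AlgHom.id T T) (δ.restrictScalars R)).comp δ =
        (Algebra.TensorProduct.map (AlgHom.id T T) (includeRight : M →ₐ[R] T ⊗[R] M)).comp δ from fun m => AlgHom.congr_fun h m
    refine MonoidAlgebra.algHom_ext (single_one_left := Subsingleton.elim _ _) fun n => ?_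
    show Algebra.TensorProduct.map (AlgHom.id R T) (δ.restrictScalars R) (δ _) = Algebra.TensorProduct.map (AlgHom.id R T) _ (δ _)
    rw [hδ1, h12, h13, hcoc]
  -- idempotent decomposition
  have horth : ∀ n k l, coef k (χ n) * coef l (χ n) = if k = l then coef k (χ n) else 0 := fun n k l => by
    split_ifs with h
    · exact h ▸ (isIdempotentElem_coef (hχg' n) k).eq
    · exact groupLike_orth (hχg' n) h
  have hsum : ∀ x : MonoidAlgebra T₂ N, tt x = ∑ k ∈ x.coeff.support, tt (MonoidAlgebra.single k (coef k x)) :=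
    fun x => by
      conv_lhs => rw [← MonoidAlgebra.sum_coeff_single x, Finsupp.sum, map_sum]
      rfl
  let J {X : Type u} [CommRing X] [Algebra T X] [Algebra R X] [IsScalarTower R T X] : T₂ →ₐ[R] T ⊗[R] X :=
    Algebra.TensorProduct.map (AlgHom.id R T) (IsScalarTower.toAlgHom R T X)
  have hΔ : ∀ m, lift ((Algebra.TensorProduct.map (AlgHom.id T T) ((includeLeft : M →ₐ[T] M ⊗[T] M).restrictScalars R)).comp δ)
        ((Algebra.TensorProduct.map (AlgHom.id T T) ((includeRight : M →ₐ[T] M ⊗[T] M).restrictScalars R)).comp δ)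
        (fun _ _ => commute_tensor _ _) (Bialgebra.comulAlgHom T M m) =
      Algebra.TensorProduct.map (AlgHom.id T T) ((Bialgebra.comulAlgHom T M).restrictScalars R) (δ m) := by
    set fl := Algebra.TensorProduct.map (AlgHom.id T T) ((includeLeft : M →ₐ[T] M ⊗[T] M).restrictScalars R)
    set fr := Algebra.TensorProduct.map (AlgHom.id T T) ((includeRight : M →ₐ[T] M ⊗[T] M).restrictScalars R)
    suffices h : (lift (fl.comp δ) (fr.comp δ) fun _ _ => commute_tensor _ _).comp (Bialgebra.comulAlgHom T M) =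
        (Algebra.TensorProduct.map (AlgHom.id T T) ((Bialgebra.comulAlgHom T M).restrictScalars R)).comp δ from
      fun m => AlgHom.congr_fun h m
    refine MonoidAlgebra.algHom_ext (single_one_left := Subsingleton.elim _ _) fun n => ?_
    show lift (fl.comp δ) (fr.comp δ) (fun _ _ => commute_tensor _ _) (Coalgebra.comul (MonoidAlgebra.single n (1 : T))) = _
    rw [(MonoidAlgebra.isGroupLikeElem_single_one (R := T) (A := T) n).comul_eq_tmul_self,
      Algebra.TensorProduct.lift_tmul, AlgHom.comp_apply, AlgHom.comp_apply, AlgHom.comp_apply, hδ1]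
    let w (k l : N) : T ⊗[R] (M ⊗[T] M) := (1 : T) ⊗ₜ[R] (MonoidAlgebra.single k (1 : T) ⊗ₜ[T] MonoidAlgebra.single l 1)
    have hl : ∀ k c, fl (tt (MonoidAlgebra.single k c)) = J c * ((1 : T) ⊗ₜ[R] (MonoidAlgebra.single k (1 : T) ⊗ₜ[T] (1 : M))) :=
      fun k c => by
        induction c using TensorProduct.induction_on with
        | zero => simp
        | add a b ha hb => simp only [MonoidAlgebra.single_add, map_add, add_mul, ha, hb]
        | tmul a b =>
          rw [htt]
          show a ⊗ₜ[R] ((MonoidAlgebra.single k b : M) ⊗ₜ[T] (1 : M)) = (a ⊗ₜ[R] algebraMap T (M ⊗[T] M) b) * _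
          rw [tmul_mul_tmul, mul_one, ← Algebra.smul_def, TensorProduct.smul_tmul', MonoidAlgebra.smul_single, smul_eq_mul, mul_one]
    have hr : ∀ k c, fr (tt (MonoidAlgebra.single k c)) = J c * ((1 : T) ⊗ₜ[R] ((1 : M) ⊗ₜ[T] MonoidAlgebra.single k (1 : T))) :=
      fun k c => by
        induction c using TensorProduct.induction_on with
        | zero => simp
        | add a b ha hb => simp only [MonoidAlgebra.single_add, map_add, add_mul, ha, hb]
        | tmul a b =>
          rw [htt]
          show a ⊗ₜ[R] ((1 : M) ⊗ₜ[T] (MonoidAlgebra.single k b : M)) = (a ⊗ₜ[R] algebraMap T (M ⊗[T] M) b) * _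
          rw [tmul_mul_tmul, mul_one, ← Algebra.smul_def, ← TensorProduct.tmul_smul, MonoidAlgebra.smul_single, smul_eq_mul, mul_one]
    have hc : ∀ k c, Algebra.TensorProduct.map (AlgHom.id T T) ((Bialgebra.comulAlgHom T M).restrictScalars R)
        (tt (MonoidAlgebra.single k c)) = J c * w k k := fun k c => by
      induction c using TensorProduct.induction_on with
      | zero => simp
      | add a b ha hb => simp only [MonoidAlgebra.single_add, map_add, add_mul, ha, hb]
      | tmul a b =>
        rw [htt]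
        show a ⊗ₜ[R] Bialgebra.comulAlgHom T M (MonoidAlgebra.single k b) = (a ⊗ₜ[R] algebraMap T (M ⊗[T] M) b) * _
        rw [tmul_mul_tmul, mul_one, ← Algebra.smul_def,
          show (MonoidAlgebra.single k b : M) = b • MonoidAlgebra.single k 1 by simp [M], map_smul]
        exact congrArg (fun z => a ⊗ₜ[R] (b • z))
          (MonoidAlgebra.isGroupLikeElem_single_one (R := T) (A := T) k).comul_eq_tmul_self
    rw [hsum (χ n), map_sum, map_sum, map_sum, Finset.sum_mul_sum]
    refine Finset.sum_congr rfl fun k hk => ?_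
    rw [hc, Finset.sum_eq_single k]
    · rw [hl, hr, mul_four, ← map_mul, horth, if_pos rfl, tmul_mul_tmul, one_mul, tmul_mul_tmul, one_mul,
        mul_one]
    · intro l _ hlk
      rw [hl, hr, mul_four, ← map_mul, horth, if_neg (Ne.symm hlk), map_zero, zero_mul]
    · intro h
      exact absurd hk h
  have hε : ∀ m, Algebra.TensorProduct.map (AlgHom.id T T) ((Bialgebra.counitAlgHom T M).restrictScalars R) (δ m) =
      Bialgebra.counitAlgHom T M m ⊗ₜ[R] (1 : T) := by
    suffices h : (Algebra.TensorProduct.map (AlgHom.id T T) ((Bialgebra.counitAlgHom T M).restrictScalars R)).comp δ =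
        (includeLeft : T →ₐ[T] T₂).comp (Bialgebra.counitAlgHom T M) from fun m => AlgHom.congr_fun h m
    refine MonoidAlgebra.algHom_ext (single_one_left := Subsingleton.elim _ _) fun n => ?_
    show Algebra.TensorProduct.map (AlgHom.id T T) _ (δ _) = _
    rw [hδ1]
    have key : ∀ x, Algebra.TensorProduct.map (AlgHom.id T T) ((Bialgebra.counitAlgHom T M).restrictScalars R) (tt x) =
        Coalgebra.counit (R := T₂) x := fun x => by
      induction x using MonoidAlgebra.induction_linear with
      | zero => simp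
      | add a b ha hb => simp only [map_add, ha, hb]
      | single k c =>
        induction c using TensorProduct.induction_on with
        | zero => simp
        | add a b ha hb => simp only [MonoidAlgebra.single_add, map_add, ha, hb]
        | tmul a b => rw [htt]; simp [M]
    rw [key, (hχg' n).counit_eq_one]
    simp [M]
    rfl
  have hS : ∀ m, Algebra.TensorProduct.map (AlgHom.id T T) ((HopfAlgebra.antipodeAlgHom T M).restrictScalars R) (δ m) =
      δ (HopfAlgebra.antipodeAlgHom T M m) := by
    suffices h : (Algebra.TensorProduct.map (AlgHom.id T T) ((HopfAlgebra.antipodeAlgHom T M).restrictScalars R)).comp δ =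
        δ.comp (HopfAlgebra.antipodeAlgHom T M) from fun m => AlgHom.congr_fun h m
    refine MonoidAlgebra.algHom_ext (single_one_left := Subsingleton.elim _ _) fun n => ?_
    show Algebra.TensorProduct.map (AlgHom.id T T) _ (δ _) = δ (HopfAlgebraStruct.antipode T _)
    have key : ∀ x, Algebra.TensorProduct.map (AlgHom.id T T) ((HopfAlgebra.antipodeAlgHom T M).restrictScalars R) (tt x) =
        tt (HopfAlgebraStruct.antipode T₂ x) := fun x => by
      induction x using MonoidAlgebra.induction_linear with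
      | zero => simp
      | add a b ha hb => simp only [map_add, ha, hb]
      | single k c =>
        induction c using TensorProduct.induction_on with
        | zero => simp
        | add a b ha hb => simp only [MonoidAlgebra.single_add, map_add, ha, hb]
        | tmul a b => rw [htt]; simp [M, htt]
    rw [hδ1, key, show HopfAlgebraStruct.antipode T (MonoidAlgebra.single n (1 : T) : M) =
      MonoidAlgebra.single n⁻¹ 1 by simp [M], hδ1]
    congr 1
    refine left_inv_eq_right_inv (hχg' n).antipode_mul_cancel ?_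
    rw [← map_mul, mul_inv_cancel, map_one]
  obtain ⟨A, _, _, E, hE⟩ := exists_hopf_descent δ hmul hco hΔ hε hS
  refine ⟨A, inferInstance, inferInstance, ⟨E⟩, ?_⟩
  let R₀ := R ⧸ I
  let T₀ := T ⧸ I.map (algebraMap R T)
  let eT : T₀ ⊗[R] A ≃ₐc[T₀] MonoidAlgebra T₀ N := bcTriv E
  let φ : T₀ ⊗[R₀] (R₀ ⊗[R] A) ≃ₐc[T₀] T₀ ⊗[R₀] A₀ := ((cancelBC (R := R) R₀ T₀ A).trans eT).trans e.symm
  let q : T →+* T₀ := mkI I T
  have hφ : ∀ a, φ ((1 : T₀) ⊗ₜ[R₀] ((1 : R₀) ⊗ₜ[R] a)) =
      e.symm (MonoidAlgebra.mapRingHom N q (E ((1 : T) ⊗ₜ[R] a))) := fun a => by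
    show e.symm (eT (cancelBC (R := R) R₀ T₀ A ((1 : T₀) ⊗ₜ[R₀] ((1 : R₀) ⊗ₜ[R] a)))) = _
    congr 1
    rw [← push_eq_cancel, push_tmul, map_one, show q = algebraMap T T₀ from rfl, ← bcTriv_push E, push_tmul, map_one]
  -- the trivialisation respects the descent data
  let L : M →+* MonoidAlgebra T₂ N :=
    MonoidAlgebra.liftNCRingHom (MonoidAlgebra.singleOneRingHom.comp iL.toRingHom) χ fun _ _ => Commute.all _ _
  have hLs : ∀ k t, L (MonoidAlgebra.single k t) = MonoidAlgebra.single 1 (iL t) * χ k := fun k t =>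
    MonoidAlgebra.liftNCRingHom_single _ _ _ _ _
  have hLδ : ∀ m, tt (L m) = δ m := fun m => by
    induction m using MonoidAlgebra.induction_linear with
    | zero => simp
    | add a b ha hb => simp only [map_add, ha, hb]
    | single k t =>
      rw [hLs, map_mul, hδ, show iL t = t ⊗ₜ[R] (1 : T) from rfl, htt, ← MonoidAlgebra.one_def]
  have hR : ∀ m, tt (MonoidAlgebra.mapRingHom N iR.toRingHom m) = (1 : T) ⊗ₜ[R] m := fun m => by
    induction m using MonoidAlgebra.induction_linear with
    | zero => simp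
    | add a b ha hb => simp only [map_add, TensorProduct.tmul_add, ha, hb]
    | single k t => rw [MonoidAlgebra.mapRingHom_single]; exact htt k 1 t
  have hred : ∀ m, trv e (redU I iR) (push A₀ (redU I iL) (e.symm (MonoidAlgebra.mapRingHom N q m))) =
      MonoidAlgebra.mapRingHom N (mkI I T₂) (L m) := fun m => by
    induction m using MonoidAlgebra.induction_linear with
    | zero => simp
    | add a b ha hb => simp only [map_add, ha, hb]
    | single k t =>
      rw [MonoidAlgebra.mapRingHom_single, hLs, map_mul, MonoidAlgebra.mapRingHom_single,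
        show MonoidAlgebra.mapRingHom N (mkI I T₂) (χ k) = _ from hχr k, gg,
        show (MonoidAlgebra.single k (q t) : MonoidAlgebra T₀ N) = q t • MonoidAlgebra.single k 1 by simp, map_smul]
      have hp : ∀ (c : T₀) x, push A₀ (redU I iL) (c • x) = redU I iL c • push A₀ (redU I iL) x := fun c x => by
        rw [Algebra.smul_def, map_mul, Algebra.smul_def]
        congr 1
      rw [hp, map_smul, Algebra.smul_def]
      rfl
  have hcompat : ∀ a, push A₀ (includeLeft : T₀ →ₐ[R₀] T₀ ⊗[R₀] T₀) (φ ((1 : T₀) ⊗ₜ[R₀] ((1 : R₀) ⊗ₜ[R] a))) =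
      push A₀ (includeRight : T₀ →ₐ[R₀] T₀ ⊗[R₀] T₀) (φ ((1 : T₀) ⊗ₜ[R₀] ((1 : R₀) ⊗ₜ[R] a))) := fun a => by
    rw [hφ]
    set m := E ((1 : T) ⊗ₜ[R] a)
    have hLm : L m = MonoidAlgebra.mapRingHom N iR.toRingHom m := toTens_injective (by
      show tt _ = tt _
      rw [hLδ, hR]
      exact hE a)
    have h0 : push A₀ (redU I iL) (e.symm (MonoidAlgebra.mapRingHom N q m)) =
        push A₀ (redU I iR) (e.symm (MonoidAlgebra.mapRingHom N q m)) := by
      apply (trv e (redU I iR)).toAlgEquiv.injective
      show trv e (redU I iR) _ = trv e (redU I iR) _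
      rw [hred, trv_push, BialgEquiv.apply_symm_apply, hLm]
      show ((MonoidAlgebra.mapRingHom N (mkI I T₂)).comp (MonoidAlgebra.mapRingHom N iR.toRingHom)) m =
        ((MonoidAlgebra.mapRingHom N (redU I iR).toRingHom).comp (MonoidAlgebra.mapRingHom N q)) m
      rw [← MonoidAlgebra.mapRingHom_comp, ← MonoidAlgebra.mapRingHom_comp]
      rfl
    let w₀ : T₂ →ₐ[R] T₀ ⊗[R₀] T₀ := lift
      (((includeLeft : T₀ →ₐ[R₀] T₀ ⊗[R₀] T₀).restrictScalars R).comp (Ideal.Quotient.mkₐ R _))
      (((includeRight : T₀ →ₐ[R₀] T₀ ⊗[R₀] T₀).restrictScalars R).comp (Ideal.Quotient.mkₐ R _))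
      fun _ _ => Commute.all _ _
    let w : (T₂ ⧸ I.map (algebraMap R T₂)) →ₐ[R₀] T₀ ⊗[R₀] T₀ :=
      (Ideal.Quotient.liftₐ (I.map (algebraMap R T₂)) w₀ fun x hx => by
        refine (?_ : I.map (algebraMap R T₂) ≤ RingHom.ker w₀) hx
        refine Ideal.map_le_iff_le_comap.mpr fun r hr => ?_
        rw [Ideal.mem_comap, RingHom.mem_ker, AlgHom.commutes, IsScalarTower.algebraMap_apply R R₀ (T₀ ⊗[R₀] T₀),
          Ideal.Quotient.algebraMap_eq, Ideal.Quotient.eq_zero_iff_mem.mpr hr,
          map_zero]).extendScalarsOfSurjective Ideal.Quotient.mk_surjective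
    have hwL : w.comp (redU I iL) = includeLeft := AlgHom.ext fun x => by
      obtain ⟨t, rfl⟩ := Ideal.Quotient.mk_surjective x
      show w₀ (t ⊗ₜ[R] (1 : T)) = (Ideal.Quotient.mk (I.map (algebraMap R T)) t : T₀) ⊗ₜ[R₀] (1 : T₀)
      refine (Algebra.TensorProduct.lift_tmul _ _ _ _ _).trans ?_
      show ((Ideal.Quotient.mk (I.map (algebraMap R T)) t : T₀) ⊗ₜ[R₀] (1 : T₀)) *
        ((1 : T₀) ⊗ₜ[R₀] (Ideal.Quotient.mk (I.map (algebraMap R T)) 1 : T₀)) = _
      rw [tmul_mul_tmul, mul_one, one_mul, map_one]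
    have hwR : w.comp (redU I iR) = includeRight := AlgHom.ext fun x => by
      obtain ⟨t, rfl⟩ := Ideal.Quotient.mk_surjective x
      show w₀ ((1 : T) ⊗ₜ[R] t) = (1 : T₀) ⊗ₜ[R₀] (Ideal.Quotient.mk (I.map (algebraMap R T)) t : T₀)
      refine (Algebra.TensorProduct.lift_tmul _ _ _ _ _).trans ?_
      show ((Ideal.Quotient.mk (I.map (algebraMap R T)) 1 : T₀) ⊗ₜ[R₀] (1 : T₀)) *
        ((1 : T₀) ⊗ₜ[R₀] (Ideal.Quotient.mk (I.map (algebraMap R T)) t : T₀)) = _
      rw [tmul_mul_tmul, mul_one, one_mul, map_one]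
    rw [← hwL, ← hwR, ← push_push, ← push_push, h0]
  have hcompat' : ∀ c, (includeLeft : T₀ →ₐ[R₀] T₀ ⊗[R₀] T₀).toLinearMap.rTensor A₀ (φ ((1 : T₀) ⊗ₜ[R₀] c)) =
      (includeRight : T₀ →ₐ[R₀] T₀ ⊗[R₀] T₀).toLinearMap.rTensor A₀ (φ ((1 : T₀) ⊗ₜ[R₀] c)) := fun c => by
    induction c using TensorProduct.induction_on with
    | zero => simp
    | add a b ha hb => simp only [TensorProduct.tmul_add, map_add, ha, hb]
    | tmul r a =>
      have hr : φ ((1 : T₀) ⊗ₜ[R₀] (r ⊗ₜ[R] a)) = r • φ ((1 : T₀) ⊗ₜ[R₀] ((1 : R₀) ⊗ₜ[R] a)) := by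
        rw [show r ⊗ₜ[R] a = r • ((1 : R₀) ⊗ₜ[R] a) by simp [TensorProduct.smul_tmul'], TensorProduct.tmul_smul]
        exact (φ.toAlgEquiv.toLinearEquiv.restrictScalars R₀).map_smul r _
      rw [hr, map_smul, map_smul]
      congr 1
      rw [push_rTensor, push_rTensor]
      exact hcompat a
  obtain ⟨ψ, hψ⟩ := exists_hom_of_cover (R := R₀) (B := A₀) (C := R₀ ⊗[R] A) (fun _ : PUnit.{u+1} => T₀)
    (fun _ => inferInstance) (fun p => ⟨PUnit.unit, PrimeSpectrum.comap_surjective_of_faithfullyFlat (B := T₀) p⟩)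
    (fun _ => φ) (fun _ _ c => hcompat' c)
  have hψφ : ∀ x, bcHom T₀ ψ x = φ x := fun x => by
    induction x using TensorProduct.induction_on with
    | zero => simp
    | add a b ha hb => simp only [map_add, ha, hb]
    | tmul t c =>
      rw [bcHom_tmul, show t ⊗ₜ[R₀] c = t • ((1 : T₀) ⊗ₜ[R₀] c) by simp [TensorProduct.smul_tmul'], map_smul]
      rw [show φ ((1 : T₀) ⊗ₜ[R₀] c) = _ from hψ PUnit.unit c, TensorProduct.smul_tmul', smul_eq_mul, mul_one]
  refine ⟨BialgEquiv.ofBijective ψ ?_⟩
  refine (Module.FaithfullyFlat.lTensor_bijective_iff_bijective R₀ T₀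
    (ψ : R₀ ⊗[R] A →ₐ[R₀] A₀).toLinearMap).mp ?_
  convert φ.toAlgEquiv.bijective using 1
  exact funext hψφ


end Main

end Groth.Agent.IsoTriv
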