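import Groth.Agent.IsoTriv.LiftConst
import Groth.Agent.IsoTriv.QuasiIso
import Groth.Agent.HenselLib.EtaleLift
import Groth.Agent.HenselLib.FiniteEtaleLift
import Mathlib.RingTheory.AdicCompletion.Completeness
import Mathlib.RingTheory.Henselian
import Mathlib.RingTheory.Etale.Pi

/-! Lifting groups of multiplicative type along nilpotent and complete ideals. -/

universe u

open TensorProduct

namespace Groth.Agent.IsoTriv

open SGA3bLib

variable {R : Type u} [CommRing R] (I : Ideal R)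

theorem idemBij_mkI_of_nil (hI : ∀ x ∈ I, IsNilpotent x) (U : Type u) [CommRing U] [Algebra R U] :
    IdemBij (mkI I U) := by
  have hnil : ∀ x ∈ I.map (algebraMap R U), IsNilpotent x := fun x hx => by
    rw [← mem_nilradical]
    refine (?_ : I.map (algebraMap R U) ≤ nilradical U) hx
    exact Ideal.map_le_iff_le_comap.mpr fun r hr => mem_nilradical.mpr ((hI r hr).map _)
  refine ⟨fun e e' he he' h => eq_of_isNilpotent_sub_of_isIdempotentElem he he'
    (hnil _ ((Ideal.Quotient.mk_eq_mk_iff_sub_mem _ _).mp h)), fun e₀ he₀ => ?_⟩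
  exact exists_isIdempotentElem_eq_of_ker_isNilpotent (mkI I U) (fun x hx => hnil x (by rwa [Ideal.mk_ker] at hx))
    e₀ (Ideal.Quotient.mk_surjective e₀) he₀

/-- A constant trivialisation over an étale algebra lifts. -/
theorem exists_lift_of_etale (T : Type u) [CommRing T] [Algebra R T] [Module.FaithfullyFlat R T]
    (h1 : IdemBij (mkI I T)) (h2 : IdemBij (mkI I (T ⊗[R] T))) (h3 : IdemBij (mkI I (T ⊗[R] (T ⊗[R] T))))
    {T' : Type u} [CommRing T'] [Algebra (R ⧸ I) T'] [Module.FaithfullyFlat (R ⧸ I) T'] (θ : T →+* T')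
    (hθ : Function.Surjective θ) (hker : RingHom.ker θ = I.map (algebraMap R T))
    (hθc : ∀ r, θ (algebraMap R T r) = algebraMap (R ⧸ I) T' (Ideal.Quotient.mk I r))
    {A₀ : Type u} [CommRing A₀] [HopfAlgebra (R ⧸ I) A₀] {N : Type u} [CommGroup N]
    (e : T' ⊗[R ⧸ I] A₀ ≃ₐc[T'] MonoidAlgebra T' N) :
    ∃ (A : Type u) (_ : CommRing A) (_ : HopfAlgebra R A),
      Nonempty (T ⊗[R] A ≃ₐc[T] MonoidAlgebra T N) ∧ Nonempty ((R ⧸ I) ⊗[R] A ≃ₐc[R ⧸ I] A₀) := by
  let E : (T ⧸ I.map (algebraMap R T)) ≃+* T' :=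
    (Ideal.quotEquivOfEq hker.symm).trans (RingHom.quotientKerEquivOfSurjective hθ)
  have hE : ∀ c, E (algebraMap (R ⧸ I) _ c) = algebraMap (R ⧸ I) T' c := fun c => by
    obtain ⟨r, rfl⟩ := Ideal.Quotient.mk_surjective c
    exact hθc r
  let Ea : (T ⧸ I.map (algebraMap R T)) ≃ₐ[R ⧸ I] T' := AlgEquiv.ofRingEquiv (f := E) hE
  let : Algebra T' (T ⧸ I.map (algebraMap R T)) := Ea.symm.toAlgHom.toRingHom.toAlgebra
  have : IsScalarTower (R ⧸ I) T' (T ⧸ I.map (algebraMap R T)) :=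
    .of_algebraMap_eq fun c => (Ea.symm.commutes c).symm
  have : Module.FaithfullyFlat (R ⧸ I) (T ⧸ I.map (algebraMap R T)) :=
    Module.FaithfullyFlat.of_linearEquiv (R ⧸ I) T' Ea.toLinearEquiv
  exact exists_lift_const I T h1 h2 h3 (bcTriv (T' := T ⧸ I.map (algebraMap R T)) e)

/-- Isotrivial groups lift along complete ideals. -/
theorem exists_isotrivial_lift [HenselianRing R I] {A₀ : Type u} [CommRing A₀] [HopfAlgebra (R ⧸ I) A₀]
    (h0 : SGA3b.IsIsotrivial (R ⧸ I) A₀) :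
    ∃ (A : Type u) (_ : CommRing A) (_ : HopfAlgebra R A),
      SGA3b.IsIsotrivial R A ∧ Nonempty ((R ⧸ I) ⊗[R] A ≃ₐc[R ⧸ I] A₀) := by
  obtain ⟨T', _, _, het, hfin, hff, N, _, ⟨e⟩⟩ := h0
  have := het
  have := hfin
  have := hff
  obtain ⟨T, _, _, hTfin, hTet, ⟨ε⟩⟩ := HenselLib.exists_finiteEtale_lift R I T'
  have := hTfin
  have := hTet
  let θ : T →+* T' := ε.toAlgHom.toRingHom.comp
    (Algebra.TensorProduct.includeRight : T →ₐ[R] (R ⧸ I) ⊗[R] T).toRingHom
  let q := Algebra.TensorProduct.quotIdealMapEquivQuotTensor T I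
  have hθq : ∀ t, θ t = ε (q (Ideal.Quotient.mk _ t)) := fun t => rfl
  have hθ : Function.Surjective θ := fun y => by
    obtain ⟨x, rfl⟩ := ε.surjective y
    obtain ⟨z, rfl⟩ := q.surjective x
    obtain ⟨t, rfl⟩ := Ideal.Quotient.mk_surjective z
    exact ⟨t, hθq t⟩
  have hker : RingHom.ker θ = I.map (algebraMap R T) := Ideal.ext fun t => by
    rw [RingHom.mem_ker, hθq, EmbeddingLike.map_eq_zero_iff, EmbeddingLike.map_eq_zero_iff,
      Ideal.Quotient.eq_zero_iff_mem]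
  have hθc : ∀ r, θ (algebraMap R T r) = algebraMap (R ⧸ I) T' (Ideal.Quotient.mk I r) := fun r => by
    show ε ((1 : R ⧸ I) ⊗ₜ[R] algebraMap R T r) = _
    rw [Algebra.algebraMap_eq_smul_one, TensorProduct.tmul_smul, TensorProduct.smul_tmul', Algebra.smul_def, mul_one]
    exact ε.commutes _
  have hsurj : Function.Surjective (PrimeSpectrum.comap (algebraMap R T)) := fun p => by
    obtain ⟨M, hM, hpM⟩ := Ideal.exists_le_maximal p.asIdeal p.2.ne_top
    have hIM : I ≤ M := (HenselianRing.jac (R := R) (I := I)).trans (sInf_le ⟨bot_le, hM⟩)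
    obtain ⟨q', hq'⟩ := PrimeSpectrum.comap_surjective_of_faithfullyFlat (A := R ⧸ I) (B := T')
      ⟨M.map (Ideal.Quotient.mk I), Ideal.map_isPrime_of_surjective Ideal.Quotient.mk_surjective
        (by rw [Ideal.mk_ker]; exact hIM)⟩
    have hMp : (⟨M, hM.isPrime⟩ : PrimeSpectrum R) = (q'.comap θ).comap (algebraMap R T) := by
      refine PrimeSpectrum.ext (Ideal.ext fun r => ?_)
      have h1 : algebraMap (R ⧸ I) T' (Ideal.Quotient.mk I r) ∈ q'.asIdeal ↔ r ∈ M := by
        show Ideal.Quotient.mk I r ∈ (PrimeSpectrum.comap (algebraMap (R ⧸ I) T') q').asIdeal ↔ _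
        rw [hq']
        show Ideal.Quotient.mk I r ∈ M.map (Ideal.Quotient.mk I) ↔ _
        rw [← Ideal.mem_comap, Ideal.comap_map_of_surjective' _ Ideal.Quotient.mk_surjective, Ideal.mk_ker,
          sup_eq_left.mpr hIM]
      show r ∈ M ↔ θ (algebraMap R T r) ∈ q'.asIdeal
      rw [hθc, h1]
    obtain ⟨P, -, hP⟩ := (Algebra.HasGoingDown.iff_generalizingMap_primeSpectrumComap (R := R) (S := T)).mp
      inferInstance (show p ⤳ (q'.comap θ).comap (algebraMap R T) from
        hMp ▸ (PrimeSpectrum.le_iff_specializes _ _).mp hpM)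
    exact ⟨P, hP⟩
  have : Module.FaithfullyFlat R T := Module.FaithfullyFlat.of_comap_surjective hsurj
  have hbij : ∀ (U : Type u) [CommRing U] [Algebra R U] [Module.Finite R U], IdemBij (mkI I U) :=
    fun U _ _ _ => IdemBij.of_finite I U
  obtain ⟨A, _, _, ⟨E⟩, hA₀⟩ := exists_lift_of_etale I T (hbij T) (hbij _) (hbij _) θ hθ hker hθc e
  exact ⟨A, inferInstance, inferInstance,
    ⟨T, inferInstance, inferInstance, inferInstance, inferInstance, inferInstance, N, inferInstance, ⟨E⟩⟩, hA₀⟩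

/-- Quasi-isotrivial groups of constant type lift along nil ideals. -/
theorem exists_quasiIsotrivialConst_lift (hI : ∀ x ∈ I, IsNilpotent x) {A₀ : Type u} [CommRing A₀]
    [HopfAlgebra (R ⧸ I) A₀] (h0 : SGA3b.IsQuasiIsotrivialConst (R ⧸ I) A₀) :
    ∃ (A : Type u) (_ : CommRing A) (_ : HopfAlgebra R A),
      SGA3b.IsQuasiIsotrivialConst R A ∧ Nonempty ((R ⧸ I) ⊗[R] A ≃ₐc[R ⧸ I] A₀) := by
  obtain ⟨T', _, _, het, hff, N, _, ⟨e⟩⟩ := h0
  have := het
  have := hff
  obtain ⟨T, _, _, hTet, θ, hθ, hker, hθc⟩ := HenselLib.exists_etale_lift R I T'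
  have := hTet
  have hsurj : Function.Surjective (PrimeSpectrum.comap (algebraMap R T)) := fun p => by
    have hIp : I ≤ p.asIdeal := fun x hx => by
      obtain ⟨n, hn⟩ := hI x hx
      exact p.2.mem_of_pow_mem n (hn ▸ zero_mem _)
    obtain ⟨q', hq'⟩ := PrimeSpectrum.comap_surjective_of_faithfullyFlat (A := R ⧸ I) (B := T')
      ⟨p.asIdeal.map (Ideal.Quotient.mk I), Ideal.map_isPrime_of_surjective Ideal.Quotient.mk_surjective
        (by rw [Ideal.mk_ker]; exact hIp)⟩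
    refine ⟨q'.comap θ, PrimeSpectrum.ext (Ideal.ext fun r => ?_)⟩
    show θ (algebraMap R T r) ∈ q'.asIdeal ↔ _
    rw [hθc]
    show Ideal.Quotient.mk I r ∈ (PrimeSpectrum.comap (algebraMap (R ⧸ I) T') q').asIdeal ↔ _
    rw [hq']
    show Ideal.Quotient.mk I r ∈ p.asIdeal.map (Ideal.Quotient.mk I) ↔ _
    rw [← Ideal.mem_comap, Ideal.comap_map_of_surjective' _ Ideal.Quotient.mk_surjective, Ideal.mk_ker,
      sup_eq_left.mpr hIp]
  have : Module.FaithfullyFlat R T := Module.FaithfullyFlat.of_comap_surjective hsurj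
  obtain ⟨A, _, _, ⟨E⟩, hA₀⟩ := exists_lift_of_etale I T (idemBij_mkI_of_nil I hI T) (idemBij_mkI_of_nil I hI _)
    (idemBij_mkI_of_nil I hI _) θ hθ hker hθc e
  exact ⟨A, inferInstance, inferInstance,
    ⟨T, inferInstance, inferInstance, inferInstance, inferInstance, N, inferInstance, ⟨E⟩⟩, hA₀⟩

end Groth.Agent.IsoTriv
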