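import Mathlib.RingTheory.Etale.Field
import Mathlib.RingTheory.TensorProduct.Maps
import Mathlib.RingTheory.LocalRing.Module
import Mathlib.LinearAlgebra.Matrix.NonsingularInverse
import Mathlib.RingTheory.Flat.Stability
import Mathlib.RingTheory.TensorProduct.Free

/-! Points of split finite algebras over local rings. -/

universe u

open TensorProduct

namespace Groth.Agent.IsoTriv

/-- A point of `ι → T` with values in a ring without nontrivial idempotents is a projection. -/
theorem exists_eq_proj {T S : Type u} [CommRing T] [CommRing S] [Algebra T S] [Nontrivial S]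
    (hS : ∀ e : S, IsIdempotentElem e → e = 0 ∨ e = 1) {ι : Type u} [Fintype ι] [DecidableEq ι]
    (h : (ι → T) →ₐ[T] S) : ∃ i, ∀ f, h f = algebraMap T S (f i) := by
  obtain ⟨i, hi⟩ : ∃ i, h (Pi.single i 1) = 1 := by
    by_contra hne
    push Not at hne
    have h0 : ∀ i, h (Pi.single i 1) = 0 := fun i => (hS _ (by
      rw [IsIdempotentElem, ← map_mul, ← Pi.single_mul, one_mul])).resolve_right (hne i)
    have h1 : h (∑ i, Pi.single i 1) = 1 := by
      rw [Finset.univ_sum_single]
      exact map_one h
    rw [map_sum, Finset.sum_eq_zero fun i _ => h0 i] at h1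
    exact zero_ne_one h1
  refine ⟨i, fun f => ?_⟩
  have : f * Pi.single i 1 = f i • (Pi.single i 1 : ι → T) := by
    funext j
    by_cases hj : j = i
    · subst hj; simp
    · simp [Pi.single_eq_of_ne hj]
  calc h f = h f * h (Pi.single i 1) := by rw [hi, mul_one]
    _ = h (f i • Pi.single i 1) := by rw [← map_mul, this]
    _ = algebraMap T S (f i) := by rw [map_smul, hi, Algebra.smul_def, mul_one]

variable {R : Type u} [CommRing R] {D : Type u} [CommRing D] [Algebra R D]
  [Module.Finite R D] [Module.Projective R D]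

/-- Over a local ring, if lifted points split the closed fibre then every connected point is one of them. -/
theorem exists_point_eq {T : Type u} [CommRing T] [IsLocalRing T] [Algebra R T] {K : Type u} [Field K]
    [Algebra R K] (π : T →ₐ[R] K) (hπ : IsLocalHom π.toRingHom) {ι : Type u} [Finite ι]
    (τ : ι → (D →ₐ[R] T))
    (hbij : Function.Bijective (Algebra.TensorProduct.lift (Algebra.ofId K (ι → K))
      (AlgHom.pi fun i => π.comp (τ i)) fun _ _ => Commute.all _ _ : K ⊗[R] D →ₐ[K] (ι → K)))
    {S : Type u} [CommRing S] [Nontrivial S] [Algebra R S] [Algebra T S] [IsScalarTower R T S]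
    (hS : ∀ e : S, IsIdempotentElem e → e = 0 ∨ e = 1) (χ : D →ₐ[R] S) :
    ∃ i, ∀ d, χ d = algebraMap T S (τ i d) := by
  classical
  have := Fintype.ofFinite ι
  let F : T ⊗[R] D →ₐ[T] (ι → T) :=
    Algebra.TensorProduct.lift (Algebra.ofId T (ι → T)) (AlgHom.pi τ) fun _ _ => Commute.all _ _
  have hF : ∀ (t : T) (d : D) (i : ι), F (t ⊗ₜ[R] d) i = t * τ i d := fun t d i => by simp [F]
  have : Module.Free T (T ⊗[R] D) := Module.free_of_flat_of_isLocalRing
  let b := Module.Free.chooseBasis T (T ⊗[R] D)
  have hcard : Fintype.card (Module.Free.ChooseBasisIndex T (T ⊗[R] D)) = Fintype.card ι := by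
    let : Algebra T K := π.toRingHom.toAlgebra
    have : IsScalarTower R T K := .of_algebraMap_eq fun r => (π.commutes r).symm
    rw [← Module.finrank_eq_card_chooseBasisIndex, ← Module.finrank_baseChange (R := K) (S := T),
      (Algebra.TensorProduct.cancelBaseChange R T K K D).toLinearEquiv.finrank_eq,
      (LinearEquiv.ofBijective _ hbij).finrank_eq, Module.finrank_fintype_fun_eq_card]
  let b' := b.reindex (Fintype.equivOfCardEq hcard)
  let M : Matrix ι ι T := Matrix.of fun i j => F (b' j) i
  have hM : IsUnit M.det := by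
    refine hπ.map_nonunit _ ?_
    have hsurj : Function.Surjective (M.map π).mulVec := by
      intro w
      obtain ⟨z, rfl⟩ := hbij.2 w
      induction z using TensorProduct.induction_on with
      | zero => exact ⟨0, by simp⟩
      | add x y hx hy =>
        obtain ⟨u, hu⟩ := hx
        obtain ⟨v, hv⟩ := hy
        exact ⟨u + v, by rw [Matrix.mulVec_add, hu, hv, map_add]⟩
      | tmul k d =>
        refine ⟨fun j => k * π (b'.repr ((1 : T) ⊗ₜ[R] d) j), funext fun i => ?_⟩
        have h1 : τ i d = ∑ j, b'.repr ((1 : T) ⊗ₜ[R] d) j * F (b' j) i := by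
          have h2 := congrArg (fun z => F z i) (b'.sum_repr ((1 : T) ⊗ₜ[R] d))
          rw [map_sum, Finset.sum_apply, hF, one_mul] at h2
          rw [← h2]
          exact Finset.sum_congr rfl fun j _ => by rw [map_smul, Pi.smul_apply, smul_eq_mul]
        simp [Matrix.mulVec, dotProduct, M, h1, map_sum, Finset.mul_sum]
        exact Finset.sum_congr rfl fun j _ => by ring
    exact (RingHom.map_det π.toRingHom M).symm ▸ (Matrix.isUnit_iff_isUnit_det _).mp
      (Matrix.mulVec_surjective_iff_isUnit.mp hsurj)
  have hFb : ∀ z, F z = M.mulVec (b'.equivFun z) := fun z => funext fun i => by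
    conv_lhs => rw [← b'.sum_repr z]
    rw [map_sum, Finset.sum_apply]
    simp [Matrix.mulVec, dotProduct, M, mul_comm]
  have hFbij : Function.Bijective F := by
    rw [funext hFb]
    exact (show Function.Bijective M.mulVec from ⟨Matrix.mulVec_injective_of_isUnit ((Matrix.isUnit_iff_isUnit_det _).mpr hM),
      Matrix.mulVec_surjective_iff_isUnit.mpr ((Matrix.isUnit_iff_isUnit_det _).mpr hM)⟩).comp b'.equivFun.bijective
  let e := AlgEquiv.ofBijective F hFbij
  let χT : T ⊗[R] D →ₐ[T] S := Algebra.TensorProduct.lift (Algebra.ofId T S) χ fun _ _ => Commute.all _ _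
  obtain ⟨i, hi⟩ := exists_eq_proj hS (χT.comp e.symm.toAlgHom)
  refine ⟨i, fun d => ?_⟩
  have h1 := hi (e ((1 : T) ⊗ₜ[R] d))
  simp only [AlgHom.comp_apply, AlgEquiv.coe_toAlgHom, AlgEquiv.symm_apply_apply] at h1
  rw [show e ((1 : T) ⊗ₜ[R] d) i = τ i d by simp [e, hF]] at h1
  simpa [χT] using h1

end Groth.Agent.IsoTriv
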