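import Groth.Agent.IsoTriv.TorsionQuot
import Groth.Agent.IsoTriv.PointsFactor
import Mathlib.RingTheory.Flat.Localization
import Mathlib.RingTheory.LocalRing.ResidueField.Basic
import Mathlib.RingTheory.Etale.Field

/-! Groups of multiplicative type over local rings. -/

universe u

open TensorProduct Coalgebra

namespace Groth.Agent.IsoTriv

open SGA3bLib

variable {R : Type u} [CommRing R] {A : Type u} [CommRing A] [HopfAlgebra R A]

theorem projective_of_baseChange {M : Type u} [AddCommGroup M] [Module R M] [Module.Finite R M]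
    (T : Type u) [CommRing T] [Algebra R T] [Module.FaithfullyFlat R T]
    [Module.Projective T (T ⊗[R] M)] : Module.Projective R M := by
  have : Module.Flat R M := Module.Flat.of_flat_tensorProduct R M T
  obtain ⟨n, f, hf⟩ := Module.Finite.exists_fin' R M
  let g : T ⊗[R] (Fin n → R) →ₗ[T] T ⊗[R] M := f.baseChange T
  have hg : Function.Surjective g := LinearMap.lTensor_surjective T hf
  obtain ⟨s, hs⟩ := Module.projective_lifting_property g LinearMap.id hg
  let ι : T ⊗[R] LinearMap.ker f →ₗ[T] T ⊗[R] (Fin n → R) := (LinearMap.ker f).subtype.baseChange T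
  have hι : Function.Injective ι := Module.Flat.lTensor_preserves_injective_linearMap _ (LinearMap.ker f).injective_subtype
  have hex : ∀ x, g x = 0 ↔ x ∈ LinearMap.range ι := fun x => by
    have := (lTensor_exact T (LinearMap.exact_subtype_ker_map f) hf) x
    exact this
  have hr : LinearMap.range ι = LinearMap.range (LinearMap.id - s.comp g) := by
    refine le_antisymm ?_ ?_
    · rintro x hx
      exact ⟨x, by simp [(hex x).mpr hx]⟩
    · rintro _ ⟨x, rfl⟩
      refine (hex _).mp ?_
      have h1 : g (s (g x)) = g x := LinearMap.congr_fun hs (g x)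
      simp [h1]
  have hfr : Module.Finite T (LinearMap.range ι) := by rw [hr]; infer_instance
  have : Module.Finite T (T ⊗[R] LinearMap.ker f) := Module.Finite.equiv (LinearEquiv.ofInjective ι hι).symm
  have : Module.Finite R (LinearMap.ker f) := Module.Finite.of_finite_tensorProduct_of_faithfullyFlat T
  have : Module.FinitePresentation R M :=
    Module.finitePresentation_of_surjective f hf (Module.Finite.iff_fg.mp this)
  exact Module.Flat.projective_of_finitePresentation

/-- A trivialisation by a group of finite type. -/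
theorem exists_triv [Nontrivial R] (hft : Algebra.FiniteType R A) (h : SGA3b.IsMultTypeConst R A) :
    ∃ (T : Type u) (_ : CommRing T) (_ : Algebra R T) (N : Type u) (_ : CommGroup N),
      Module.FaithfullyFlat R T ∧ Group.FG N ∧ Nonempty (T ⊗[R] A ≃ₐc[T] MonoidAlgebra T N) := by
  obtain ⟨T, _, _, hff, N, _, ⟨e⟩⟩ := h
  have := hff
  have : Nontrivial T := (FaithfulSMul.algebraMap_injective R T).nontrivial
  have : Algebra.FiniteType T (MonoidAlgebra T N) :=
    (inferInstance : Algebra.FiniteType T (T ⊗[R] A)).equiv e.toAlgEquiv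
  exact ⟨T, inferInstance, inferInstance, N, inferInstance, hff,
    Group.fg_iff_monoid_fg.mpr (MonoidAlgebra.finiteType_iff_fg.mp this), ⟨e⟩⟩

section Dual

variable {T : Type u} [CommRing T] [Algebra R T] [Module.FaithfullyFlat R T] {N : Type u} [CommGroup N]

theorem finite_torsion (e : T ⊗[R] A ≃ₐc[T] MonoidAlgebra T N) (hfg : Group.FG N) (n : ℕ) (hn : 0 < n)
    [(SGA3b.torsionIdeal R A n).IsHopfIdeal R] : Module.Finite R (A ⧸ SGA3b.torsionIdeal R A n) := by
  obtain ⟨e'⟩ := quotEquiv e n
  have := finite_quot hfg hn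
  have : Module.Finite T (MonoidAlgebra T (N ⧸ (powMonoidHom n : N →* N).range)) :=
    Module.Finite.equiv (MonoidAlgebra.coeffLinearEquiv T).symm
  have : Module.Finite T (T ⊗[R] (A ⧸ SGA3b.torsionIdeal R A n)) := Module.Finite.equiv e'.toAlgEquiv.toLinearEquiv.symm
  exact Module.Finite.of_finite_tensorProduct_of_faithfullyFlat T

theorem projective_torsion (e : T ⊗[R] A ≃ₐc[T] MonoidAlgebra T N) (n : ℕ)
    [(SGA3b.torsionIdeal R A n).IsHopfIdeal R] [Module.Finite R (A ⧸ SGA3b.torsionIdeal R A n)] :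
    Module.Projective R (A ⧸ SGA3b.torsionIdeal R A n) := by
  obtain ⟨e'⟩ := quotEquiv e n
  have : Module.Free T (MonoidAlgebra T (N ⧸ (powMonoidHom n : N →* N).range)) :=
    Module.Free.of_equiv (MonoidAlgebra.coeffLinearEquiv T).symm
  have : Module.Projective T (T ⊗[R] (A ⧸ SGA3b.torsionIdeal R A n)) :=
    Module.Projective.of_equiv e'.toAlgEquiv.toLinearEquiv.symm
  exact projective_of_baseChange T

theorem etale_dual (e : T ⊗[R] A ≃ₐc[T] MonoidAlgebra T N) (hfg : Group.FG N) (n : ℕ) (hn : 0 < n)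
    [(SGA3b.torsionIdeal R A n).IsHopfIdeal R] [Coalgebra.IsCocomm R (A ⧸ SGA3b.torsionIdeal R A n)]
    [Module.Finite R (A ⧸ SGA3b.torsionIdeal R A n)] [Module.Projective R (A ⧸ SGA3b.torsionIdeal R A n)] :
    Algebra.Etale R (CartDual.D R (A ⧸ SGA3b.torsionIdeal R A n)) := by
  obtain ⟨e'⟩ := quotEquiv e n
  have := finite_quot hfg hn
  have : Algebra.Etale T (T ⊗[R] CartDual.D R (A ⧸ SGA3b.torsionIdeal R A n)) :=
    Algebra.Etale.of_equiv (AlgEquiv.ofBijective _ (dualToFun_bijective e')).symm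
  exact Algebra.Etale.of_etale_tensorProduct_of_faithfullyFlat T

end Dual

theorem push_cancel {T S : Type u} [CommRing T] [CommRing S] [Algebra R T] [Algebra R S] [Algebra T S]
    [IsScalarTower R T S] (a : T ⊗[R] A) :
    cancelBC T S A ((1 : S) ⊗ₜ[T] a) = push A (IsScalarTower.toAlgHom R T S) a :=
  (push_eq_cancel a).symm

/-- The main criterion: if every point of the duals of the torsion subgroups over a connected `T`-algebra
comes from `T`, then the group is diagonalisable over the local ring `T`. -/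
theorem exists_iso_of_points [Nontrivial R] (hft : Algebra.FiniteType R A) (h : SGA3b.IsMultTypeConst R A)
    (T : Type u) [CommRing T] [IsLocalRing T] [Algebra R T]
    (hP : ∀ n : ℕ, 0 < n → ∀ [(SGA3b.torsionIdeal R A n).IsHopfIdeal R]
      [Coalgebra.IsCocomm R (A ⧸ SGA3b.torsionIdeal R A n)]
      [Module.Finite R (A ⧸ SGA3b.torsionIdeal R A n)] [Module.Projective R (A ⧸ SGA3b.torsionIdeal R A n)]
      [Algebra.Etale R (CartDual.D R (A ⧸ SGA3b.torsionIdeal R A n))]
      (S : Type u) [CommRing S] [Nontrivial S] [Algebra R S] [Algebra T S] [IsScalarTower R T S],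
      (∀ e : S, IsIdempotentElem e → e = 0 ∨ e = 1) →
      ∀ χ : CartDual.D R (A ⧸ SGA3b.torsionIdeal R A n) →ₐ[R] S,
        ∃ τ : CartDual.D R (A ⧸ SGA3b.torsionIdeal R A n) →ₐ[R] T, ∀ d, χ d = algebraMap T S (τ d)) :
    ∃ (N : Type u) (_ : CommGroup N), Group.FG N ∧ Nonempty (T ⊗[R] A ≃ₐc[T] MonoidAlgebra T N) := by
  obtain ⟨R', _, _, N, _, hff, hfg, ⟨e⟩⟩ := exists_triv hft h
  have := hff
  refine ⟨N, inferInstance, hfg, ?_⟩
  have : Nontrivial (T ⊗[R] R') := (FaithfulSMul.algebraMap_injective T (T ⊗[R] R')).nontrivial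
  obtain ⟨P, hP', hPc⟩ := Ideal.exists_isPrime_liesOver_of_faithfullyFlat (A := T) (B := T ⊗[R] R')
    (IsLocalRing.maximalIdeal T)
  let S := Localization.AtPrime P
  let : Algebra R' (T ⊗[R] R') := Algebra.TensorProduct.rightAlgebra
  have : IsScalarTower R R' (T ⊗[R] R') := .of_algebraMap_eq fun r => by
    show algebraMap R (T ⊗[R] R') r = (1 : T) ⊗ₜ[R] algebraMap R R' r
    rw [Algebra.TensorProduct.algebraMap_apply, Algebra.algebraMap_eq_smul_one, Algebra.algebraMap_eq_smul_one,
      TensorProduct.smul_tmul]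
  have : IsScalarTower R R' S := inferInstance
  have : Module.Flat T S := Module.Flat.trans T (T ⊗[R] R') S
  have : IsLocalHom (algebraMap T S) := by
    refine ⟨fun t ht => ?_⟩
    by_contra hnu
    have h1 : algebraMap T (T ⊗[R] R') t ∈ P := by
      have := (IsLocalRing.mem_maximalIdeal t).mpr hnu
      rw [hPc.over] at this
      exact this
    have h2 : algebraMap T S t ∈ IsLocalRing.maximalIdeal S := by
      rw [IsScalarTower.algebraMap_apply T (T ⊗[R] R') S]
      exact (IsLocalization.AtPrime.to_map_mem_maximal_iff S P _ inferInstance).mpr h1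
    exact h2 ht
  have : Module.FaithfullyFlat T S := Module.FaithfullyFlat.of_flat_of_isLocalHom
  have hS : ∀ x : S, IsIdempotentElem x → x = 0 ∨ x = 1 := fun x hx => by
    rcases IsLocalRing.isUnit_or_isUnit_one_sub_self x with h1 | h1
    · exact Or.inr ((IsIdempotentElem.iff_eq_one_of_isUnit h1).mp hx)
    · have := (IsIdempotentElem.iff_eq_one_of_isUnit h1).mp hx.one_sub
      exact Or.inl (by simpa using this)
  let eS : S ⊗[R] A ≃ₐc[S] MonoidAlgebra S N := bcTriv e
  let c : S ⊗[T] (T ⊗[R] A) ≃ₐc[S] S ⊗[R] A := cancelBC T S A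
  refine nonempty_equiv_of_torsion (R := T) (A := T ⊗[R] A) (T := S) (c.trans eS) hfg fun m n hn => ?_
  set x : S ⊗[R] A := eS.symm (MonoidAlgebra.single m 1)
  have hx : IsGroupLikeElem S x :=
    (MonoidAlgebra.isGroupLikeElem_single_one (R := S) (A := S) m).map (eS.symm : MonoidAlgebra S N →ₐc[S] S ⊗[R] A)
  have hcoc : Coalgebra.IsCocomm R A := isCocomm_of_diag ⟨N, inferInstance, ⟨e⟩⟩
  have := isHopfIdeal_torsion (R := R) (A := A) n
  have := isCocomm_quotient (R := R) (SGA3b.torsionIdeal R A n)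
  have := finite_torsion e hfg n hn
  have := projective_torsion e n
  have := etale_dual e hfg n hn
  set π : A →ₐc[R] A ⧸ SGA3b.torsionIdeal R A n := Bialgebra.Quotient.mkBialgHom (R := R) (SGA3b.torsionIdeal R A n)
  have hy : IsGroupLikeElem S (bcHom S π x) := hx.map (bcHom S π)
  obtain ⟨τ, hτ⟩ := hP n hn S hS (toPoint (bcHom S π x) hy)
  obtain ⟨k, b, φ, hb⟩ := exists_dualBasis R (A ⧸ SGA3b.torsionIdeal R A n)
  obtain ⟨a, ha⟩ := bcHom_surjective T π Ideal.Quotient.mk_surjective (∑ j, τ (φ j) ⊗ₜ[R] b j)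
  refine ⟨a, ?_⟩
  have h1 : bcHom S π (push A (IsScalarTower.toAlgHom R T S) a) = bcHom S π x := by
    rw [← point_sub hb T (IsScalarTower.toAlgHom R T S) (bcHom S π x) hy τ (AlgHom.ext fun d => (hτ d).symm), ← ha]
    clear ha
    induction a using TensorProduct.induction_on with
    | zero => simp
    | tmul t y => rfl
    | add p q hp hq => simp [hp, hq]
  have h2 : x - push A (IsScalarTower.toAlgHom R T S) a ∈
      RingHom.ker (bcHom S π : S ⊗[R] A →ₐ[S] S ⊗[R] (A ⧸ SGA3b.torsionIdeal R A n)) := by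
    rw [RingHom.mem_ker, map_sub, sub_eq_zero]
    exact h1.symm
  rw [ker_bcHom_eq_torsion S π Ideal.Quotient.mk_surjective n (Ideal.ext fun z => Ideal.Quotient.eq_zero_iff_mem)] at h2
  rw [← torsionIdeal_baseChange, torsionIdeal_eq_comap (R := S) (A := S ⊗[T] (T ⊗[R] A)) (C := S ⊗[R] A) c, Ideal.mem_comap]
  refine (congrArg (· ∈ SGA3b.torsionIdeal S (S ⊗[R] A) n) ?_).mpr h2
  show c ((c.trans eS).symm (MonoidAlgebra.single m 1) - (1 : S) ⊗ₜ[T] a) = _
  rw [map_sub, push_cancel]
  congr 1
  exact c.apply_symm_apply _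

end Groth.Agent.IsoTriv
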