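import Groth.Agent.IsoTriv.StrictHensel
import Groth.Agent.IsoTriv.GeomConnBC
import Groth.Agent.SGA3bLib.Torsion

/-! Groups over local rings which are flat along a closed fibre of multiplicative type. -/

universe u

open TensorProduct

namespace Groth.Agent.IsoTriv

open SGA3bLib HenselLib IsLocalRing EGA43.FlatDescent

/-- Constant multiplicative type is multiplicative type. -/
theorem isMultType_of_const {R : Type u} [CommRing R] {C : Type u} [CommRing C] [HopfAlgebra R C]
    (h : SGA3b.IsMultTypeConst R C) : SGA3b.IsMultType R C :=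
  ⟨{1}, Ideal.span_singleton_one, fun _ _ => isMultTypeConst_bc h _⟩

section Flat

attribute [local instance] bcModule

set_option backward.isDefEq.respectTransparency false in
/-- Flatness at primes is stable under base change. -/
theorem flat_atPrime_bc {R : Type u} [CommRing R] {C : Type u} [CommRing C] [Algebra R C] (H : Type u) [CommRing H]
    [Algebra R H] (q : Ideal (H ⊗[R] C)) [q.IsPrime]
    (hfl : Module.Flat R (Localization.AtPrime (q.comap (Algebra.TensorProduct.includeRight : C →ₐ[R] H ⊗[R] C)))) :
    Module.Flat H (Localization.AtPrime q) := by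
  let q₀ := q.comap (Algebra.TensorProduct.includeRight : C →ₐ[R] H ⊗[R] C)
  let f := Algebra.TensorProduct.map (Algebra.ofId R H) (AlgHom.id R C)
  let φ := (Algebra.TensorProduct.lid R C : R ⊗[R] C ≃ₐ[R] C)
  have heq : q.comap f = q₀.comap φ.toAlgHom.toRingHom := Ideal.ext fun x => by
    have : f x = (1 : H) ⊗ₜ[R] φ x := by
      induction x using TensorProduct.induction_on with
      | zero => simp
      | tmul r c => simp [f, φ, Algebra.algebraMap_eq_smul_one, TensorProduct.smul_tmul, TensorProduct.tmul_smul]
      | add x y hx hy => simp [hx, hy, TensorProduct.tmul_add]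
    show f x ∈ q ↔ (1 : H) ⊗ₜ[R] φ x ∈ q
    rw [this]
  have hp : (q.comap f).IsPrime := Ideal.IsPrime.comap _
  have hp0 : (q₀.comap φ.toAlgHom.toRingHom).IsPrime := Ideal.IsPrime.comap _
  have h0 := (flatAt_iff φ q₀).mpr hfl
  have tr : ∀ (I J : Ideal (R ⊗[R] C)) [I.IsPrime] [J.IsPrime], I = J →
      FlatAt R C C R I → FlatAt R C C R J := by
    intro I J _ _ hIJ hI
    subst hIJ
    exact hI
  have h1 : FlatAt R C C H q := FlatAt.of_hom (Algebra.ofId R H) (tr _ _ heq.symm h0)
  have hp1 : (q.comap (AlgEquiv.refl : H ⊗[R] C ≃ₐ[H] H ⊗[R] C).toAlgHom.toRingHom).IsPrime := Ideal.IsPrime.comap _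
  exact (flatAt_iff (AlgEquiv.refl : H ⊗[R] C ≃ₐ[H] H ⊗[R] C) q).mp h1

end Flat

variable {R : Type u} [CommRing R] [IsLocalRing R] {C : Type u} [CommRing C] [HopfAlgebra R C]

theorem flat_closedFibre_bc
    (hfl : ∀ (q : Ideal C) [q.IsPrime], Ideal.map (algebraMap R C) (maximalIdeal R) ≤ q →
      Module.Flat R (Localization.AtPrime q))
    (H : Type u) [CommRing H] [IsLocalRing H] [Algebra R H] [IsLocalHom (algebraMap R H)]
    (q : Ideal (H ⊗[R] C)) [q.IsPrime] (hq : (maximalIdeal H).map (algebraMap H (H ⊗[R] C)) ≤ q) :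
    Module.Flat H (Localization.AtPrime q) := by
  refine flat_atPrime_bc H q (hfl _ (Ideal.map_le_iff_le_comap.mpr fun a ha => ?_))
  rw [Ideal.mem_comap, Ideal.mem_comap, AlgHom.commutes, IsScalarTower.algebraMap_apply R H (H ⊗[R] C)]
  exact hq (Ideal.mem_map_of_mem _ (map_nonunit (algebraMap R H) a ha))

theorem isMultType_closedFibre_bc (hs : SGA3b.IsMultType (ResidueField R) (ResidueField R ⊗[R] C))
    (H : Type u) [CommRing H] [IsLocalRing H] [Algebra R H] [IsLocalHom (algebraMap R H)] :
    SGA3b.IsMultType (ResidueField H) (ResidueField H ⊗[H] (H ⊗[R] C)) := by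
  let k := ResidueField R
  let k' := ResidueField H
  let e : k' ⊗[H] (H ⊗[R] C) ≃ₐc[k'] k' ⊗[k] (k ⊗[R] C) :=
    (cancelBC (R := R) H k' C).trans (cancelBC (R := R) k k' C).symm
  obtain ⟨R', _, _, hff, N, _, ⟨e'⟩⟩ := isMultTypeConst_bc (isMultTypeConst_of_isLocalRing hs) k'
  exact isMultType_of_const ⟨R', inferInstance, inferInstance, hff, N, inferInstance, ⟨(bcEquiv R' e).trans e'⟩⟩

/-- Over a local ring, flatness along a multiplicative closed fibre and connected fibres give multiplicative type. -/
theorem isMultType_local_of_connected (hfp : Algebra.FinitePresentation R C)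
    (hfl : ∀ (q : Ideal C) [q.IsPrime], Ideal.map (algebraMap R C) (maximalIdeal R) ≤ q →
      Module.Flat R (Localization.AtPrime q))
    (hs : SGA3b.IsMultType (ResidueField R) (ResidueField R ⊗[R] C))
    (hconn : ∀ (p : Ideal R) [p.IsPrime], ConnectedSpace (PrimeSpectrum (p.ResidueField ⊗[R] C))) :
    SGA3b.IsMultType R C := by
  let H := LocalSH R
  have : IsSepClosed (ResidueField H) :=
    have := isSepClosure_residueField_localSH (R := R)
    IsSepClosure.sep_closed (ResidueField R)
  obtain ⟨N, _, -, ⟨e⟩⟩ := exists_iso_of_connected (R := H) (C := H ⊗[R] C) (Algebra.FinitePresentation.baseChange H)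
    (fun q _ hq => flat_closedFibre_bc hfl H q hq) (isMultType_closedFibre_bc hs H)
    (fun q _ => connectedSpace_fibre_bc hconn H q)
  exact isMultType_of_const ⟨H, inferInstance, inferInstance, inferInstance, N, inferInstance, ⟨e⟩⟩

/-- Over a local ring, flatness along a multiplicative closed fibre and finite torsion give multiplicative type. -/
theorem isMultType_local_of_torsion [Coalgebra.IsCocomm R C] (hfp : Algebra.FinitePresentation R C)
    (hfl : ∀ (q : Ideal C) [q.IsPrime], Ideal.map (algebraMap R C) (maximalIdeal R) ≤ q →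
      Module.Flat R (Localization.AtPrime q))
    (hs : SGA3b.IsMultType (ResidueField R) (ResidueField R ⊗[R] C))
    (hfin : ∀ n : ℕ, 0 < n → Module.Finite R (C ⧸ SGA3b.torsionIdeal R C n)) :
    SGA3b.IsMultType R C := by
  let H := LocalSH R
  have : IsSepClosed (ResidueField H) :=
    have := isSepClosure_residueField_localSH (R := R)
    IsSepClosure.sep_closed (ResidueField R)
  obtain ⟨N, _, -, ⟨e⟩⟩ := exists_iso_of_torsion (R := H) (C := H ⊗[R] C) (Algebra.FinitePresentation.baseChange H)
    (fun q _ hq => flat_closedFibre_bc hfl H q hq) (isMultType_closedFibre_bc hs H)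
    (fun n hn => by
      have := hfin n hn
      rw [torsionIdeal_baseChange]
      exact Module.Finite.equiv
        (Algebra.TensorProduct.tensorQuotientEquiv (R := R) H C H (SGA3b.torsionIdeal R C n)).toLinearEquiv)
  exact isMultType_of_const ⟨H, inferInstance, inferInstance, inferInstance, N, inferInstance, ⟨e⟩⟩

end Groth.Agent.IsoTriv
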