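import Groth.Agent.IsoTriv.Nilpotent
import Groth.Agent.IsoTriv.QuasiIso
import Groth.Agent.HenselLib.EtaleLift
import Groth.Agent.HenselLib.FiniteEtaleLift
import Groth.Agent.HenselLib.Perm

/-! Isotriviality and nil ideals. -/

universe u

open TensorProduct

namespace Groth.Agent.IsoTriv

open SGA3bLib

variable {R : Type u} [CommRing R] {A : Type u} [CommRing A] [HopfAlgebra R A]

/-- Diagonalisability over a quotient of a cover lifts to the cover. -/
theorem isDiag_of_map (h : HasCover R A) (I : Ideal R) (hI : ∀ x ∈ I, IsNilpotent x) (B : Type u) [CommRing B]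
    [Algebra R B] (C : Type u) [CommRing C] [Algebra (R ⧸ I) C]
    (hC : SGA3b.IsDiag C (C ⊗[R ⧸ I] ((R ⧸ I) ⊗[R] A))) (f : C →+* B ⧸ I.map (algebraMap R B))
    (hf : ∀ r : R, f (algebraMap (R ⧸ I) C (Ideal.Quotient.mk I r)) = Ideal.Quotient.mk _ (algebraMap R B r)) :
    SGA3b.IsDiag B (B ⊗[R] A) := by
  refine isDiag_of_quotient (h.baseChange B) (I.map (algebraMap R B)) (fun x hx => mem_nilradical.mp
    ((Ideal.map_le_iff_le_comap.mpr fun r hr => (hI r hr).map (algebraMap R B) :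
      I.map (algebraMap R B) ≤ nilradical B) hx)) ?_
  obtain ⟨N, _, ⟨e⟩⟩ := hC
  let : Algebra R C := ((algebraMap (R ⧸ I) C).comp (Ideal.Quotient.mk I)).toAlgebra
  have : IsScalarTower R (R ⧸ I) C := .of_algebraMap_eq fun _ => rfl
  let : Algebra C (B ⧸ I.map (algebraMap R B)) := f.toAlgebra
  have : IsScalarTower R C (B ⧸ I.map (algebraMap R B)) := .of_algebraMap_eq fun r => (hf r).symm
  let e₁ : C ⊗[R] A ≃ₐc[C] MonoidAlgebra C N := (cancelBC (R := R) (R ⧸ I) C A).symm.trans e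
  exact ⟨N, inferInstance, ⟨(cancelBC (R := R) B (B ⧸ I.map (algebraMap R B)) A).trans (bcTriv e₁)⟩⟩

theorem exists_point (I : Ideal R) (hI : ∀ x ∈ I, IsNilpotent x) (p : Ideal R) [p.IsPrime] :
    ∃ p₀ : Ideal (R ⧸ I), p₀.IsPrime ∧ p₀.comap (Ideal.Quotient.mk I) = p := by
  have hle : I ≤ p := fun x hx => by
    obtain ⟨n, hn⟩ := hI x hx
    exact (inferInstance : p.IsPrime).mem_of_pow_mem n (hn ▸ p.zero_mem)
  refine ⟨p.map (Ideal.Quotient.mk I), Ideal.map_isPrime_of_surjective Ideal.Quotient.mk_surjective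
    (by rwa [Ideal.mk_ker]), ?_⟩
  rw [Ideal.comap_map_of_surjective _ Ideal.Quotient.mk_surjective, ← RingHom.ker_eq_comap_bot, Ideal.mk_ker]
  exact sup_eq_left.mpr hle

theorem isIsotrivial_of_quotient (h : HasCover R A) (I : Ideal R) (hI : ∀ x ∈ I, IsNilpotent x)
    (h0 : SGA3b.IsIsotrivial (R ⧸ I) ((R ⧸ I) ⊗[R] A)) : SGA3b.IsIsotrivial R A := by
  obtain ⟨C, _, _, het, hfin, hff, hC⟩ := h0
  have := het
  have := hfin
  have := hff
  have := HenselLib.henselianRing_of_nilpotent I hI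
  obtain ⟨B, _, _, hBfin, hBet, ⟨E⟩⟩ := HenselLib.exists_finiteEtale_lift R I C
  have := hBet
  let J := I.map (algebraMap R B)
  let q : R ⧸ I →ₐ[R] B ⧸ J := Ideal.Quotient.liftₐ I (Algebra.ofId R (B ⧸ J)) fun r hr => by
    rw [Algebra.ofId_apply, IsScalarTower.algebraMap_apply R B (B ⧸ J)]
    exact Ideal.Quotient.eq_zero_iff_mem.mpr (Ideal.mem_map_of_mem _ hr)
  let Φ : (R ⧸ I) ⊗[R] B →ₐ[R] B ⧸ J :=
    Algebra.TensorProduct.productMap q (IsScalarTower.toAlgHom R B (B ⧸ J))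
  have hd : SGA3b.IsDiag B (B ⊗[R] A) := isDiag_of_map h I hI B C hC (Φ.toRingHom.comp E.symm.toAlgHom.toRingHom)
    fun r => by
      show Φ (E.symm (algebraMap (R ⧸ I) C (Ideal.Quotient.mk I r))) = _
      rw [E.symm.commutes,
        show algebraMap (R ⧸ I) ((R ⧸ I) ⊗[R] B) (Ideal.Quotient.mk I r) = algebraMap R _ r from rfl, Φ.commutes]
      rfl
  have hB : Module.FaithfullyFlat R B := Module.FaithfullyFlat.of_comap_surjective fun p => by
    obtain ⟨p₀, hp₀, hc⟩ := exists_point I hI p.asIdeal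
    obtain ⟨q, hq⟩ := PrimeSpectrum.comap_surjective_of_faithfullyFlat (B := C) ⟨p₀, hp₀⟩
    refine ⟨PrimeSpectrum.comap (E.toAlgHom.toRingHom.comp
      (Algebra.TensorProduct.includeRight : B →ₐ[R] (R ⧸ I) ⊗[R] B).toRingHom) q, PrimeSpectrum.ext ?_⟩
    show (q.asIdeal.comap _).comap _ = p.asIdeal
    have h1 : q.asIdeal.comap (algebraMap (R ⧸ I) C) = p₀ := congrArg PrimeSpectrum.asIdeal hq
    rw [← hc, ← h1, Ideal.comap_comap, Ideal.comap_comap]
    congr 1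
    refine RingHom.ext fun r => ?_
    show E ((1 : R ⧸ I) ⊗ₜ[R] algebraMap R B r) = algebraMap (R ⧸ I) C (Ideal.Quotient.mk I r)
    rw [← E.commutes]
    congr 1
    exact ((Algebra.TensorProduct.includeRight : B →ₐ[R] (R ⧸ I) ⊗[R] B).commutes r)
  exact ⟨B, inferInstance, inferInstance, hBet, hBfin, hB, hd⟩

theorem isQuasiIsotrivial_of_lift (I : Ideal R) (hI : ∀ x ∈ I, IsNilpotent x)
    (hlift : ∀ (B : Type u) [CommRing B] [Algebra R B] [Algebra.Etale R B] (C : Type u) [CommRing C]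
      [Algebra (R ⧸ I) C], SGA3b.IsDiag C (C ⊗[R ⧸ I] ((R ⧸ I) ⊗[R] A)) →
      ∀ f : C →+* B ⧸ I.map (algebraMap R B),
        (∀ r : R, f (algebraMap (R ⧸ I) C (Ideal.Quotient.mk I r)) = Ideal.Quotient.mk _ (algebraMap R B r)) →
        SGA3b.IsDiag B (B ⊗[R] A))
    (h0 : SGA3b.IsQuasiIsotrivial (R ⧸ I) ((R ⧸ I) ⊗[R] A)) : SGA3b.IsQuasiIsotrivial R A := by
  obtain ⟨s, hs, hloc⟩ := h0
  refine isQuasiIsotrivial_of_nhd fun p _ => ?_
  obtain ⟨p₀, hp₀, hc⟩ := exists_point I hI p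
  obtain ⟨f, hf, hfp⟩ : ∃ f ∈ s, f ∉ p₀ := by
    by_contra! hne
    exact hp₀.ne_top (top_le_iff.mp (hs ▸ Ideal.span_le.mpr hne))
  obtain ⟨C, _, _, het, hff, N, _, ⟨e⟩⟩ := hloc f hf
  have := het
  have := hff
  let L := Localization.Away f
  let : Algebra (R ⧸ I) C := ((algebraMap L C).comp (algebraMap (R ⧸ I) L)).toAlgebra
  have : IsScalarTower (R ⧸ I) L C := .of_algebraMap_eq fun _ => rfl
  have : Algebra.Etale (R ⧸ I) C := Algebra.Etale.comp (R ⧸ I) L C
  obtain ⟨B, _, _, hBet, θ, hθ, hker, hcomm⟩ := HenselLib.exists_etale_lift R I C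
  have hd : SGA3b.IsDiag B (B ⊗[R] A) := hlift B C
    ⟨N, inferInstance, ⟨(cancelBC (R := R ⧸ I) L C ((R ⧸ I) ⊗[R] A)).symm.trans e⟩⟩
    ((Ideal.quotEquivOfEq hker).toRingHom.comp (RingHom.quotientKerEquivOfSurjective hθ).symm.toRingHom)
    fun r => by
      show Ideal.quotEquivOfEq hker ((RingHom.quotientKerEquivOfSurjective hθ).symm _) = _
      rw [← hcomm, show (RingHom.quotientKerEquivOfSurjective hθ).symm (θ (algebraMap R B r)) =
        Ideal.Quotient.mk _ (algebraMap R B r) from by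
          apply (RingHom.quotientKerEquivOfSurjective hθ).injective
          rw [RingEquiv.apply_symm_apply]
          exact (RingHom.quotientKerEquivOfSurjective_apply_mk (f := θ) _ _).symm]
      rfl
  have hp' : (⟨p₀, hp₀⟩ : PrimeSpectrum (R ⧸ I)) ∈ Set.range (PrimeSpectrum.comap (algebraMap (R ⧸ I) L)) := by
    rw [PrimeSpectrum.localization_away_comap_range L f]
    exact hfp
  obtain ⟨p₁, hp₁⟩ := hp'
  obtain ⟨q, hq⟩ := PrimeSpectrum.comap_surjective_of_faithfullyFlat (B := C) p₁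
  refine ⟨B, inferInstance, inferInstance, hBet, ⟨q.asIdeal.comap θ, Ideal.IsPrime.comap θ, ?_⟩, hd⟩
  have h1 : (q.asIdeal.comap (algebraMap L C)).comap (algebraMap (R ⧸ I) L) = p₀ := by
    rw [show q.asIdeal.comap (algebraMap L C) = p₁.asIdeal from congrArg PrimeSpectrum.asIdeal hq]
    exact congrArg PrimeSpectrum.asIdeal hp₁
  rw [← hc, ← h1, Ideal.comap_comap, Ideal.comap_comap, Ideal.comap_comap]
  congr 1
  exact RingHom.ext hcomm

theorem isQuasiIsotrivial_of_quotient (h : HasCover R A) (I : Ideal R) (hI : ∀ x ∈ I, IsNilpotent x)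
    (h0 : SGA3b.IsQuasiIsotrivial (R ⧸ I) ((R ⧸ I) ⊗[R] A)) : SGA3b.IsQuasiIsotrivial R A :=
  isQuasiIsotrivial_of_lift I hI (fun B _ _ _ C _ _ hC f hf => isDiag_of_map h I hI B C hC f hf) h0

end Groth.Agent.IsoTriv
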