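import Groth.Agent.IsoTriv.LiftMultType
import Groth.Agent.IsoTriv.TypeLocus
import Groth.Agent.IsoTriv.StrictHensel

/-! Gluing Hopf algebras along a decomposition of the base by idempotents. -/

universe u

open TensorProduct

namespace Groth.Agent.IsoTriv

open SGA3bLib

section Away

variable {R : Type u} [CommRing R] {g : R}

theorem algebraMap_away_eq_one (hg : IsIdempotentElem g) : algebraMap R (Localization.Away g) g = 1 :=
  (IsIdempotentElem.iff_eq_one_of_isUnit (IsLocalization.Away.algebraMap_isUnit g)).mp (hg.map _)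

theorem algebraMap_away_surjective (hg : IsIdempotentElem g) :
    Function.Surjective (algebraMap R (Localization.Away g)) := fun x => by
  obtain ⟨⟨r, ⟨_, n, rfl⟩⟩, rfl⟩ := IsLocalization.mk'_surjective (Submonoid.powers g) x
  exact ⟨r, (IsLocalization.eq_mk'_iff_mul_eq).mpr (by rw [map_pow, algebraMap_away_eq_one hg, one_pow, mul_one])⟩

theorem algebraMap_away_eq_zero {h : R} (hgh : g * h = 0) : algebraMap R (Localization.Away g) h = 0 :=
  (IsLocalization.Away.algebraMap_isUnit (S := Localization.Away g) g).mul_right_eq_zero.mp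
    (by rw [← map_mul, hgh, map_zero])

theorem exists_one_tmul_away (hg : IsIdempotentElem g) {X : Type u} [AddCommGroup X] [Module R X]
    (x : Localization.Away g ⊗[R] X) : ∃ y, x = 1 ⊗ₜ[R] y := by
  induction x using TensorProduct.induction_on with
  | zero => exact ⟨0, (TensorProduct.tmul_zero _ _).symm⟩
  | add a b ha hb =>
    obtain ⟨ya, rfl⟩ := ha
    obtain ⟨yb, rfl⟩ := hb
    exact ⟨ya + yb, (TensorProduct.tmul_add _ _ _).symm⟩
  | tmul r y =>
    obtain ⟨r, rfl⟩ := algebraMap_away_surjective hg r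
    exact ⟨r • y, by rw [Algebra.algebraMap_eq_smul_one, TensorProduct.smul_tmul]⟩

end Away

variable {R : Type u} [CommRing R] {κ : Type u} [Fintype κ] {g : κ → R}

theorem exists_of_pieces (hg : CompleteOrthogonalIdempotents g) {X : Type u} [AddCommGroup X] [Module R X]
    (x : ∀ i, Localization.Away (g i) ⊗[R] X) : ∃ y, ∀ i, (1 : Localization.Away (g i)) ⊗ₜ[R] y = x i := by
  classical
  choose y hy using fun i => exists_one_tmul_away (hg.idem i) (x i)
  refine ⟨∑ j, g j • y j, fun i => ?_⟩
  rw [TensorProduct.tmul_sum, Finset.sum_eq_single i]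
  · rw [TensorProduct.tmul_smul, ← IsScalarTower.algebraMap_smul (Localization.Away (g i)) (g i),
      algebraMap_away_eq_one (hg.idem i), one_smul, hy]
  · intro j _ hji
    rw [TensorProduct.tmul_smul, ← IsScalarTower.algebraMap_smul (Localization.Away (g i)) (g j),
      algebraMap_away_eq_zero (hg.ortho (Ne.symm hji)), zero_smul]
  · simp

theorem eq_zero_of_pieces (hg : CompleteOrthogonalIdempotents g) {X : Type u} [AddCommGroup X] [Module R X] {x : X}
    (h : ∀ i, (1 : Localization.Away (g i)) ⊗ₜ[R] x = 0) : x = 0 := by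
  have hz : ∀ i, g i • x = 0 := fun i => by
    have hloc : IsLocalizedModule (Submonoid.powers (g i)) (TensorProduct.mk R (Localization.Away (g i)) X 1) :=
      (isLocalizedModule_iff_isBaseChange (Submonoid.powers (g i)) (Localization.Away (g i)) _).mpr
        (TensorProduct.isBaseChange R X _)
    obtain ⟨⟨_, n, rfl⟩, hn⟩ :=
      (IsLocalizedModule.eq_zero_iff (Submonoid.powers (g i)) (TensorProduct.mk R (Localization.Away (g i)) X 1)).mp (h i)
    rcases n with _ | n
    · simp only [pow_zero] at hn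
      rw [show x = 0 by simpa [Submonoid.smul_def] using hn, smul_zero]
    · have : g i ^ (n + 1) • x = 0 := hn
      rwa [(hg.idem i).pow_succ_eq n] at this
  have := congrArg (· • x) hg.complete
  simp only [Finset.sum_smul, hz, Finset.sum_const_zero, one_smul] at this
  exact this.symm

theorem comap_pieces_surjective (hg : CompleteOrthogonalIdempotents g) (p : PrimeSpectrum R) :
    ∃ i, ∃ q : PrimeSpectrum (Localization.Away (g i)), q.comap (algebraMap R (Localization.Away (g i))) = p := by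
  obtain ⟨i, hi⟩ : ∃ i, g i ∉ p.asIdeal := by
    by_contra! h
    exact p.2.ne_top ((Ideal.eq_top_iff_one _).mpr (hg.complete ▸ sum_mem fun i _ => h i))
  have : p ∈ Set.range (PrimeSpectrum.comap (algebraMap R (Localization.Away (g i)))) := by
    rw [PrimeSpectrum.localization_away_comap_range (Localization.Away (g i)) (g i)]
    exact hi
  exact ⟨i, this⟩

/-- Hopf algebras over the pieces of a decomposition come from a Hopf algebra over the base. -/
theorem exists_hopf_of_pieces (hg : CompleteOrthogonalIdempotents g) (M : κ → Type u) [∀ i, CommRing (M i)]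
    [∀ i, HopfAlgebra (Localization.Away (g i)) (M i)] :
    ∃ (A : Type u) (_ : CommRing A) (_ : HopfAlgebra R A),
      ∀ i, Nonempty (Localization.Away (g i) ⊗[R] A ≃ₐc[Localization.Away (g i)] M i) := by
  classical
  let L := fun i => Localization.Away (g i)
  letI : ∀ i, Algebra R (M i) := fun i => ((algebraMap (L i) (M i)).comp (algebraMap R (L i))).toAlgebra
  have : ∀ i, IsScalarTower R (L i) (M i) := fun i => .of_algebraMap_eq fun _ => rfl
  let A := ∀ i, M i
  let π : ∀ i, A →ₐ[R] M i := Pi.evalAlgHom R M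
  have hsmul : ∀ (j i : κ) (m : M i), g j • m = if i = j then m else 0 := fun j i m => by
    rw [← IsScalarTower.algebraMap_smul (L i) (g j) m]
    split_ifs with h
    · subst h; rw [algebraMap_away_eq_one (hg.idem i), one_smul]
    · rw [algebraMap_away_eq_zero (hg.ortho h), zero_smul]
  have hπ : ∀ i, Function.Bijective (extHom (R := L i) (π i)) := fun i => by
    refine ⟨(injective_iff_map_eq_zero _).mpr fun z hz => ?_, fun m => ⟨1 ⊗ₜ[R] Pi.single i m, by rw [extHom_tmul, one_smul]; exact Pi.single_eq_same i m⟩⟩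
    obtain ⟨a, rfl⟩ := exists_one_tmul_away (hg.idem i) z
    rw [extHom_tmul, one_smul] at hz
    have ha : g i • a = 0 := funext fun j => by
      rw [Pi.smul_apply, hsmul, Pi.zero_apply]
      split_ifs with h
      · subst h; exact hz
      · rfl
    have : (1 : L i) ⊗ₜ[R] (g i • a) = (1 : L i) ⊗ₜ[R] a := by
      rw [TensorProduct.tmul_smul, ← IsScalarTower.algebraMap_smul (L i) (g i), algebraMap_away_eq_one (hg.idem i),
        one_smul]
    rw [← this, ha, TensorProduct.tmul_zero]
  let P2 : A ⊗[R] A →ₐ[R] ∀ i, M i ⊗[L i] M i :=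
    AlgHom.pi fun i => pairHom (R := L i) (π i) (π i)
  have hπ2 := fun i => extHom_pairHom_bijective (R := L i) (π i) (π i) (hπ i) (hπ i)
  have hP2 : Function.Injective P2 := (injective_iff_map_eq_zero _).mpr fun z hz => eq_zero_of_pieces hg fun i =>
    one_tmul_eq_zero_of_bijective (pairHom (R := L i) (π i) (π i)) (hπ2 i) (congrFun hz i)
  obtain ⟨Δ, hΔ⟩ := exists_algHom_of_range P2 hP2
    (AlgHom.pi fun i => ((Bialgebra.comulAlgHom (L i) (M i)).restrictScalars R).comp (π i)) fun a => by
    choose w hw using fun i => (hπ2 i).2 (Bialgebra.comulAlgHom (L i) (M i) (π i a))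
    obtain ⟨y, hy⟩ := exists_of_pieces hg w
    refine ⟨y, funext fun i => ?_⟩
    show pairHom (R := L i) (π i) (π i) y = Bialgebra.comulAlgHom (L i) (M i) (π i a)
    rw [← hw i, ← hy i, extHom_tmul, one_smul]
  let P0 : R →ₐ[R] ∀ i, L i := Algebra.ofId R _
  have hP0 : Function.Injective P0 := (injective_iff_map_eq_zero _).mpr fun r hr => eq_zero_of_pieces hg fun i => by
    have : algebraMap R (L i) r = 0 := congrFun hr i
    rw [← mul_one r, ← smul_eq_mul, TensorProduct.tmul_smul, TensorProduct.smul_tmul', Algebra.smul_def, this,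
      zero_mul, TensorProduct.zero_tmul]
  obtain ⟨ε, hε⟩ := exists_algHom_of_range P0 hP0
    (AlgHom.pi fun i => ((Bialgebra.counitAlgHom (L i) (M i)).restrictScalars R).comp (π i)) fun a => by
    choose r hr using fun i => algebraMap_away_surjective (hg.idem i) (Bialgebra.counitAlgHom (L i) (M i) (π i a))
    obtain ⟨y, hy⟩ := exists_of_pieces hg fun i => (1 : L i) ⊗ₜ[R] r i
    refine ⟨y, funext fun i => ?_⟩
    have := congrArg (TensorProduct.rid R (L i)) (hy i)
    rw [TensorProduct.rid_tmul, TensorProduct.rid_tmul, ← Algebra.algebraMap_eq_smul_one,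
      ← Algebra.algebraMap_eq_smul_one] at this
    exact this.trans (hr i)
  let S : A →ₐ[R] A := AlgHom.pi fun i => ((HopfAlgebra.antipodeAlgHom (L i) (M i)).restrictScalars R).comp (π i)
  have : Module.FaithfullyFlat R (∀ i, L i) :=
    faithfullyFlat_pi L (fun i => IsLocalization.flat _ (Submonoid.powers (g i))) (comap_pieces_surjective hg)
  obtain ⟨A', hc, hA, j, hE⟩ := exists_hopf_of_maps L M π hπ Δ ε S (fun i x => congrFun (hΔ x) i)
    (fun i x => (congrFun (hε x) i).symm) (fun i x => rfl)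
  exact ⟨A', hc, hA, fun i => ⟨(hE i).choose⟩⟩

/-- Bialgebras which are isomorphic over the pieces are isomorphic. -/
theorem nonempty_equiv_of_pieces (hg : CompleteOrthogonalIdempotents g) {A B : Type u} [CommRing A] [HopfAlgebra R A]
    [CommRing B] [HopfAlgebra R B]
    (φ : ∀ i, Localization.Away (g i) ⊗[R] A ≃ₐc[Localization.Away (g i)] Localization.Away (g i) ⊗[R] B) :
    Nonempty (A ≃ₐc[R] B) := by
  classical
  let L := fun i => Localization.Away (g i)
  obtain ⟨ψ, hψ⟩ := exists_hom_of_cover (R := R) (B := B) (C := A) L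
    (fun i => IsLocalization.flat _ (Submonoid.powers (g i))) (comap_pieces_surjective hg)
    (fun i => (φ i : L i ⊗[R] A →ₐc[L i] L i ⊗[R] B)) (fun i j c => by
      by_cases hij : i = j
      · subst hij
        obtain ⟨b, hb⟩ := exists_one_tmul_away (hg.idem i) ((φ i : L i ⊗[R] A →ₐc[L i] L i ⊗[R] B) ((1 : L i) ⊗ₜ[R] c))
        rw [hb, LinearMap.rTensor_tmul, LinearMap.rTensor_tmul, AlgHom.toLinearMap_apply, AlgHom.toLinearMap_apply,
          map_one, map_one]
      · have : Subsingleton (L i ⊗[R] L j) := subsingleton_of_zero_eq_one <| by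
          rw [Algebra.TensorProduct.one_def]
          have h1 : (1 : L i) ⊗ₜ[R] (1 : L j) = algebraMap R (L i) (g i) ⊗ₜ[R] algebraMap R (L j) (g j) := by
            rw [algebraMap_away_eq_one (hg.idem i), algebraMap_away_eq_one (hg.idem j)]
          rw [h1, Algebra.algebraMap_eq_smul_one (g i), TensorProduct.smul_tmul, Algebra.smul_def, ← map_mul,
            hg.ortho hij, map_zero, TensorProduct.tmul_zero]
        have hz : ∀ z : (L i ⊗[R] L j) ⊗[R] B, z = 0 := fun z => by
          induction z using TensorProduct.induction_on with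
          | zero => rfl
          | add a b ha hb => rw [ha, hb, add_zero]
          | tmul a b => rw [Subsingleton.elim a 0, TensorProduct.zero_tmul]
        exact (hz _).trans (hz _).symm)
  refine ⟨BialgEquiv.ofBijective ψ ⟨(injective_iff_map_eq_zero _).mpr fun a ha => eq_zero_of_pieces hg fun i =>
    EquivLike.injective (φ i) ?_, fun b => ?_⟩⟩
  · rw [map_zero]
    show (φ i : L i ⊗[R] A →ₐc[L i] L i ⊗[R] B) ((1 : L i) ⊗ₜ[R] a) = 0
    rw [hψ, ha, TensorProduct.tmul_zero]
  · obtain ⟨a, ha⟩ := exists_of_pieces hg fun i => (φ i).symm ((1 : L i) ⊗ₜ[R] b)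
    refine ⟨a, sub_eq_zero.mp (eq_zero_of_pieces hg fun i => ?_)⟩
    rw [TensorProduct.tmul_sub, ← hψ, sub_eq_zero]
    show φ i ((1 : L i) ⊗ₜ[R] a) = _
    rw [ha, BialgEquiv.apply_symm_apply]

/-- A quasi-isotrivial group splits by type over a decomposition of the base. -/
theorem exists_type_partition {A : Type u} [CommRing A] [HopfAlgebra R A] (h : SGA3b.IsQuasiIsotrivial R A) :
    ∃ (κ : Type u) (_ : Fintype κ) (g : κ → R), CompleteOrthogonalIdempotents g ∧
      ∀ i, SGA3b.IsQuasiIsotrivialConst (Localization.Away (g i)) (Localization.Away (g i) ⊗[R] A) := by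
  classical
  obtain ⟨ι, _, T, _, _, het, hflat, hsurj, hdiag⟩ : ∃ (ι : Type u) (_ : Finite ι) (T : ι → Type u)
      (_ : ∀ i, CommRing (T i)) (_ : ∀ i, Algebra R (T i)), (∀ i, Algebra.Etale R (T i)) ∧
      (∀ i, Module.Flat R (T i)) ∧
      (∀ p : PrimeSpectrum R, ∃ i, ∃ q : PrimeSpectrum (T i), q.comap (algebraMap R (T i)) = p) ∧
      ∀ i, SGA3b.IsDiag (T i) (T i ⊗[R] A) := by
    obtain ⟨s, hs, hloc⟩ := h
    obtain ⟨s', hsub, hs'⟩ := (Ideal.span_eq_top_iff_finite s).mp hs
    choose R' i₁ i₂ het hff hdiag using fun f : {f : R // f ∈ s'} => hloc f (hsub f.2)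
    let : ∀ f : {f : R // f ∈ s'}, Algebra R (R' f) := fun f =>
      ((algebraMap (Localization.Away (f : R)) (R' f)).comp (algebraMap R (Localization.Away (f : R)))).toAlgebra
    have : ∀ f : {f : R // f ∈ s'}, IsScalarTower R (Localization.Away (f : R)) (R' f) := fun f =>
      .of_algebraMap_eq fun _ => rfl
    refine ⟨{f : R // f ∈ s'}, inferInstance, R', i₁, inferInstance, fun f => ?_, fun f => ?_, fun p => ?_, fun f => ?_⟩
    · have := het f
      have : Algebra.Etale R (Localization.Away (f : R)) := Algebra.Etale.of_isLocalizationAway (f : R)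
      exact Algebra.Etale.comp R (Localization.Away (f : R)) (R' f)
    · have := hff f
      exact Module.Flat.trans R (Localization.Away (f : R)) (R' f)
    · obtain ⟨f, hf, hfp⟩ : ∃ f ∈ s', f ∉ p.asIdeal := by
        by_contra! hne
        exact p.2.ne_top (top_le_iff.mp (hs' ▸ Ideal.span_le.mpr hne))
      have hp : p ∈ Set.range (PrimeSpectrum.comap (algebraMap R (Localization.Away f))) := by
        rw [PrimeSpectrum.localization_away_comap_range (Localization.Away f) f]
        exact hfp
      obtain ⟨p', hp'⟩ := hp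
      have := hff ⟨f, hf⟩
      letI : Algebra (Localization.Away f) (R' ⟨f, hf⟩) := i₂ ⟨f, hf⟩
      haveI : IsScalarTower R (Localization.Away f) (R' ⟨f, hf⟩) := .of_algebraMap_eq fun _ => rfl
      obtain ⟨q, hq⟩ := PrimeSpectrum.comap_surjective_of_faithfullyFlat (B := R' ⟨f, hf⟩) p'
      refine ⟨⟨f, hf⟩, q, ?_⟩
      rw [IsScalarTower.algebraMap_eq R (Localization.Away f) (R' ⟨f, hf⟩), PrimeSpectrum.comap_comp_apply, hq, hp']
    · obtain ⟨M, _, ⟨e⟩⟩ := hdiag f
      exact ⟨M, inferInstance, ⟨(cancelBC (R := R) (Localization.Away (f : R)) (R' f) A).symm.trans e⟩⟩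
  choose M hM he using hdiag
  let Cls : ι → ι → Prop := fun i j => Nonempty (M i ≃* M j)
  let P : ι → Type u := fun i => ∀ j : {j // Cls i j}, T j
  have heP : ∀ i, Nonempty (P i ⊗[R] A ≃ₐc[P i] MonoidAlgebra (P i) (M i)) := fun i =>
    isDiag_pi (fun j : {j // Cls i j} => T j) fun j =>
      ((he j).some).trans (MonoidAlgebra.domCongrBialgEquiv (R := T j) (A := T j) j.2.some.symm)
  let U : ι → Set (PrimeSpectrum R) := fun i => Set.range (PrimeSpectrum.comap (algebraMap R (P i)))
  have hover : ∀ i j, Cls i j → ∀ q : PrimeSpectrum (T j), q.comap (algebraMap R (T j)) ∈ U i := fun i j hij q =>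
    ⟨q.comap (Pi.evalAlgHom R (fun j : {j // Cls i j} => T j) ⟨j, hij⟩).toRingHom, rfl⟩
  have huniq : ∀ i j, ∀ p ∈ U i, ∀ q : PrimeSpectrum (T j), q.comap (algebraMap R (T j)) = p → Cls i j := by
    rintro i j p ⟨q₀, rfl⟩ q hq
    exact nonempty_mulEquiv_of_over (heP i).some (he j).some q₀ q hq.symm
  have hdisj : ∀ i i', ∀ p ∈ U i, p ∈ U i' → Cls i i' := by
    rintro i i' p ⟨q₀, rfl⟩ ⟨q₁, hq₁⟩
    exact nonempty_mulEquiv_of_over (heP i).some (heP i').some q₀ q₁ hq₁.symm
  have hclosed : ∀ i, IsClosed (U i) := fun i => by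
    rw [← PrimeSpectrum.stableUnderSpecialization_range_iff]
    intro p p' hpp hp
    obtain ⟨j, q', hq'⟩ := hsurj p'
    have := hflat j
    obtain ⟨q, -, hq⟩ := (Algebra.HasGoingDown.iff_generalizingMap_primeSpectrumComap (R := R) (S := T j)).mp
      inferInstance (show p ⤳ PrimeSpectrum.comap (algebraMap R (T j)) q' from hq'.symm ▸ hpp)
    exact hq' ▸ hover i j (huniq i j p hp q hq) q'
  have hcompl : ∀ i, (U i)ᶜ = ⋃ j ∈ {j | ¬ Cls i j}, U j := fun i => Set.ext fun p => by
    simp only [Set.mem_compl_iff, Set.mem_iUnion, Set.mem_ofPred_eq, exists_prop]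
    constructor
    · intro hp
      obtain ⟨j, q, hq⟩ := hsurj p
      exact ⟨j, fun h => hp (hq ▸ hover i j h q), hq ▸ hover j j ⟨MulEquiv.refl _⟩ q⟩
    · rintro ⟨j, hij, hp⟩ hpi
      exact hij (hdisj i j p hpi hp)
  have hclopen : ∀ i, IsClopen (U i) := fun i => ⟨hclosed i, isClosed_compl_iff.mp (by
    rw [hcompl]
    exact (Set.toFinite _).isClosed_biUnion fun j _ => hclosed j)⟩
  choose g hg hgU using fun i => PrimeSpectrum.exists_idempotent_basicOpen_eq_of_isClopen (hclopen i)
  let κ := {x : R // x ∈ Set.range g}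
  have : Fintype κ := Fintype.ofFinite _
  have ho : OrthogonalIdempotents (Subtype.val : κ → R) := ⟨by rintro ⟨_, i, rfl⟩; exact hg i, by
    rintro ⟨_, i, rfl⟩ ⟨_, j, rfl⟩ hne
    show g i * g j = 0
    refine ((hg i).mul (hg j)).eq_zero_of_isNilpotent ((PrimeSpectrum.basicOpen_eq_bot_iff _).mp ?_)
    refine TopologicalSpace.Opens.ext (Set.eq_empty_iff_forall_notMem.mpr fun p hp => ?_)
    rw [PrimeSpectrum.basicOpen_mul] at hp
    have hi : p ∈ U i := by rw [hgU]; exact hp.1
    have hj : p ∈ U j := by rw [hgU]; exact hp.2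
    have hij := hdisj i j p hi hj
    have hUU : U i = U j := by
      ext p'
      obtain ⟨k, q, hq⟩ := hsurj p'
      constructor
      · intro h'
        exact hq ▸ hover j k ⟨hij.some.symm.trans (huniq i k p' h' q hq).some⟩ q
      · intro h'
        exact hq ▸ hover i k ⟨hij.some.trans (huniq j k p' h' q hq).some⟩ q
    exact hne (Subtype.ext (PrimeSpectrum.basicOpen_injOn_isIdempotentElem (hg i) (hg j)
      (TopologicalSpace.Opens.ext ((hgU i).symm.trans (hUU.trans (hgU j))))))⟩
  refine ⟨κ, inferInstance, Subtype.val, ⟨ho, ?_⟩, ?_⟩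
  · show ∑ x : κ, (x : R) = 1
    have hu : IsUnit (∑ x : κ, (x : R)) := by
      by_contra hnu
      obtain ⟨m, hm, hmem⟩ := exists_max_ideal_of_mem_nonunits hnu
      obtain ⟨k, q, hq⟩ := hsurj ⟨m, hm.isPrime⟩
      have h1 : (⟨m, hm.isPrime⟩ : PrimeSpectrum R) ∈ U k := hq ▸ hover k k ⟨MulEquiv.refl _⟩ q
      rw [hgU] at h1
      refine h1 ?_
      have h2 := Ideal.mul_mem_left m (g k) hmem
      rwa [show g k * ∑ x : κ, (x : R) = g k from ho.mul_sum_of_mem (i := (⟨g k, k, rfl⟩ : κ)) (Finset.mem_univ _)] at h2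
    exact (IsIdempotentElem.iff_eq_one_of_isUnit hu).mp ho.isIdempotentElem_sum
  rintro ⟨_, i, rfl⟩
  let S := Localization.Away (g i)
  let T' := S ⊗[R] P i
  have : Module.Flat R (P i) := by
    have : ∀ j : {j // Cls i j}, Module.Flat R (T j) := fun j => hflat j
    have := Fintype.ofFinite {j // Cls i j}
    exact Module.Flat.of_linearEquiv (DFinsupp.linearEquivFunOnFintype (R := R)).symm
  have hff : Module.FaithfullyFlat S T' := by
    refine Module.FaithfullyFlat.of_comap_surjective fun p' => ?_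
    have hp : p'.comap (algebraMap R S) ∈ U i := by
      rw [hgU]
      have : p'.comap (algebraMap R S) ∈ Set.range (PrimeSpectrum.comap (algebraMap R S)) := ⟨p', rfl⟩
      rwa [PrimeSpectrum.localization_away_comap_range S (g i)] at this
    obtain ⟨q, hq⟩ := hp
    let L := q.asIdeal.ResidueField
    have hu : IsUnit (algebraMap R L (g i)) := by
      refine isUnit_iff_ne_zero.mpr fun h0 => ?_
      rw [IsScalarTower.algebraMap_apply R (P i) L, Ideal.algebraMap_residueField_eq_zero] at h0
      have h1 : PrimeSpectrum.comap (algebraMap R (P i)) q ∈ U i := ⟨q, rfl⟩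
      rw [hgU] at h1
      exact h1 h0
    let fS : S →ₐ[R] L := IsLocalization.liftAlgHom (M := Submonoid.powers (g i)) (f := Algebra.ofId R L) (by
      rintro ⟨_, n, rfl⟩
      rw [map_pow]
      exact hu.pow n)
    let Ψ : T' →ₐ[R] L := Algebra.TensorProduct.productMap fS (IsScalarTower.toAlgHom R (P i) L)
    refine ⟨⟨RingHom.ker Ψ, RingHom.ker_isPrime _⟩, ?_⟩
    apply PrimeSpectrum.localization_comap_injective S (Submonoid.powers (g i))
    rw [← hq]
    refine PrimeSpectrum.ext (Ideal.ext fun r => ?_)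
    show Ψ (algebraMap R S r ⊗ₜ[R] (1 : P i)) = 0 ↔ algebraMap R (P i) r ∈ q.asIdeal
    rw [Algebra.TensorProduct.productMap_apply_tmul, map_one, mul_one, AlgHom.commutes,
      IsScalarTower.algebraMap_apply R (P i) L, Ideal.algebraMap_residueField_eq_zero]
  let : Algebra (P i) T' := Algebra.TensorProduct.rightAlgebra
  have : IsScalarTower R (P i) T' := .of_algebraMap_eq fun r =>
    (((Algebra.TensorProduct.includeRight : P i →ₐ[R] T').commutes r)).symm
  have : ∀ j : {j // Cls i j}, Algebra.Etale R (T j) := fun j => het j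
  have : Algebra.Etale R (P i) := by
    have : Algebra.FormallyEtale R (P i) :=
      (Algebra.FormallyEtale.pi_iff (R := R) (fun j : {j // Cls i j} => T j)).mpr fun j => inferInstance
    exact ⟨this, inferInstance⟩
  exact ⟨T', inferInstance, inferInstance, inferInstance, hff, M i, hM i,
    ⟨(cancelBC (R := R) S T' A).trans (bcTriv (heP i).some)⟩⟩

set_option backward.isDefEq.respectTransparency false in
/-- Quasi-isotrivial groups lift along nil ideals. -/
theorem exists_quasiIsotrivial_lift (I : Ideal R) (hI : ∀ x ∈ I, IsNilpotent x) {A₀ : Type u} [CommRing A₀]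
    [HopfAlgebra (R ⧸ I) A₀] (h0 : SGA3b.IsQuasiIsotrivial (R ⧸ I) A₀) :
    ∃ (A : Type u) (_ : CommRing A) (_ : HopfAlgebra R A),
      SGA3b.IsQuasiIsotrivial R A ∧ Nonempty ((R ⧸ I) ⊗[R] A ≃ₐc[R ⧸ I] A₀) := by
  classical
  obtain ⟨ρ, _, g₀, hg₀, hconst⟩ := exists_type_partition h0
  obtain ⟨g', hg', hgc⟩ := hg₀.lift_of_isNilpotent_ker (Ideal.Quotient.mk I)
    (fun x hx => hI x (by rwa [Ideal.mk_ker] at hx)) fun i => Ideal.Quotient.mk_surjective (g₀ i)
  have hgi : ∀ i, Ideal.Quotient.mk I (g' i) = g₀ i := fun i => congrFun hgc i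
  let L := fun i => Localization.Away (g' i)
  let Q := fun i => L i ⧸ I.map (algebraMap R (L i))
  have hu : ∀ i, IsUnit (algebraMap (R ⧸ I) (Q i) (g₀ i)) := fun i => by
    rw [← hgi i, ← Ideal.Quotient.algebraMap_eq, ← IsScalarTower.algebraMap_apply,
      IsScalarTower.algebraMap_apply R (L i) (Q i)]
    exact (IsLocalization.Away.algebraMap_isUnit (S := L i) (g' i)).map _
  have hQ : ∀ i, SGA3b.IsQuasiIsotrivialConst (Q i) (Q i ⊗[R ⧸ I] A₀) := fun i => by
    obtain ⟨R', _, _, het, hff, N, _, ⟨e⟩⟩ := hconst i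
    have := het
    have := hff
    let L₀ := Localization.Away (g₀ i)
    let l : L₀ →ₐ[R ⧸ I] Q i :=
      IsLocalization.Away.liftAlgHom (g₀ i) (f := Algebra.ofId (R ⧸ I) (Q i)) (hu i)
    let : Algebra L₀ (Q i) := l.toRingHom.toAlgebra
    have : IsScalarTower (R ⧸ I) L₀ (Q i) := .of_algebraMap_eq fun c => (l.commutes c).symm
    let T := Q i ⊗[L₀] R'
    let : Algebra R' T := Algebra.TensorProduct.rightAlgebra
    have : IsScalarTower L₀ R' T := IsScalarTower.of_algebraMap_eq (R := L₀) (S := R') (A := T) fun r => by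
      show algebraMap L₀ T r = (1 : Q i) ⊗ₜ[L₀] algebraMap L₀ R' r
      rw [Algebra.TensorProduct.algebraMap_apply, Algebra.algebraMap_eq_smul_one, Algebra.algebraMap_eq_smul_one]
      exact TensorProduct.smul_tmul (R := L₀) (M := Q i) (N := R') r 1 1
    exact ⟨T, inferInstance, inferInstance, inferInstance, inferInstance, N, inferInstance,
      ⟨((bcEquiv T (cancelBC (R := R ⧸ I) L₀ (Q i) A₀).symm).trans (cancelBC (R := L₀) (Q i) T (L₀ ⊗[R ⧸ I] A₀))).trans
        (bcTriv e)⟩⟩
  choose M hMc hMh hMq hMe using fun i => exists_quasiIsotrivialConst_lift (I.map (algebraMap R (L i)))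
    (fun x hx => by
      rw [← mem_nilradical]
      refine (?_ : I.map (algebraMap R (L i)) ≤ nilradical (L i)) hx
      exact Ideal.map_le_iff_le_comap.mpr fun r hr => mem_nilradical.mpr ((hI r hr).map _)) (hQ i)
  obtain ⟨A, _, _, hA⟩ := exists_hopf_of_pieces hg' M
  refine ⟨A, inferInstance, inferInstance, ⟨Set.range g', ?_, ?_⟩, ?_⟩
  · rw [Ideal.eq_top_iff_one, ← hg'.complete]
    exact sum_mem fun i _ => Ideal.subset_span ⟨i, rfl⟩
  · rintro _ ⟨i, rfl⟩
    obtain ⟨T, _, _, het, hff, N, _, ⟨e⟩⟩ := hMq i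
    exact ⟨T, inferInstance, inferInstance, het, hff, N, inferInstance, ⟨(bcEquiv T (hA i).some).trans e⟩⟩
  refine nonempty_equiv_of_pieces hg₀ fun i => ?_
  let L₀ := Localization.Away (g₀ i)
  let u₀ : L i →ₐ[R] L₀ := IsLocalization.Away.liftAlgHom (g' i) (f := Algebra.ofId R L₀) (by
    show IsUnit (algebraMap R L₀ (g' i))
    rw [IsScalarTower.algebraMap_apply R (R ⧸ I) L₀, Ideal.Quotient.algebraMap_eq, hgi]
    exact IsLocalization.Away.algebraMap_isUnit _)
  let u : Q i →ₐ[R] L₀ := Ideal.Quotient.liftₐ (I.map (algebraMap R (L i))) u₀ fun x hx => by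
    refine (?_ : I.map (algebraMap R (L i)) ≤ RingHom.ker u₀) hx
    refine Ideal.map_le_iff_le_comap.mpr fun r hr => ?_
    rw [Ideal.mem_comap, RingHom.mem_ker, AlgHom.commutes, IsScalarTower.algebraMap_apply R (R ⧸ I) L₀,
      Ideal.Quotient.algebraMap_eq, Ideal.Quotient.eq_zero_iff_mem.mpr hr, map_zero]
  let : Algebra (L i) L₀ := u₀.toRingHom.toAlgebra
  have : IsScalarTower R (L i) L₀ := .of_algebraMap_eq fun r => (u₀.commutes r).symm
  let : Algebra (Q i) L₀ := u.toRingHom.toAlgebra
  have : IsScalarTower (L i) (Q i) L₀ := IsScalarTower.of_algebraMap_eq (R := L i) (S := Q i) (A := L₀) fun _ => rfl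
  have : IsScalarTower (R ⧸ I) (Q i) L₀ := .of_algebraMap_eq fun c => by
    obtain ⟨r, rfl⟩ := Ideal.Quotient.mk_surjective c
    exact (u.commutes r).symm
  exact (((((cancelBC (R := R) (R ⧸ I) L₀ A).trans (cancelBC (R := R) (L i) L₀ A).symm).trans
    (bcEquiv L₀ (hA i).some)).trans (cancelBC (R := L i) (Q i) L₀ (M i)).symm).trans
      (bcEquiv L₀ (hMe i).some)).trans (cancelBC (R := R ⧸ I) (Q i) L₀ A₀)

end Groth.Agent.IsoTriv
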