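import Groth.Agent.IsoTriv.KillExponent
import Groth.Agent.SGA3cLib.DeligneField
import Mathlib.RingTheory.ZariskisMainTheorem
import Mathlib.RingTheory.QuasiFinite.Basic

/-! Quasi-finite algebras have bounded fibres; quasi-finite groups are killed by an integer. -/

universe u

open TensorProduct Coalgebra

namespace Groth.Agent.IsoTriv

variable (R : Type u) [CommRing R] (C : Type u) [CommRing C] [Algebra R C]

/-- Around each prime a quasi-finite algebra is finite up to localisation. -/
theorem exists_fg_away [Algebra.FiniteType R C] [Algebra.QuasiFinite R C] (p : Ideal C) [p.IsPrime] :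
    ∃ S' : Subalgebra R C, S'.toSubmodule.FG ∧ ∃ r : C, r ∈ S' ∧ r ∉ p ∧
      ∀ c : C, ∃ k : ℕ, r ^ k * c ∈ S' := by
  obtain ⟨S', hS', r, hrp, hbij⟩ :=
    Algebra.QuasiFiniteAt.exists_fg_and_exists_notMem_and_awayMap_bijective (R := R) (S := C) p
  refine ⟨S', hS', r, r.2, hrp, fun c => ?_⟩
  obtain ⟨t, ht⟩ := hbij.2 (algebraMap C _ c)
  obtain ⟨⟨s, ⟨d, n, rfl⟩⟩, hs⟩ := IsLocalization.surj (Submonoid.powers r) t
  have h := congrArg (Localization.awayMap S'.val.toRingHom r) hs
  simp only [map_mul, map_pow, Localization.awayMap, IsLocalization.Away.map, IsLocalization.map_eq] at h ht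
  rw [ht, ← map_pow, ← map_mul, IsLocalization.eq_iff_exists (Submonoid.powers (S'.val.toRingHom r))] at h
  obtain ⟨⟨_, j, rfl⟩, hj⟩ := h
  refine ⟨j + n, ?_⟩
  have : (r : C) ^ (j + n) * c = (r : C) ^ j * (s : C) := by
    rw [pow_add, mul_assoc, mul_comm _ c]
    exact hj
  rw [this]
  exact mul_mem (pow_mem r.2 j) s.2

/-- A localisation in which a finite-dimensional subalgebra already contains all numerators. -/
theorem finite_away {k : Type u} [Field k] {A : Type u} [CommRing A] [Algebra k A] (A0 : Subalgebra k A)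
    [Module.Finite k A0] (r : A) (hr : r ∈ A0) (h : ∀ a : A, ∃ j : ℕ, r ^ j * a ∈ A0) :
    Module.Finite k (Localization.Away r) ∧ Module.finrank k (Localization.Away r) ≤ Module.finrank k A0 := by
  let φ : A0 →ₐ[k] Localization.Away r := (IsScalarTower.toAlgHom k A (Localization.Away r)).comp A0.val
  have hφ : Function.Surjective φ := by
    let B := φ.range
    have : Module.Finite k B := Module.Finite.of_surjective φ.rangeRestrict.toLinearMap φ.rangeRestrict_surjective
    let b : B := ⟨φ ⟨r, hr⟩, ⟨_, rfl⟩⟩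
    have hu : IsUnit (algebraMap A (Localization.Away r) r) := IsLocalization.Away.algebraMap_isUnit r
    have hb : Function.Surjective (LinearMap.mulLeft k b) :=
      LinearMap.injective_iff_surjective.mp fun x y hxy => by
        have e := congrArg Subtype.val hxy
        exact Subtype.ext (hu.mul_left_cancel e)
    obtain ⟨c, hc⟩ := hb 1
    have hc' : algebraMap A (Localization.Away r) r * (c : Localization.Away r) = 1 := congrArg Subtype.val hc
    intro z
    obtain ⟨⟨a, ⟨_, n, rfl⟩⟩, hz⟩ := IsLocalization.surj (Submonoid.powers r) z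
    obtain ⟨j, hj⟩ := h a
    have : z = (c : Localization.Away r) ^ (n + j) * φ ⟨r ^ j * a, hj⟩ := by
      show _ = _ * algebraMap A (Localization.Away r) (r ^ j * a)
      rw [map_mul, ← hz, map_pow, map_pow]
      linear_combination -z * (congrArg (· ^ (n + j)) hc').trans (one_pow _)
    rw [this]
    exact φ.mem_range.mp (mul_mem (pow_mem c.2 _) ⟨_, rfl⟩)
  exact ⟨Module.Finite.of_surjective φ.toLinearMap hφ,
    (φ.toLinearMap.finrank_range_le).trans' (by rw [LinearMap.range_eq_top.mpr hφ, finrank_top])⟩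

/-- The fibres of a quasi-finite algebra of finite type have bounded dimension. -/
theorem exists_fibre_bound [Algebra.FiniteType R C] [Algebra.QuasiFinite R C] :
    ∃ d : ℕ, ∀ (k : Type u) [Field k] [Algebra R k],
      Module.Finite k (k ⊗[R] C) ∧ Module.finrank k (k ⊗[R] C) ≤ d := by
  classical
  choose S' hS' r hrS hrp hr using fun p : PrimeSpectrum C => exists_fg_away R C p.asIdeal
  have htop : Ideal.span (Set.range r) = ⊤ := by
    by_contra hne
    obtain ⟨m, hm, hle⟩ := Ideal.exists_le_maximal _ hne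
    exact hrp ⟨m, hm.isPrime⟩ (hle (Ideal.subset_span ⟨_, rfl⟩))
  obtain ⟨s, hs, hstop⟩ := (Ideal.span_eq_top_iff_finite _).mp htop
  choose p hp using fun a : s => hs a.2
  choose g hg using fun a : s => hS' (p a)
  refine ⟨∑ a : s, (g a).card, fun k _ _ => ?_⟩
  let ι : C →ₐ[R] k ⊗[R] C := Algebra.TensorProduct.includeRight
  let A0 : s → Subalgebra k (k ⊗[R] C) := fun a => (Algebra.TensorProduct.map (AlgHom.id k k) (S' (p a)).val).range
  have hA0 : ∀ a, Module.Finite k (A0 a) ∧ Module.finrank k (A0 a) ≤ (g a).card := by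
    intro a
    have hspan : Submodule.span k (((g a).image ι : Finset _) : Set (k ⊗[R] C)) = (A0 a).toSubmodule := by
      refine le_antisymm (Submodule.span_le.mpr ?_) ?_
      · intro x hx
        obtain ⟨y, hy, rfl⟩ := Finset.mem_image.mp hx
        have : y ∈ (S' (p a)).toSubmodule := hg a ▸ Submodule.subset_span hy
        exact ⟨1 ⊗ₜ ⟨y, this⟩, rfl⟩
      · rintro _ ⟨t, rfl⟩
        induction t using TensorProduct.induction_on with
        | zero => simp
        | add x y hx hy => rw [map_add]; exact add_mem hx hy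
        | tmul c y =>
          have hy : (y : C) ∈ Submodule.span R (g a : Set C) := (hg a).symm ▸ y.2
          have h1 : ι (y : C) ∈ (Submodule.span k (((g a).image ι : Finset _) : Set (k ⊗[R] C))).restrictScalars R := by
            rw [Finset.coe_image]
            refine Submodule.span_le_restrictScalars R k _ ?_
            have := Submodule.mem_map_of_mem (f := ι.toLinearMap) hy
            rwa [Submodule.map_span] at this
          have := Submodule.smul_mem _ c (Submodule.restrictScalars_mem R _ _ |>.mp h1)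
          simpa [ι, TensorProduct.smul_tmul'] using this
    have hf : (A0 a).toSubmodule.FG := ⟨_, hspan⟩
    refine ⟨Module.Finite.iff_fg.mpr hf, ?_⟩
    have := finrank_span_finset_le_card (R := k) ((g a).image ι)
    rw [Set.finrank, hspan] at this
    exact this.trans Finset.card_image_le
  have hloc : ∀ a : s, Module.Finite k (Localization.Away (ι a)) ∧
      Module.finrank k (Localization.Away (ι a)) ≤ (g a).card := by
    intro a
    have := (hA0 a).1
    have hra : ι a ∈ A0 a := ⟨1 ⊗ₜ ⟨r (p a), hrS _⟩, by simp [ι, hp a]⟩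
    refine (finite_away (A0 a) (ι a) hra fun x => ?_).imp id (le_trans · (hA0 a).2)
    induction x using TensorProduct.induction_on with
    | zero => exact ⟨0, by simp⟩
    | add x y hx hy =>
      obtain ⟨i, hi⟩ := hx
      obtain ⟨j, hj⟩ := hy
      refine ⟨i + j, ?_⟩
      rw [show ι a ^ (i + j) * (x + y) = ι a ^ j * (ι a ^ i * x) + ι a ^ i * (ι a ^ j * y) by ring]
      exact add_mem (mul_mem (pow_mem hra _) hi) (mul_mem (pow_mem hra _) hj)
    | tmul c y =>
      obtain ⟨j, hj⟩ := hr (p a) y
      refine ⟨j, c ⊗ₜ ⟨_, hj⟩, ?_⟩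
      simp [ι, hp a, Algebra.TensorProduct.tmul_pow]
  let Φ : k ⊗[R] C →ₗ[k] Π a : s, Localization.Away (ι a) :=
    LinearMap.pi fun a => (IsScalarTower.toAlgHom k (k ⊗[R] C) (Localization.Away (ι a))).toLinearMap
  have hΦ : Function.Injective Φ := by
    refine (injective_iff_map_eq_zero _).mpr fun x hx => ?_
    have hx' : ∀ a : s, ∃ n : ℕ, ι a ^ n * x = 0 := fun a => by
      have h : algebraMap (k ⊗[R] C) (Localization.Away (ι a)) x = 0 := congrFun hx a
      obtain ⟨⟨_, n, rfl⟩, hn⟩ := (IsLocalization.map_eq_zero_iff (Submonoid.powers (ι a)) _ _).mp h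
      exact ⟨n, hn⟩
    choose n hn using hx'
    let N := ∑ a, n a
    have h1 : Ideal.span ((fun y => y ^ N) '' (ι '' (s : Set C))) = (⊤ : Ideal (k ⊗[R] C)) := by
      refine Ideal.span_pow_eq_top _ ?_ N
      rw [show ι '' (s : Set C) = (ι : C →+* k ⊗[R] C) '' (s : Set C) from rfl, ← Ideal.map_span, hstop,
        Ideal.map_top]
    have h2 : Ideal.span ((fun y => y ^ N) '' (ι '' (s : Set C))) ≤
        LinearMap.ker (LinearMap.toSpanSingleton (k ⊗[R] C) (k ⊗[R] C) x) := by
      refine Ideal.span_le.mpr ?_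
      rintro _ ⟨_, ⟨a, ha, rfl⟩, rfl⟩
      obtain ⟨e, he⟩ := Nat.exists_eq_add_of_le (Finset.single_le_sum (f := n) (fun _ _ => Nat.zero_le _)
        (Finset.mem_univ (⟨a, ha⟩ : s)))
      show ι a ^ N * x = 0
      rw [show N = n ⟨a, ha⟩ + e from he, pow_add, mul_right_comm, hn ⟨a, ha⟩, zero_mul]
    have := h2 (h1 ▸ Submodule.mem_top : (1 : k ⊗[R] C) ∈ _)
    simpa using this
  have : ∀ a : s, Module.Finite k (Localization.Away (ι a)) := fun a => (hloc a).1
  refine ⟨Module.Finite.of_injective Φ hΦ, (LinearMap.finrank_le_finrank_of_injective hΦ).trans ?_⟩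
  rw [Module.finrank_pi_fintype]
  exact Finset.sum_le_sum fun a _ => (hloc a).2

end Groth.Agent.IsoTriv

namespace Groth.Agent.IsoTriv

/-- A quasi-finite group of finite presentation is killed by an integer. -/
theorem exists_powConv_eq_counit_of_quasiFinite (R : Type u) [CommRing R] (C : Type u) [CommRing C] [HopfAlgebra R C]
    (hfp : Algebra.FinitePresentation R C) [Algebra.QuasiFinite R C] :
    ∃ n : ℕ, 0 < n ∧ ∀ c : C, SGA3b.powConv R C n c = algebraMap R C (counit c) := by
  have := hfp
  obtain ⟨d, hd⟩ := exists_fibre_bound R C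
  refine exists_powConv_eq_counit hfp d.factorial d.factorial_pos fun q _ x => ?_
  let k := q.ResidueField
  obtain ⟨hfin, hle⟩ := hd k
  have : Nontrivial (k ⊗[R] C) := RingHom.domain_nontrivial (Bialgebra.counitAlgHom k (k ⊗[R] C)).toRingHom
  obtain ⟨m, hm⟩ := Nat.dvd_factorial (Module.finrank_pos (R := k) (M := k ⊗[R] C)) hle
  have h : SGA3b.powConv k (k ⊗[R] C) d.factorial = (Algebra.ofId k (k ⊗[R] C)).comp (Bialgebra.counitAlgHom k _) := by
    rw [SGA3b.powConv, hm, pow_mul, SGA3cLib.pow_finrank_eq_one, one_pow]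
    simp [AlgHom.convOne_def]
  have h' := AlgHom.congr_fun h ((1 : k) ⊗ₜ[R] x)
  rw [SGA3bLib.powConv_baseChange] at h'
  rw [TensorProduct.tmul_sub, sub_eq_zero]
  refine h'.trans ?_
  simp [Algebra.ofId_apply, Algebra.algebraMap_eq_smul_one, Algebra.TensorProduct.one_def]

end Groth.Agent.IsoTriv
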