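import Groth.Agent.SGA3bLib.MonoDiag
import Mathlib.RingTheory.HopfAlgebra.Convolution
import Mathlib.RingTheory.Coalgebra.Convolution
import Mathlib.Tactic.Group
import Mathlib.Tactic.NoncommRing
import Mathlib.RingTheory.TensorProduct.Maps

/-! Vanishing of the obstruction to lifting homomorphisms from linearly reductive groups. -/

universe u

open TensorProduct Coalgebra WithConv

namespace Groth.Agent.IsoTriv

variable {T : Type u} [CommRing T] {C : Type u} [CommRing C] [HopfAlgebra T C]

/-- The linear map underlying a point. -/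
def convLin {S : Type u} [CommRing S] [Algebra T S] :
    WithConv (C →ₐ[T] S) →* WithConv (C →ₗ[T] S) where
  toFun k := toConv k.ofConv.toLinearMap
  map_one' := AlgHom.toLinearMap_convOne
  map_mul' := AlgHom.toLinearMap_convMul

/-- Composition with a map of algebras, as a homomorphism of groups of points. -/
def pointsMap {S S' : Type u} [CommRing S] [Algebra T S] [CommRing S'] [Algebra T S'] (q : S →ₐ[T] S') :
    WithConv (C →ₐ[T] S) →* WithConv (C →ₐ[T] S') where
  toFun k := toConv (q.comp k.ofConv)
  map_one' := WithConv.ofConv_injective (AlgHom.ext fun c => q.commutes _)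
  map_mul' k k' := WithConv.ofConv_injective (AlgHom.comp_convMul_distrib q k k')

theorem pointsMap_apply {S S' : Type u} [CommRing S] [Algebra T S] [CommRing S'] [Algebra T S'] (q : S →ₐ[T] S')
    (k : WithConv (C →ₐ[T] S)) (c : C) : (pointsMap q k).ofConv c = q (k.ofConv c) := rfl

theorem pointsMap_comp {S S' S'' : Type u} [CommRing S] [Algebra T S] [CommRing S'] [Algebra T S'] [CommRing S'']
    [Algebra T S''] (q : S' →ₐ[T] S'') (p : S →ₐ[T] S') (k : WithConv (C →ₐ[T] S)) :
    pointsMap q (pointsMap p k) = pointsMap (q.comp p) k := rfl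

/-- The group of points with values in an arbitrary algebra. -/
@[reducible] noncomputable def pointsGroup {S : Type u} [CommRing S] [Algebra T S] : Group (WithConv (C →ₐ[T] S)) :=
  letI : Inv (WithConv (C →ₐ[T] S)) := ⟨fun k => toConv (k.ofConv.comp (HopfAlgebra.antipodeAlgHom T C))⟩
  { (inferInstance : Monoid (WithConv (C →ₐ[T] S))), (inferInstance : Inv (WithConv (C →ₐ[T] S))) with
    inv_mul_cancel := fun k => by
      have h := map_mul (pointsMap k.ofConv) (toConv (HopfAlgebra.antipodeAlgHom T C)) (toConv (AlgHom.id T C))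
      rw [AlgHom.antipode_id_cancel, map_one] at h
      exact h.symm }

attribute [local instance 2000] pointsGroup

section Ker

variable (J : Ideal T) {S : Type u} [CommRing S] [Algebra T S]

/-- The point is trivial modulo `J`. -/
def InKer (k : WithConv (C →ₐ[T] S)) : Prop :=
  ∀ c, k.ofConv c - algebraMap T S (counit c) ∈ J.map (algebraMap T S)

theorem InKer.lin (hJ : J * J = ⊥) {k k' : WithConv (C →ₐ[T] S)} (hk : InKer J k) (hk' : InKer J k') :
    convLin (k * k') = convLin k + convLin k' - 1 := by
  have hz : ∀ x ∈ J.map (algebraMap T S), ∀ y ∈ J.map (algebraMap T S), x * y = 0 := fun x hx y hy => by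
    have := Ideal.mul_mem_mul hx hy
    rwa [← Ideal.map_mul, hJ, Ideal.map_bot, Ideal.mem_bot] at this
  have h0 : (convLin k - 1) * (convLin k' - 1) = (0 : WithConv (C →ₗ[T] S)) := by
    refine WithConv.ofConv_injective (LinearMap.ext fun c => ?_)
    show LinearMap.mul' T S (TensorProduct.map (convLin k - 1).ofConv (convLin k' - 1).ofConv (comul (R := T) c)) = 0
    generalize comul (R := T) c = z
    induction z using TensorProduct.induction_on with
    | zero => simp
    | tmul a b =>
      rw [TensorProduct.map_tmul, LinearMap.mul'_apply]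
      exact hz _ (hk a) _ (hk' b)
    | add y z hy hz => rw [map_add, map_add, hy, hz, add_zero]
  rw [map_mul, ← sub_eq_zero, ← h0]
  noncomm_ring

theorem InKer.comm (hJ : J * J = ⊥) {k k' : WithConv (C →ₐ[T] S)} (hk : InKer J k) (hk' : InKer J k') :
    k * k' = k' * k := by
  have h1 := InKer.lin J hJ hk hk'
  have h2 := InKer.lin J hJ hk' hk
  rw [add_comm (convLin k') (convLin k), ← h1] at h2
  exact WithConv.ofConv_injective (AlgHom.toLinearMap_injective (congrArg WithConv.ofConv h2.symm))

theorem inKer_iff (k : WithConv (C →ₐ[T] S)) :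
    InKer J k ↔ pointsMap (Ideal.Quotient.mkₐ T (J.map (algebraMap T S))) k = 1 := by
  constructor
  · intro h
    refine WithConv.ofConv_injective (AlgHom.ext fun c => ?_)
    show Ideal.Quotient.mk _ (k.ofConv c) = algebraMap T _ (counit c)
    exact Ideal.Quotient.eq.mpr (h c)
  · intro h c
    exact Ideal.Quotient.eq.mp (AlgHom.congr_fun (congrArg WithConv.ofConv h) c)

theorem InKer.map {S' : Type u} [CommRing S'] [Algebra T S'] (q : S →ₐ[T] S') {k : WithConv (C →ₐ[T] S)}
    (hk : InKer J k) : InKer J (pointsMap q k) := fun c => by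
  rw [pointsMap_apply, ← q.commutes, ← map_sub]
  have := Ideal.mem_map_of_mem (q : S →+* S') (hk c)
  rwa [Ideal.map_map, q.comp_algebraMap] at this

theorem InKer.inv {k : WithConv (C →ₐ[T] S)} (hk : InKer J k) : InKer J k⁻¹ := by
  rw [inKer_iff] at hk ⊢
  rw [map_inv, hk, inv_one]

theorem InKer.conj {k : WithConv (C →ₐ[T] S)} (hk : InKer J k) (g : WithConv (C →ₐ[T] S)) :
    InKer J (g * k * g⁻¹) := by
  rw [inKer_iff] at hk ⊢
  rw [map_mul, map_mul, hk, mul_one, map_inv, mul_inv_cancel]

end Ker

variable {B : Type u} [CommRing B] [HopfAlgebra T B] (P : B →ₗ[T] T)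

/-- Integration over the last variable. -/
noncomputable def intLast (S : Type u) [CommRing S] [Algebra T S] : S ⊗[T] B →ₗ[T] S :=
  (TensorProduct.rid T S).toLinearMap ∘ₗ LinearMap.lTensor S P

theorem intLast_tmul {S : Type u} [CommRing S] [Algebra T S] (s : S) (b : B) :
    intLast P S (s ⊗ₜ[T] b) = P b • s := by simp [intLast]

theorem intLast_left {S : Type u} [CommRing S] [Algebra T S] (s : S) (y : S ⊗[T] B) :
    intLast P S ((s ⊗ₜ[T] (1 : B)) * y) = s * intLast P S y := by
  induction y using TensorProduct.induction_on with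
  | zero => simp
  | tmul a b => rw [Algebra.TensorProduct.tmul_mul_tmul, intLast_tmul, intLast_tmul, one_mul, mul_smul_comm]
  | add a b ha hb => rw [mul_add, map_add, map_add, ha, hb, mul_add]

theorem intLast_natural {S S' : Type u} [CommRing S] [Algebra T S] [CommRing S'] [Algebra T S'] (q : S →ₐ[T] S')
    (y : S ⊗[T] B) : intLast P S' (Algebra.TensorProduct.map q (AlgHom.id T B) y) = q (intLast P S y) := by
  induction y using TensorProduct.induction_on with
  | zero => simp
  | tmul a b => rw [Algebra.TensorProduct.map_tmul, intLast_tmul, intLast_tmul, map_smul]; rfl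
  | add a b ha hb => rw [map_add, map_add, map_add, map_add, ha, hb]

/-- Integration of points. -/
noncomputable def intLin {S : Type u} [CommRing S] [Algebra T S] :
    WithConv (C →ₗ[T] S ⊗[T] B) →ₗ[T] WithConv (C →ₗ[T] S) where
  toFun x := toConv (intLast P S ∘ₗ x.ofConv)
  map_add' x y := WithConv.ofConv_injective (LinearMap.comp_add _ _ _)
  map_smul' r x := WithConv.ofConv_injective (LinearMap.comp_smul _ _ _)

theorem intLin_apply {S : Type u} [CommRing S] [Algebra T S] (x : WithConv (C →ₗ[T] S ⊗[T] B)) (c : C) :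
    (intLin P x).ofConv c = intLast P S (x.ofConv c) := rfl

theorem intLin_mul_left {S : Type u} [CommRing S] [Algebra T S] (a : WithConv (C →ₐ[T] S))
    (x : WithConv (C →ₗ[T] S ⊗[T] B)) :
    intLin P (convLin (pointsMap Algebra.TensorProduct.includeLeft a) * x) = convLin a * intLin P x := by
  refine WithConv.ofConv_injective (LinearMap.ext fun c => ?_)
  show intLast P S (LinearMap.mul' T _ (TensorProduct.map (convLin (pointsMap Algebra.TensorProduct.includeLeft a)).ofConv
    x.ofConv (comul (R := T) c))) = LinearMap.mul' T S (TensorProduct.map (convLin a).ofConv (intLin P x).ofConv (comul (R := T) c))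
  generalize comul (R := T) c = z
  induction z using TensorProduct.induction_on with
  | zero => simp
  | tmul y w =>
    rw [TensorProduct.map_tmul, TensorProduct.map_tmul, LinearMap.mul'_apply, LinearMap.mul'_apply]
    exact intLast_left P _ _
  | add y w hy hw => rw [map_add, map_add, map_add, hy, hw, map_add, map_add]

theorem intLin_mul_right {S : Type u} [CommRing S] [Algebra T S] (a : WithConv (C →ₐ[T] S))
    (x : WithConv (C →ₗ[T] S ⊗[T] B)) :
    intLin P (x * convLin (pointsMap Algebra.TensorProduct.includeLeft a)) = intLin P x * convLin a := by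
  refine WithConv.ofConv_injective (LinearMap.ext fun c => ?_)
  show intLast P S (LinearMap.mul' T _ (TensorProduct.map x.ofConv
    (convLin (pointsMap Algebra.TensorProduct.includeLeft a)).ofConv (comul (R := T) c))) =
      LinearMap.mul' T S (TensorProduct.map (intLin P x).ofConv (convLin a).ofConv (comul (R := T) c))
  generalize comul (R := T) c = z
  induction z using TensorProduct.induction_on with
  | zero => simp
  | tmul y w =>
    rw [TensorProduct.map_tmul, TensorProduct.map_tmul, LinearMap.mul'_apply, LinearMap.mul'_apply, mul_comm,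
      mul_comm ((intLin P x).ofConv y)]
    exact intLast_left P _ _
  | add y w hy hw => rw [map_add, map_add, map_add, hy, hw, map_add, map_add]

theorem intLin_one (hP1 : P 1 = 1) {S : Type u} [CommRing S] [Algebra T S] :
    intLin P (1 : WithConv (C →ₗ[T] S ⊗[T] B)) = 1 := by
  refine WithConv.ofConv_injective (LinearMap.ext fun c => ?_)
  show intLast P S (algebraMap T (S ⊗[T] B) (counit c)) = algebraMap T S (counit c)
  rw [Algebra.TensorProduct.algebraMap_apply, intLast_tmul, hP1, one_smul]

/-- The integral of a point trivial modulo a square-zero ideal is a point. -/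
theorem exists_int_point (hP1 : P 1 = 1) (J : Ideal T) (hJ : J * J = ⊥) {S : Type u} [CommRing S] [Algebra T S]
    (k : WithConv (C →ₐ[T] S ⊗[T] B)) (hk : InKer J k) :
    ∃ u : WithConv (C →ₐ[T] S), convLin u = intLin P (convLin k) ∧ InKer J u := by
  have hI : ∀ x ∈ J.map (algebraMap T (S ⊗[T] B)), intLast P S x ∈ J.map (algebraMap T S) := fun x hx => by
    have h2 : x ∈ J • (⊤ : Submodule T (S ⊗[T] B)) := by rw [Ideal.smul_top_eq_map]; exact hx
    have h3 := Submodule.mem_map_of_mem (f := intLast P S) h2
    rw [Submodule.map_smul''] at h3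
    have h4 := Submodule.smul_mono (le_refl J) le_top h3
    rw [Ideal.smul_top_eq_map] at h4
    exact h4
  have hc : ∀ r : T, intLast P S (algebraMap T (S ⊗[T] B) r) = algebraMap T S r := fun r => by
    rw [Algebra.TensorProduct.algebraMap_apply, intLast_tmul, hP1, one_smul]
  have hmem : ∀ c, intLast P S (k.ofConv c) - algebraMap T S (counit c) ∈ J.map (algebraMap T S) := fun c => by
    rw [← hc, ← map_sub]
    exact hI _ (hk c)
  have hzero : ∀ (X : Type u) [CommRing X] [Algebra T X], ∀ x ∈ J.map (algebraMap T X), ∀ y ∈ J.map (algebraMap T X),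
      x * y = 0 := fun X _ _ x hx y hy => by
    have := Ideal.mul_mem_mul hx hy
    rwa [← Ideal.map_mul, hJ, Ideal.map_bot, Ideal.mem_bot] at this
  let u : C →ₐ[T] S := AlgHom.ofLinearMap (intLast P S ∘ₗ k.ofConv.toLinearMap)
    (show intLast P S (k.ofConv 1) = 1 by rw [map_one, ← map_one (algebraMap T (S ⊗[T] B)), hc, map_one])
    (fun a b => by
      show intLast P S (k.ofConv (a * b)) = intLast P S (k.ofConv a) * intLast P S (k.ofConv b)
      have e1 : k.ofConv (a * b) = algebraMap T (S ⊗[T] B) (counit a * counit b) +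
          (counit (R := T) a) • (k.ofConv b - algebraMap T _ (counit b)) +
          (counit (R := T) b) • (k.ofConv a - algebraMap T _ (counit a)) := by
        rw [map_mul, Algebra.smul_def, Algebra.smul_def, map_mul]
        linear_combination hzero _ _ (hk a) _ (hk b)
      rw [e1, map_add, map_add, map_smul, map_smul, map_sub, map_sub, hc, hc, hc, Algebra.smul_def,
        Algebra.smul_def, map_mul]
      linear_combination -(hzero _ _ (hmem a) _ (hmem b)))
  exact ⟨toConv u, rfl, hmem⟩

theorem cocycle_identity {G : Type u} [Group G] (x y z xy yz xyz : G) :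
    x * y * xy⁻¹ * (xy * z * xyz⁻¹) = x * (y * z * yz⁻¹) * x⁻¹ * (x * yz * xyz⁻¹) := by
  group

variable (hP1 : P 1 = 1) (hP : ∀ b : B, intLast P B (comul (R := T) b) = algebraMap T B (P b))

include hP in
theorem intLast_assoc (y : B ⊗[T] B) :
    intLast P (B ⊗[T] B) ((Algebra.TensorProduct.assoc T T T B B B).symm
      (Algebra.TensorProduct.map (AlgHom.id T B) (Bialgebra.comulAlgHom T B) y)) = intLast P B y ⊗ₜ[T] (1 : B) := by
  induction y using TensorProduct.induction_on with
  | zero => simp
  | tmul a b =>
    have key : ∀ z : B ⊗[T] B, intLast P (B ⊗[T] B) ((Algebra.TensorProduct.assoc T T T B B B).symm (a ⊗ₜ[T] z)) =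
        a ⊗ₜ[T] intLast P B z := fun z => by
      induction z using TensorProduct.induction_on with
      | zero => simp
      | tmul x w => rw [Algebra.TensorProduct.assoc_symm_tmul, intLast_tmul, intLast_tmul, TensorProduct.tmul_smul]
      | add x w hx hw => rw [TensorProduct.tmul_add, map_add, map_add, hx, hw, map_add, TensorProduct.tmul_add]
    show intLast P (B ⊗[T] B) ((Algebra.TensorProduct.assoc T T T B B B).symm (a ⊗ₜ[T] comul (R := T) b)) = _
    rw [key, intLast_tmul]
    rw [hP, Algebra.algebraMap_eq_smul_one, TensorProduct.tmul_smul, TensorProduct.smul_tmul']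
  | add a b ha hb => rw [map_add, map_add, map_add, ha, hb, map_add, TensorProduct.add_tmul]

include hP1 hP in
/-- An approximate homomorphism can be corrected. -/
theorem exists_bialgHom_lift (J : Ideal T) (hJ : J * J = ⊥) (f : C →ₐ[T] B)
    (hf : ∀ c, Algebra.TensorProduct.map f f (comul (R := T) c) - comul (R := T) (f c) ∈
      J.map (algebraMap T (B ⊗[T] B))) :
    ∃ φ : C →ₐc[T] B, ∀ c, φ c - f c ∈ J.map (algebraMap T B) := by
  let iL : B →ₐ[T] B ⊗[T] B := Algebra.TensorProduct.includeLeft
  let iR : B →ₐ[T] B ⊗[T] B := Algebra.TensorProduct.includeRight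
  let δ : B →ₐ[T] B ⊗[T] B := Bialgebra.comulAlgHom T B
  let F := toConv f
  have hlift : ∀ g : WithConv (C →ₐ[T] B), ∀ c, (pointsMap iL g * pointsMap iR g).ofConv c =
      Algebra.TensorProduct.map g.ofConv g.ofConv (comul (R := T) c) := fun g c => by
    refine (AlgHom.convMul_apply _ _ _).trans ?_
    exact AlgHom.congr_fun (Algebra.TensorProduct.ext
      (AlgHom.ext fun b => by simp [iL, iR, pointsMap])
      (AlgHom.ext fun b => by simp [iL, iR, pointsMap])) (comul c)
  let h := pointsMap iL F * pointsMap iR F * (pointsMap δ F)⁻¹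
  have hh : InKer J h := by
    rw [inKer_iff]
    let q := pointsMap (C := C) (Ideal.Quotient.mkₐ T (J.map (algebraMap T (B ⊗[T] B))))
    suffices e : q (pointsMap iL F * pointsMap iR F) = q (pointsMap δ F) by
      show q (pointsMap iL F * pointsMap iR F * (pointsMap δ F)⁻¹) = 1
      rw [map_mul, e, ← map_mul, mul_inv_cancel, map_one]
    refine WithConv.ofConv_injective (AlgHom.ext fun c => ?_)
    show Ideal.Quotient.mk _ ((pointsMap iL F * pointsMap iR F).ofConv c) = Ideal.Quotient.mk _ (δ (f c))
    rw [hlift]
    exact Ideal.Quotient.eq.mpr (hf c)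
  obtain ⟨u, hu, huk⟩ := exists_int_point P hP1 J hJ h hh
  let ι : B ⊗[T] B →ₐ[T] (B ⊗[T] B) ⊗[T] B := Algebra.TensorProduct.includeLeft
  let qxy : B ⊗[T] B →ₐ[T] (B ⊗[T] B) ⊗[T] B := Algebra.TensorProduct.map δ (AlgHom.id T B)
  let qyz : B ⊗[T] B →ₐ[T] (B ⊗[T] B) ⊗[T] B := Algebra.TensorProduct.map iR (AlgHom.id T B)
  let qx : B ⊗[T] B →ₐ[T] (B ⊗[T] B) ⊗[T] B := (Algebra.TensorProduct.assoc T T T B B B).symm.toAlgHom.comp
    (Algebra.TensorProduct.map (AlgHom.id T B) δ)
  let fx := pointsMap ι (pointsMap iL F)
  have e1 : pointsMap qxy (pointsMap iL F) = pointsMap ι (pointsMap δ F) :=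
    WithConv.ofConv_injective (AlgHom.ext fun c => by simp [qxy, ι, iL, pointsMap])
  have e2 : pointsMap qxy (pointsMap iR F) = pointsMap Algebra.TensorProduct.includeRight F :=
    WithConv.ofConv_injective (AlgHom.ext fun c => by simp [qxy, iR, pointsMap, Algebra.TensorProduct.one_def])
  have e3 : pointsMap qyz (pointsMap iL F) = pointsMap ι (pointsMap iR F) :=
    WithConv.ofConv_injective (AlgHom.ext fun c => by simp [qyz, ι, iL, pointsMap])
  have e4 : pointsMap qyz (pointsMap iR F) = pointsMap Algebra.TensorProduct.includeRight F :=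
    WithConv.ofConv_injective (AlgHom.ext fun c => by simp [qyz, iR, pointsMap, Algebra.TensorProduct.one_def])
  have e5 : pointsMap qx (pointsMap iL F) = fx :=
    WithConv.ofConv_injective (AlgHom.ext fun c => by simp [qx, fx, ι, iL, pointsMap, Algebra.TensorProduct.one_def])
  have e6 : pointsMap qx (pointsMap iR F) = pointsMap qyz (pointsMap δ F) :=
    WithConv.ofConv_injective (AlgHom.ext fun c => by
      show (Algebra.TensorProduct.assoc T T T B B B).symm ((1 : B) ⊗ₜ[T] δ (f c)) = qyz (δ (f c))
      generalize δ (f c) = z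
      induction z using TensorProduct.induction_on with
      | zero => simp
      | tmul a b => simp [qyz, iR]
      | add a b ha hb => rw [TensorProduct.tmul_add, map_add, ha, hb, map_add])
  have e7 : pointsMap qx (pointsMap δ F) = pointsMap qxy (pointsMap δ F) :=
    WithConv.ofConv_injective (AlgHom.ext fun c => Coalgebra.coassoc_symm_apply (R := T) (f c))
  let H₁ := pointsMap qxy h
  let Hyz := pointsMap qyz h
  let Hx := pointsMap qx h
  have hcoc : pointsMap ι h * H₁ = fx * Hyz * fx⁻¹ * Hx := by
    show pointsMap ι (pointsMap iL F * pointsMap iR F * (pointsMap δ F)⁻¹) *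
        pointsMap qxy (pointsMap iL F * pointsMap iR F * (pointsMap δ F)⁻¹) =
      fx * pointsMap qyz (pointsMap iL F * pointsMap iR F * (pointsMap δ F)⁻¹) * fx⁻¹ *
        pointsMap qx (pointsMap iL F * pointsMap iR F * (pointsMap δ F)⁻¹)
    simp only [map_mul, map_inv, e1, e2, e3, e4, e5, e6, e7, fx]
    exact cocycle_identity (G := WithConv (C →ₐ[T] (B ⊗[T] B) ⊗[T] B)) _ _ _ _ _ _
  have hι : InKer J (pointsMap ι h) := hh.map J ι
  have hnat : ∀ q : B →ₐ[T] B ⊗[T] B,
      intLin P (convLin (pointsMap (Algebra.TensorProduct.map q (AlgHom.id T B)) h)) = convLin (pointsMap q u) := by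
    intro q
    refine WithConv.ofConv_injective (LinearMap.ext fun c => ?_)
    show intLast P _ (Algebra.TensorProduct.map q (AlgHom.id T B) (h.ofConv c)) = q (u.ofConv c)
    rw [intLast_natural]
    exact congrArg q (LinearMap.congr_fun (congrArg WithConv.ofConv hu) c).symm
  have hx : intLin P (convLin Hx) = convLin (pointsMap iL u) := by
    refine WithConv.ofConv_injective (LinearMap.ext fun c => ?_)
    show intLast P _ ((Algebra.TensorProduct.assoc T T T B B B).symm
      (Algebra.TensorProduct.map (AlgHom.id T B) (Bialgebra.comulAlgHom T B) (h.ofConv c))) = iL (u.ofConv c)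
    rw [intLast_assoc P hP]
    exact congrArg iL (LinearMap.congr_fun (congrArg WithConv.ofConv hu) c).symm
  let uL := pointsMap iL u
  let uR := pointsMap iR u
  let g := pointsMap iL F
  have hyz : InKer J Hyz := hh.map J qyz
  have hxk : InKer J Hx := hh.map J qx
  have hR : InKer J (g * uR * g⁻¹) := (huk.map J iR).conj J g
  have hmain : h * pointsMap δ u = g * uR * g⁻¹ * uL := by
    have hl : intLin P (convLin (pointsMap ι h * H₁)) = convLin (h * pointsMap δ u) := by
      rw [map_mul convLin]
      refine (intLin_mul_left P h _).trans ?_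
      rw [hnat δ]
      exact (map_mul convLin h (pointsMap δ u)).symm
    have hr : intLin P (convLin (fx * Hyz * fx⁻¹ * Hx)) = convLin (g * uR * g⁻¹ * uL) := by
      rw [InKer.lin J hJ (hyz.conj J fx) hxk, InKer.lin J hJ hR (huk.map J iL), map_sub, map_add, intLin_one P hP1,
        hx, map_mul convLin, map_mul convLin]
      congr 2
      rw [show fx⁻¹ = pointsMap ι g⁻¹ from (map_inv (pointsMap ι) g).symm]
      refine (intLin_mul_right P g⁻¹ _).trans ?_
      rw [show convLin fx * convLin Hyz = convLin (pointsMap ι g) * convLin Hyz from rfl, intLin_mul_left P g,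
        hnat iR, map_mul convLin, map_mul convLin]
    rw [hcoc] at hl
    exact WithConv.ofConv_injective (AlgHom.toLinearMap_injective (congrArg WithConv.ofConv (hl.symm.trans hr)))
  let F' := u⁻¹ * F
  have hhom : pointsMap iL F' * pointsMap iR F' = pointsMap δ F' := by
    have e : h = g * uR * g⁻¹ * uL * (pointsMap δ u)⁻¹ := by rw [← hmain, mul_inv_cancel_right]
    have e' : pointsMap iR F = g⁻¹ * h * pointsMap δ F := by
      show _ = (pointsMap iL F)⁻¹ * (pointsMap iL F * pointsMap iR F * (pointsMap δ F)⁻¹) * pointsMap δ F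
      group
    show pointsMap iL (u⁻¹ * F) * pointsMap iR (u⁻¹ * F) = pointsMap δ (u⁻¹ * F)
    rw [map_mul, map_mul, map_mul, map_inv, map_inv, map_inv, e']
    show uL⁻¹ * g * (uR⁻¹ * (g⁻¹ * h * pointsMap δ F)) = (pointsMap δ u)⁻¹ * pointsMap δ F
    rw [e]
    group
  have hcounit : pointsMap (Bialgebra.counitAlgHom T B) F' = 1 := by
    let εε : B ⊗[T] B →ₐ[T] T := Algebra.TensorProduct.lift (Bialgebra.counitAlgHom T B)
      (Bialgebra.counitAlgHom T B) fun _ _ => Commute.all _ _
    have h1 := congrArg (pointsMap εε) hhom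
    rw [map_mul, pointsMap_comp, pointsMap_comp, pointsMap_comp,
      show εε.comp iL = Bialgebra.counitAlgHom T B from AlgHom.ext fun b => by simp [εε, iL],
      show εε.comp iR = Bialgebra.counitAlgHom T B from AlgHom.ext fun b => by simp [εε, iR],
      show εε.comp δ = Bialgebra.counitAlgHom T B from AlgHom.ext fun b => by
        show εε (comul (R := T) b) = counit (R := T) b
        have hz : ∀ z : B ⊗[T] B, εε z = LinearMap.mul' T T (TensorProduct.map counit counit z) := fun z => by
          induction z using TensorProduct.induction_on with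
          | zero => simp
          | tmul x y => simp [εε]
          | add x y hx hy => rw [map_add, map_add, map_add, hx, hy]
        rw [hz]
        let r := ℛ T b
        rw [← r.eq, map_sum, map_sum]
        conv_rhs => rw [← sum_counit_smul r, map_sum]
        simp [smul_eq_mul]] at h1
    exact mul_eq_left.mp h1
  refine ⟨BialgHom.ofAlgHom F'.ofConv (congrArg WithConv.ofConv hcounit) (AlgHom.ext fun c => ?_), fun c => ?_⟩
  · show Algebra.TensorProduct.map F'.ofConv F'.ofConv (comul (R := T) c) = δ (F'.ofConv c)
    rw [← hlift, hhom]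
    rfl
  · show F'.ofConv c - F.ofConv c ∈ _
    rw [← Ideal.Quotient.eq]
    have h1 := (inKer_iff J u).mp huk
    have h2 : pointsMap (Ideal.Quotient.mkₐ T (J.map (algebraMap T B))) F' =
        pointsMap (Ideal.Quotient.mkₐ T (J.map (algebraMap T B))) F := by
      rw [map_mul, (inKer_iff J u⁻¹).mp huk.inv, one_mul]
    exact AlgHom.congr_fun (congrArg WithConv.ofConv h2) c

end Groth.Agent.IsoTriv
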