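import Groth.Agent.IsoTriv.SmoothCocycle
import Groth.Agent.IsoTriv.GroupLikeBC
import Groth.Agent.IsoTriv.TorsionQuot

/-! Invariant integrals on isotrivial groups of multiplicative type. -/

universe u

open TensorProduct Coalgebra

namespace Groth.Agent.IsoTriv

open SGA3bLib

variable {A : Type u} [CommRing A] {B : Type u} [CommRing B] [HopfAlgebra A B]

/-- Pairing an algebra-valued functional with the second factor of the comultiplication. -/
noncomputable def intMap {S : Type u} [CommRing S] [Algebra A S] (f : B →ₗ[A] S) : B ⊗[A] B →ₗ[A] S ⊗[A] B :=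
  (TensorProduct.comm A B S).toLinearMap ∘ₗ LinearMap.lTensor B f

/-- An invariant integral with values in an algebra. -/
def IsIntegralMap {S : Type u} [CommRing S] [Algebra A S] (f : B →ₗ[A] S) : Prop :=
  f 1 = 1 ∧ ∀ b, intMap f (comul (R := A) b) = f b ⊗ₜ[A] (1 : B)

theorem IsIntegralMap.comp {S S' : Type u} [CommRing S] [Algebra A S] [CommRing S'] [Algebra A S'] {f : B →ₗ[A] S}
    (hf : IsIntegralMap f) (q : S →ₐ[A] S') : IsIntegralMap (q.toLinearMap ∘ₗ f) := by
  refine ⟨by simp [hf.1], fun b => ?_⟩
  have key : ∀ z : B ⊗[A] B, intMap (q.toLinearMap ∘ₗ f) z = q.toLinearMap.rTensor B (intMap f z) := fun z => by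
    induction z using TensorProduct.induction_on with
    | zero => simp
    | tmul x y => simp [intMap]
    | add x y hx hy => rw [map_add, map_add, map_add, hx, hy]
  rw [key, hf.2]
  rfl

theorem IsIntegralMap.unique [Coalgebra.IsCocomm A B] {S : Type u} [CommRing S] [Algebra A S] {f g : B →ₗ[A] S}
    (hf : IsIntegralMap f) (hg : IsIntegralMap g) : f = g := by
  have e : ∀ (f g : B →ₗ[A] S) (z : B ⊗[A] B),
      LinearMap.mul' A S (LinearMap.lTensor S g (intMap f z)) = LinearMap.mul' A S (TensorProduct.map f g (TensorProduct.comm A B B z)) :=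
    fun f g z => by
      induction z using TensorProduct.induction_on with
      | zero => simp
      | tmul x y => simp [intMap]
      | add x y hx hy => simp only [map_add, hx, hy]
  refine LinearMap.ext fun b => ?_
  have h1 := congrArg (fun t => LinearMap.mul' A S (LinearMap.lTensor S g t)) (hf.2 b)
  have h2 := congrArg (fun t => LinearMap.mul' A S (LinearMap.lTensor S f t)) (hg.2 b)
  simp only [e, LinearMap.lTensor_tmul, LinearMap.mul'_apply, Coalgebra.comm_comul, hg.1, hf.1, mul_one] at h1 h2
  rw [← h1, ← h2]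
  conv_rhs => rw [← Coalgebra.comm_comul A b]
  generalize comul (R := A) b = z
  induction z using TensorProduct.induction_on with
  | zero => simp
  | tmul x y => simp [mul_comm]
  | add x y hx hy => simp only [map_add, hx, hy]

theorem isIntegralMap_of_diag {S : Type u} [CommRing S] [Algebra A S] {M : Type u} [CommGroup M]
    (e : S ⊗[A] B ≃ₐc[S] MonoidAlgebra S M) :
    IsIntegralMap (((coef (R := S) (1 : M)).comp e.toAlgEquiv.toLinearEquiv.toLinearMap).restrictScalars A ∘ₗ
      TensorProduct.mk A S B 1) := by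
  classical
  set lam : S ⊗[A] B →ₗ[S] S := (coef (R := S) (1 : M)).comp e.toAlgEquiv.toLinearEquiv.toLinearMap
  refine ⟨?_, fun b => ?_⟩
  · show coef (1 : M) (e ((1 : S) ⊗ₜ[A] (1 : B))) = 1
    rw [← Algebra.TensorProduct.one_def, map_one, MonoidAlgebra.one_def, coef_single, if_pos rfl]
  · let L : (S ⊗[A] B) ⊗[S] (S ⊗[A] B) →ₗ[S] S ⊗[A] B :=
      (TensorProduct.rid S _).toLinearMap ∘ₗ LinearMap.lTensor _ lam
    have key : ∀ z : B ⊗[A] B, intMap (lam.restrictScalars A ∘ₗ TensorProduct.mk A S B 1) z =
        L (TensorProduct.AlgebraTensorModule.tensorTensorTensorComm A S A S S S B B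
          (((1 : S) ⊗ₜ[S] (1 : S)) ⊗ₜ[A] z)) := fun z => by
      induction z using TensorProduct.induction_on with
      | zero => simp
      | tmul x y =>
        show lam ((1 : S) ⊗ₜ[A] y) ⊗ₜ[A] x = lam ((1 : S) ⊗ₜ[A] y) • ((1 : S) ⊗ₜ[A] x)
        rw [TensorProduct.smul_tmul', smul_eq_mul, mul_one]
      | add x y hx hy => simp only [map_add, TensorProduct.tmul_add, hx, hy]
    have hinv : ∀ w : S ⊗[A] B, L (comul (R := S) w) = lam w • (1 : S ⊗[A] B) := by
      intro w
      obtain ⟨v, rfl⟩ := e.symm.toAlgEquiv.surjective w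
      show L (comul (R := S) (e.symm v)) = lam (e.symm v) • (1 : S ⊗[A] B)
      rw [← CoalgHomClass.map_comp_comul_apply e.symm v]
      have hlam : ∀ u, lam (e.symm u) = coef (1 : M) u := fun u => congrArg (coef 1) (e.apply_symm_apply u)
      induction v using MonoidAlgebra.induction_linear with
      | zero => simp
      | add a c ha hc => rw [map_add, map_add, map_add, map_add, map_add, add_smul, ha, hc]
      | single m r =>
        rw [hlam, MonoidAlgebra.comul_single]
        simp only [L, CommSemiring.comul_apply, TensorProduct.map_tmul, LinearMap.comp_apply, LinearEquiv.coe_coe,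
          MonoidAlgebra.lsingle_apply, LinearMap.lTensor_tmul, TensorProduct.rid_tmul]
        show lam (e.symm (MonoidAlgebra.single m r)) • e.symm (MonoidAlgebra.single m 1) = _
        rw [hlam, coef_single]
        split_ifs with h
        · subst h
          rw [← MonoidAlgebra.one_def]
          exact congrArg (r • ·) (map_one e.symm)
        · rw [zero_smul, zero_smul]
    rw [key]
    refine Eq.trans ?_ ((hinv ((1 : S) ⊗ₜ[A] b)).trans ?_)
    · rw [TensorProduct.comul_tmul, CommSemiring.comul_apply]
    · rw [Algebra.TensorProduct.one_def, TensorProduct.smul_tmul', smul_eq_mul, mul_one]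
      rfl

/-- Isotrivial groups carry an invariant integral. -/
theorem exists_integral (hB : SGA3b.IsIsotrivial A B) :
    ∃ P : B →ₗ[A] A, P 1 = 1 ∧ ∀ b, intLast P B (comul (R := A) b) = algebraMap A B (P b) := by
  obtain ⟨T, _, _, -, -, hff, M, _, ⟨e⟩⟩ := hB
  have := hff
  have : Coalgebra.IsCocomm A B := isCocomm_of_diag (T := T) ⟨M, inferInstance, ⟨e⟩⟩
  obtain ⟨f, hf⟩ : ∃ f : B →ₗ[A] T, IsIntegralMap f := ⟨_, isIntegralMap_of_diag e⟩
  have heq := IsIntegralMap.unique (hf.comp (Algebra.TensorProduct.includeLeft : T →ₐ[A] T ⊗[A] T))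
    (hf.comp (Algebra.TensorProduct.includeRight : T →ₐ[A] T ⊗[A] T))
  have hex : ∀ b, ∃ p : A, f b = algebraMap A T p := fun b => by
    obtain ⟨p, hp⟩ := exists_eq_one_tmul T (M := A) (f b ⊗ₜ[A] 1)
      (congrArg (fun t => t ⊗ₜ[A] (1 : A)) (LinearMap.congr_fun heq b))
    refine ⟨p, ?_⟩
    have := congrArg (TensorProduct.rid A T) hp
    simpa [Algebra.smul_def] using this
  choose p hp using hex
  have hinj := FaithfulSMul.algebraMap_injective A T
  let P : B →ₗ[A] A :=
    { toFun := p
      map_add' := fun x y => hinj (by rw [map_add, ← hp, ← hp, ← hp, map_add])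
      map_smul' := fun r x => hinj (by rw [RingHom.id_apply, smul_eq_mul, map_mul, ← hp, ← hp, map_smul, Algebra.smul_def]) }
  refine ⟨P, hinj ((hp 1).symm.trans (hf.1.trans (map_one _).symm)), fun b => eq_of_one_tmul (R := A) T ?_⟩
  have key : ∀ z : B ⊗[A] B, (1 : T) ⊗ₜ[A] intLast P B z = intMap f z := fun z => by
    induction z using TensorProduct.induction_on with
    | zero => simp
    | tmul x y =>
      rw [intLast_tmul, TensorProduct.tmul_smul, TensorProduct.smul_tmul']
      show (p y • (1 : T)) ⊗ₜ[A] x = f y ⊗ₜ[A] x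
      rw [hp, Algebra.algebraMap_eq_smul_one]
    | add x y hx hy => simp only [map_add, TensorProduct.tmul_add, hx, hy]
  rw [key, hf.2, hp]
  show algebraMap A T (p b) ⊗ₜ[A] (1 : B) = (1 : T) ⊗ₜ[A] algebraMap A B (p b)
  rw [Algebra.algebraMap_eq_smul_one, Algebra.algebraMap_eq_smul_one, TensorProduct.smul_tmul]

/-- Base change of an invariant integral. -/
theorem exists_integral_bc (P : B →ₗ[A] A) (hP1 : P 1 = 1)
    (hP : ∀ b, intLast P B (comul (R := A) b) = algebraMap A B (P b)) (T : Type u) [CommRing T] [Algebra A T] :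
    ∃ Q : T ⊗[A] B →ₗ[T] T, Q 1 = 1 ∧
      ∀ z, intLast Q (T ⊗[A] B) (comul (R := T) z) = algebraMap T (T ⊗[A] B) (Q z) := by
  let Q : T ⊗[A] B →ₗ[T] T := (TensorProduct.AlgebraTensorModule.rid A T T).toLinearMap ∘ₗ P.baseChange T
  have hQ : ∀ t b, Q (t ⊗ₜ[A] b) = t * algebraMap A T (P b) := fun t b => by
    simp [Q, Algebra.smul_def, mul_comm]
  refine ⟨Q, ?_, fun z => ?_⟩
  · rw [Algebra.TensorProduct.one_def, hQ, hP1, map_one, mul_one]
  · have key : ∀ w : B ⊗[A] B, intLast Q (T ⊗[A] B) (TensorProduct.AlgebraTensorModule.tensorTensorTensorComm A T A T T T B B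
        (((1 : T) ⊗ₜ[T] (1 : T)) ⊗ₜ[A] w)) = (1 : T) ⊗ₜ[A] intLast P B w := fun w => by
      induction w using TensorProduct.induction_on with
      | zero => simp
      | tmul x y =>
        rw [TensorProduct.AlgebraTensorModule.tensorTensorTensorComm_tmul, intLast_tmul, intLast_tmul, hQ, one_mul,
          algebraMap_smul, TensorProduct.tmul_smul]
      | add x y hx hy => simp only [map_add, TensorProduct.tmul_add, hx, hy]
    induction z using TensorProduct.induction_on with
    | zero => simp
    | add x y hx hy => simp only [map_add, hx, hy]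
    | tmul t b =>
      have ht : (t ⊗ₜ[A] b : T ⊗[A] B) = t • ((1 : T) ⊗ₜ[A] b) := by
        rw [TensorProduct.smul_tmul', smul_eq_mul, mul_one]
      rw [ht, map_smul, map_smul, map_smul, smul_eq_mul, map_mul, Algebra.smul_def]
      congr 1
      rw [TensorProduct.comul_tmul, CommSemiring.comul_apply, key, hP, hQ, one_mul, Algebra.TensorProduct.algebraMap_apply,
        Algebra.algebraMap_eq_smul_one, Algebra.algebraMap_self, RingHom.id_apply, Algebra.algebraMap_eq_smul_one,
        TensorProduct.smul_tmul]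

end Groth.Agent.IsoTriv
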