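import Groth.Agent.IsoTriv.SmoothIntegral
import Groth.Agent.SGA3bLib.Stages
import Groth.Agent.IsoTriv.HomDescent
import Mathlib.RingTheory.Smooth.Basic
import Mathlib.RingTheory.TensorProduct.Quotient

/-! Lifting homomorphisms into smooth groups along square-zero thickenings. -/

universe u

open TensorProduct Coalgebra

namespace Groth.Agent.IsoTriv

open SGA3bLib

variable {A : Type u} [CommRing A] {B : Type u} [CommRing B] [HopfAlgebra A B] {C : Type u} [CommRing C]
  [HopfAlgebra A C]

/-- The left factor in the twofold tensor algebra. -/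
noncomputable def twoL (S : Type u) [CommRing S] [Algebra A S] :
    S ⊗[A] B →ₐ[A] S ⊗[A] (B ⊗[A] B) :=
  Algebra.TensorProduct.map (AlgHom.id A S) Algebra.TensorProduct.includeLeft

/-- The right factor in the twofold tensor algebra. -/
noncomputable def twoR (S : Type u) [CommRing S] [Algebra A S] :
    S ⊗[A] B →ₐ[A] S ⊗[A] (B ⊗[A] B) :=
  Algebra.TensorProduct.map (AlgHom.id A S) Algebra.TensorProduct.includeRight

theorem distrib_mul {S : Type u} [CommRing S] [Algebra A S] (x y : S ⊗[A] B) :
    TensorProduct.AlgebraTensorModule.distribBaseChange A S B B (twoL S x * twoR S y) = x ⊗ₜ[S] y := by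
  induction x using TensorProduct.induction_on with
  | zero => simp
  | tmul s a =>
    induction y using TensorProduct.induction_on with
    | zero => simp
    | tmul t b =>
      simp [twoL, twoR, TensorProduct.AlgebraTensorModule.distribBaseChange_tmul]
      rw [show (t ⊗ₜ[A] b : S ⊗[A] B) = t • ((1 : S) ⊗ₜ[A] b) by rw [TensorProduct.smul_tmul', smul_eq_mul, mul_one],
        TensorProduct.tmul_smul, TensorProduct.smul_tmul', TensorProduct.smul_tmul', smul_eq_mul, mul_comm]
    | add u v hu hv => rw [map_add, mul_add, map_add, hu, hv, TensorProduct.tmul_add]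
  | add u v hu hv => rw [map_add, add_mul, map_add, hu, hv, TensorProduct.add_tmul]

/-- The defect of a map into `S ⊗ B` from being a map of coalgebras. -/
noncomputable def defect {S : Type u} [CommRing S] [Algebra A S] (g : C →ₐ[A] S ⊗[A] B) (c : C) :
    S ⊗[A] (B ⊗[A] B) :=
  Algebra.TensorProduct.lift ((twoL S).comp g) ((twoR S).comp g) (fun _ _ => Commute.all _ _) (comul (R := A) c) -
    Algebra.TensorProduct.map (AlgHom.id A S) (Bialgebra.comulAlgHom A B) (g c)

theorem distrib_defect {S : Type u} [CommRing S] [Algebra A S] (g : C →ₐ[A] S ⊗[A] B)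
    (f : S ⊗[A] C →ₐ[S] S ⊗[A] B) (hf : ∀ c, f ((1 : S) ⊗ₜ[A] c) = g c) (c : C) :
    TensorProduct.AlgebraTensorModule.distribBaseChange A S B B (defect g c) =
      Algebra.TensorProduct.map f f (comul (R := S) ((1 : S) ⊗ₜ[A] c)) - comul (R := S) (g c) := by
  rw [defect, map_sub]
  congr 1
  · rw [comul_one_tmul]
    generalize comul (R := A) c = z
    induction z using TensorProduct.induction_on with
    | zero => simp
    | tmul x y =>
      rw [Algebra.TensorProduct.lift_tmul, AlgHom.comp_apply, AlgHom.comp_apply, distrib_mul,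
        TensorProduct.AlgebraTensorModule.distribBaseChange_tmul]
      show _ = Algebra.TensorProduct.map f f (((1 : S) ⊗ₜ[A] x) ⊗ₜ[S] ((1 : S) ⊗ₜ[A] y))
      rw [Algebra.TensorProduct.map_tmul, hf, hf]
    | add x y hx hy => simp only [map_add, TensorProduct.tmul_add, hx, hy]
  · generalize g c = w
    induction w using TensorProduct.induction_on with
    | zero => simp
    | tmul s b =>
      show TensorProduct.AlgebraTensorModule.distribBaseChange A S B B (s ⊗ₜ[A] comul (R := A) b) =
        comul (R := S) (s ⊗ₜ[A] b)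
      rw [show (s ⊗ₜ[A] b : S ⊗[A] B) = s • ((1 : S) ⊗ₜ[A] b) by rw [TensorProduct.smul_tmul', smul_eq_mul, mul_one],
        map_smul, comul_one_tmul, ← map_smul, TensorProduct.smul_tmul', smul_eq_mul, mul_one]
    | add x y hx hy => simp only [map_add, hx, hy]

theorem defect_map {S S' : Type u} [CommRing S] [Algebra A S] [CommRing S'] [Algebra A S'] (q : S →ₐ[A] S')
    (g : C →ₐ[A] S ⊗[A] B) (c : C) :
    Algebra.TensorProduct.map q (AlgHom.id A (B ⊗[A] B)) (defect g c) =
      defect ((Algebra.TensorProduct.map q (AlgHom.id A B)).comp g) c := by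
  rw [defect, defect, map_sub]
  congr 1
  · refine ((AlgHom.comp_apply _ _ _).symm.trans (AlgHom.congr_fun ?_ _))
    refine Algebra.TensorProduct.ext (AlgHom.ext fun x => ?_) (AlgHom.ext fun x => ?_)
    · simp only [AlgHom.comp_apply, Algebra.TensorProduct.includeLeft_apply, Algebra.TensorProduct.lift_tmul, map_one, mul_one]
      generalize g x = w
      induction w using TensorProduct.induction_on with
      | zero => simp
      | tmul s b => simp [twoL]
      | add u v hu hv => simp only [map_add, hu, hv]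
    · simp only [AlgHom.comp_apply, AlgHom.restrictScalars_apply, Algebra.TensorProduct.includeRight_apply,
        Algebra.TensorProduct.lift_tmul, map_one, one_mul]
      generalize g x = w
      induction w using TensorProduct.induction_on with
      | zero => simp
      | tmul s b => simp [twoR]
      | add u v hu hv => simp only [map_add, hu, hv]
  · show _ = Algebra.TensorProduct.map (AlgHom.id A S') (Bialgebra.comulAlgHom A B)
      (Algebra.TensorProduct.map q (AlgHom.id A B) (g c))
    generalize g c = w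
    induction w using TensorProduct.induction_on with
    | zero => simp
    | tmul s b => simp
    | add u v hu hv => simp only [map_add, hu, hv]

theorem mem_of_push_eq_zero {T T' : Type u} [CommRing T] [CommRing T'] [Algebra A T] [Algebra A T'] (q : T →ₐ[A] T')
    (hq : Function.Surjective q) {M : Type u} [CommRing M] [Algebra A M] {x : T ⊗[A] M}
    (hx : Algebra.TensorProduct.map q (AlgHom.id A M) x = 0) :
    x ∈ (RingHom.ker q).map (algebraMap T (T ⊗[A] M)) := by
  have h : x ∈ RingHom.ker (Algebra.TensorProduct.map q (AlgHom.id A M)) := hx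
  rw [Algebra.TensorProduct.rTensor_ker (R := A) (S := A) (C := M) q hq] at h
  exact h

/-- A homomorphism into a smooth group lifts along a square-zero thickening. -/
theorem exists_smooth_level [Algebra.FormallySmooth A C] (P : B →ₗ[A] A) (hP1 : P 1 = 1)
    (hP : ∀ b, intLast P B (comul (R := A) b) = algebraMap A B (P b)) {T T' : Type u} [CommRing T] [CommRing T']
    [Algebra A T] [Algebra A T'] (q : T →ₐ[A] T') (hq : Function.Surjective q)
    (hJ : RingHom.ker q * RingHom.ker q = ⊥) (f₀ : T' ⊗[A] C →ₐc[T'] T' ⊗[A] B) :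
    ∃ φ : T ⊗[A] C →ₐc[T] T ⊗[A] B, ∀ c : C, push B q (φ ((1 : T) ⊗ₜ[A] c)) = f₀ ((1 : T') ⊗ₜ[A] c) := by
  set J := RingHom.ker q
  let π : T ⊗[A] B →ₐ[A] T' ⊗[A] B := push B q
  have hπ : Function.Surjective π := LinearMap.rTensor_surjective B (g := q.toLinearMap) hq
  have hnil : IsNilpotent (RingHom.ker π.toRingHom) := by
    refine ⟨2, eq_bot_iff.mpr ?_⟩
    have hle : RingHom.ker π.toRingHom ≤ J.map (algebraMap T (T ⊗[A] B)) := fun x hx => mem_of_push_eq_zero q hq hx
    refine (Ideal.pow_right_mono hle 2).trans ?_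
    rw [pow_two, ← Ideal.map_mul, hJ, Ideal.map_bot]
  let g₀ : C →ₐ[A] T' ⊗[A] B :=
    ((f₀ : T' ⊗[A] C →ₐ[T'] T' ⊗[A] B).restrictScalars A).comp Algebra.TensorProduct.includeRight
  obtain ⟨g, hg⟩ : ∃ g : C →ₐ[A] T ⊗[A] B, π.comp g = g₀ :=
    ⟨Algebra.FormallySmooth.liftOfSurjective g₀ π hπ hnil, Algebra.FormallySmooth.comp_liftOfSurjective g₀ π hπ hnil⟩
  let f : T ⊗[A] C →ₐ[T] T ⊗[A] B :=
    Algebra.TensorProduct.lift (Algebra.ofId T (T ⊗[A] B)) g fun _ _ => Commute.all _ _
  have hf : ∀ c, f ((1 : T) ⊗ₜ[A] c) = g c := fun c => by simp [f, ← Algebra.TensorProduct.one_def]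
  have hdef : ∀ c, defect g c ∈ J.map (algebraMap T (T ⊗[A] (B ⊗[A] B))) := fun c => by
    refine mem_of_push_eq_zero q hq ?_
    rw [defect_map]
    show defect (π.comp g) c = 0
    rw [hg]
    apply (TensorProduct.AlgebraTensorModule.distribBaseChange A T' B B).injective
    rw [distrib_defect g₀ (f₀ : T' ⊗[A] C →ₐ[T'] T' ⊗[A] B) (fun _ => rfl), map_zero, sub_eq_zero]
    exact CoalgHomClass.map_comp_comul_apply f₀ _
  have hdefect : ∀ x : T ⊗[A] C, Algebra.TensorProduct.map f f (comul (R := T) x) - comul (R := T) (f x) ∈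
      J.map (algebraMap T ((T ⊗[A] B) ⊗[T] (T ⊗[A] B))) := by
    intro x
    induction x using TensorProduct.induction_on with
    | zero => simp
    | add x y hx hy => rw [map_add, map_add, map_add, map_add, add_sub_add_comm]; exact add_mem hx hy
    | tmul t c =>
      rw [show (t ⊗ₜ[A] c : T ⊗[A] C) = algebraMap T (T ⊗[A] C) t * ((1 : T) ⊗ₜ[A] c) by
          rw [Algebra.TensorProduct.algebraMap_apply, Algebra.TensorProduct.tmul_mul_tmul, Algebra.algebraMap_self,
            RingHom.id_apply, mul_one, one_mul],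
        Bialgebra.comul_mul, Bialgebra.comul_algebraMap, map_mul, map_mul, AlgHom.commutes, AlgHom.commutes,
        Bialgebra.comul_mul, Bialgebra.comul_algebraMap, hf, ← mul_sub, ← distrib_defect g f hf]
      refine Ideal.mul_mem_left _ _ ?_
      have h2 : defect g c ∈ J • (⊤ : Submodule T (T ⊗[A] (B ⊗[A] B))) := by
        rw [Ideal.smul_top_eq_map]; exact hdef c
      have h3 := Submodule.mem_map_of_mem
        (f := (TensorProduct.AlgebraTensorModule.distribBaseChange A T B B).toLinearMap) h2
      rw [Submodule.map_smul''] at h3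
      have h4 := Submodule.smul_mono (le_refl J) le_top h3
      rw [Ideal.smul_top_eq_map] at h4
      exact h4
  obtain ⟨Q, hQ1, hQ⟩ := exists_integral_bc P hP1 hP T
  obtain ⟨φ, hφ⟩ := exists_bialgHom_lift Q hQ1 hQ J hJ f hdefect
  refine ⟨φ, fun c => ?_⟩
  have h := hφ ((1 : T) ⊗ₜ[A] c)
  rw [hf] at h
  have h0 : J.map (algebraMap T (T ⊗[A] B)) ≤ RingHom.ker π := Ideal.map_le_iff_le_comap.mpr fun r hr => by
    rw [Ideal.mem_comap, RingHom.mem_ker]
    show π (r ⊗ₜ[A] (1 : B)) = 0
    rw [push_tmul, show q r = 0 from hr, TensorProduct.zero_tmul]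
  have h1 : π (φ ((1 : T) ⊗ₜ[A] c) - g c) = 0 := h0 h
  rw [map_sub, sub_eq_zero] at h1
  exact h1.trans (AlgHom.congr_fun hg c)

end Groth.Agent.IsoTriv
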