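import Groth.Agent.IsoTriv.SmoothLevel
import Groth.Agent.IsoTriv.CompleteHomDescent

/-! Lifting homomorphisms into smooth groups over complete rings. -/

universe u

open TensorProduct Coalgebra

namespace Groth.Agent.IsoTriv

open SGA3bLib

variable {A : Type u} [CommRing A] (I : Ideal A) {B : Type u} [CommRing B] [HopfAlgebra A B] {C : Type u}
  [CommRing C] [HopfAlgebra A C]

/-- Push a homomorphism forward along a map of scalars. -/
theorem exists_push_bialg {T T' : Type u} [CommRing T] [CommRing T'] [Algebra A T] [Algebra A T'] (f : T →ₐ[A] T')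
    (e : T ⊗[A] C →ₐc[T] T ⊗[A] B) :
    ∃ e' : T' ⊗[A] C →ₐc[T'] T' ⊗[A] B, ∀ c : C, e' (1 ⊗ₜ[A] c) = push B f (e (1 ⊗ₜ[A] c)) := by
  let : Algebra T T' := f.toRingHom.toAlgebra
  have : IsScalarTower A T T' := .of_algebraMap_eq fun r => (f.commutes r).symm
  refine ⟨((cancelBC (R := A) T T' B : T' ⊗[T] (T ⊗[A] B) →ₐc[T'] T' ⊗[A] B).comp (bcHom T' e)).comp
    ((cancelBC (R := A) T T' C).symm : T' ⊗[A] C →ₐc[T'] T' ⊗[T] (T ⊗[A] C)), fun c => ?_⟩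
  have hc : (cancelBC (R := A) T T' C).symm ((1 : T') ⊗ₜ[A] c) = (1 : T') ⊗ₜ[T] ((1 : T) ⊗ₜ[A] c) := by
    apply (cancelBC (R := A) T T' C).toAlgEquiv.injective
    show cancelBC (R := A) T T' C ((cancelBC (R := A) T T' C).symm _) = _
    rw [BialgEquiv.apply_symm_apply]
    exact (show cancelBC (R := A) T T' C ((1 : T') ⊗ₜ[T] ((1 : T) ⊗ₜ[A] c)) = (1 : T') ⊗ₜ[A] c from
      (Algebra.TensorProduct.cancelBaseChange_tmul ..).trans (by simp)).symm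
  show cancelBC (R := A) T T' B (bcHom T' e ((cancelBC (R := A) T T' C).symm ((1 : T') ⊗ₜ[A] c))) = _
  rw [hc, bcHom_tmul, ← push_eq_cancel]
  rfl

theorem exists_one_tmul (J : Ideal A) (z : (A ⧸ J) ⊗[A] B) : ∃ b : B, z = (1 : A ⧸ J) ⊗ₜ[A] b := by
  induction z using TensorProduct.induction_on with
  | zero => exact ⟨0, (TensorProduct.tmul_zero _ _).symm⟩
  | tmul a b =>
    obtain ⟨r, rfl⟩ := Ideal.Quotient.mk_surjective a
    exact ⟨r • b, by rw [TensorProduct.tmul_smul, TensorProduct.smul_tmul', Algebra.smul_def, mul_one]; rfl⟩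
  | add a b ha hb =>
    obtain ⟨a, rfl⟩ := ha
    obtain ⟨b, rfl⟩ := hb
    exact ⟨a + b, (TensorProduct.tmul_add _ _ _).symm⟩

/-- One step of the lifting. -/
theorem exists_smooth_step [Algebra.FormallySmooth A C] (P : B →ₗ[A] A) (hP1 : P 1 = 1)
    (hP : ∀ b, intLast P B (comul (R := A) b) = algebraMap A B (P b)) {K L : Ideal A} (hKL : K ≤ L) (hsq : L * L ≤ K)
    (e : (A ⧸ L) ⊗[A] C →ₐc[A ⧸ L] (A ⧸ L) ⊗[A] B) :
    ∃ e' : (A ⧸ K) ⊗[A] C →ₐc[A ⧸ K] (A ⧸ K) ⊗[A] B, ∀ (c : C) (x y : B),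
      e' (1 ⊗ₜ[A] c) = 1 ⊗ₜ[A] x → e (1 ⊗ₜ[A] c) = 1 ⊗ₜ[A] y → x - y ∈ L.map (algebraMap A B) := by
  let q : A ⧸ K →ₐ[A] A ⧸ L := Ideal.Quotient.factorₐ A hKL
  have hker : RingHom.ker q * RingHom.ker q = ⊥ := by
    refine eq_bot_iff.mpr (Ideal.mul_le.mpr fun x hx y hy => ?_)
    obtain ⟨a, rfl⟩ := Ideal.Quotient.mk_surjective x
    obtain ⟨b, rfl⟩ := Ideal.Quotient.mk_surjective y
    have ha : a ∈ L := Ideal.Quotient.eq_zero_iff_mem.mp hx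
    have hb : b ∈ L := Ideal.Quotient.eq_zero_iff_mem.mp hy
    rw [Ideal.mem_bot, ← map_mul, Ideal.Quotient.eq_zero_iff_mem]
    exact hsq (Ideal.mul_mem_mul ha hb)
  obtain ⟨e', he'⟩ := exists_smooth_level P hP1 hP q (Ideal.Quotient.factor_surjective hKL) hker e
  refine ⟨e', fun c x y hx hy => ?_⟩
  have h := he' c
  rw [hx, hy, push_tmul, map_one] at h
  exact (one_tmul_eq_iff _).mp h

/-- Compatible lifts on all levels. -/
theorem exists_smooth_levels [Algebra.FormallySmooth A C] (P : B →ₗ[A] A) (hP1 : P 1 = 1)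
    (hP : ∀ b, intLast P B (comul (R := A) b) = algebraMap A B (P b))
    (φ₀ : (A ⧸ I) ⊗[A] C →ₐc[A ⧸ I] (A ⧸ I) ⊗[A] B) :
    ∃ (e : ∀ n : ℕ, (A ⧸ I ^ (n + 1)) ⊗[A] C →ₐc[A ⧸ I ^ (n + 1)] (A ⧸ I ^ (n + 1)) ⊗[A] B) (b : ℕ → C → B),
      (∀ n c, e n (1 ⊗ₜ[A] c) = 1 ⊗ₜ[A] b n c) ∧
      (∀ n c, b (n + 1) c - b n c ∈ (I ^ (n + 1)).map (algebraMap A B)) ∧
      ∀ c, φ₀ (1 ⊗ₜ[A] c) = 1 ⊗ₜ[A] b 0 c := by
  have step : ∀ (n : ℕ) (e : (A ⧸ I ^ (n + 1)) ⊗[A] C →ₐc[A ⧸ I ^ (n + 1)] (A ⧸ I ^ (n + 1)) ⊗[A] B),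
      ∃ e' : (A ⧸ I ^ (n + 2)) ⊗[A] C →ₐc[A ⧸ I ^ (n + 2)] (A ⧸ I ^ (n + 2)) ⊗[A] B, ∀ (c : C) (x y : B),
        e' (1 ⊗ₜ[A] c) = 1 ⊗ₜ[A] x → e (1 ⊗ₜ[A] c) = 1 ⊗ₜ[A] y → x - y ∈ (I ^ (n + 1)).map (algebraMap A B) :=
    fun n e => exists_smooth_step P hP1 hP (Ideal.pow_le_pow_right (by omega))
      (by rw [← pow_add]; exact Ideal.pow_le_pow_right (by omega)) e
  have hI1 : I ≤ I ^ (0 + 1) := by rw [zero_add, pow_one]
  have hI2 : I ^ (0 + 1) ≤ I := by rw [zero_add, pow_one]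
  obtain ⟨b0, hb0⟩ := exists_push_bialg (T' := A ⧸ I ^ (0 + 1)) (Ideal.Quotient.factorₐ A hI1) φ₀
  choose f hf using step
  let E : ∀ n, (A ⧸ I ^ (n + 1)) ⊗[A] C →ₐc[A ⧸ I ^ (n + 1)] (A ⧸ I ^ (n + 1)) ⊗[A] B :=
    fun n => Nat.rec b0 (fun k ek => f k ek) n
  choose b hb using fun n c => exists_one_tmul _ (E n ((1 : A ⧸ I ^ (n + 1)) ⊗ₜ[A] c))
  refine ⟨E, b, hb, fun n c => ?_, fun c => ?_⟩
  · exact hf n (E n) c _ _ (hb (n + 1) c) (hb n c)
  · obtain ⟨z, hz⟩ := exists_one_tmul I (φ₀ ((1 : A ⧸ I) ⊗ₜ[A] c))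
    have h := (hb0 c).symm.trans (hb 0 c)
    rw [hz, push_tmul, map_one] at h
    rw [hz, one_tmul_eq_iff]
    exact Ideal.map_mono hI2 ((one_tmul_eq_iff _).mp h)

variable [IsNoetherianRing A] [IsAdicComplete I A]

/-- Homomorphisms of reductions into smooth groups lift. -/
theorem exists_smooth_lift [Algebra.FormallySmooth A C] (hB : SGA3b.IsIsotrivial A B)
    (φ₀ : (A ⧸ I) ⊗[A] C →ₐc[A ⧸ I] (A ⧸ I) ⊗[A] B) :
    ∃ φ : C →ₐc[A] B, ∀ c : C, φ₀ ((1 : A ⧸ I) ⊗ₜ[A] c) = (1 : A ⧸ I) ⊗ₜ[A] φ c := by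
  obtain ⟨P, hP1, hP⟩ := exists_integral hB
  obtain ⟨E, b, hb, hcompat, hb0⟩ := exists_smooth_levels I P hP1 hP φ₀
  obtain ⟨T, _, _, het, hfin, hff, M, _, ⟨e⟩⟩ := hB
  have := het
  have := hfin
  have := hff
  have : IsNoetherianRing T := IsNoetherianRing.of_finite A T
  have : IsAdicComplete I T := Groth.Agent.AdicRing.isAdicComplete_of_finite (I := I) T
  have : IsAdicComplete (I.map (algebraMap A T)) T :=
    (IsAdicComplete.map_algebraMap_iff (I := I) (M := T) (S := T)).mpr ‹_›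
  set J := I.map (algebraMap A T)
  let S : ℕ → Type u := fun n => T ⧸ J ^ n
  let v : ℕ → C → MonoidAlgebra T M := fun n c => e ((1 : T) ⊗ₜ[A] b n c)
  have hlevel : ∀ n, ∃ p : (T ⧸ J ^ n) ⊗[T] (T ⊗[A] C) →ₐc[T ⧸ J ^ n] MonoidAlgebra (T ⧸ J ^ n) M, ∀ c,
      p ((1 : T ⧸ J ^ n) ⊗ₜ[T] ((1 : T) ⊗ₜ[A] c)) = MonoidAlgebra.mapRingHom M (Ideal.Quotient.mk (J ^ n)) (v n c) := by
    intro n
    have hle : I ^ (n + 1) ≤ RingHom.ker (algebraMap A (T ⧸ J ^ n)) := fun a ha => by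
      rw [RingHom.mem_ker, IsScalarTower.algebraMap_apply A T (T ⧸ J ^ n), Ideal.Quotient.algebraMap_eq,
        Ideal.Quotient.eq_zero_iff_mem, ← Ideal.map_pow]
      exact Ideal.mem_map_of_mem _ (Ideal.pow_le_pow_right n.le_succ ha)
    obtain ⟨e', he'⟩ := exists_push_bialg (T' := T ⧸ J ^ n)
      (Ideal.Quotient.liftₐ (I ^ (n + 1)) (Algebra.ofId A (T ⧸ J ^ n)) hle) (E n)
    let K : (T ⧸ J ^ n) ⊗[A] B ≃ₐc[T ⧸ J ^ n] MonoidAlgebra (T ⧸ J ^ n) M := bcTriv e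
    refine ⟨((K : (T ⧸ J ^ n) ⊗[A] B →ₐc[T ⧸ J ^ n] MonoidAlgebra (T ⧸ J ^ n) M).comp e').comp
      (cancelBC (R := A) T (T ⧸ J ^ n) C : (T ⧸ J ^ n) ⊗[T] (T ⊗[A] C) →ₐc[T ⧸ J ^ n] (T ⧸ J ^ n) ⊗[A] C), fun c => ?_⟩
    show K (e' (cancelBC (R := A) T (T ⧸ J ^ n) C ((1 : T ⧸ J ^ n) ⊗ₜ[T] ((1 : T) ⊗ₜ[A] c)))) = _
    rw [show cancelBC (R := A) T (T ⧸ J ^ n) C ((1 : T ⧸ J ^ n) ⊗ₜ[T] ((1 : T) ⊗ₜ[A] c)) = (1 : T ⧸ J ^ n) ⊗ₜ[A] c from
      (Algebra.TensorProduct.cancelBaseChange_tmul ..).trans (by simp), he', hb, push_tmul, map_one]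
    have := bcTriv_push (T' := T ⧸ J ^ n) e ((1 : T) ⊗ₜ[A] b n c)
    rw [push_tmul, map_one] at this
    exact this
  choose p hp using hlevel
  have hpow : ∀ n, (I ^ n).map (algebraMap A T) = J ^ n := fun n => Ideal.map_pow _ _ _
  have hv : ∀ n c, MonoidAlgebra.mapRingHom M (Ideal.Quotient.mk (J ^ n)) (v (n + 1) c) =
      MonoidAlgebra.mapRingHom M (Ideal.Quotient.mk (J ^ n)) (v n c) := fun n c => by
    rw [← hpow]
    refine coef_sub_mem (I ^ n) ?_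
    show e ((1 : T) ⊗ₜ[A] b (n + 1) c) - e ((1 : T) ⊗ₜ[A] b n c) ∈ _
    rw [← map_sub, ← TensorProduct.tmul_sub]
    exact map_mem (I ^ n) ((e : T ⊗[A] B →ₐ[T] MonoidAlgebra T M).restrictScalars A)
      (map_mem (I ^ n) (Algebra.TensorProduct.includeRight : B →ₐ[A] T ⊗[A] B)
        (Ideal.map_mono (Ideal.pow_le_pow_right n.le_succ) (hcompat n c)))
  obtain ⟨Φ, hΦ⟩ := exists_hom_of_formal J p fun n z => by
    induction z using TensorProduct.induction_on with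
    | zero => simp only [TensorProduct.tmul_zero, map_zero]
    | add x y hx hy => simp only [TensorProduct.tmul_add, map_add, hx, hy]
    | tmul t c =>
      have hz : ∀ k, (1 : T ⧸ J ^ k) ⊗ₜ[T] (t ⊗ₜ[A] c) =
          algebraMap (T ⧸ J ^ k) _ (Ideal.Quotient.mk (J ^ k) t) * ((1 : T ⧸ J ^ k) ⊗ₜ[T] ((1 : T) ⊗ₜ[A] c)) := fun k => by
        rw [Algebra.TensorProduct.algebraMap_apply, Algebra.algebraMap_self, RingHom.id_apply,
          Algebra.TensorProduct.tmul_mul_tmul, mul_one, one_mul,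
          show Ideal.Quotient.mk (J ^ k) t = t • (1 : T ⧸ J ^ k) by
            rw [Algebra.smul_def, mul_one]; rfl,
          TensorProduct.smul_tmul, TensorProduct.smul_tmul', smul_eq_mul, mul_one]
      rw [hz, hz, map_mul, map_mul, map_mul, AlgHomClass.commutes (p (n + 1)), AlgHomClass.commutes (p n), hp, hp]
      congr 1
      · rw [MonoidAlgebra.coe_algebraMap, MonoidAlgebra.coe_algebraMap]
        simp
      · refine Eq.trans ?_ (hv n c)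
        refine ext_coef fun m => ?_
        simp [coef_mapRingHom]
  let φT : T ⊗[A] C →ₐc[T] T ⊗[A] B := (e.symm : MonoidAlgebra T M →ₐc[T] T ⊗[A] B).comp Φ
  have hφT : ∀ n c, φT ((1 : T) ⊗ₜ[A] c) - (1 : T) ⊗ₜ[A] b n c ∈ (I ^ n).map (algebraMap A (T ⊗[A] B)) := by
    intro n c
    have h1 : Φ ((1 : T) ⊗ₜ[A] c) - v n c ∈ (I ^ n).map (algebraMap A (MonoidAlgebra T M)) := by
      rw [IsScalarTower.algebraMap_eq A T (MonoidAlgebra T M), ← Ideal.map_map, hpow]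
      refine mem_map_ideal_iff.mpr fun m => ?_
      have := congrArg (coef m) ((hΦ n _).trans (hp n c))
      rw [coef_mapRingHom, coef_mapRingHom, Ideal.Quotient.eq] at this
      rw [map_sub]
      exact this
    have h2 := map_mem (I ^ n) ((e.symm : MonoidAlgebra T M →ₐ[T] T ⊗[A] B).restrictScalars A) h1
    rw [map_sub] at h2
    have h3 : e.symm (v n c) = (1 : T) ⊗ₜ[A] b n c := e.symm_apply_apply _
    rw [← h3]
    exact h2
  let U := T ⊗[A] T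
  have : Module.Finite A U := Module.Finite.tensorProduct A T T
  have : IsAdicComplete I U := Groth.Agent.AdicRing.isAdicComplete_of_finite (I := I) U
  let eU : U ⊗[A] B ≃ₐc[U] MonoidAlgebra U M := bcTriv (T' := U) e
  obtain ⟨φ, hφ⟩ := exists_hom_of_cover (ι := PUnit.{u + 1}) (fun _ => T) (fun _ => inferInstance)
    (fun p => ⟨PUnit.unit, PrimeSpectrum.comap_surjective_of_faithfullyFlat p⟩) (fun _ => φT) fun _ _ c => by
    show push B (Algebra.TensorProduct.includeLeft : T →ₐ[A] U) _ = push B (Algebra.TensorProduct.includeRight : T →ₐ[A] U) _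
    set dL := push B (Algebra.TensorProduct.includeLeft : T →ₐ[A] U) (φT ((1 : T) ⊗ₜ[A] c))
    set dR := push B (Algebra.TensorProduct.includeRight : T →ₐ[A] U) (φT ((1 : T) ⊗ₜ[A] c))
    have hd : ∀ n, dL - dR ∈ (I ^ n).map (algebraMap A (U ⊗[A] B)) := fun n => by
      rw [show dL - dR =
        push B (Algebra.TensorProduct.includeLeft : T →ₐ[A] U) (φT ((1 : T) ⊗ₜ[A] c) - (1 : T) ⊗ₜ[A] b n c) -
          push B (Algebra.TensorProduct.includeRight : T →ₐ[A] U) (φT ((1 : T) ⊗ₜ[A] c) - (1 : T) ⊗ₜ[A] b n c) by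
        rw [map_sub, map_sub, push_tmul, push_tmul, map_one, map_one, sub_sub_sub_cancel_right]]
      exact sub_mem (map_mem _ _ (hφT n c)) (map_mem _ _ (hφT n c))
    apply eU.toAlgEquiv.injective
    refine ext_coef fun m => (IsHausdorff.eq_iff_smodEq (I := I)).mpr fun n => ?_
    rw [SModEq.sub_mem, Ideal.smul_top_eq_map]
    have h1 := map_mem (I ^ n) ((eU : U ⊗[A] B →ₐ[U] MonoidAlgebra U M).restrictScalars A) (hd n)
    rw [IsScalarTower.algebraMap_eq A U (MonoidAlgebra U M), ← Ideal.map_map] at h1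
    have h2 := mem_map_ideal_iff.mp h1 m
    rw [← map_sub]
    rw [map_sub] at h2
    exact h2
  refine ⟨φ, fun c => ?_⟩
  rw [hb0, one_tmul_eq_iff, ← Ideal.Quotient.eq_zero_iff_mem]
  refine eq_of_one_tmul (R := A) T (M := B ⧸ I.map (algebraMap A B)) (b := 0) ?_
  rw [TensorProduct.tmul_zero]
  have hb1 : b 1 c - b 0 c ∈ I.map (algebraMap A B) := by
    have := hcompat 0 c
    rwa [zero_add, pow_one] at this
  have h1 : φT ((1 : T) ⊗ₜ[A] c) - (1 : T) ⊗ₜ[A] b 1 c ∈ I.map (algebraMap A (T ⊗[A] B)) := by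
    have := hφT 1 c
    rwa [pow_one] at this
  rw [hφ PUnit.unit c] at h1
  have h1' : (1 : T) ⊗ₜ[A] (φ c - b 0 c) ∈ I.map (algebraMap A (T ⊗[A] B)) := by
    rw [show φ c - b 0 c = (φ c - b 1 c) + (b 1 c - b 0 c) by ring, TensorProduct.tmul_add, TensorProduct.tmul_sub]
    exact add_mem h1 (map_mem I (Algebra.TensorProduct.includeRight : B →ₐ[A] T ⊗[A] B) hb1)
  have h2 := map_mem I (Algebra.TensorProduct.map (AlgHom.id A T) (Ideal.Quotient.mkₐ A (I.map (algebraMap A B)))) h1'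
  have hbot : I.map (algebraMap A (T ⊗[A] (B ⧸ I.map (algebraMap A B)))) = ⊥ := by
    rw [← (Algebra.TensorProduct.includeRight : (B ⧸ I.map (algebraMap A B)) →ₐ[A] _).comp_algebraMap, ← Ideal.map_map,
      IsScalarTower.algebraMap_eq A B (B ⧸ I.map (algebraMap A B)), ← Ideal.map_map, Ideal.Quotient.algebraMap_eq,
      Ideal.map_quotient_self, Ideal.map_bot]
  rw [hbot, Ideal.mem_bot, Algebra.TensorProduct.map_tmul, ← neg_sub, map_neg, TensorProduct.tmul_neg, neg_eq_zero] at h2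
  exact h2

end Groth.Agent.IsoTriv
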