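import Groth.Agent.IsoTriv.SchemeSpec
import Groth.Agent.SGA3bLib.Torsion
import Mathlib.AlgebraicGeometry.Morphisms.FlatRank

/-! The order of the torsion subgroup scheme of a group scheme at a field-valued point. -/

set_option autoImplicit false
set_option linter.style.haveILetI false
universe u

open CategoryTheory MonoidalCategory CartesianMonoidalCategory MonObj GrpObj AlgebraicGeometry CategoryTheory.Limits
open scoped TensorProduct

noncomputable section

namespace Groth.Agent.IsoTriv.TorsionScheme

open CoactBr HopfLib.SpPoints SchemeSpec WithConv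

/-- The kernel of the power map of an affine group scheme is the spectrum of the quotient by the torsion ideal. -/
theorem isPullback_torsion {k : Type u} [CommRing k] (B : Type u) [CommRing B] [HopfAlgebra k B] (n : ℕ) :
    IsPullback (Spec.map (CommRingCat.ofHom (algebraMap k (B ⧸ SGA3b.torsionIdeal k B n))))
      (Spec.map (CommRingCat.ofHom (Ideal.Quotient.mk (SGA3b.torsionIdeal k B n))))
      (Spec.map (CommRingCat.ofHom (Bialgebra.counitAlgHom k B : B →+* k)))
      (Spec.map (CommRingCat.ofHom (SGA3b.powConv k B n : B →+* B))) := by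
  set T := SGA3b.torsionIdeal k B n
  set ε := Bialgebra.counitAlgHom k B
  set P := SGA3b.powConv k B n
  have hw : ∀ b, algebraMap k (B ⧸ T) (ε b) = Ideal.Quotient.mk T (P b) := fun b => by
    rw [IsScalarTower.algebraMap_apply k B (B ⧸ T), Ideal.Quotient.algebraMap_eq, eq_comm, Ideal.Quotient.eq]
    have h := Ideal.mem_map_of_mem P (show b - algebraMap k B (ε b) ∈ RingHom.ker ε by simp [RingHom.mem_ker, ε])
    rw [map_sub, AlgHom.commutes] at h
    exact h
  have hker : ∀ s : PushoutCocone (CommRingCat.ofHom (ε : B →+* k)) (CommRingCat.ofHom (P : B →+* B)),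
      ∀ a ∈ T, s.inr.hom a = 0 := fun s a ha => by
    refine (Ideal.map_le_iff_le_comap.mpr fun b hb => ?_ : T ≤ RingHom.ker s.inr.hom) ha
    show s.inr.hom (P b) = 0
    have h := ConcreteCategory.congr_hom s.condition b
    change s.inl.hom (ε b) = s.inr.hom (P b) at h
    rw [← h, show ε b = 0 from hb, map_zero]
  refine isPullback_SpecMap_of_isPushout _ _ _ _ ⟨⟨CommRingCat.hom_ext (RingHom.ext hw)⟩,
    ⟨PushoutCocone.IsColimit.mk _ (fun s => CommRingCat.ofHom (Ideal.Quotient.lift T s.inr.hom (hker s)))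
      (fun s => ?_) (fun s => CommRingCat.hom_ext (Ideal.Quotient.lift_comp_mk _ _ _)) fun s m _ hm => ?_⟩⟩
  · refine CommRingCat.hom_ext (RingHom.ext fun r => ?_)
    show Ideal.Quotient.lift T s.inr.hom (hker s) (algebraMap k (B ⧸ T) r) = s.inl.hom r
    rw [IsScalarTower.algebraMap_apply k B (B ⧸ T), Ideal.Quotient.algebraMap_eq, Ideal.Quotient.lift_mk]
    have h := ConcreteCategory.congr_hom s.condition (algebraMap k B r)
    change s.inl.hom (ε (algebraMap k B r)) = s.inr.hom (P (algebraMap k B r)) at h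
    rw [AlgHom.commutes, AlgHom.commutes] at h
    exact h.symm
  · refine CommRingCat.hom_ext (Ideal.Quotient.ringHom_ext ?_)
    refine (congrArg CommRingCat.Hom.hom hm).trans (RingHom.ext fun x => ?_)
    exact (Ideal.Quotient.lift_mk T s.inr.hom (hker s)).symm

/-- The rank of the torsion subgroup scheme at a field-valued point. -/
theorem finrank_torsion {S : Scheme.{u}} (H : Over S) [GrpObj H] (n : ℕ) {k : Type u} [Field k]
    (j : Spec (CommRingCat.of k) ⟶ S) {B : Type u} [CommRing B] [HopfAlgebra k B]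
    (e : Grp.mk (Red.bc j H) ≅ Grp.mk (sp k B)) [Module.Finite k (B ⧸ SGA3b.torsionIdeal k B n)]
    (x : Spec (CommRingCat.of k)) :
    (pullback.snd (pullback.snd η[H].left (𝟙 H ^ n : H ⟶ H).left ≫ H.hom) j).finrank x =
      Module.finrank k (B ⧸ SGA3b.torsionIdeal k B n) := by
  let pw : H ⟶ H := 𝟙 H ^ n
  let O : Over S := Over.mk (pullback.snd η[H].left pw.left ≫ H.hom)
  let a : O ⟶ 𝟙_ (Over S) := Over.homMk (pullback.fst η[H].left pw.left) (by
    show pullback.fst η[H].left pw.left ≫ (𝟙_ (Over S)).hom = pullback.snd η[H].left pw.left ≫ H.hom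
    rw [← Over.w η[H], ← Category.assoc, pullback.condition, Category.assoc, Over.w pw])
  let b : O ⟶ H := Over.homMk (pullback.snd η[H].left pw.left) rfl
  have h0 : IsPullback a b η[H] pw := IsPullback.of_map (Over.forget S)
    (Over.OverMorphism.ext pullback.condition) (IsPullback.of_hasPullback η[H].left pw.left)
  let F := Over.pullback j
  have h1 : IsPullback (F.map a) (F.map b) (F.map η[H]) (F.map pw) := h0.map F
  let i : F.obj H ≅ sp k B := (Grp.forget _).mapIso e
  haveI : IsMonHom i.hom := e.hom.hom.isMonHom_hom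
  let u : F.obj (𝟙_ (Over S)) ≅ 𝟙_ (Over (Spec (CommRingCat.of k))) :=
    (Functor.Monoidal.εIso F).symm
  let pw' : sp k B ⟶ sp k B := 𝟙 (sp k B) ^ n
  have hη : F.map η[H] ≫ i.hom = u.hom ≫ η[sp k B] := by
    rw [← IsMonHom.one_hom i.hom, ← Category.assoc]
    congr 1
    show _ = Functor.OplaxMonoidal.η F ≫ Functor.LaxMonoidal.ε F ≫ F.map η[H]
    rw [← Category.assoc, Functor.Monoidal.η_ε, Category.id_comp]
  have hpw : F.map pw ≫ i.hom = i.hom ≫ pw' := by
    show F.homMonoidHom (pw : H ⟶ H) ≫ i.hom = _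
    rw [map_pow, Functor.homMonoidHom_apply, CategoryTheory.Functor.map_id, MonObj.pow_comp, MonObj.comp_pow, Category.id_comp,
      Category.comp_id]
  have h2 : IsPullback (F.map a ≫ u.hom) (F.map b ≫ i.hom) η[sp k B] pw' :=
    h1.of_iso (Iso.refl _) u i i (Category.id_comp _).symm (Category.id_comp _).symm hη hpw
  have h3 : IsPullback (F.map a ≫ u.hom).left (F.map b ≫ i.hom).left
      (Spec.map (CommRingCat.ofHom (Bialgebra.counitAlgHom k B : B →+* k)))
      (Spec.map (CommRingCat.ofHom (SGA3b.powConv k B n : B →+* B))) := by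
    have h : pw'.left = Spec.map (CommRingCat.ofHom (SGA3b.powConv k B n : B →+* B)) := by
      have h1 : pw' = Spec.mapMulEquiv (toConv (AlgHom.id k B) ^ n) := by
        rw [map_pow]
        show 𝟙 (sp k B) ^ n = _
        congr 1
        exact Over.OverMorphism.ext (Spec.map_id _).symm
      rw [h1]
      rfl
    rw [← h]
    exact h2.map (Over.forget _)
  let E := h3.isoIsPullback _ _ (isPullback_torsion B n)
  have hE : E.hom ≫ Spec.map (CommRingCat.ofHom (Ideal.Quotient.mk (SGA3b.torsionIdeal k B n))) =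
      (F.map b ≫ i.hom).left := h3.isoIsPullback_hom_snd _ _ (isPullback_torsion B n)
  have hf : pullback.snd (pullback.snd η[H].left pw.left ≫ H.hom) j =
      E.hom ≫ Spec.map (CommRingCat.ofHom (algebraMap k (B ⧸ SGA3b.torsionIdeal k B n))) := by
    show (F.obj O).hom = _
    rw [← Over.w (F.map b ≫ i.hom), ← hE]
    refine (Category.assoc _ _ _).trans ?_
    congr 1
    show Spec.map _ ≫ Spec.map _ = _
    rw [← Spec.map_comp, ← CommRingCat.ofHom_comp]
  have hfin : IsFinite (Spec.map (CommRingCat.ofHom (algebraMap k (B ⧸ SGA3b.torsionIdeal k B n)))) := by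
    rw [IsFinite.SpecMap_iff, CommRingCat.hom_ofHom, RingHom.finite_algebraMap]
    infer_instance
  have hflat : Flat (Spec.map (CommRingCat.ofHom (algebraMap k (B ⧸ SGA3b.torsionIdeal k B n)))) := by
    rw [Flat.SpecMap_iff, CommRingCat.hom_ofHom, RingHom.flat_algebraMap_iff]
    infer_instance
  show (pullback.snd (pullback.snd η[H].left pw.left ≫ H.hom) j).finrank x = _
  rw [hf, Scheme.Hom.finrank_comp_left_of_isIso, Scheme.Hom.finrank_SpecMap_algebraMap,
    Module.rankAtStalk_eq_finrank_of_free]
  rfl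

end Groth.Agent.IsoTriv.TorsionScheme
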