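import Groth.Agent.IsoTriv.FibreCrit
import Groth.Agent.IsoTriv.KernelHom
import Groth.Agent.IsoTriv.TorsionDense

/-! Flat groups with fibres of multiplicative type and locally constant torsion orders. -/

set_option autoImplicit false
universe u

open TensorProduct Coalgebra IsLocalRing

namespace Groth.Agent.IsoTriv

open SGA3bLib

/-- A surjection of finitely generated groups preserving the orders of all torsion quotients is injective. -/
theorem injective_of_card {N' N : Type u} [CommGroup N'] [CommGroup N] (hfg : Group.FG N') (f : N' →* N)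
    (hf : Function.Surjective f)
    (hfin : ∀ n : ℕ, 0 < n → Finite (N' ⧸ (powMonoidHom n : N' →* N').range))
    (h : ∀ n : ℕ, 0 < n → Nat.card (N' ⧸ (powMonoidHom n : N' →* N').range) =
      Nat.card (N ⧸ (powMonoidHom n : N →* N).range)) : Function.Injective f := by
  refine (injective_iff_map_eq_one f).mpr fun x hx => ?_
  obtain ⟨s, hs⟩ := exists_exponent_separates hfg 1 (Or.inl rfl)
  simp only [one_pow, pow_one, one_mul] at hs
  refine hs x fun n hn _ => ?_
  have := hfin n hn
  let g : (N' ⧸ (powMonoidHom n : N' →* N').range) →* N ⧸ (powMonoidHom n : N →* N).range :=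
    QuotientGroup.map _ _ f (by rintro _ ⟨y, rfl⟩; exact ⟨f y, (map_pow f y n).symm⟩)
  have hg : Function.Surjective g := fun y => by
    obtain ⟨y, rfl⟩ := QuotientGroup.mk_surjective y
    obtain ⟨z, rfl⟩ := hf y
    exact ⟨QuotientGroup.mk z, rfl⟩
  have hb : Function.Bijective g := (Nat.bijective_iff_surjective_and_card g).mpr ⟨hg, h n hn⟩
  rw [← QuotientGroup.eq_one_iff]
  refine hb.1 ?_
  show QuotientGroup.mk (f x) = g 1
  rw [hx, map_one]
  rfl

variable {R : Type u} [CommRing R] {A : Type u} [CommRing A] [HopfAlgebra R A]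

variable (R A) in
/-- The order of the `n`-torsion over the residue field of a prime. -/
noncomputable def torsionOrder (n : ℕ) (p : PrimeSpectrum R) : ℕ :=
  Module.finrank p.asIdeal.ResidueField (p.asIdeal.ResidueField ⊗[R] (A ⧸ SGA3b.torsionIdeal R A n))

theorem torsionOrder_eq {K : Type u} [Field K] [Algebra R K] (p : PrimeSpectrum R)
    (hp : RingHom.ker (algebraMap R K) = p.asIdeal) (n : ℕ) :
    torsionOrder R A n p = Module.finrank K (K ⊗[R] (A ⧸ SGA3b.torsionIdeal R A n)) := by
  let f : p.asIdeal.ResidueField →+* K := Ideal.ResidueField.lift p.asIdeal (algebraMap R K) (le_of_eq hp.symm)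
    (fun a ha => Ne.isUnit fun h => ha (hp ▸ h))
  let : Algebra p.asIdeal.ResidueField K := f.toAlgebra
  have : IsScalarTower R p.asIdeal.ResidueField K := .of_algebraMap_eq fun r => by
    show _ = f _
    simp [f]
  exact ((Algebra.TensorProduct.cancelBaseChange R p.asIdeal.ResidueField K K
    (A ⧸ SGA3b.torsionIdeal R A n)).toLinearEquiv.finrank_eq.symm.trans Module.finrank_baseChange).symm

/-- The order of the torsion of a split group. -/
theorem finite_card_torsion {K : Type u} [Field K] [Algebra R K] [Algebra.FiniteType R A] {N : Type u} [CommGroup N]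
    (e : K ⊗[R] A ≃ₐc[K] MonoidAlgebra K N) (n : ℕ) (hn : 0 < n) :
    Finite (N ⧸ (powMonoidHom n : N →* N).range) ∧
      Nat.card (N ⧸ (powMonoidHom n : N →* N).range) =
        Module.finrank K (K ⊗[R] (A ⧸ SGA3b.torsionIdeal R A n)) := by
  have : Algebra.FiniteType K (MonoidAlgebra K N) :=
    (inferInstance : Algebra.FiniteType K (K ⊗[R] A)).equiv e.toAlgEquiv
  let P := (powMonoidHom n : N →* N).range
  let ψ : K ⊗[R] A →ₐ[K] MonoidAlgebra K (N ⧸ P) :=
    (MonoidAlgebra.mapDomainBialgHom K (QuotientGroup.mk' P) : MonoidAlgebra K N →ₐ[K] MonoidAlgebra K (N ⧸ P)).comp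
      (e : K ⊗[R] A →ₐ[K] MonoidAlgebra K N)
  have hψ : Function.Surjective ψ := (mapDomain_surjective P).comp e.surjective
  have hker : RingHom.ker ψ = SGA3b.torsionIdeal K (K ⊗[R] A) n := by
    rw [torsionIdeal_eq_comap e, torsionIdeal_monoidAlgebra]
    rfl
  let E : ((K ⊗[R] A) ⧸ SGA3b.torsionIdeal K (K ⊗[R] A) n) ≃ₐ[K] MonoidAlgebra K (N ⧸ P) :=
    (Ideal.quotientEquivAlgOfEq K hker.symm).trans (Ideal.quotientKerAlgEquivOfSurjective hψ)
  have hfin : Module.Finite K ((K ⊗[R] A) ⧸ SGA3b.torsionIdeal K (K ⊗[R] A) n) :=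
    finite_quotient_torsion inferInstance
      (isMultType_of_const ⟨K, inferInstance, inferInstance, inferInstance, N, inferInstance,
        ⟨(monoidBC (T := K) K N |> fun m => (bcEquiv K e).trans m)⟩⟩) hn
  have : Module.Finite K (MonoidAlgebra K (N ⧸ P)) := Module.Finite.equiv E.toLinearEquiv
  have hN : Finite (N ⧸ P) := Module.Finite.finite_basis (MonoidAlgebra.basis (N ⧸ P) K)
  refine ⟨hN, ?_⟩
  rw [← Module.finrank_eq_nat_card_basis (MonoidAlgebra.basis (N ⧸ P) K), ← E.toLinearEquiv.finrank_eq]
  let Q : ((K ⊗[R] A) ⧸ SGA3b.torsionIdeal K (K ⊗[R] A) n) ≃ₐ[K] K ⊗[R] (A ⧸ SGA3b.torsionIdeal R A n) :=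
    (Ideal.quotientEquivAlgOfEq K (torsionIdeal_baseChange (R' := K) (R := R) (A := A) n)).trans
      (Algebra.TensorProduct.tensorQuotientEquiv (R := R) K A K (SGA3b.torsionIdeal R A n)).symm
  exact Q.toLinearEquiv.finrank_eq

/-- A field-valued point of a local ring sees the torsion orders of the closed point, if locally constant. -/
theorem torsionOrder_eq_closed {H : Type u} [CommRing H] [IsLocalRing H] [Algebra R H] {n : ℕ}
    (hd : IsLocallyConstant (torsionOrder R A n)) (p : PrimeSpectrum H) :
    torsionOrder R A n (p.comap (algebraMap R H)) =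
      torsionOrder R A n ((closedPoint H).comap (algebraMap R H)) :=
  have h : p.comap (algebraMap R H) ∈
      torsionOrder R A n ⁻¹' {torsionOrder R A n ((closedPoint H).comap (algebraMap R H))} :=
    Specializes.mem_open ((specializes_closedPoint p).map (PrimeSpectrum.continuous_comap (algebraMap R H)))
      (hd _) rfl
  h

/-- Flat with fibres of multiplicative type and locally constant torsion orders gives multiplicative type. -/
theorem isMultType_of_fibres_types [Module.Flat R A] (hfp : Algebra.FinitePresentation R A)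
    (hfib : ∀ (p : Ideal R) [p.IsPrime], SGA3b.IsMultType p.ResidueField (p.ResidueField ⊗[R] A))
    (hd : ∀ n : ℕ, 0 < n → IsLocallyConstant (torsionOrder R A n)) :
    SGA3b.IsMultType R A := by
  have := hfp
  refine isMultType_of_strict hfp fun H _ _ _ _ => ?_
  obtain ⟨N, _, hN, Φ, hΦ, e, he, hem, hker⟩ := exists_hom_strictHenselian (C := H ⊗[R] A)
    (Algebra.FinitePresentation.baseChange H) (fun q _ _ => flat_atPrime_of_flat H q)
    (isMultType_closed_of_fibres hfib H)
  have hΦe : Φ e = 0 :=
    (hker ▸ Ideal.mem_span_singleton_self e : e ∈ RingHom.ker (Φ : H ⊗[R] A →ₐ[H] MonoidAlgebra H N))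
  -- the homomorphism over a field
  have hfield : ∀ (K : Type u) [Field K] [Algebra H K] [Algebra R K] [IsScalarTower R H K],
      ∃ ΦK : K ⊗[R] A →ₐc[K] MonoidAlgebra K N, Function.Surjective ΦK ∧
        RingHom.ker (ΦK : K ⊗[R] A →ₐ[K] MonoidAlgebra K N) =
          Ideal.span {cancelBC (R := R) H K A ((1 : K) ⊗ₜ[H] e)} := by
    intro K _ _ _ _
    let Φ₁ : K ⊗[H] (H ⊗[R] A) →ₐc[K] MonoidAlgebra K N :=
      (monoidBC (T := H) K N : _ →ₐc[K] MonoidAlgebra K N).comp (bcHom K Φ)
    let c := cancelBC (R := R) H K A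
    refine ⟨Φ₁.comp (c.symm : K ⊗[R] A →ₐc[K] K ⊗[H] (H ⊗[R] A)),
      ((monoidBC (T := H) K N).surjective.comp (bcHom_surjective K Φ hΦ)).comp c.symm.surjective, ?_⟩
    ext x
    constructor
    · intro hx
      have h1 : bcHom K Φ (c.symm x) = 0 :=
        (monoidBC (T := H) K N).injective (hx.trans (map_zero (monoidBC (T := H) K N)).symm)
      have h2 : c.symm x ∈ RingHom.ker (bcHom K Φ : K ⊗[H] (H ⊗[R] A) →ₐ[K] K ⊗[H] MonoidAlgebra H N) := h1
      rw [ker_bcHom K Φ hΦ, hker, Ideal.map_span, Set.image_singleton, Ideal.mem_span_singleton] at h2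
      obtain ⟨w, hw⟩ := h2
      rw [Ideal.mem_span_singleton]
      exact ⟨c w, by rw [← c.apply_symm_apply x, hw, map_mul]; rfl⟩
    · intro hx
      obtain ⟨w, rfl⟩ := Ideal.mem_span_singleton.mp hx
      rw [RingHom.mem_ker, map_mul]
      have h0 : monoidBC (T := H) K N (bcHom K Φ (c.symm (c ((1 : K) ⊗ₜ[H] e)))) = 0 := by
        rw [c.symm_apply_apply, bcHom_tmul, hΦe, TensorProduct.tmul_zero, map_zero]
      exact mul_eq_zero_of_left h0 _
  -- the closed fibre
  have hclosed : ∀ n : ℕ, 0 < n → Nat.card (N ⧸ (powMonoidHom n : N →* N).range) =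
      torsionOrder R A n ((closedPoint H).comap (algebraMap R H)) := fun n hn => by
    obtain ⟨Φk, hΦk, hkerk⟩ := hfield (ResidueField H)
    have h0 : (1 : ResidueField H) ⊗ₜ[H] e = 0 := by
      have h1 : (maximalIdeal H).map (algebraMap H (H ⊗[R] A)) ≤
          RingHom.ker (Algebra.TensorProduct.includeRight : H ⊗[R] A →ₐ[H] ResidueField H ⊗[H] (H ⊗[R] A)) := by
        rw [Ideal.map_le_iff_le_comap]
        intro r hr
        show (Algebra.TensorProduct.includeRight : H ⊗[R] A →ₐ[H] ResidueField H ⊗[H] (H ⊗[R] A)) (algebraMap H _ r) = 0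
        rw [AlgHom.commutes, IsScalarTower.algebraMap_apply H (ResidueField H) (ResidueField H ⊗[H] (H ⊗[R] A)),
          show algebraMap H (ResidueField H) r = 0 from (IsLocalRing.residue_eq_zero_iff r).mpr hr, map_zero]
      exact h1 hem
    rw [h0, map_zero, Ideal.span_singleton_eq_bot.mpr rfl] at hkerk
    have hinj : Function.Injective Φk :=
      (RingHom.injective_iff_ker_eq_bot (Φk : ResidueField H ⊗[R] A →ₐ[ResidueField H] MonoidAlgebra (ResidueField H) N).toRingHom).mpr hkerk
    obtain ⟨-, hc⟩ := finite_card_torsion (BialgEquiv.ofBijective Φk ⟨hinj, hΦk⟩) n hn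
    refine hc.trans (torsionOrder_eq _ ?_ n).symm
    show RingHom.ker (algebraMap R (ResidueField H)) = (maximalIdeal H).comap (algebraMap R H)
    rw [IsScalarTower.algebraMap_eq R H (ResidueField H), ← RingHom.comap_ker]
    congr 1
    exact IsLocalRing.ker_residue
  -- the idempotent vanishes on every fibre
  have he0 : e = 0 := by
    refine he.eq_zero_of_isNilpotent ?_
    rw [← mem_nilradical, nilradical_eq_sInf, Ideal.mem_sInf]
    intro q hq
    have : q.IsPrime := hq
    let p := q.comap (algebraMap H (H ⊗[R] A))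
    let K := AlgebraicClosure p.ResidueField
    obtain ⟨ΦK, hΦK, hkerK⟩ := hfield K
    let p₀ := p.comap (algebraMap R H)
    let f₀ : p₀.ResidueField →+* K :=
      (algebraMap p.ResidueField K).comp (Ideal.ResidueField.map p₀ p (algebraMap R H) rfl)
    let : Algebra p₀.ResidueField K := f₀.toAlgebra
    have : IsScalarTower R p₀.ResidueField K := .of_algebraMap_eq fun r => by
      show _ = algebraMap p.ResidueField K (Ideal.ResidueField.map p₀ p (algebraMap R H) rfl (algebraMap R p₀.ResidueField r))
      rw [Ideal.ResidueField.map_algebraMap, ← IsScalarTower.algebraMap_apply H p.ResidueField K,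
        ← IsScalarTower.algebraMap_apply R H K]
    obtain ⟨N', _, hN', ⟨E₀⟩⟩ := exists_iso_sepClosed
      (inferInstance : Algebra.FiniteType p₀.ResidueField (p₀.ResidueField ⊗[R] A))
      (isMultTypeConst_of_isLocalRing (hfib p₀)) K
    let E : K ⊗[R] A ≃ₐc[K] MonoidAlgebra K N' := (cancelBC (R := R) p₀.ResidueField K A).symm.trans E₀
    let ψ : MonoidAlgebra K N' →ₐc[K] MonoidAlgebra K N := ΦK.comp (E.symm : MonoidAlgebra K N' →ₐc[K] K ⊗[R] A)
    have hψ : Function.Surjective ψ := hΦK.comp E.symm.surjective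
    obtain ⟨G, hG⟩ := Group.fg_def.mp hN'
    obtain ⟨f, hf⟩ := exists_hom_of_single ψ (G : Set N') hG fun g _ => by
      have hgl := (MonoidAlgebra.isGroupLikeElem_single_one (R := K) (A := K) g).map ψ
      have hne : ψ (MonoidAlgebra.single g 1) ≠ 0 := hgl.ne_zero
      obtain ⟨m, hm⟩ : ∃ m, coef m (ψ (MonoidAlgebra.single g 1)) ≠ 0 := by
        by_contra hcon
        push Not at hcon
        exact hne (ext_coef fun m => by rw [hcon m, map_zero])
      exact ⟨m, eq_single_of_isUnit_coef hgl (Ne.isUnit hm)⟩
    have hψ' : (ψ : MonoidAlgebra K N' →ₐ[K] MonoidAlgebra K N) =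
        (MonoidAlgebra.mapDomainBialgHom K f : MonoidAlgebra K N' →ₐ[K] MonoidAlgebra K N) :=
      MonoidAlgebra.algHom_ext (single_one_left := Subsingleton.elim _ _) fun n => by
        show ψ (MonoidAlgebra.single n 1) = MonoidAlgebra.mapDomainBialgHom K f (MonoidAlgebra.single n 1)
        rw [hf]
        simp
    have hψx : ∀ x, ψ x = MonoidAlgebra.mapDomainBialgHom K f x := fun x => AlgHom.congr_fun hψ' x
    have hfsurj : Function.Surjective f := fun n => by
      classical
      obtain ⟨x, hx⟩ := hψ (MonoidAlgebra.single n 1)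
      by_contra hne
      push Not at hne
      have h0 : ∀ x, coef n (MonoidAlgebra.mapDomainBialgHom K f x) = 0 := fun x => by
        induction x using MonoidAlgebra.induction_linear with
        | zero => simp
        | add a b ha hb => rw [map_add, map_add, ha, hb, add_zero]
        | single m r => simp [coef_single, hne m]
      have h1 := h0 x
      rw [← hψx, hx, coef_single, if_pos rfl] at h1
      exact one_ne_zero h1
    have hinj : Function.Injective f := injective_of_card hN' f hfsurj
      (fun n hn => (finite_card_torsion E n hn).1) fun n hn => by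
        rw [(finite_card_torsion E n hn).2, hclosed n hn,
          ← torsionOrder_eq (A := A) (⟨p₀, inferInstance⟩ : PrimeSpectrum R) ?_ n]
        · exact torsionOrder_eq_closed (hd n hn) ⟨p, inferInstance⟩
        · show RingHom.ker (algebraMap R K) = p₀
          rw [IsScalarTower.algebraMap_eq R p₀.ResidueField K, RingHom.ker_comp_of_injective _ (algebraMap p₀.ResidueField K).injective]
          exact Ideal.ext fun r => Ideal.algebraMap_residueField_eq_zero
    have hΦinj : Function.Injective ΦK := by
      intro a b hab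
      obtain ⟨x, rfl⟩ := E.symm.surjective a
      obtain ⟨y, rfl⟩ := E.symm.surjective b
      have h1 : MonoidAlgebra.mapDomainBialgHom K f x = MonoidAlgebra.mapDomainBialgHom K f y := by
        rw [← hψx, ← hψx]; exact hab
      refine congrArg _ ?_
      refine ext_coef fun m => ?_
      classical
      have key : ∀ x, coef (f m) (MonoidAlgebra.mapDomainBialgHom K f x) = coef m x := fun x => by
        induction x using MonoidAlgebra.induction_linear with
        | zero => simp
        | add a b ha hb => rw [map_add, map_add, map_add, ha, hb]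
        | single m' r => simp [coef_single, hinj.eq_iff]
      rw [← key x, ← key y, h1]
    have hz : (1 : K) ⊗ₜ[H] e = 0 := by
      have h1 : cancelBC (R := R) H K A ((1 : K) ⊗ₜ[H] e) ∈
          RingHom.ker (ΦK : K ⊗[R] A →ₐ[K] MonoidAlgebra K N) := hkerK ▸ Ideal.mem_span_singleton_self _
      exact (cancelBC (R := R) H K A).injective
        ((hΦinj (h1.trans (map_zero ΦK).symm)).trans (map_zero (cancelBC (R := R) H K A)).symm)
    let fq : p.ResidueField →ₐ[H] q.ResidueField := Ideal.ResidueField.mapₐ p q (Algebra.ofId H (H ⊗[R] A)) rfl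
    let : Algebra p.ResidueField q.ResidueField := fq.toRingHom.toAlgebra
    have : IsScalarTower H p.ResidueField q.ResidueField := .of_algebraMap_eq fun a => (fq.commutes a).symm
    let T := K ⊗[p.ResidueField] q.ResidueField
    have : Nontrivial T := Module.FaithfullyFlat.rTensor_nontrivial p.ResidueField q.ResidueField K
    let incl : q.ResidueField →ₐ[H] T :=
      (Algebra.TensorProduct.includeRight : q.ResidueField →ₐ[p.ResidueField] T).restrictScalars H
    let L : K ⊗[H] (H ⊗[R] A) →ₐ[H] T := Algebra.TensorProduct.lift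
      ((Algebra.TensorProduct.includeLeft : K →ₐ[p.ResidueField] T).restrictScalars H)
      (incl.comp (IsScalarTower.toAlgHom H (H ⊗[R] A) q.ResidueField)) fun _ _ => Commute.all _ _
    have h := congrArg L hz
    rw [map_zero, show L ((1 : K) ⊗ₜ[H] e) = incl (algebraMap (H ⊗[R] A) q.ResidueField e) by
      simp [L, ← Algebra.TensorProduct.one_def]] at h
    exact Ideal.algebraMap_residueField_eq_zero.mp
      ((incl : q.ResidueField →+* T).injective (h.trans (map_zero (incl : q.ResidueField →+* T)).symm))
  refine ⟨N, inferInstance, hN, ⟨BialgEquiv.ofBijective Φ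
    ⟨(RingHom.injective_iff_ker_eq_bot (Φ : H ⊗[R] A →ₐ[H] MonoidAlgebra H N).toRingHom).mpr ?_, hΦ⟩⟩⟩
  exact hker.trans (Ideal.span_singleton_eq_bot.mpr he0)

end Groth.Agent.IsoTriv
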